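import Mathlib

/-!
# A ring complete for a (nearly) finitely generated ideal with Noetherian quotient is Noetherian
(helper8)

`CompleteNoeth.isNoetherianRing`: `A` is `J`-adically complete, `x : Fin d → A` elements of `J`
with `J ≤ span (range x) ⊔ J ^ 2`, and `A ⧸ J` Noetherian; then `A` is Noetherian.
-/

set_option autoImplicit false
universe u

namespace Groth.Agent.Helper8.CompleteNoeth

open MvPolynomial

section Ev

variable {A : Type u} [CommRing A] {d : ℕ} (x : Fin d → A) (J : Ideal A)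

lemma prod_pow_mem (hx : ∀ i, x i ∈ J) (α : Fin d →₀ ℕ) (s : Finset (Fin d)) :
    ∏ i ∈ s, x i ^ α i ∈ J ^ (∑ i ∈ s, α i) := by
  classical
  induction s using Finset.induction_on with
  | empty => simp
  | insert a s ha ih =>
    rw [Finset.prod_insert ha, Finset.sum_insert ha, pow_add]
    exact Ideal.mul_mem_mul (Ideal.pow_mem_pow (hx a) _) ih

/-- a homogeneous polynomial of degree `n` with coefficients in `L` evaluates into `L * J ^ n` -/
lemma aeval_mem (hx : ∀ i, x i ∈ J) (L : Ideal A) {n : ℕ} (G : MvPolynomial (Fin d) A)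
    (hG : G.IsHomogeneous n) (hL : ∀ α, coeff α G ∈ L) : aeval x G ∈ L * J ^ n := by
  rw [aeval_def, eval₂_eq]
  apply Ideal.sum_mem
  intro α hα
  have hdeg : α.degree = n := by
    have := hG (mem_support_iff.mp hα)
    rw [← this, Finsupp.degree_eq_weight_one (R := ℕ)]
    rfl
  apply Ideal.mul_mem_mul (hL α)
  rw [← hdeg, Finsupp.degree]
  exact prod_pow_mem x J hx α α.support

lemma aeval_mem_pow (hx : ∀ i, x i ∈ J) {n : ℕ} (G : MvPolynomial (Fin d) A)
    (hG : G.IsHomogeneous n) : aeval x G ∈ J ^ n := by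
  have := aeval_mem x J hx ⊤ G hG (fun _ => Submodule.mem_top)
  rwa [Ideal.top_mul] at this

/-- every element of `J ^ n` is, modulo `J ^ (n+1)`, the value of a homogeneous polynomial -/
lemma exists_homogeneous (hx : ∀ i, x i ∈ J) (hJ : J ≤ Ideal.span (Set.range x) ⊔ J ^ 2)
    (n : ℕ) : ∀ y ∈ J ^ n, ∃ G : MvPolynomial (Fin d) A, G.IsHomogeneous n ∧
      y - aeval x G ∈ J ^ (n + 1) := by
  induction n with
  | zero =>
    intro y _
    exact ⟨C y, isHomogeneous_C _ y, by simp⟩
  | succ n ih =>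
    intro y hy
    rw [pow_succ', ← smul_eq_mul] at hy
    refine Submodule.smul_induction_on hy ?_ ?_
    · intro a ha b hb
      obtain ⟨Gb, hGb, hb'⟩ := ih b hb
      obtain ⟨u, hu, v, hv, rfl⟩ := Submodule.mem_sup.mp (hJ ha)
      obtain ⟨c, rfl⟩ := (Ideal.mem_span_range_iff_exists_fun).mp hu
      refine ⟨(∑ i, C (c i) * X i) * Gb, ?_, ?_⟩
      · have h1 : (∑ i, C (c i) * X i : MvPolynomial (Fin d) A).IsHomogeneous 1 :=
          IsHomogeneous.sum _ _ _ (fun i _ => isHomogeneous_C_mul_X (c i) i)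
        have := h1.mul hGb
        rwa [add_comm] at this
      · have hu' : (∑ i, c i * x i) ∈ J :=
          Ideal.sum_mem _ (fun i _ => Ideal.mul_mem_left _ _ (hx i))
        have e1 : aeval x ((∑ i, C (c i) * X i) * Gb) = (∑ i, c i * x i) * aeval x Gb := by
          simp [map_sum]
        rw [e1, smul_eq_mul]
        have e2 : (∑ i, c i * x i + v) * b - (∑ i, c i * x i) * aeval x Gb =
            (∑ i, c i * x i) * (b - aeval x Gb) + v * b := by ring
        rw [e2]
        apply Ideal.add_mem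
        · have := Ideal.mul_mem_mul hu' hb'
          rwa [← pow_succ'] at this
        · have := Ideal.mul_mem_mul hv hb
          rwa [← pow_add, add_comm] at this
    · intro y₁ y₂ h₁ h₂
      obtain ⟨G₁, hG₁, h₁'⟩ := h₁
      obtain ⟨G₂, hG₂, h₂'⟩ := h₂
      refine ⟨G₁ + G₂, hG₁.add hG₂, ?_⟩
      have : y₁ + y₂ - aeval x (G₁ + G₂) = (y₁ - aeval x G₁) + (y₂ - aeval x G₂) := by
        rw [map_add]; ring
      rw [this]
      exact Ideal.add_mem _ h₁' h₂'

end Ev

section Lift

variable {A C : Type u} [CommRing A] [CommRing C] {σ : Type*}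

/-- lift a homogeneous polynomial along a surjective ring hom -/
lemma exists_homogeneous_lift (f : A →+* C) (hf : Function.Surjective f)
    (F : MvPolynomial σ C) (n : ℕ) (hF : F.IsHomogeneous n) :
    ∃ G : MvPolynomial σ A, G.IsHomogeneous n ∧ map f G = F := by
  classical
  refine ⟨∑ α ∈ F.support, monomial α (Function.surjInv hf (coeff α F)), ?_, ?_⟩
  · apply IsHomogeneous.sum
    intro α hα
    apply isHomogeneous_monomial
    have := hF (mem_support_iff.mp hα)
    rw [← this, Finsupp.degree_eq_weight_one (R := ℕ)]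
    rfl
  · rw [map_sum]
    conv_rhs => rw [← F.support_sum_monomial_coeff]
    apply Finset.sum_congr rfl
    intro α _
    rw [map_monomial, Function.surjInv_eq hf]

end Lift


section Coeffs

attribute [local instance] MvPolynomial.gradedAlgebra

/-- extraction of the degree-`m` part of a linear combination of homogeneous elements -/
lemma exists_homogeneous_coeffs {C : Type u} [CommRing C] {σ : Type*}
    (T : Finset (MvPolynomial σ C)) (nn : MvPolynomial σ C → ℕ)
    (hT : ∀ F ∈ T, F.IsHomogeneous (nn F))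
    (a : MvPolynomial σ C → MvPolynomial σ C) (m : ℕ) (F0 : MvPolynomial σ C)
    (hF0 : F0.IsHomogeneous m) (h : F0 = ∑ F ∈ T, a F * F) :
    ∃ a' : MvPolynomial σ C → MvPolynomial σ C,
      (∀ F ∈ T, nn F ≤ m → (a' F).IsHomogeneous (m - nn F)) ∧
      (∀ F ∈ T, ¬ nn F ≤ m → a' F = 0) ∧ F0 = ∑ F ∈ T, a' F * F := by
  classical
  refine ⟨fun F => if nn F ≤ m then
      (DirectSum.decompose (homogeneousSubmodule σ C) (a F) (m - nn F) : MvPolynomial σ C)
      else 0, ?_, ?_, ?_⟩
  · intro F _ hF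
    simp only [hF, if_true]
    exact (DirectSum.decompose (homogeneousSubmodule σ C) (a F) (m - nn F)).2
  · intro F _ hF
    simp only [hF, if_false]
  · have h1 : F0 = GradedRing.proj (homogeneousSubmodule σ C) m F0 := by
      rw [GradedRing.proj_apply, DirectSum.decompose_of_mem_same _ hF0]
    rw [h1, h, map_sum]
    apply Finset.sum_congr rfl
    intro F hF
    rw [GradedRing.proj_apply, DirectSum.coe_decompose_mul_of_right_mem _ _ (hT F hF)]
    by_cases hle : nn F ≤ m
    · simp only [hle, if_true]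
    · simp only [hle, if_false, zero_mul]

end Coeffs

section Main

variable {A : Type u} [CommRing A] (J : Ideal A) {d : ℕ} (x : Fin d → A)

lemma step (hx : ∀ i, x i ∈ J) (hJ : J ≤ Ideal.span (Set.range x) ⊔ J ^ 2)
    (K : Ideal A) (T : Finset (MvPolynomial (Fin d) (A ⧸ J)))
    (nn : MvPolynomial (Fin d) (A ⧸ J) → ℕ)
    (GG : MvPolynomial (Fin d) (A ⧸ J) → MvPolynomial (Fin d) A)
    (kk : MvPolynomial (Fin d) (A ⧸ J) → A)
    (hGG : ∀ F ∈ T, (GG F).IsHomogeneous (nn F) ∧ map (Ideal.Quotient.mk J) (GG F) = F ∧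
      aeval x (GG F) - kk F ∈ J ^ (nn F + 1))
    (hspan : ∀ (n : ℕ) (G : MvPolynomial (Fin d) A), G.IsHomogeneous n →
      aeval x G ∈ K ⊔ J ^ (n + 1) →
      map (Ideal.Quotient.mk J) G ∈ Ideal.span (T : Set (MvPolynomial (Fin d) (A ⧸ J))))
    (N : ℕ) (hN : ∀ F ∈ T, nn F ≤ N)
    (m : ℕ) (k' : A) (hk'K : k' ∈ K) (hk'J : k' ∈ J ^ m) :
    ∃ c : MvPolynomial (Fin d) (A ⧸ J) → A, (∀ F, c F ∈ J ^ (m - N)) ∧
      k' - ∑ F ∈ T, c F * kk F ∈ J ^ (m + 1) := by
  classical
  obtain ⟨G, hG, hGk⟩ := exists_homogeneous x J hx hJ m k' hk'J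
  have hF0 : map (Ideal.Quotient.mk J) G ∈
      Ideal.span (T : Set (MvPolynomial (Fin d) (A ⧸ J))) := by
    apply hspan m G hG
    have : aeval x G = k' - (k' - aeval x G) := by ring
    rw [this]
    exact Submodule.sub_mem _ (Submodule.mem_sup_left hk'K) (Submodule.mem_sup_right hGk)
  obtain ⟨a, -, ha⟩ := Submodule.mem_span_finset.mp hF0
  have hTh : ∀ F ∈ T, F.IsHomogeneous (nn F) := fun F hF => by
    have := (hGG F hF).1.map (Ideal.Quotient.mk J)
    rwa [(hGG F hF).2.1] at this
  obtain ⟨a', ha'1, ha'2, ha'3⟩ := exists_homogeneous_coeffs T nn hTh a m _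
    (hG.map (Ideal.Quotient.mk J)) (by rw [← ha]; simp only [smul_eq_mul])
  have hlift : ∀ F : MvPolynomial (Fin d) (A ⧸ J), ∃ At : MvPolynomial (Fin d) A,
      (F ∈ T → nn F ≤ m →
        At.IsHomogeneous (m - nn F) ∧ map (Ideal.Quotient.mk J) At = a' F) ∧
      (¬ (F ∈ T ∧ nn F ≤ m) → At = 0) := by
    intro F
    by_cases h : F ∈ T ∧ nn F ≤ m
    · obtain ⟨At, h1, h2⟩ := exists_homogeneous_lift (Ideal.Quotient.mk J)
        Ideal.Quotient.mk_surjective (a' F) (m - nn F) (ha'1 F h.1 h.2)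
      exact ⟨At, fun _ _ => ⟨h1, h2⟩, fun h' => absurd h h'⟩
    · exact ⟨0, fun h1 h2 => absurd ⟨h1, h2⟩ h, fun _ => rfl⟩
  choose At hAt1 hAt2 using hlift
  refine ⟨fun F => aeval x (At F), ?_, ?_⟩
  · intro F
    show aeval x (At F) ∈ J ^ (m - N)
    by_cases h : F ∈ T ∧ nn F ≤ m
    · have := aeval_mem_pow x J hx (At F) (hAt1 F h.1 h.2).1
      exact Ideal.pow_le_pow_right (by have := hN F h.1; omega) this
    · rw [hAt2 F h, map_zero]; exact Ideal.zero_mem _
  · set D : MvPolynomial (Fin d) A := G - ∑ F ∈ T, At F * GG F with hD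
    have hDh : D.IsHomogeneous m := by
      apply hG.sub
      apply IsHomogeneous.sum
      intro F hF
      by_cases h : nn F ≤ m
      · have := (hAt1 F hF h).1.mul (hGG F hF).1
        rwa [Nat.sub_add_cancel h] at this
      · rw [hAt2 F (fun h' => h h'.2), zero_mul]; exact isHomogeneous_zero _ _ _
    have hDπ : map (Ideal.Quotient.mk J) D = 0 := by
      rw [hD, map_sub, map_sum, ha'3, sub_eq_zero]
      apply Finset.sum_congr rfl
      intro F hF
      rw [map_mul, (hGG F hF).2.1]
      by_cases h : nn F ≤ m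
      · rw [(hAt1 F hF h).2]
      · rw [hAt2 F (fun h' => h h'.2), ha'2 F hF h, map_zero]
    have hDJ : aeval x D ∈ J ^ (m + 1) := by
      have := aeval_mem x J hx J D hDh (fun α => by
        have h1 : coeff α (map (Ideal.Quotient.mk J) D) = 0 := by rw [hDπ]; simp
        rw [coeff_map] at h1
        exact Ideal.Quotient.eq_zero_iff_mem.mp h1)
      rwa [← pow_succ'] at this
    have e : k' - ∑ F ∈ T, aeval x (At F) * kk F =
        (k' - aeval x G) + aeval x D +
          ∑ F ∈ T, aeval x (At F) * (aeval x (GG F) - kk F) := by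
      rw [hD, map_sub, map_sum]
      simp only [map_mul, mul_sub, Finset.sum_sub_distrib]
      ring
    rw [e]
    refine Ideal.add_mem _ (Ideal.add_mem _ hGk hDJ) (Ideal.sum_mem _ ?_)
    intro F hF
    by_cases h : nn F ≤ m
    · have h1 := aeval_mem_pow x J hx (At F) (hAt1 F hF h).1
      have h2 := (hGG F hF).2.2
      have := Ideal.mul_mem_mul h1 h2
      rw [← pow_add] at this
      convert this using 2
      omega
    · rw [hAt2 F (fun h' => h h'.2), map_zero, zero_mul]; exact Ideal.zero_mem _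

end Main


section Thm

variable {A : Type u} [CommRing A] (J : Ideal A) [IsAdicComplete J A] {d : ℕ} (x : Fin d → A)

/-- **Main theorem**: a `J`-adically complete ring with `J ≤ (x₁,…,x_d) + J²`, `x_i ∈ J`,
and Noetherian `A ⧸ J` is Noetherian. -/
theorem isNoetherianRing (hx : ∀ i, x i ∈ J) (hJ : J ≤ Ideal.span (Set.range x) ⊔ J ^ 2)
    [IsNoetherianRing (A ⧸ J)] : IsNoetherianRing A := by
  classical
  rw [isNoetherianRing_iff_ideal_fg]
  intro K
  let S : Set (MvPolynomial (Fin d) (A ⧸ J)) :=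
    {F | ∃ (n : ℕ) (G : MvPolynomial (Fin d) A), G.IsHomogeneous n ∧
      map (Ideal.Quotient.mk J) G = F ∧ aeval x G ∈ K ⊔ J ^ (n + 1)}
  have hfg : (Ideal.span S).FG := IsNoetherian.noetherian _
  obtain ⟨T, hTS, hT⟩ := (Submodule.fg_span_iff_fg_span_finset_subset S).mp hfg
  have hdata : ∀ F : MvPolynomial (Fin d) (A ⧸ J),
      ∃ (n : ℕ) (G : MvPolynomial (Fin d) A) (k : A), F ∈ T →
        (G.IsHomogeneous n ∧ map (Ideal.Quotient.mk J) G = F ∧ k ∈ K ∧
          aeval x G - k ∈ J ^ (n + 1)) := by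
    intro F
    by_cases hF : F ∈ T
    · obtain ⟨n, G, hG, hGF, hGK⟩ := hTS hF
      obtain ⟨k, hk, j, hj, hkj⟩ := Submodule.mem_sup.mp hGK
      refine ⟨n, G, k, fun _ => ⟨hG, hGF, hk, ?_⟩⟩
      rw [← hkj]
      simpa using hj
    · exact ⟨0, 0, 0, fun h => absurd h hF⟩
  choose nn GG kk hdata' using hdata
  have hNle : ∀ F ∈ T, nn F ≤ T.sup nn := fun F hF => Finset.le_sup hF
  have hkkK : ∀ F ∈ T, kk F ∈ K := fun F hF => (hdata' F hF).2.2.1
  have hstep := step J x hx hJ K T nn GG kk
    (fun F hF => ⟨(hdata' F hF).1, (hdata' F hF).2.1, (hdata' F hF).2.2.2⟩)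
    (fun n G hG hGK => by
      have h1 : map (Ideal.Quotient.mk J) G ∈ Ideal.span S :=
        Ideal.subset_span ⟨n, G, hG, rfl, hGK⟩
      have h2 : Ideal.span S = Ideal.span (T : Set (MvPolynomial (Fin d) (A ⧸ J))) := hT
      rw [h2] at h1
      exact h1) (T.sup nn) hNle
  refine ⟨T.image kk, ?_⟩
  apply le_antisymm
  · rw [Submodule.span_le]
    intro y hy
    simp only [Finset.coe_image, Set.mem_image, Finset.mem_coe] at hy
    obtain ⟨F, hF, rfl⟩ := hy
    exact hkkK F hF
  · intro k hk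
    choose c hc1 hc2 using hstep
    have hPK : ∀ s : MvPolynomial (Fin d) (A ⧸ J) → A, k - ∑ F ∈ T, s F * kk F ∈ K := fun s =>
      Ideal.sub_mem _ hk (Ideal.sum_mem _ (fun F hF => Ideal.mul_mem_left _ _ (hkkK F hF)))
    let seq : (m : ℕ) → {s : MvPolynomial (Fin d) (A ⧸ J) → A //
        k - ∑ F ∈ T, s F * kk F ∈ J ^ m} := fun m =>
      Nat.rec (motive := fun m => {s : MvPolynomial (Fin d) (A ⧸ J) → A //
          k - ∑ F ∈ T, s F * kk F ∈ J ^ m})
        ⟨0, by simp⟩
        (fun m a => ⟨fun F => a.1 F + c m (k - ∑ F ∈ T, a.1 F * kk F) (hPK a.1) a.2 F, by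
          have := hc2 m (k - ∑ F ∈ T, a.1 F * kk F) (hPK a.1) a.2
          convert this using 1
          simp only [add_mul, Finset.sum_add_distrib]
          ring⟩) m
    have hseq_succ : ∀ m F, (seq (m + 1)).1 F - (seq m).1 F ∈ J ^ (m - T.sup nn) := by
      intro m F
      show ((seq m).1 F + c m _ (hPK (seq m).1) (seq m).2 F) - (seq m).1 F ∈ _
      rw [add_sub_cancel_left]
      exact hc1 m _ _ _ F
    let f : MvPolynomial (Fin d) (A ⧸ J) → ℕ → A := fun F m => (seq (m + T.sup nn)).1 F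
    have hf1 : ∀ F m, f F (m + 1) - f F m ∈ J ^ m := by
      intro F m
      have := hseq_succ (m + T.sup nn) F
      rw [Nat.add_sub_cancel] at this
      have e : m + 1 + T.sup nn = m + T.sup nn + 1 := by omega
      show (seq (m + 1 + T.sup nn)).1 F - (seq (m + T.sup nn)).1 F ∈ J ^ m
      rw [e]
      exact this
    have hf2 : ∀ F m n, m ≤ n → f F n - f F m ∈ J ^ m := by
      intro F m n hmn
      induction n, hmn using Nat.le_induction with
      | base => simp
      | succ n hmn ih =>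
        have : f F (n + 1) - f F m = (f F (n + 1) - f F n) + (f F n - f F m) := by ring
        rw [this]
        exact Ideal.add_mem _ (Ideal.pow_le_pow_right hmn (hf1 F n)) ih
    have hL : ∀ F, ∃ L : A, ∀ n, f F n - L ∈ J ^ n := by
      intro F
      obtain ⟨L, hL⟩ := IsPrecomplete.prec' (I := J) (f F) (by
        intro m n hmn
        rw [SModEq.sub_mem, smul_eq_mul, Ideal.mul_top]
        have := hf2 F m n hmn
        rw [← Ideal.neg_mem_iff] at this
        simpa using this)
      refine ⟨L, fun n => ?_⟩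
      have := hL n
      rwa [SModEq.sub_mem, smul_eq_mul, Ideal.mul_top] at this
    choose L hL' using hL
    have hzero : k - ∑ F ∈ T, L F * kk F = 0 := by
      apply IsHausdorff.haus' (I := J)
      intro n
      rw [SModEq.sub_mem, smul_eq_mul, Ideal.mul_top, sub_zero]
      have e : k - ∑ F ∈ T, L F * kk F =
          (k - ∑ F ∈ T, f F n * kk F) + ∑ F ∈ T, (f F n - L F) * kk F := by
        simp only [sub_mul, Finset.sum_sub_distrib]
        ring
      rw [e]
      refine Ideal.add_mem _ ?_ (Ideal.sum_mem _ (fun F _ => Ideal.mul_mem_right _ _ (hL' F n)))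
      exact Ideal.pow_le_pow_right (Nat.le_add_right n _) (seq (n + T.sup nn)).2
    rw [sub_eq_zero] at hzero
    rw [hzero]
    refine Ideal.sum_mem _ (fun F hF => Ideal.mul_mem_left _ _ (Ideal.subset_span ?_))
    simp only [Finset.coe_image, Set.mem_image, Finset.mem_coe]
    exact ⟨F, hF, rfl⟩

end Thm

end Groth.Agent.Helper8.CompleteNoeth
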