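import Mathlib

/-!
# Completeness with respect to two ideals

If a Noetherian ring `A` is `I`-adically complete and `A ⧸ I` is complete along the image of `J`,
then `A` is `J`-adically complete.
-/

set_option autoImplicit false

universe u v w

namespace Groth.Agent.Helper8.TwoIdealComplete

variable {A : Type u} [CommRing A]

section Basic

variable {M : Type v} [AddCommGroup M] [Module A M] (J : Ideal A)

lemma cauchy_of_succ (f : ℕ → M)
    (hf : ∀ n, f (n + 1) - f n ∈ (J ^ n • ⊤ : Submodule A M)) {m n : ℕ} (hmn : m ≤ n) :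
    f m ≡ f n [SMOD (J ^ m • ⊤ : Submodule A M)] := by
  induction n, hmn using Nat.le_induction with
  | base => exact SModEq.refl _
  | succ n hmn ih =>
    refine ih.trans ?_
    rw [SModEq.sub_mem]
    have h1 := Submodule.pow_smul_top_le J M hmn (hf n)
    have h2 : f n - f (n + 1) = -(f (n + 1) - f n) := by abel
    rw [h2]
    exact Submodule.neg_mem _ h1

lemma sub_mem_of_le (f : ℕ → M)
    (hf : ∀ n, f (n + 1) - f n ∈ (J ^ n • ⊤ : Submodule A M)) {m n : ℕ} (hmn : m ≤ n) :
    f m - f n ∈ (J ^ m • ⊤ : Submodule A M) :=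
  SModEq.sub_mem.mp (cauchy_of_succ J f hf hmn)

lemma exists_limit [IsPrecomplete J M] (f : ℕ → M)
    (hf : ∀ n, f (n + 1) - f n ∈ (J ^ n • ⊤ : Submodule A M)) :
    ∃ L : M, ∀ n, f n - L ∈ (J ^ n • ⊤ : Submodule A M) := by
  obtain ⟨L, hL⟩ := IsPrecomplete.prec' (I := J) f (fun h => cauchy_of_succ J f hf h)
  exact ⟨L, fun n => SModEq.sub_mem.mp (hL n)⟩

lemma precomplete_of_succ
    (h : ∀ f : ℕ → M, (∀ n, f (n + 1) - f n ∈ (J ^ n • ⊤ : Submodule A M)) →
      ∃ L : M, ∀ n, f n - L ∈ (J ^ n • ⊤ : Submodule A M)) : IsPrecomplete J M := by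
  refine ⟨fun f hf => ?_⟩
  have hf' : ∀ n, f (n + 1) - f n ∈ (J ^ n • ⊤ : Submodule A M) := by
    intro n
    have h1 := SModEq.sub_mem.mp (hf (Nat.le_succ n))
    have h2 : f (n + 1) - f n = -(f n - f (n + 1)) := by abel
    rw [h2]
    exact Submodule.neg_mem _ h1
  obtain ⟨L, hL⟩ := h f hf'
  exact ⟨L, fun n => SModEq.sub_mem.mpr (hL n)⟩

lemma map_mem_pow_smul_top {P : Type w} [AddCommGroup P] [Module A P] (g : M →ₗ[A] P) (n : ℕ)
    {x : M} (hx : x ∈ (J ^ n • ⊤ : Submodule A M)) : g x ∈ (J ^ n • ⊤ : Submodule A P) := by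
  have h1 : g x ∈ Submodule.map g (J ^ n • ⊤ : Submodule A M) := Submodule.mem_map_of_mem hx
  rw [Submodule.map_smul''] at h1
  exact Submodule.smul_mono le_rfl le_top h1

end Basic

/-- A finite module killed by `I` is `J`-adically precomplete if `A ⧸ I` is. -/
theorem precomplete_of_finite_of_quotient (I J : Ideal A)
    [IsPrecomplete (J.map (Ideal.Quotient.mk I)) (A ⧸ I)]
    (M : Type v) [AddCommGroup M] [Module A M] [Module.Finite A M]
    (hI : ∀ i ∈ I, ∀ m : M, i • m = 0) : IsPrecomplete J M := by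
  classical
  obtain ⟨d, s, hs⟩ := Module.Finite.exists_fin (R := A) (M := M)
  apply precomplete_of_succ
  intro f hf
  -- coefficients
  have hcoef : ∀ n, ∃ r : Fin d → A, (∀ l, r l ∈ J ^ n) ∧ f (n + 1) - f n = ∑ l, r l • s l := by
    intro n
    have h1 := hf n
    rw [← hs, Submodule.mem_ideal_smul_span_iff_exists_sum] at h1
    obtain ⟨a, ha, hsum⟩ := h1
    refine ⟨fun l => a l, ha, ?_⟩
    rw [← hsum, Finsupp.sum_fintype]
    intro i; rw [zero_smul]
  choose r hr hrsum using hcoef
  -- partial sums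
  let S : ℕ → Fin d → A := fun N l => ∑ n ∈ Finset.range N, r n l
  have hfS : ∀ N, f N = f 0 + ∑ l, S N l • s l := by
    intro N
    induction N with
    | zero => simp [S]
    | succ N ih =>
      have h1 : f (N + 1) = f N + (f (N + 1) - f N) := by abel
      rw [h1, hrsum N, ih, add_assoc, ← Finset.sum_add_distrib]
      congr 1
      refine Finset.sum_congr rfl (fun l _ => ?_)
      simp only [S]
      rw [Finset.sum_range_succ, add_smul]
  -- limits in A ⧸ I
  have hlim : ∀ l, ∃ t : A, ∀ N, ∃ j ∈ J ^ N, S N l - t - j ∈ I := by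
    intro l
    have hc : ∀ N, (Ideal.Quotient.mk I (S (N + 1) l)) - Ideal.Quotient.mk I (S N l) ∈
        ((J.map (Ideal.Quotient.mk I)) ^ N • ⊤ : Submodule (A ⧸ I) (A ⧸ I)) := by
      intro N
      rw [smul_eq_mul, Ideal.mul_top, ← Ideal.map_pow, ← map_sub]
      apply Ideal.mem_map_of_mem
      simp only [S]
      rw [Finset.sum_range_succ, add_sub_cancel_left]
      exact hr N l
    obtain ⟨tbar, htbar⟩ := exists_limit (J.map (Ideal.Quotient.mk I))
      (fun N => Ideal.Quotient.mk I (S N l)) hc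
    obtain ⟨t, rfl⟩ := Ideal.Quotient.mk_surjective tbar
    refine ⟨t, fun N => ?_⟩
    have h1 := htbar N
    rw [smul_eq_mul, Ideal.mul_top, ← Ideal.map_pow, ← map_sub] at h1
    obtain ⟨j, hj, hje⟩ := (Ideal.mem_map_iff_of_surjective _ Ideal.Quotient.mk_surjective).mp h1
    refine ⟨j, hj, ?_⟩
    rw [← Ideal.Quotient.eq_zero_iff_mem, map_sub, hje, sub_self]
  choose t ht using hlim
  refine ⟨f 0 + ∑ l, t l • s l, fun N => ?_⟩
  rw [hfS N, add_sub_add_left_eq_sub, ← Finset.sum_sub_distrib]
  refine Submodule.sum_mem _ (fun l _ => ?_)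
  obtain ⟨j, hj, hji⟩ := ht l N
  have h1 : S N l • s l - t l • s l = j • s l + (S N l - t l - j) • s l := by
    rw [← sub_smul, ← add_smul]; congr 1; ring
  rw [h1, hI _ hji, add_zero]
  exact Submodule.smul_mem_smul hj Submodule.mem_top

/-- Extensions: if `g : M → P` is surjective with `P` and `ker g` precomplete then `M` is. -/
theorem precomplete_of_surjective [IsNoetherianRing A] (J : Ideal A)
    {M : Type v} {P : Type w} [AddCommGroup M] [Module A M] [Module.Finite A M]
    [AddCommGroup P] [Module A P] (g : M →ₗ[A] P) (hg : Function.Surjective g)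
    [IsPrecomplete J P] [IsPrecomplete J (LinearMap.ker g)] : IsPrecomplete J M := by
  classical
  apply precomplete_of_succ
  intro f hf
  -- limit in P
  obtain ⟨ybar, hybar⟩ := exists_limit J (fun n => g (f n)) (fun n => by
    rw [← map_sub]; exact map_mem_pow_smul_top J g n (hf n))
  obtain ⟨y, rfl⟩ := hg ybar
  -- decomposition
  have hdec : ∀ n, ∃ a ∈ (J ^ n • ⊤ : Submodule A M), f n - y - a ∈ LinearMap.ker g := by
    intro n
    have h1 := hybar n
    rw [← map_sub] at h1
    have h2 : (J ^ n • ⊤ : Submodule A P) = Submodule.map g (J ^ n • ⊤ : Submodule A M) := by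
      rw [Submodule.map_smul'', Submodule.map_top, LinearMap.range_eq_top.mpr hg]
    rw [h2] at h1
    obtain ⟨a, ha, hae⟩ := h1
    exact ⟨a, ha, by rw [LinearMap.mem_ker, map_sub, hae, sub_self]⟩
  choose a ha hb using hdec
  -- Artin–Rees
  obtain ⟨c, hc⟩ := Ideal.exists_pow_inf_eq_pow_smul J (LinearMap.ker g)
  have hbdiff : ∀ n, (f (n + 1) - y - a (n + 1)) - (f n - y - a n) ∈
      (J ^ n • ⊤ : Submodule A M) := by
    intro n
    have h1 : (f (n + 1) - y - a (n + 1)) - (f n - y - a n) =
        (f (n + 1) - f n) - a (n + 1) + a n := by abel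
    rw [h1]
    exact Submodule.add_mem _ (Submodule.sub_mem _ (hf n)
      (Submodule.pow_smul_top_le J M (Nat.le_succ n) (ha (n + 1)))) (ha n)
  let b' : ℕ → LinearMap.ker g := fun n => ⟨f (n + c) - y - a (n + c), hb (n + c)⟩
  have hb' : ∀ n, b' (n + 1) - b' n ∈ (J ^ n • ⊤ : Submodule A (LinearMap.ker g)) := by
    intro n
    have h1 : ((b' (n + 1) - b' n : LinearMap.ker g) : M) ∈
        (J ^ (n + c) • ⊤ ⊓ LinearMap.ker g : Submodule A M) := by
      refine ⟨?_, (b' (n + 1) - b' n).2⟩
      have := hbdiff (n + c)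
      rw [show n + c + 1 = n + 1 + c by omega] at this
      exact this
    rw [hc (n + c) (by omega), show n + c - c = n by omega] at h1
    have h2 : (J ^ n • (J ^ c • ⊤ ⊓ LinearMap.ker g) : Submodule A M) ≤
        Submodule.map (LinearMap.ker g).subtype (J ^ n • ⊤ : Submodule A (LinearMap.ker g)) := by
      rw [Submodule.map_smul'', Submodule.map_top, Submodule.range_subtype]
      exact Submodule.smul_mono le_rfl inf_le_right
    obtain ⟨z, hz, hze⟩ := h2 h1
    have : z = b' (n + 1) - b' n := Subtype.ext hze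
    rw [← this]
    exact hz
  obtain ⟨β, hβ⟩ := exists_limit J b' hb'
  refine ⟨y + β, fun n => ?_⟩
  have h1 : f n - (y + (β : M)) = (f n - f (n + c)) + (a (n + c) + ((b' (n + c - c) - β : LinearMap.ker g) : M)) := by
    have : n + c - c = n := by omega
    rw [this]
    simp only [b', Submodule.coe_sub]
    abel
  rw [h1]
  refine Submodule.add_mem _ (sub_mem_of_le J f hf (Nat.le_add_right n c)) (Submodule.add_mem _
    (Submodule.pow_smul_top_le J M (Nat.le_add_right n c) (ha (n + c))) ?_)
  have h2 := hβ (n + c - c)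
  have h3 := map_mem_pow_smul_top J (LinearMap.ker g).subtype (n + c - c) h2
  rw [show n + c - c = n by omega] at h3 ⊢
  exact h3

section Main

variable [IsNoetherianRing A] (I J : Ideal A)

theorem precomplete_quotient_pow [IsPrecomplete (J.map (Ideal.Quotient.mk I)) (A ⧸ I)] (k : ℕ) :
    IsPrecomplete J (A ⧸ I ^ k) := by
  induction k with
  | zero =>
    haveI : Subsingleton (A ⧸ I ^ 0) := by
      rw [pow_zero]; exact Ideal.Quotient.subsingleton_iff.mpr Ideal.one_eq_top
    infer_instance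
  | succ k ih =>
    have hle : I ^ (k + 1) ≤ I ^ k := Ideal.pow_le_pow_right (Nat.le_succ k)
    let g : (A ⧸ I ^ (k + 1)) →ₗ[A] (A ⧸ I ^ k) := (Ideal.Quotient.factorₐ A hle).toLinearMap
    have hg : Function.Surjective g := Ideal.Quotient.factor_surjective hle
    haveI := ih
    haveI : IsPrecomplete J (LinearMap.ker g) := by
      apply precomplete_of_finite_of_quotient I J
      intro i hi m
      apply Subtype.ext
      obtain ⟨x, hx⟩ := m
      obtain ⟨a, rfl⟩ := Ideal.Quotient.mk_surjective x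
      have ha : a ∈ I ^ k := by
        have h1 : g (Ideal.Quotient.mk _ a) = 0 := hx
        exact Ideal.Quotient.eq_zero_iff_mem.mp h1
      show i • (Ideal.Quotient.mk (I ^ (k + 1)) a) = 0
      have h2 : i • (Ideal.Quotient.mk (I ^ (k + 1)) a) = Ideal.Quotient.mk (I ^ (k + 1)) (i * a) := by
        rw [Algebra.smul_def, map_mul]; rfl
      rw [h2, Ideal.Quotient.eq_zero_iff_mem, pow_succ']
      exact Ideal.mul_mem_mul hi ha
    exact precomplete_of_surjective J g hg

lemma mem_of_forall_mem_sup (J K : Ideal A) (hJ : J ≤ Ideal.jacobson ⊥) (x : A)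
    (h : ∀ n, x ∈ J ^ n ⊔ K) : x ∈ K := by
  have : IsHausdorff J (A ⧸ K) := IsHausdorff.of_le_jacobson J (A ⧸ K) hJ
  rw [← Ideal.Quotient.eq_zero_iff_mem]
  apply IsHausdorff.haus' (I := J)
  intro n
  rw [SModEq.zero]
  obtain ⟨j, hj, κ, hκ, rfl⟩ := Submodule.mem_sup.mp (h n)
  rw [map_add, Ideal.Quotient.eq_zero_iff_mem.mpr hκ, add_zero]
  have h1 : Ideal.Quotient.mk K j = j • (1 : A ⧸ K) := by
    rw [Algebra.smul_def, mul_one]; rfl
  rw [h1]
  exact Submodule.smul_mem_smul hj Submodule.mem_top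

theorem isAdicComplete_of_quotient [IsAdicComplete I A]
    [IsAdicComplete (J.map (Ideal.Quotient.mk I)) (A ⧸ I)] : IsAdicComplete J A := by
  have hIjac : I ≤ Ideal.jacobson ⊥ := IsAdicComplete.le_jacobson_bot I
  have hJbar : J.map (Ideal.Quotient.mk I) ≤ Ideal.jacobson ⊥ := IsAdicComplete.le_jacobson_bot _
  have hJjac : J ≤ Ideal.jacobson ⊥ := by
    intro j hj
    rw [Ideal.mem_jacobson_bot]
    intro y
    have h1 : IsUnit (Ideal.Quotient.mk I (j * y + 1)) := by
      have := (Ideal.mem_jacobson_bot.mp (hJbar (Ideal.mem_map_of_mem _ hj)))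
        (Ideal.Quotient.mk I y)
      simpa using this
    obtain ⟨z, hz⟩ := isUnit_iff_exists_inv.mp h1
    obtain ⟨z, rfl⟩ := Ideal.Quotient.mk_surjective z
    rw [← map_mul, ← map_one (Ideal.Quotient.mk I), Ideal.Quotient.eq] at hz
    have h2 : IsUnit ((j * y + 1) * z) := by
      have := (Ideal.mem_jacobson_bot.mp (hIjac hz)) 1
      simpa using this
    exact isUnit_of_mul_isUnit_left h2
  have hH : IsHausdorff J A := IsHausdorff.of_le_jacobson J A hJjac
  have hP : IsPrecomplete J A := by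
    apply precomplete_of_succ
    intro f hf
    have hk : ∀ k, ∃ a : A, ∀ n, f n - a ∈ J ^ n ⊔ I ^ k := by
      intro k
      haveI := precomplete_quotient_pow I J k
      obtain ⟨ξ, hξ⟩ := exists_limit J
        (fun n => (Ideal.Quotient.mk (I ^ k) (f n) : A ⧸ I ^ k)) (fun n => by
          rw [← map_sub]
          exact map_mem_pow_smul_top J (Ideal.Quotient.mkₐ A (I ^ k)).toLinearMap n (hf n))
      obtain ⟨a, rfl⟩ := Ideal.Quotient.mk_surjective ξ
      refine ⟨a, fun n => ?_⟩
      have h1 := hξ n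
      rw [← map_sub] at h1
      have h2 : (J ^ n • ⊤ : Submodule A (A ⧸ I ^ k)) =
          Submodule.map (Ideal.Quotient.mkₐ A (I ^ k)).toLinearMap
            (J ^ n • ⊤ : Submodule A A) := by
        rw [Submodule.map_smul'', Submodule.map_top,
          LinearMap.range_eq_top.mpr (Ideal.Quotient.mkₐ_surjective A _)]
      rw [h2] at h1
      obtain ⟨j, hj, hje⟩ := h1
      rw [smul_eq_mul, Ideal.mul_top] at hj
      have h3 : f n - a - j ∈ I ^ k := by
        rw [← Ideal.Quotient.eq_zero_iff_mem, map_sub]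
        exact sub_eq_zero.mpr hje.symm
      have h4 : f n - a = j + (f n - a - j) := by ring
      rw [h4]
      exact Submodule.add_mem_sup hj h3
    choose a ha using hk
    have haC : ∀ k, a (k + 1) - a k ∈ (I ^ k • ⊤ : Submodule A A) := by
      intro k
      rw [smul_eq_mul, Ideal.mul_top]
      apply mem_of_forall_mem_sup J (I ^ k) hJjac
      intro n
      have h1 := ha k n
      have h2 := ha (k + 1) n
      have h3 : a (k + 1) - a k = (f n - a k) - (f n - a (k + 1)) := by ring
      rw [h3]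
      have hle : J ^ n ⊔ I ^ (k + 1) ≤ J ^ n ⊔ I ^ k :=
        sup_le_sup_left (Ideal.pow_le_pow_right (Nat.le_succ k)) _
      exact Submodule.sub_mem _ h1 (hle h2)
    obtain ⟨x, hx⟩ := exists_limit I a haC
    refine ⟨x, fun n => ?_⟩
    rw [smul_eq_mul, Ideal.mul_top]
    apply mem_of_forall_mem_sup I (J ^ n) hIjac
    intro k
    have h1 := ha k n
    have h2 := hx k
    rw [smul_eq_mul, Ideal.mul_top] at h2
    have h3 : f n - x = (f n - a k) + (a k - x) := by ring
    rw [h3, sup_comm]
    exact Submodule.add_mem _ h1 (le_sup_right (a := J ^ n) h2)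
  exact (isAdicComplete_iff J A).mpr ⟨hH, hP⟩

end Main

end Groth.Agent.Helper8.TwoIdealComplete
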