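import Mathlib

/-!
# Injectivity modulo the maximal ideal and flatness of cokernels (helper8)

Tor-free proof of the statement: `u : N → M`, `M` flat over the local ring `R`, `N` finite
over a Noetherian local `R`-algebra, `u ⊗ k` injective; then `u` is injective with flat cokernel.
-/

set_option autoImplicit false

namespace Groth.Agent.Helper8.FlatLocal

open TensorProduct IsLocalRing

section tensor

variable {R : Type*} [CommRing R] (I : Ideal R) {X : Type*} [AddCommGroup X] [Module R X]

theorem one_tmul_eq_zero_iff (x : X) :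
    ((1 : R ⧸ I) ⊗ₜ[R] x = 0) ↔ x ∈ I • (⊤ : Submodule R X) := by
  rw [← (TensorProduct.quotTensorEquivQuotSMul X I).map_eq_zero_iff,
    TensorProduct.quotTensorEquivQuotSMul_mk_one_tmul, Submodule.Quotient.mk_eq_zero]

theorem exists_one_tmul_eq (z : (R ⧸ I) ⊗[R] X) : ∃ x : X, z = (1 : R ⧸ I) ⊗ₜ[R] x := by
  obtain ⟨x, hx⟩ := Submodule.Quotient.mk_surjective _ (TensorProduct.quotTensorEquivQuotSMul X I z)
  refine ⟨x, ?_⟩
  apply (TensorProduct.quotTensorEquivQuotSMul X I).injective
  rw [TensorProduct.quotTensorEquivQuotSMul_mk_one_tmul, hx]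

end tensor

section core

variable {R : Type*} [CommRing R] [IsLocalRing R] {N M : Type*} [AddCommGroup N] [Module R N]
  [AddCommGroup M] [Module R M]

theorem map_smul_top_mem (u : N →ₗ[R] M) (I : Ideal R) {y : N}
    (hy : y ∈ I • (⊤ : Submodule R N)) : u y ∈ I • (⊤ : Submodule R M) := by
  have h1 : Submodule.map u (I • ⊤) ≤ I • ⊤ := by
    rw [Submodule.map_smul'']
    exact Submodule.smul_mono le_rfl le_top
  exact h1 ⟨y, hy, rfl⟩

theorem H_of_injective_lTensor (u : N →ₗ[R] M)
    (h : Function.Injective (LinearMap.lTensor (IsLocalRing.ResidueField R) u)) :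
    ∀ n : N, u n ∈ maximalIdeal R • (⊤ : Submodule R M) →
      n ∈ maximalIdeal R • (⊤ : Submodule R N) := by
  intro n hn
  rw [← one_tmul_eq_zero_iff] at hn ⊢
  have h1 : LinearMap.lTensor (IsLocalRing.ResidueField R) u
      ((1 : R ⧸ maximalIdeal R) ⊗ₜ[R] n) = 0 := hn
  have h2 := h (h1.trans (map_zero _).symm)
  exact h2

variable [Module.Flat R M]

theorem step_aux (u : N →ₗ[R] M)
    (H : ∀ n : N, u n ∈ maximalIdeal R • (⊤ : Submodule R M) →
      n ∈ maximalIdeal R • (⊤ : Submodule R N))
    (I : Ideal R) (r : ℕ) :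
    ∀ (L : ℕ) (T : Finset N) (c : N → R) (n : N → N) (y : N), T.card = L →
      (∀ l ∈ T, c l ∈ maximalIdeal R ^ r) → y ∈ I • (⊤ : Submodule R N) →
      u (∑ l ∈ T, c l • n l + y) ∈ I • (⊤ : Submodule R M) →
      (∑ l ∈ T, c l • n l + y) ∈
        (maximalIdeal R ^ (r + 1)) • (⊤ : Submodule R N) ⊔ I • ⊤ := by
  classical
  intro L
  induction L with
  | zero =>
    intro T c n y hT _ hy _
    rw [Finset.card_eq_zero] at hT
    subst hT
    rw [Finset.sum_empty, zero_add]
    exact Submodule.mem_sup_right hy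
  | succ L ih =>
    intro T c n y hT hc hy hu
    have huy : u y ∈ I • (⊤ : Submodule R M) := map_smul_top_mem u I hy
    have hrel : ∑ l ∈ T, c l • u (n l) ∈ I • (⊤ : Submodule R M) := by
      have h1 : ∑ l ∈ T, c l • u (n l) = u (∑ l ∈ T, c l • n l + y) - u y := by
        rw [map_add, map_sum]
        simp
      rw [h1]
      exact Submodule.sub_mem _ hu huy
    have hspan : (⊤ : Submodule R M) = Submodule.span R (Set.range (id : M → M)) := by simp
    rw [hspan, Submodule.mem_ideal_smul_span_iff_exists_sum] at hrel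
    obtain ⟨b, hbI, hb⟩ := hrel
    let f : (↥T ⊕ ↥b.support) → R := Sum.elim (fun l => c l.1) (fun t => - b t.1)
    let xx : (↥T ⊕ ↥b.support) → M := Sum.elim (fun l => u (n l.1)) (fun t => t.1)
    have hsum : ∑ i, f i • xx i = 0 := by
      rw [Fintype.sum_sum_type]
      simp only [f, xx, Sum.elim_inl, Sum.elim_inr, neg_smul, Finset.sum_neg_distrib]
      rw [Finset.sum_coe_sort T (fun l => c l • u (n l)),
        Finset.sum_coe_sort b.support (fun t => b t • t)]
      have h2 : ∑ t ∈ b.support, b t • t = ∑ l ∈ T, c l • u (n l) := by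
        rw [← hb]
        rfl
      rw [h2, add_neg_cancel]
    obtain ⟨k, a, z, hxz, haz⟩ := Module.Flat.isTrivialRelation_of_sum_smul_eq_zero hsum
    by_cases hall : ∀ (l : ↥T) (j : Fin k), a (Sum.inl l) j ∈ maximalIdeal R
    · refine Submodule.add_mem _ (Submodule.mem_sup_left ?_) (Submodule.mem_sup_right hy)
      refine Submodule.sum_mem _ (fun l hl => ?_)
      have h1 : u (n l) ∈ maximalIdeal R • (⊤ : Submodule R M) := by
        have h3 := hxz (Sum.inl ⟨l, hl⟩)
        simp only [xx, Sum.elim_inl] at h3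
        rw [h3]
        exact Submodule.sum_mem _ (fun j _ =>
          Submodule.smul_mem_smul (hall ⟨l, hl⟩ j) Submodule.mem_top)
      have h2 := H (n l) h1
      rw [pow_succ, Submodule.mul_smul]
      exact Submodule.smul_mem_smul (hc l hl) h2
    · push Not at hall
      obtain ⟨⟨l₀, hl₀⟩, j₀, hunit⟩ := hall
      have hu' : IsUnit (a (Sum.inl ⟨l₀, hl₀⟩) j₀) := by
        by_contra hnu
        exact hunit ((IsLocalRing.mem_maximalIdeal _).mpr hnu)
      obtain ⟨α, hα⟩ := hu'
      let ã : N → R := fun l => if h : l ∈ T then a (Sum.inl ⟨l, h⟩) j₀ else 0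
      let e : R := ∑ t : ↥b.support, b t.1 * a (Sum.inr t) j₀
      have heI : e ∈ I := Ideal.sum_mem _ (fun t _ => I.mul_mem_right _ (hbI t.1))
      have hrelj : ∑ l ∈ T, c l * ã l = e := by
        have h3 := haz j₀
        rw [Fintype.sum_sum_type] at h3
        simp only [f, Sum.elim_inl, Sum.elim_inr, neg_mul, Finset.sum_neg_distrib] at h3
        have h1 : ∑ l : ↥T, c l.1 * a (Sum.inl l) j₀ = ∑ l ∈ T, c l * ã l := by
          rw [← Finset.sum_coe_sort T (fun l => c l * ã l)]
          refine Finset.sum_congr rfl (fun l _ => ?_)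
          simp only [ã, dif_pos l.2]
        rw [h1] at h3
        exact add_neg_eq_zero.mp h3
      have hcl₀ : c l₀ = ↑α⁻¹ * e - ∑ l ∈ T.erase l₀, c l * (↑α⁻¹ * ã l) := by
        have h1 : ∑ l ∈ T, c l * ã l = c l₀ * ã l₀ + ∑ l ∈ T.erase l₀, c l * ã l :=
          (Finset.add_sum_erase T _ hl₀).symm
        have h2 : ã l₀ = α := by
          simp only [ã, dif_pos hl₀]
          exact hα.symm
        rw [h1, h2] at hrelj
        have h3 : c l₀ * α = e - ∑ l ∈ T.erase l₀, c l * ã l := by
          rw [← hrelj]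
          ring
        calc c l₀ = c l₀ * α * ↑α⁻¹ := by rw [mul_assoc, Units.mul_inv, mul_one]
          _ = (e - ∑ l ∈ T.erase l₀, c l * ã l) * ↑α⁻¹ := by rw [h3]
          _ = ↑α⁻¹ * e - ∑ l ∈ T.erase l₀, c l * (↑α⁻¹ * ã l) := by
            have hA : e * ↑α⁻¹ = ↑α⁻¹ * e := mul_comm _ _
            have hB : (∑ l ∈ T.erase l₀, c l * ã l) * ↑α⁻¹ =
                ∑ l ∈ T.erase l₀, c l * (↑α⁻¹ * ã l) := by
              rw [Finset.sum_mul]
              exact Finset.sum_congr rfl (fun l _ => by ring)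
            rw [sub_mul, hA, hB]
      let n' : N → N := fun l => n l - (↑α⁻¹ * ã l) • n l₀
      let y' : N := y + (↑α⁻¹ * e) • n l₀
      have hy' : y' ∈ I • (⊤ : Submodule R N) :=
        Submodule.add_mem _ hy (Submodule.smul_mem_smul (I.mul_mem_left _ heI) Submodule.mem_top)
      have hS : ∑ l ∈ T.erase l₀, c l • ((↑α⁻¹ * ã l) • n l₀) =
          (∑ l ∈ T.erase l₀, c l * (↑α⁻¹ * ã l)) • n l₀ := by
        rw [Finset.sum_smul]
        refine Finset.sum_congr rfl (fun l _ => by rw [smul_smul])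
      have hsplit : ∑ l ∈ T, c l • n l = c l₀ • n l₀ + ∑ l ∈ T.erase l₀, c l • n l :=
        (Finset.add_sum_erase T (fun l => c l • n l) hl₀).symm
      have hx : ∑ l ∈ T, c l • n l + y = ∑ l ∈ T.erase l₀, c l • n' l + y' := by
        calc ∑ l ∈ T, c l • n l + y
            = c l₀ • n l₀ + ∑ l ∈ T.erase l₀, c l • n l + y := by
              rw [hsplit]
          _ = (↑α⁻¹ * e - ∑ l ∈ T.erase l₀, c l * (↑α⁻¹ * ã l)) • n l₀ +
                ∑ l ∈ T.erase l₀, c l • n l + y := by
              conv_lhs => rw [hcl₀]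
          _ = ∑ l ∈ T.erase l₀, c l • n' l + y' := by
              simp only [n', y', smul_sub, Finset.sum_sub_distrib, hS, sub_smul]
              abel
      rw [hx]
      have hcard : (T.erase l₀).card = L := by
        rw [Finset.card_erase_of_mem hl₀, hT]
        rfl
      exact ih (T.erase l₀) c n' y' hcard (fun l hl => hc l (Finset.mem_of_mem_erase hl)) hy'
        (hx ▸ hu)

theorem mem_smul_top_of_map_mem (u : N →ₗ[R] M)
    (H : ∀ n : N, u n ∈ maximalIdeal R • (⊤ : Submodule R M) →
      n ∈ maximalIdeal R • (⊤ : Submodule R N))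
    (I : Ideal R)
    (K : ∀ x : N, (∀ r : ℕ, x ∈ (maximalIdeal R ^ r) • (⊤ : Submodule R N) ⊔ I • ⊤) →
      x ∈ I • (⊤ : Submodule R N))
    (x : N) (hx : u x ∈ I • (⊤ : Submodule R M)) : x ∈ I • (⊤ : Submodule R N) := by
  apply K
  intro r
  induction r with
  | zero =>
    rw [pow_zero, Ideal.one_eq_top, Submodule.top_smul]
    exact Submodule.mem_sup_left Submodule.mem_top
  | succ r ih =>
    obtain ⟨x₁, hx₁, y, hy, hxy⟩ := Submodule.mem_sup.mp ih
    have hspan : (⊤ : Submodule R N) = Submodule.span R (Set.range (id : N → N)) := by simp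
    rw [hspan, Submodule.mem_ideal_smul_span_iff_exists_sum] at hx₁
    obtain ⟨a, ha, hax⟩ := hx₁
    have hx₁' : x₁ = ∑ l ∈ a.support, a l • id l := by
      rw [← hax]
      rfl
    have hxe : x = ∑ l ∈ a.support, a l • id l + y := by rw [← hxy, hx₁']
    have h1 := step_aux u H I r a.support.card a.support (fun l => a l) id y rfl
      (fun l _ => ha l) hy (hxe ▸ hx)
    rw [hxe]
    exact h1

end core

section krull

theorem krull_K {R S : Type*} [CommRing R] [CommRing S] [IsLocalRing R] [IsLocalRing S]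
    [IsNoetherianRing S] [Algebra R S] [IsLocalHom (algebraMap R S)]
    {N : Type*} [AddCommGroup N] [Module R N] [Module S N] [IsScalarTower R S N]
    [Module.Finite S N] (I : Ideal R) (x : N)
    (hx : ∀ r : ℕ, x ∈ (maximalIdeal R ^ r) • (⊤ : Submodule R N) ⊔ I • ⊤) :
    x ∈ I • (⊤ : Submodule R N) := by
  let K : Submodule S N := (I.map (algebraMap R S)) • ⊤
  have hK : K.restrictScalars R = I • (⊤ : Submodule R N) := by
    rw [Ideal.smul_restrictScalars, Submodule.restrictScalars_top]
  have hkrull := Ideal.iInf_pow_smul_eq_bot_of_isLocalRing (maximalIdeal S) (M := N ⧸ K)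
    (IsLocalRing.maximalIdeal.isMaximal S).ne_top
  have hmem : ∀ r : ℕ, K.mkQ x ∈ (maximalIdeal S ^ r) • (⊤ : Submodule S (N ⧸ K)) := by
    intro r
    obtain ⟨x₁, hx₁, y, hy, hxy⟩ := Submodule.mem_sup.mp (hx r)
    have hy' : y ∈ K := by
      rw [← hK] at hy
      exact hy
    have hx₁' : x₁ ∈ ((maximalIdeal S) ^ r) • (⊤ : Submodule S N) := by
      have h1 : x₁ ∈ (((maximalIdeal R ^ r).map (algebraMap R S)) •
          (⊤ : Submodule S N)).restrictScalars R := by
        rw [Ideal.smul_restrictScalars, Submodule.restrictScalars_top]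
        exact hx₁
      have h2 : (maximalIdeal R ^ r).map (algebraMap R S) ≤ maximalIdeal S ^ r := by
        rw [Ideal.map_pow]
        exact Ideal.pow_right_mono (IsLocalRing.map_maximalIdeal_le (algebraMap R S)) r
      exact Submodule.smul_mono_left h2 h1
    rw [← hxy, map_add, (Submodule.mkQ_apply K y), (Submodule.Quotient.mk_eq_zero K).mpr hy',
      add_zero]
    have h3 : Submodule.map K.mkQ ((maximalIdeal S ^ r) • ⊤) = (maximalIdeal S ^ r) • ⊤ := by
      rw [Submodule.map_smul'', Submodule.map_top, Submodule.range_mkQ]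
    rw [← h3]
    exact ⟨x₁, hx₁', rfl⟩
  have h0 : K.mkQ x ∈ (⨅ r : ℕ, (maximalIdeal S ^ r) • (⊤ : Submodule S (N ⧸ K))) :=
    (Submodule.mem_iInf _).mpr hmem
  rw [hkrull, Submodule.mem_bot] at h0
  have h4 : x ∈ K := (Submodule.Quotient.mk_eq_zero K).mp h0
  rw [← hK]
  exact h4

end krull

section coker

theorem exists_sum_of_mem_span_range_smul_top {R N : Type*} [CommRing R] [AddCommGroup N]
    [Module R N] {l : ℕ} (f : Fin l → R) (n : N)
    (h : n ∈ Ideal.span (Set.range f) • (⊤ : Submodule R N)) :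
    ∃ nn : Fin l → N, n = ∑ i, f i • nn i := by
  refine Submodule.smul_induction_on h ?_ ?_
  · intro a ha x _
    obtain ⟨r, rfl⟩ := (Ideal.mem_span_range_iff_exists_fun).mp ha
    refine ⟨fun i => r i • x, ?_⟩
    rw [Finset.sum_smul]
    refine Finset.sum_congr rfl (fun i _ => by rw [smul_smul, mul_comm])
  · rintro x y ⟨nx, rfl⟩ ⟨ny, rfl⟩
    exact ⟨fun i => nx i + ny i, by simp [smul_add, Finset.sum_add_distrib]⟩

theorem flat_quotient_range {R : Type*} [CommRing R] {N M : Type*} [AddCommGroup N]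
    [Module R N] [AddCommGroup M] [Module R M] [Module.Flat R M] (u : N →ₗ[R] M)
    (hI : ∀ (I : Ideal R), I.FG → ∀ x : N, u x ∈ I • (⊤ : Submodule R M) →
      x ∈ I • (⊤ : Submodule R N)) :
    Module.Flat R (M ⧸ LinearMap.range u) := by
  apply Module.Flat.of_forall_isTrivialRelation
  intro l f c hsum
  have hlift : ∀ i, ∃ m : M, (LinearMap.range u).mkQ m = c i :=
    fun i => Submodule.mkQ_surjective _ (c i)
  choose mm hmm using hlift
  have h1 : (LinearMap.range u).mkQ (∑ i, f i • mm i) = 0 := by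
    rw [map_sum]
    simp only [map_smul, hmm]
    exact hsum
  have h2 : ∑ i, f i • mm i ∈ LinearMap.range u := by
    rw [Submodule.mkQ_apply] at h1
    exact (Submodule.Quotient.mk_eq_zero _).mp h1
  obtain ⟨n, hn⟩ := h2
  have hIfg : (Ideal.span (Set.range f)).FG := Submodule.fg_span (Set.finite_range f)
  have h3 : u n ∈ Ideal.span (Set.range f) • (⊤ : Submodule R M) := by
    rw [hn]
    exact Submodule.sum_mem _ (fun i _ =>
      Submodule.smul_mem_smul (Ideal.subset_span ⟨i, rfl⟩) Submodule.mem_top)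
  have h4 := hI _ hIfg n h3
  obtain ⟨nn, hnn⟩ := exists_sum_of_mem_span_range_smul_top f n h4
  have h5 : ∑ i, f i • (mm i - u (nn i)) = 0 := by
    simp only [smul_sub, Finset.sum_sub_distrib]
    rw [← hn, hnn, map_sum]
    simp
  obtain ⟨k, a, y, hy, ha⟩ := Module.Flat.isTrivialRelation_of_sum_smul_eq_zero h5
  refine ⟨k, a, fun j => (LinearMap.range u).mkQ (y j), fun i => ?_, ha⟩
  rw [← hmm i]
  have h6 : mm i = (mm i - u (nn i)) + u (nn i) := by abel
  have h7 : (LinearMap.range u).mkQ (u (nn i)) = 0 := by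
    rw [Submodule.mkQ_apply]
    exact (Submodule.Quotient.mk_eq_zero _).mpr ⟨nn i, rfl⟩
  have hyi : mm i - u (nn i) = ∑ j, a i j • y j := hy i
  rw [h6, map_add, hyi, map_sum, h7, add_zero]
  simp only [map_smul]

end coker

/-- The main theorem, in elementwise form. -/
theorem injective_and_flat_quotient_of_mem {R S M N : Type*} [CommRing R] [CommRing S]
    [IsLocalRing R]
    [IsLocalRing S] [IsNoetherianRing S] [Algebra R S] [IsLocalHom (algebraMap R S)]
    [AddCommGroup M] [Module R M] [Module.Flat R M]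
    [AddCommGroup N] [Module R N] [Module S N] [IsScalarTower R S N] [Module.Finite S N]
    (u : N →ₗ[R] M)
    (H : ∀ n : N, u n ∈ maximalIdeal R • (⊤ : Submodule R M) →
      n ∈ maximalIdeal R • (⊤ : Submodule R N)) :
    Function.Injective u ∧ Module.Flat R (M ⧸ LinearMap.range u) := by
  have key : ∀ (I : Ideal R) (x : N), u x ∈ I • (⊤ : Submodule R M) →
      x ∈ I • (⊤ : Submodule R N) := fun I x hx =>
    mem_smul_top_of_map_mem u H I (fun x' hx' => krull_K (S := S) I x' hx') x hx
  constructor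
  · rw [← LinearMap.ker_eq_bot, eq_bot_iff]
    intro x hx
    have h1 : u x ∈ (⊥ : Ideal R) • (⊤ : Submodule R M) := by
      rw [LinearMap.mem_ker.mp hx]
      exact Submodule.zero_mem _
    have h2 := key ⊥ x h1
    rwa [Submodule.bot_smul] at h2
  · exact flat_quotient_range u (fun I _ x hx => key I x hx)

/-- The main theorem. -/
theorem injective_and_flat_quotient {R S M N : Type*} [CommRing R] [CommRing S] [IsLocalRing R]
    [IsLocalRing S] [IsNoetherianRing S] [Algebra R S] [IsLocalHom (algebraMap R S)]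
    [AddCommGroup M] [Module R M] [Module.Flat R M]
    [AddCommGroup N] [Module R N] [Module S N] [IsScalarTower R S N] [Module.Finite S N]
    (u : N →ₗ[R] M)
    (h : Function.Injective (LinearMap.lTensor (IsLocalRing.ResidueField R) u)) :
    Function.Injective u ∧ Module.Flat R (M ⧸ LinearMap.range u) :=
  injective_and_flat_quotient_of_mem (S := S) u (H_of_injective_lTensor u h)

end Groth.Agent.Helper8.FlatLocal
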