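import Mathlib
import Groth.Agent.Lib.Helper8.FlatLocal

/-!
# Local criterion of flatness without Tor (helper8)

We fix a presentation `0 → K → F → M → 0` with `F` flat and use injectivity of
`N ⊗ K → N ⊗ F` as a substitute for the vanishing of `Tor₁(N, M)`.
-/

set_option autoImplicit false

universe u v

namespace Groth.Agent.Helper8.LocalCrit

open TensorProduct Function

section balance

variable {R : Type*} [CommRing R]

/-- Tensoring an injection with flat cokernel stays injective. -/
theorem lTensor_injective_of_flat_coker {N₁ N₂ N₃ : Type*} [AddCommGroup N₁] [Module R N₁]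
    [AddCommGroup N₂] [Module R N₂] [AddCommGroup N₃] [Module R N₃] [Module.Flat R N₃]
    {g₁ : N₁ →ₗ[R] N₂} {g₂ : N₂ →ₗ[R] N₃} (hg : Exact g₁ g₂) (hg₂ : Surjective g₂)
    (hg₁ : Injective g₁) (P : Type*) [AddCommGroup P] [Module R P] :
    Injective (g₁.lTensor P) := by
  let π : (P →₀ R) →ₗ[R] P := Finsupp.linearCombination R id
  have hπ : Surjective π := Finsupp.linearCombination_id_surjective R P
  refine lTensor_injective_of_exact_of_exact_of_rTensor_injective
    (M₁ := LinearMap.ker π) (M₂ := P →₀ R) (M₃ := P) (N₁ := N₁) (N₂ := N₂) (N₃ := N₃)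
    (f₁ := (LinearMap.ker π).subtype) (f₂ := π) (g₁ := g₁) (g₂ := g₂)
    (LinearMap.exact_subtype_ker_map π) hπ hg hg₂ ?_ ?_
  · exact Module.Flat.rTensor_preserves_injective_linearMap (LinearMap.ker π).subtype
      (LinearMap.ker π).injective_subtype
  · exact Module.Flat.lTensor_preserves_injective_linearMap _ hg₁

/-- Half exactness of the Tor-substitute. -/
theorem lTensor_injective_of_exact {K F : Type*} [AddCommGroup K] [Module R K]
    [AddCommGroup F] [Module R F] [Module.Flat R F] (ι : K →ₗ[R] F)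
    {N' N N'' : Type*} [AddCommGroup N'] [Module R N'] [AddCommGroup N] [Module R N]
    [AddCommGroup N''] [Module R N'']
    (f : N' →ₗ[R] N) (g : N →ₗ[R] N'') (hfg : Exact f g) (hf : Injective f) (hg : Surjective g)
    (h' : Injective (ι.lTensor N')) (h'' : Injective (ι.lTensor N'')) :
    Injective (ι.lTensor N) := by
  rw [injective_iff_map_eq_zero]
  intro z hz
  have h1 : ι.lTensor N'' (g.rTensor K z) = 0 := by
    rw [← LinearMap.comp_apply, LinearMap.lTensor_comp_rTensor, ← LinearMap.rTensor_comp_lTensor,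
      LinearMap.comp_apply, hz, map_zero]
  have h2 : g.rTensor K z = 0 := h'' (h1.trans (map_zero _).symm)
  obtain ⟨z', rfl⟩ := (rTensor_exact K hfg hg _).mp h2
  have h3 : f.rTensor F (ι.lTensor N' z') = 0 := by
    rw [← LinearMap.comp_apply, LinearMap.rTensor_comp_lTensor, ← LinearMap.lTensor_comp_rTensor,
      LinearMap.comp_apply, hz]
  have h4 : ι.lTensor N' z' = 0 :=
    (Module.Flat.rTensor_preserves_injective_linearMap f hf) (h3.trans (map_zero _).symm)
  rw [h' (h4.trans (map_zero _).symm), map_zero]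

end balance

section torsion

/-- Induction from `I`-torsion modules to `I ^ n`-torsion modules. -/
theorem lTensor_injective_of_pow_torsion {R : Type u} [CommRing R] {K F : Type*}
    [AddCommGroup K] [Module R K] [AddCommGroup F] [Module R F] [Module.Flat R F]
    (ι : K →ₗ[R] F) (I : Ideal R)
    (hI : ∀ (N : Type v) [AddCommGroup N] [Module R N], (∀ a ∈ I, ∀ x : N, a • x = 0) →
      Injective (ι.lTensor N)) :
    ∀ (n : ℕ) (N : Type v) [AddCommGroup N] [Module R N], (∀ a ∈ I ^ n, ∀ x : N, a • x = 0) →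
      Injective (ι.lTensor N) := by
  intro n
  induction n with
  | zero =>
    intro N _ _ hN
    have hsub : Subsingleton N := ⟨fun x y => by
      have hx := hN 1 (by simp) x
      have hy := hN 1 (by simp) y
      rw [one_smul] at hx hy
      rw [hx, hy]⟩
    intro a b _
    exact Subsingleton.elim _ _
  | succ n ih =>
    intro N _ _ hN
    refine lTensor_injective_of_exact ι (I • (⊤ : Submodule R N)).subtype
      (I • (⊤ : Submodule R N)).mkQ (LinearMap.exact_subtype_mkQ _)
      (Submodule.injective_subtype _) (Submodule.mkQ_surjective _) ?_ ?_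
    · apply ih ↥(I • (⊤ : Submodule R N))
      rintro a ha ⟨y, hy⟩
      apply Subtype.ext
      change a • y = 0
      refine Submodule.smul_induction_on hy ?_ ?_
      · intro b hb x _
        rw [smul_smul]
        exact hN _ (by rw [pow_succ]; exact Ideal.mul_mem_mul ha hb) x
      · intro x y hx hy
        rw [smul_add, hx, hy, add_zero]
    · apply hI
      intro a ha x
      obtain ⟨x, rfl⟩ := Submodule.mkQ_surjective _ x
      rw [← map_smul, Submodule.mkQ_apply, Submodule.Quotient.mk_eq_zero]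
      exact Submodule.smul_mem_smul ha Submodule.mem_top

/-- The Tor-substitute vanishes on `I`-torsion modules when `I ⊗ M → M` is injective and
`M / I M` is flat over `R / I`. -/
theorem lTensor_injective_of_torsion {R : Type*} [CommRing R] {K F M : Type*}
    [AddCommGroup K] [Module R K] [AddCommGroup F] [Module R F] [Module.Flat R F]
    [AddCommGroup M] [Module R M]
    (ι : K →ₗ[R] F) (π : F →ₗ[R] M) (hex : Exact ι π) (hπ : Surjective π) (hι : Injective ι)
    (I : Ideal R) (h1 : Injective (I.subtype.rTensor M))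
    (h2 : Module.Flat (R ⧸ I) ((R ⧸ I) ⊗[R] M))
    (N : Type*) [AddCommGroup N] [Module R N] (hN : ∀ a ∈ I, ∀ x : N, a • x = 0) :
    Injective (ι.lTensor N) := by
  have hA : Injective (ι.lTensor (R ⧸ I)) :=
    lTensor_injective_of_exact_of_exact_of_rTensor_injective
      (M₁ := I) (M₂ := R) (M₃ := R ⧸ I) (N₁ := K) (N₂ := F) (N₃ := M)
      (f₁ := I.subtype) (f₂ := I.mkQ) (g₁ := ι) (g₂ := π)
      (LinearMap.exact_subtype_mkQ I) (Submodule.mkQ_surjective I) hex hπ h1
      (Module.Flat.lTensor_preserves_injective_linearMap ι hι)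
  have hN' : Module.IsTorsionBySet R N (I : Set R) := fun x a => hN a a.2 x
  letI := hN'.module
  haveI : IsScalarTower R (R ⧸ I) N := hN'.isScalarTower
  let ιA : (R ⧸ I) ⊗[R] K →ₗ[R ⧸ I] (R ⧸ I) ⊗[R] F := AlgebraTensorModule.lTensor (R ⧸ I) (R ⧸ I) ι
  let πA : (R ⧸ I) ⊗[R] F →ₗ[R ⧸ I] (R ⧸ I) ⊗[R] M := AlgebraTensorModule.lTensor (R ⧸ I) (R ⧸ I) π
  have hexA : Exact ιA πA := lTensor_exact (R ⧸ I) hex hπ
  have hπA : Surjective πA := LinearMap.lTensor_surjective (R ⧸ I) hπ
  have hιA : Injective ιA := hA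
  have key : Injective (ιA.lTensor N) := lTensor_injective_of_flat_coker hexA hπA hιA N
  rw [injective_iff_map_eq_zero]
  intro z hz
  have hnat := LinearMap.congr_fun (AlgebraTensorModule.lTensor_comp_cancelBaseChange
    (R := R) (A := R ⧸ I) (B := R ⧸ I) (M := N) ι)
    ((AlgebraTensorModule.cancelBaseChange R (R ⧸ I) (R ⧸ I) N K).symm z)
  simp only [LinearMap.comp_apply, LinearEquiv.coe_coe, LinearEquiv.apply_symm_apply] at hnat
  have h3 : (AlgebraTensorModule.lTensor (R ⧸ I) N ι) z = 0 := hz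
  rw [h3] at hnat
  have h4 := (LinearEquiv.map_eq_zero_iff _).mp hnat.symm
  have h5 : (AlgebraTensorModule.cancelBaseChange R (R ⧸ I) (R ⧸ I) N K).symm z = 0 :=
    key (h4.trans (map_zero _).symm)
  exact (LinearEquiv.map_eq_zero_iff _).mp h5

end torsion

section artinRees

/-- The image of `M ⊗ A → M ⊗ B` lies in `I • (M ⊗ B)` when `A ≤ I • B`. -/
theorem lTensor_inclusion_mem_smul_top {R : Type*} [CommRing R] {X M : Type*} [AddCommGroup X]
    [Module R X] [AddCommGroup M] [Module R M] (I : Ideal R) {A B : Submodule R X} (hAB : A ≤ B)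
    (hle : A ≤ I • B) (y : M ⊗[R] A) :
    (Submodule.inclusion hAB).lTensor M y ∈ I • (⊤ : Submodule R (M ⊗[R] B)) := by
  induction y using TensorProduct.induction_on with
  | zero => rw [map_zero]; exact Submodule.zero_mem _
  | add y₁ y₂ h₁ h₂ => rw [map_add]; exact Submodule.add_mem _ h₁ h₂
  | tmul m a =>
    rw [LinearMap.lTensor_tmul]
    have key : ∀ x (_ : x ∈ I • B), ∃ hB : x ∈ B,
        m ⊗ₜ[R] (⟨x, hB⟩ : B) ∈ I • (⊤ : Submodule R (M ⊗[R] B)) := by
      intro x hx
      refine Submodule.smul_induction_on hx ?_ ?_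
      · intro r hr b hb
        refine ⟨B.smul_mem r hb, ?_⟩
        have h1 : (⟨r • b, B.smul_mem r hb⟩ : B) = r • (⟨b, hb⟩ : B) := rfl
        rw [h1, TensorProduct.tmul_smul]
        exact Submodule.smul_mem_smul hr Submodule.mem_top
      · rintro x₁ x₂ ⟨hB₁, h₁⟩ ⟨hB₂, h₂⟩
        refine ⟨B.add_mem hB₁ hB₂, ?_⟩
        have h1 : (⟨x₁ + x₂, B.add_mem hB₁ hB₂⟩ : B) = (⟨x₁, hB₁⟩ : B) + ⟨x₂, hB₂⟩ := rfl
        rw [h1, TensorProduct.tmul_add]
        exact Submodule.add_mem _ h₁ h₂
    obtain ⟨hB, h⟩ := key a.1 (hle a.2)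
    exact h

/-- Elements of `M ⊗ p` dying in `M ⊗ (p ⊔ p')` come from `M ⊗ (p ⊓ p')`. -/
theorem mem_range_lTensor_inclusion_inf {R : Type*} [CommRing R] {X M : Type*} [AddCommGroup X]
    [Module R X] [AddCommGroup M] [Module R M] (p p' : Submodule R X) (x : M ⊗[R] p)
    (hx : (Submodule.inclusion (le_sup_left : p ≤ p ⊔ p')).lTensor M x = 0) :
    x ∈ LinearMap.range ((Submodule.inclusion (inf_le_left : p ⊓ p' ≤ p)).lTensor M) := by
  let q : Submodule R p := Submodule.comap p.subtype p ⊓ Submodule.comap p.subtype p'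
  let e := LinearMap.quotientInfEquivSupQuotient p p'
  have h1 : e.toLinearMap ∘ₗ q.mkQ =
      (Submodule.comap (p ⊔ p').subtype p').mkQ ∘ₗ Submodule.inclusion le_sup_left := by
    ext y
    rfl
  have h2 : (e.toLinearMap.lTensor M) (q.mkQ.lTensor M x) = 0 := by
    rw [← LinearMap.comp_apply, ← LinearMap.lTensor_comp, h1, LinearMap.lTensor_comp,
      LinearMap.comp_apply, hx, map_zero]
  have h3 : q.mkQ.lTensor M x = 0 := by
    have hinj : Injective (e.toLinearMap.lTensor M) := (e.lTensor M).injective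
    exact hinj (h2.trans (map_zero _).symm)
  obtain ⟨y, rfl⟩ := (lTensor_exact M (LinearMap.exact_subtype_mkQ q)
    (Submodule.mkQ_surjective q) x).mp h3
  let j : q →ₗ[R] ↥(p ⊓ p') := LinearMap.codRestrict (p ⊓ p') (p.subtype ∘ₗ q.subtype)
    (fun z => ⟨z.1.2, z.2.2⟩)
  have h4 : q.subtype = Submodule.inclusion inf_le_left ∘ₗ j := by
    ext z
    rfl
  rw [h4, LinearMap.lTensor_comp, LinearMap.comp_apply]
  exact ⟨_, rfl⟩

/-- `M ⊗[R] N` is finite over `S` when `M` is finite over `S` and `N` finite over `R`. -/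
theorem finite_tensor (R S M N : Type*) [CommRing R] [CommRing S] [Algebra R S]
    [AddCommGroup M] [Module R M] [Module S M] [IsScalarTower R S M] [Module.Finite S M]
    [AddCommGroup N] [Module R N] [Module.Finite R N] : Module.Finite S (M ⊗[R] N) := by
  obtain ⟨n, f, hf⟩ := Module.Finite.exists_fin' R N
  have e := TensorProduct.piScalarRight R S M (Fin n)
  haveI : Module.Finite S (M ⊗[R] (Fin n → R)) := Module.Finite.equiv e.symm
  exact Module.Finite.of_surjective (AlgebraTensorModule.lTensor S M f)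
    (LinearMap.lTensor_surjective M hf)

/-- Generic Artin–Rees / Krull intersection step. -/
theorem flat_of_forall_mem_range {R S M : Type*} [CommRing R] [CommRing S] [IsNoetherianRing R]
    [IsNoetherianRing S] [Algebra R S]
    [AddCommGroup M] [Module R M] [Module S M] [IsScalarTower R S M] [Module.Finite S M]
    (I : Ideal R) (hIS : I.map (algebraMap R S) ≤ Ideal.jacobson ⊥)
    (H : ∀ (J : Ideal R) (n : ℕ) (x : M ⊗[R] J), J.subtype.lTensor M x = 0 →
       x ∈ LinearMap.range ((Submodule.inclusion (inf_le_left : J ⊓ I ^ n ≤ J)).lTensor M)) :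
    Module.Flat R M := by
  rw [Module.Flat.iff_lTensor_injective']
  intro J
  rw [injective_iff_map_eq_zero]
  intro x hx
  obtain ⟨c, hc⟩ := Ideal.exists_pow_inf_eq_pow_smul I (J : Submodule R R)
  have hmem : ∀ k : ℕ, x ∈ (I ^ k) • (⊤ : Submodule R (M ⊗[R] J)) := by
    intro k
    have hle : J ⊓ I ^ (k + c) ≤ I ^ k • J := by
      have h1 := hc (k + c) (Nat.le_add_left c k)
      rw [Nat.add_sub_cancel] at h1
      have h2 : I ^ (k + c) • (⊤ : Submodule R R) = I ^ (k + c) := by
        rw [smul_eq_mul, Ideal.mul_top]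
      rw [h2] at h1
      rw [inf_comm, h1]
      exact Submodule.smul_mono le_rfl inf_le_right
    obtain ⟨y, rfl⟩ := H J (k + c) x hx
    exact lTensor_inclusion_mem_smul_top (I ^ k) inf_le_left hle y
  haveI : Module.Finite S (M ⊗[R] J) := finite_tensor R S M J
  have hK : (⨅ i : ℕ, (I.map (algebraMap R S)) ^ i • (⊤ : Submodule S (M ⊗[R] J))) = ⊥ :=
    Ideal.iInf_pow_smul_eq_bot_of_le_jacobson _ hIS
  have hx' : x ∈ (⨅ i : ℕ, (I.map (algebraMap R S)) ^ i • (⊤ : Submodule S (M ⊗[R] J))) := by
    rw [Submodule.mem_iInf]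
    intro k
    have h1 : ((I ^ k).map (algebraMap R S) • (⊤ : Submodule S (M ⊗[R] J))).restrictScalars R =
        I ^ k • (⊤ : Submodule R (M ⊗[R] J)) := by
      rw [Ideal.smul_restrictScalars, Submodule.restrictScalars_top]
    have h2 := hmem k
    rw [← h1, Ideal.map_pow] at h2
    exact h2
  rw [hK] at hx'
  exact hx'

end artinRees

section main

theorem flat_of_presentation {R : Type u} {S M K F : Type u} [CommRing R]
    [CommRing S]
    [IsNoetherianRing R] [IsNoetherianRing S] [Algebra R S]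
    [AddCommGroup M] [Module R M] [Module S M] [IsScalarTower R S M] [Module.Finite S M]
    [AddCommGroup K] [Module R K] [AddCommGroup F] [Module R F] [Module.Flat R F]
    (ι : K →ₗ[R] F) (π : F →ₗ[R] M) (hex : Exact ι π) (hπ : Surjective π) (hι : Injective ι)
    (I : Ideal R) (hIS : I.map (algebraMap R S) ≤ Ideal.jacobson ⊥)
    (h1 : Injective (I.subtype.rTensor M)) (h2 : Module.Flat (R ⧸ I) ((R ⧸ I) ⊗[R] M)) :
    Module.Flat R M := by
  have hT1 : ∀ (N : Type u) [AddCommGroup N] [Module R N], (∀ a ∈ I, ∀ x : N, a • x = 0) →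
      Injective (ι.lTensor N) := 
    fun N _ _ hN => lTensor_injective_of_torsion ι π hex hπ hι I h1 h2 N hN
  have hT := lTensor_injective_of_pow_torsion ι I hT1
  apply flat_of_forall_mem_range (S := S) I hIS
  intro J n x hx
  have hTn : Injective (ι.lTensor (R ⧸ (J ⊔ I ^ n))) := by
    apply hT n
    intro a ha x
    obtain ⟨x, rfl⟩ := Submodule.mkQ_surjective _ x
    rw [← map_smul, Submodule.mkQ_apply, Submodule.Quotient.mk_eq_zero]
    exact Ideal.mem_sup_right (Ideal.mul_mem_right _ _ ha)
  have hD1 : Injective ((J ⊔ I ^ n).subtype.lTensor M) :=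
    lTensor_injective_of_exact_of_exact_of_rTensor_injective
      (M₁ := K) (M₂ := F) (M₃ := M)
      (N₁ := ↥(J ⊔ I ^ n)) (N₂ := R) (N₃ := R ⧸ (J ⊔ I ^ n))
      (f₁ := ι) (f₂ := π) (g₁ := (J ⊔ I ^ n).subtype)
      (g₂ := (J ⊔ I ^ n).mkQ)
      hex hπ (LinearMap.exact_subtype_mkQ _) (Submodule.mkQ_surjective _)
      ((LinearMap.lTensor_inj_iff_rTensor_inj _ _).mp hTn)
      (Module.Flat.lTensor_preserves_injective_linearMap _ (Submodule.injective_subtype _))
  apply mem_range_lTensor_inclusion_inf J (I ^ n) x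
  apply hD1
  rw [map_zero, ← LinearMap.comp_apply, ← LinearMap.lTensor_comp]
  exact hx

theorem flat_of_rTensor_injective_of_flat_quotient {R : Type u} {S M : Type u} [CommRing R]
    [CommRing S]
    [IsNoetherianRing R] [IsNoetherianRing S] [Algebra R S]
    [AddCommGroup M] [Module R M] [Module S M] [IsScalarTower R S M] [Module.Finite S M]
    (I : Ideal R) (hIS : I.map (algebraMap R S) ≤ Ideal.jacobson ⊥)
    (h1 : Injective (I.subtype.rTensor M)) (h2 : Module.Flat (R ⧸ I) ((R ⧸ I) ⊗[R] M)) :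
    Module.Flat R M := by
  obtain ⟨π, hπ⟩ : ∃ π : (M →₀ R) →ₗ[R] M, Surjective π :=
    ⟨_, Finsupp.linearCombination_id_surjective R M⟩
  have hex : Exact (LinearMap.ker π).subtype π := LinearMap.exact_subtype_ker_map π
  exact flat_of_presentation (S := S) (K := LinearMap.ker π) (F := M →₀ R)
    (LinearMap.ker π).subtype π hex hπ (Submodule.injective_subtype _) I hIS h1 h2

end main

section fibre

/-- If `M` is flat over `R` and faithfully flat over the `R`-algebra `S`, then `S` is flat over
`R`. -/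
theorem flat_of_faithfullyFlat_module {R S M : Type*} [CommRing R] [CommRing S] [Algebra R S]
    [AddCommGroup M] [Module R M] [Module S M] [IsScalarTower R S M] [Module.Flat R M]
    [Module.FaithfullyFlat S M] : Module.Flat R S := by
  rw [Module.Flat.iff_lTensor_injective']
  intro J
  let f : S ⊗[R] J →ₗ[S] S ⊗[R] R := AlgebraTensorModule.lTensor S S J.subtype
  have hf : Injective f := by
    rw [← Module.FaithfullyFlat.lTensor_injective_iff_injective S M f, injective_iff_map_eq_zero]
    intro z hz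
    have hnat := LinearMap.congr_fun (AlgebraTensorModule.lTensor_comp_cancelBaseChange
      (R := R) (A := S) (B := S) (M := M) J.subtype) z
    simp only [LinearMap.comp_apply, LinearEquiv.coe_coe] at hnat
    have h3 : (AlgebraTensorModule.lTensor S M (AlgebraTensorModule.lTensor S S J.subtype)) z = 0 :=
      hz
    rw [h3, map_zero] at hnat
    have h4 : (AlgebraTensorModule.cancelBaseChange R S S M J) z = 0 :=
      (Module.Flat.lTensor_preserves_injective_linearMap (M := M) J.subtype
        (Submodule.injective_subtype _)) (hnat.trans (map_zero _).symm)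
    exact (LinearEquiv.map_eq_zero_iff _).mp h4
  exact hf

/-- Extending the maximal ideal: `𝔪 ⊗[R] M → (𝔪 S) ⊗[S] M`. -/
theorem rTensor_map_injective_of_flat {R S M : Type*} [CommRing R] [CommRing S] [Algebra R S]
    [AddCommGroup M] [Module R M] [Module S M] [IsScalarTower R S M] [Module.Flat R M]
    (m : Ideal R) : Injective ((m.map (algebraMap R S)).subtype.rTensor M) := by
  set I : Ideal S := m.map (algebraMap R S) with hI
  let g : ↥m →ₗ[R] ↥I :=
    { toFun := fun a => ⟨algebraMap R S a, Ideal.mem_map_of_mem _ a.2⟩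
      map_add' := fun a b => Subtype.ext (map_add _ _ _)
      map_smul' := fun r a => Subtype.ext (by
        change algebraMap R S (r * a) = r • algebraMap R S a
        rw [map_mul, Algebra.smul_def]) }
  let ψ : ↥m ⊗[R] M →ₗ[R] ↥I ⊗[S] M := TensorProduct.lift
    (LinearMap.mk₂ R (fun a x => g a ⊗ₜ[S] x)
      (fun a b x => by rw [map_add, TensorProduct.add_tmul])
      (fun r a x => by rw [map_smul, TensorProduct.smul_tmul'])
      (fun a x y => TensorProduct.tmul_add _ _ _)
      (fun r a x => by rw [TensorProduct.tmul_smul]))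
  have hψ : ∀ a x, ψ (a ⊗ₜ x) = g a ⊗ₜ[S] x := fun a x => by
    simp only [ψ, TensorProduct.lift.tmul, LinearMap.mk₂_apply]
  have hsurj : Surjective ψ := by
    intro z
    induction z using TensorProduct.induction_on with
    | zero => exact ⟨0, map_zero _⟩
    | add z₁ z₂ h₁ h₂ =>
      obtain ⟨w₁, rfl⟩ := h₁
      obtain ⟨w₂, rfl⟩ := h₂
      exact ⟨w₁ + w₂, map_add _ _ _⟩
    | tmul i x =>
      obtain ⟨i, hi⟩ := i
      revert x
      refine Submodule.span_induction (p := fun i hi => ∀ x : M,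
        ∃ w, ψ w = (⟨i, hi⟩ : ↥I) ⊗ₜ[S] x) ?_ ?_ ?_ ?_ hi
      · rintro _ ⟨a, ha, rfl⟩ x
        exact ⟨(⟨a, ha⟩ : ↥m) ⊗ₜ x, hψ _ _⟩
      · intro x
        refine ⟨0, ?_⟩
        rw [map_zero]
        exact (TensorProduct.zero_tmul _ _).symm
      · intro i₁ i₂ hi₁ hi₂ h₁ h₂ x
        obtain ⟨w₁, hw₁⟩ := h₁ x
        obtain ⟨w₂, hw₂⟩ := h₂ x
        refine ⟨w₁ + w₂, ?_⟩
        rw [map_add, hw₁, hw₂, ← TensorProduct.add_tmul]
        rfl
      · intro s i hi h x
        obtain ⟨w, hw⟩ := h (s • x)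
        refine ⟨w, ?_⟩
        rw [hw, ← TensorProduct.smul_tmul]
        rfl
  rw [injective_iff_map_eq_zero]
  intro z hz
  obtain ⟨w, rfl⟩ := hsurj z
  have hcomp : (TensorProduct.lid S M).toLinearMap.restrictScalars R ∘ₗ
      ((I.subtype.rTensor M).restrictScalars R ∘ₗ ψ) =
      (TensorProduct.lid R M).toLinearMap ∘ₗ (m.subtype.rTensor M) := by
    apply TensorProduct.ext'
    intro a x
    simp only [LinearMap.comp_apply, LinearMap.restrictScalars_apply, hψ,
      LinearMap.rTensor_tmul, LinearEquiv.coe_coe, TensorProduct.lid_tmul, Submodule.subtype_apply]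
    exact algebraMap_smul S (a : R) x
  have h5 := LinearMap.congr_fun hcomp w
  simp only [LinearMap.comp_apply, LinearMap.restrictScalars_apply, hz, map_zero,
    LinearEquiv.coe_coe] at h5
  have h6 : (m.subtype.rTensor M) w = 0 := (LinearEquiv.map_eq_zero_iff _).mp h5.symm
  have h7 : w = 0 := (Module.Flat.rTensor_preserves_injective_linearMap (M := M) m.subtype
    (Submodule.injective_subtype _)) (h6.trans (map_zero _).symm)
  rw [h7, map_zero]

end fibre

section modPowers

/-- Artin–Rees step: an element of `M ⊗ J` lying in the image of `M ⊗ (J ⊓ I ^ n)` for all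
`n ≥ 1` lies in all `(I S) ^ k • (M ⊗ J)`. -/
theorem mem_iInf_pow_smul_top {R S M : Type*} [CommRing R] [CommRing S] [IsNoetherianRing R]
    [Algebra R S] [AddCommGroup M] [Module R M] [Module S M] [IsScalarTower R S M]
    (I J : Ideal R) (x : M ⊗[R] J)
    (H : ∀ n : ℕ, 0 < n →
       x ∈ LinearMap.range ((Submodule.inclusion (inf_le_left : J ⊓ I ^ n ≤ J)).lTensor M)) :
    x ∈ (⨅ i : ℕ, (I.map (algebraMap R S)) ^ i • (⊤ : Submodule S (M ⊗[R] J))) := by
  obtain ⟨c, hc⟩ := Ideal.exists_pow_inf_eq_pow_smul I (J : Submodule R R)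
  have hmem : ∀ k : ℕ, x ∈ (I ^ k) • (⊤ : Submodule R (M ⊗[R] J)) := by
    intro k
    have hle : J ⊓ I ^ (k + c + 1) ≤ I ^ k • J := by
      have h1 := hc (k + c) (Nat.le_add_left c k)
      rw [Nat.add_sub_cancel] at h1
      have h2 : I ^ (k + c) • (⊤ : Submodule R R) = I ^ (k + c) := by
        rw [smul_eq_mul, Ideal.mul_top]
      rw [h2] at h1
      refine (inf_le_inf_left J (Ideal.pow_le_pow_right (Nat.le_succ (k + c)))).trans ?_
      rw [inf_comm, h1]
      exact Submodule.smul_mono le_rfl inf_le_right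
    obtain ⟨y, rfl⟩ := H (k + c + 1) (Nat.succ_pos _)
    exact lTensor_inclusion_mem_smul_top (I ^ k) inf_le_left hle y
  rw [Submodule.mem_iInf]
  intro k
  have h1 : ((I ^ k).map (algebraMap R S) • (⊤ : Submodule S (M ⊗[R] J))).restrictScalars R =
      I ^ k • (⊤ : Submodule R (M ⊗[R] J)) := by
    rw [Ideal.smul_restrictScalars, Submodule.restrictScalars_top]
  have h2 := hmem k
  rw [← h1, Ideal.map_pow] at h2
  exact h2

/-- Naturality of `cancelBaseChange` in the first variable. -/
theorem cancelBaseChange_rTensor {R A : Type*} [CommRing R] [CommRing A] [Algebra R A]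
    {N N' M : Type*} [AddCommGroup N] [Module R N] [Module A N] [IsScalarTower R A N]
    [AddCommGroup N'] [Module R N'] [Module A N'] [IsScalarTower R A N']
    [AddCommGroup M] [Module R M] (g : N →ₗ[A] N') (z : N ⊗[A] (A ⊗[R] M)) :
    AlgebraTensorModule.cancelBaseChange R A A N' M (g.rTensor (A ⊗[R] M) z) =
      (g.restrictScalars R).rTensor M (AlgebraTensorModule.cancelBaseChange R A A N M z) := by
  induction z using TensorProduct.induction_on with
  | zero => simp only [map_zero]
  | add z₁ z₂ h₁ h₂ => simp only [map_add, h₁, h₂]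
  | tmul n w =>
    induction w using TensorProduct.induction_on with
    | zero => simp only [TensorProduct.tmul_zero, map_zero]
    | add w₁ w₂ h₁ h₂ => simp only [TensorProduct.tmul_add, map_add, h₁, h₂]
    | tmul a m =>
      simp only [LinearMap.rTensor_tmul, AlgebraTensorModule.cancelBaseChange_tmul,
        LinearMap.restrictScalars_apply, map_smul]

/-- From flatness of `M / I' M` over `R / I'`: elements of the kernel of `M ⊗ J → M ⊗ R` come from
`M ⊗ (J ⊓ I')`. -/
theorem mem_range_of_flat_mod {R : Type u} {M : Type u} [CommRing R] [AddCommGroup M] [Module R M]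
    (I' J : Ideal R) (hfl : Module.Flat (R ⧸ I') ((R ⧸ I') ⊗[R] M)) (x : M ⊗[R] J)
    (hx : J.subtype.lTensor M x = 0) :
    x ∈ LinearMap.range ((Submodule.inclusion (inf_le_left : J ⊓ I' ≤ J)).lTensor M) := by
  let q' : Submodule R J := Submodule.comap J.subtype I'
  have hle : q' ≤ LinearMap.ker (I'.mkQ ∘ₗ J.subtype) := by
    intro j hj
    rw [LinearMap.mem_ker, LinearMap.comp_apply, Submodule.mkQ_apply,
      Submodule.Quotient.mk_eq_zero]
    exact hj
  have hge : LinearMap.ker (I'.mkQ ∘ₗ J.subtype) ≤ q' := by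
    intro j hj
    rw [LinearMap.mem_ker, LinearMap.comp_apply, Submodule.mkQ_apply,
      Submodule.Quotient.mk_eq_zero] at hj
    exact hj
  let φ : (↥J ⧸ q') →ₗ[R] (R ⧸ I') := q'.liftQ (I'.mkQ ∘ₗ J.subtype) hle
  have hφ : Injective φ := by
    rw [← LinearMap.ker_eq_bot]
    exact Submodule.ker_liftQ_eq_bot q' _ hle hge
  have hφmk : φ ∘ₗ q'.mkQ = I'.mkQ ∘ₗ J.subtype := Submodule.liftQ_mkQ q' _ hle
  -- torsion structure
  have htors : Module.IsTorsionBySet R (↥J ⧸ q') (I' : Set R) := by
    intro y a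
    obtain ⟨j, rfl⟩ := Submodule.mkQ_surjective q' y
    rw [← map_smul, Submodule.mkQ_apply, Submodule.Quotient.mk_eq_zero]
    change ((a : R) • j : ↥J).1 ∈ I'
    exact Ideal.mul_mem_right _ _ a.2
  letI := htors.module
  haveI : IsScalarTower R (R ⧸ I') (↥J ⧸ q') := htors.isScalarTower
  let φA : (↥J ⧸ q') →ₗ[R ⧸ I'] (R ⧸ I') :=
    φ.extendScalarsOfSurjective Ideal.Quotient.mk_surjective
  have hφA : Injective φA := hφ
  have hflat : Injective (φA.rTensor ((R ⧸ I') ⊗[R] M)) :=
    Module.Flat.rTensor_preserves_injective_linearMap φA hφA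
  have hr : Injective (φ.rTensor M) := by
    rw [injective_iff_map_eq_zero]
    intro z hz
    have hnat := cancelBaseChange_rTensor (R := R) (A := R ⧸ I') (M := M) φA
      ((AlgebraTensorModule.cancelBaseChange R (R ⧸ I') (R ⧸ I') (↥J ⧸ q') M).symm z)
    rw [LinearEquiv.apply_symm_apply] at hnat
    have h3 : (φA.restrictScalars R).rTensor M z = 0 := hz
    rw [h3] at hnat
    have h4 := (LinearEquiv.map_eq_zero_iff _).mp hnat
    have h5 := hflat (h4.trans (map_zero _).symm)
    exact (LinearEquiv.map_eq_zero_iff _).mp h5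
  have hl : Injective (φ.lTensor M) := (LinearMap.lTensor_inj_iff_rTensor_inj _ _).mpr hr
  have h1 : φ.lTensor M (q'.mkQ.lTensor M x) = 0 := by
    rw [← LinearMap.comp_apply, ← LinearMap.lTensor_comp, hφmk, LinearMap.lTensor_comp,
      LinearMap.comp_apply, hx, map_zero]
  have h2 : q'.mkQ.lTensor M x = 0 := hl (h1.trans (map_zero _).symm)
  obtain ⟨y, rfl⟩ := (lTensor_exact M (LinearMap.exact_subtype_mkQ q')
    (Submodule.mkQ_surjective q') x).mp h2
  let j : q' →ₗ[R] ↥(J ⊓ I') := LinearMap.codRestrict (J ⊓ I') (J.subtype ∘ₗ q'.subtype)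
    (fun z => ⟨z.1.2, z.2⟩)
  have h4 : q'.subtype = Submodule.inclusion inf_le_left ∘ₗ j := by
    ext z
    rfl
  rw [h4, LinearMap.lTensor_comp, LinearMap.comp_apply]
  exact ⟨_, rfl⟩

/-- Flatness modulo all powers of `I` gives flatness after localizing at primes containing `I S`. -/
theorem flat_localizedModule_of_flat_mod_pow {R S M : Type u} [CommRing R] [CommRing S]
    [IsNoetherianRing R] [IsNoetherianRing S] [Algebra R S]
    [AddCommGroup M] [Module R M] [Module S M] [IsScalarTower R S M] [Module.Finite S M]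
    (I : Ideal R)
    (h : ∀ n : ℕ, 0 < n → Module.Flat (R ⧸ I ^ n) ((R ⧸ I ^ n) ⊗[R] M))
    (q : Ideal S) [q.IsPrime] (hq : I.map (algebraMap R S) ≤ q) :
    Module.Flat R (LocalizedModule q.primeCompl M) := by
  classical
  apply Module.Flat.of_forall_isTrivialRelation
  intro l f y hsum
  set F := LocalizedModule.mkLinearMap q.primeCompl M with hF
  obtain ⟨b, hb⟩ := IsLocalizedModule.exist_integer_multiples_of_finite q.primeCompl F y
  choose m hm using hb
  -- hm i : F (m i) = (b : S) • y i
  have hFsmul : ∀ (r : R) (z : M), F (r • z) = r • F z := by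
    intro r z
    rw [← algebraMap_smul S r z, map_smul, algebraMap_smul]
  have h0 : F (∑ i, f i • m i) = 0 := by
    rw [map_sum]
    have h1 : ∀ i, F (f i • m i) = (b : S) • (f i • y i) := by
      intro i
      rw [hFsmul, hm i, smul_comm]
    simp only [h1]
    rw [← Finset.smul_sum, hsum, smul_zero]
  obtain ⟨t, ht⟩ := (IsLocalizedModule.eq_zero_iff q.primeCompl F).mp h0
  -- the ideal of coefficients
  let J : Ideal R := Ideal.span (Set.range f)
  let fJ : Fin l → ↥J := fun i => ⟨f i, Ideal.subset_span ⟨i, rfl⟩⟩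
  let x : M ⊗[R] J := ∑ i, ((t : S) • m i) ⊗ₜ[R] fJ i
  have hx : J.subtype.lTensor M x = 0 := by
    apply (TensorProduct.rid R M).injective
    rw [map_zero, map_sum, map_sum]
    have h1 : ∀ i, (TensorProduct.rid R M) ((J.subtype.lTensor M) (((t : S) • m i) ⊗ₜ[R] fJ i)) =
        (t : S) • (f i • m i) := by
      intro i
      rw [LinearMap.lTensor_tmul, TensorProduct.rid_tmul]
      change f i • ((t : S) • m i) = _
      rw [smul_comm]
    simp only [h1]
    rw [← Finset.smul_sum]
    exact ht
  have hxmem : x ∈ (⨅ i : ℕ, (I.map (algebraMap R S)) ^ i • (⊤ : Submodule S (M ⊗[R] J))) :=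
    mem_iInf_pow_smul_top I J x (fun n hn => mem_range_of_flat_mod (I ^ n) J (h n hn) x hx)
  haveI : Module.Finite S (M ⊗[R] J) := finite_tensor R S M J
  obtain ⟨r, hr⟩ := (Ideal.mem_iInf_smul_pow_eq_bot_iff (I.map (algebraMap R S)) x).mp hxmem
  -- u = 1 - r ∉ q
  have hu : (1 - (r : S)) ∈ q.primeCompl := by
    intro hmem
    have h1 : (1 : S) ∈ q := by
      have := q.add_mem hmem (hq r.2)
      rwa [sub_add_cancel] at this
    exact (Ideal.IsPrime.ne_top ‹_›) ((Ideal.eq_top_iff_one q).mpr h1)
  have hux : (1 - (r : S)) • x = 0 := by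
    rw [sub_smul, one_smul, hr, sub_self]
  -- expand
  have hux' : ∑ i, fJ i ⊗ₜ[R] ((1 - (r : S)) • ((t : S) • m i)) = (0 : ↥J ⊗[R] M) := by
    have h1 : (TensorProduct.comm R M J) ((1 - (r : S)) • x) = 0 := by rw [hux, map_zero]
    rw [Finset.smul_sum, map_sum] at h1
    rw [← h1]
    refine Finset.sum_congr rfl (fun i _ => ?_)
    rw [TensorProduct.smul_tmul', TensorProduct.comm_tmul]
  have hspan : Submodule.span R (Set.range fJ) = ⊤ := by
    rw [eq_top_iff]
    rintro ⟨j, hj⟩ -
    have hj' : j ∈ Submodule.span R (Set.range f) := hj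
    rw [Submodule.mem_span_range_iff_exists_fun] at hj'
    obtain ⟨c, rfl⟩ := hj'
    have : (⟨∑ i, c i • f i, hj⟩ : ↥J) = ∑ i, c i • fJ i := by
      apply Subtype.ext
      simp [fJ]
    rw [this]
    exact Submodule.sum_mem _ (fun i _ => Submodule.smul_mem _ _ (Submodule.subset_span ⟨i, rfl⟩))
  obtain ⟨k, a, z, hz, ha⟩ := TensorProduct.vanishesTrivially_of_sum_tmul_eq_zero R hspan hux'
  -- build the trivialization in the localization
  have hw : (1 - (r : S)) * (t : S) * (b : S) ∈ q.primeCompl :=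
    q.primeCompl.mul_mem (q.primeCompl.mul_mem hu t.2) b.2
  let w : q.primeCompl := ⟨(1 - (r : S)) * (t : S) * (b : S), hw⟩
  refine ⟨k, a, fun j => LocalizedModule.mk (z j) w, fun i => ?_, fun j => ?_⟩
  · apply IsLocalizedModule.smul_injective F w
    change w • y i = w • ∑ j, a i j • LocalizedModule.mk (z j) w
    have h1 : w • y i = F ((1 - (r : S)) • ((t : S) • m i)) := by
      rw [map_smul, map_smul, hm i, smul_smul, smul_smul]
      rfl
    have h2 : ∀ j, w • (a i j • LocalizedModule.mk (z j) w) = a i j • F (z j) := by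
      intro j
      rw [smul_comm]
      congr 1
      rw [Submonoid.smul_def, LocalizedModule.smul'_mk]
      exact LocalizedModule.mk_cancel w (z j)
    have hz' : (1 - (r : S)) • ((t : S) • m i) = ∑ j, a i j • z j := hz i
    rw [Finset.smul_sum, h1, hz', map_sum]
    refine Finset.sum_congr rfl (fun j _ => ?_)
    rw [h2, hFsmul]
  · have h1 : ((∑ i, a i j • fJ i : ↥J) : R) = 0 := by
      rw [ha j]
      rfl
    simp only [Submodule.coe_sum, Submodule.coe_smul, smul_eq_mul, fJ] at h1
    rw [← h1]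
    exact Finset.sum_congr rfl (fun i _ => mul_comm _ _)

end modPowers

section nilpotent

/-- Nilpotent form of the local criterion, with a chosen presentation. -/
theorem flat_of_presentation_of_nilpotent {R : Type u} {M K F : Type u} [CommRing R]
    [AddCommGroup M] [Module R M]
    [AddCommGroup K] [Module R K] [AddCommGroup F] [Module R F] [Module.Flat R F]
    (ι : K →ₗ[R] F) (π : F →ₗ[R] M) (hex : Exact ι π) (hπ : Surjective π) (hι : Injective ι)
    (I : Ideal R) (n : ℕ) (hn : I ^ n = ⊥)
    (h1 : Injective (I.subtype.rTensor M)) (h2 : Module.Flat (R ⧸ I) ((R ⧸ I) ⊗[R] M)) :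
    Module.Flat R M := by
  have hT1 : ∀ (N : Type u) [AddCommGroup N] [Module R N], (∀ a ∈ I, ∀ x : N, a • x = 0) →
      Injective (ι.lTensor N) :=
    fun N _ _ hN => lTensor_injective_of_torsion ι π hex hπ hι I h1 h2 N hN
  have hT := lTensor_injective_of_pow_torsion ι I hT1
  rw [Module.Flat.iff_lTensor_injective']
  intro J
  have hTn : Injective (ι.lTensor (R ⧸ J)) := by
    apply hT n
    intro a ha x
    rw [hn, Ideal.mem_bot] at ha
    rw [ha, zero_smul]
  exact lTensor_injective_of_exact_of_exact_of_rTensor_injective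
      (M₁ := K) (M₂ := F) (M₃ := M)
      (N₁ := ↥J) (N₂ := R) (N₃ := R ⧸ J)
      (f₁ := ι) (f₂ := π) (g₁ := J.subtype)
      (g₂ := J.mkQ)
      hex hπ (LinearMap.exact_subtype_mkQ _) (Submodule.mkQ_surjective _)
      ((LinearMap.lTensor_inj_iff_rTensor_inj _ _).mp hTn)
      (Module.Flat.lTensor_preserves_injective_linearMap _ (Submodule.injective_subtype _))

/-- Nilpotent form of the local criterion of flatness. -/
theorem flat_of_nilpotent {R : Type u} {M : Type u} [CommRing R]
    [AddCommGroup M] [Module R M] (I : Ideal R) (n : ℕ) (hn : I ^ n = ⊥)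
    (h1 : Injective (I.subtype.rTensor M)) (h2 : Module.Flat (R ⧸ I) ((R ⧸ I) ⊗[R] M)) :
    Module.Flat R M := by
  obtain ⟨π, hπ⟩ : ∃ π : (M →₀ R) →ₗ[R] M, Surjective π :=
    ⟨_, Finsupp.linearCombination_id_surjective R M⟩
  have hex : Exact (LinearMap.ker π).subtype π := LinearMap.exact_subtype_ker_map π
  exact flat_of_presentation_of_nilpotent (K := LinearMap.ker π) (F := M →₀ R)
    (LinearMap.ker π).subtype π hex hπ (Submodule.injective_subtype _) I n hn h1 h2

end nilpotent

section regular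

/-- `(f) ⊗ X → X` is injective when `f` is regular on `X`. -/
theorem rTensor_span_singleton_injective {A X : Type*} [CommRing A] [AddCommGroup X] [Module A X]
    (f : A) (hX : IsSMulRegular X f) :
    Injective ((Ideal.span {f}).subtype.rTensor X) := by
  have hfmem : f ∈ Ideal.span {f} := Ideal.subset_span rfl
  have hrep : ∀ z : ↥(Ideal.span {f}) ⊗[A] X, ∃ x : X, z = (⟨f, hfmem⟩ : ↥(Ideal.span {f})) ⊗ₜ x := by
    intro z
    induction z using TensorProduct.induction_on with
    | zero => exact ⟨0, (TensorProduct.tmul_zero _ _).symm⟩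
    | add z₁ z₂ h₁ h₂ =>
      obtain ⟨x₁, rfl⟩ := h₁
      obtain ⟨x₂, rfl⟩ := h₂
      exact ⟨x₁ + x₂, (TensorProduct.tmul_add _ _ _).symm⟩
    | tmul a x =>
      obtain ⟨a, ha⟩ := a
      obtain ⟨c, rfl⟩ := Ideal.mem_span_singleton'.mp ha
      refine ⟨c • x, ?_⟩
      rw [← TensorProduct.smul_tmul]
      rfl
  rw [injective_iff_map_eq_zero]
  intro z hz
  obtain ⟨x, rfl⟩ := hrep z
  have h1 : (TensorProduct.lid A X) (((Ideal.span {f}).subtype.rTensor X)
      ((⟨f, hfmem⟩ : ↥(Ideal.span {f})) ⊗ₜ x)) = f • x := by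
    rw [LinearMap.rTensor_tmul, TensorProduct.lid_tmul]
    rfl
  rw [hz, map_zero] at h1
  have h2 : x = 0 := hX (by
    change f • x = f • (0 : X)
    rw [smul_zero]
    exact h1.symm)
  rw [h2, TensorProduct.tmul_zero]

/-- The kernel of a surjection from a flat module onto a flat module is flat. -/
theorem flat_of_exact_of_flat {A K F M : Type*} [CommRing A] [AddCommGroup K] [Module A K]
    [AddCommGroup F] [Module A F] [AddCommGroup M] [Module A M] [Module.Flat A F] [Module.Flat A M]
    (ι : K →ₗ[A] F) (π : F →ₗ[A] M) (hex : Exact ι π) (hπ : Surjective π) (hι : Injective ι) :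
    Module.Flat A K := by
  rw [Module.Flat.iff_lTensor_injective']
  intro J
  have h1 : Injective (ι.rTensor J) :=
    (LinearMap.lTensor_inj_iff_rTensor_inj _ _).mp (lTensor_injective_of_flat_coker hex hπ hι J)
  have h2 : Injective (J.subtype.lTensor F) :=
    Module.Flat.lTensor_preserves_injective_linearMap _ (Submodule.injective_subtype _)
  have h3 : (ι.rTensor A) ∘ₗ (J.subtype.lTensor K) = (J.subtype.lTensor F) ∘ₗ (ι.rTensor J) := by
    rw [LinearMap.rTensor_comp_lTensor, LinearMap.lTensor_comp_rTensor]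
  have h4 : Injective ((ι.rTensor A) ∘ₗ (J.subtype.lTensor K)) := by
    rw [h3]
    exact h2.comp h1
  exact Function.Injective.of_comp h4


/-- Auxiliary form with a chosen presentation of `X`. -/
theorem lTensor_injective_of_torsion_coker_aux {A : Type u} {X KX FX : Type u} [CommRing A]
    [AddCommGroup X] [Module A X] [AddCommGroup KX] [Module A KX] [AddCommGroup FX] [Module A FX]
    [Module.Flat A FX] (ιX : KX →ₗ[A] FX) (πX : FX →ₗ[A] X) (hex : Exact ιX πX)
    (hπ : Surjective πX) (hι : Injective ιX)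
    (f : A) (hX : IsSMulRegular X f)
    (h2 : Module.Flat (A ⧸ Ideal.span {f}) ((A ⧸ Ideal.span {f}) ⊗[A] X))
    {N₁ N₂ : Type u} [AddCommGroup N₁] [Module A N₁] [AddCommGroup N₂] [Module A N₂]
    (i : N₁ →ₗ[A] N₂) (hi : Injective i)
    (htors : ∀ y : N₂, f • y ∈ LinearMap.range i) : Injective (i.lTensor X) := by
  have hT : Injective (ιX.lTensor (N₂ ⧸ LinearMap.range i)) := by
    apply lTensor_injective_of_torsion ιX πX hex hπ hι (Ideal.span {f})
      (rTensor_span_singleton_injective f hX) h2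
    intro a ha y
    obtain ⟨c, rfl⟩ := Ideal.mem_span_singleton'.mp ha
    obtain ⟨y, rfl⟩ := Submodule.mkQ_surjective _ y
    rw [mul_smul, ← map_smul, ← map_smul, Submodule.mkQ_apply, Submodule.Quotient.mk_eq_zero]
    exact Submodule.smul_mem _ _ (htors y)
  exact lTensor_injective_of_exact_of_exact_of_rTensor_injective
      (M₁ := KX) (M₂ := FX) (M₃ := X)
      (N₁ := N₁) (N₂ := N₂) (N₃ := N₂ ⧸ LinearMap.range i)
      (f₁ := ιX) (f₂ := πX) (g₁ := i) (g₂ := (LinearMap.range i).mkQ)
      hex hπ (LinearMap.exact_map_mkQ_range i) (Submodule.mkQ_surjective _)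
      ((LinearMap.lTensor_inj_iff_rTensor_inj _ _).mp hT)
      (Module.Flat.lTensor_preserves_injective_linearMap _ hi)

/-- For `X` with `f` regular and `X / f X` flat over `A / f`, tensoring with `X` preserves
injections with `f`-torsion cokernel. -/
theorem lTensor_injective_of_torsion_coker {A : Type u} {X : Type u} [CommRing A]
    [AddCommGroup X] [Module A X] (f : A) (hX : IsSMulRegular X f)
    (h2 : Module.Flat (A ⧸ Ideal.span {f}) ((A ⧸ Ideal.span {f}) ⊗[A] X))
    {N₁ N₂ : Type u} [AddCommGroup N₁] [Module A N₁] [AddCommGroup N₂] [Module A N₂]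
    (i : N₁ →ₗ[A] N₂) (hi : Injective i)
    (htors : ∀ y : N₂, f • y ∈ LinearMap.range i) : Injective (i.lTensor X) := by
  obtain ⟨π, hπ⟩ : ∃ π : (X →₀ A) →ₗ[A] X, Surjective π :=
    ⟨_, Finsupp.linearCombination_id_surjective A X⟩
  have hex : Exact (LinearMap.ker π).subtype π := LinearMap.exact_subtype_ker_map π
  exact lTensor_injective_of_torsion_coker_aux (KX := LinearMap.ker π) (FX := X →₀ A)
    (LinearMap.ker π).subtype π hex hπ (Submodule.injective_subtype _) f hX h2 i hi htors

/-- `f`-torsion elements of the Tor-substitute vanish. -/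
theorem eq_zero_of_smul_eq_zero {A : Type u} {K F : Type u} [CommRing A]
    [AddCommGroup K] [Module A K] [AddCommGroup F] [Module A F] [Module.Flat A F]
    (ι : K →ₗ[A] F) (f : A)
    (hT : ∀ (N : Type u) [AddCommGroup N] [Module A N],
      (∀ a ∈ Ideal.span {f}, ∀ x : N, a • x = 0) → Injective (ι.lTensor N))
    (hK : ∀ {N₁ N₂ : Type u} [AddCommGroup N₁] [Module A N₁] [AddCommGroup N₂] [Module A N₂]
      (i : N₁ →ₗ[A] N₂), Injective i → (∀ y : N₂, f • y ∈ LinearMap.range i) →
      Injective (i.lTensor K))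
    (N : Type u) [AddCommGroup N] [Module A N] (x : N ⊗[A] K) (hx : ι.lTensor N x = 0)
    (hfx : f • x = 0) : x = 0 := by
  let μ : N →ₗ[A] N := LinearMap.lsmul A N f
  let p : N →ₗ[A] LinearMap.range μ := μ.rangeRestrict
  let i : LinearMap.range μ →ₗ[A] N := (LinearMap.range μ).subtype
  have hip : i ∘ₗ p = μ := by
    ext y
    rfl
  have hiK : Injective (i.rTensor K) :=
    (LinearMap.lTensor_inj_iff_rTensor_inj _ _).mp
      (hK i (Submodule.injective_subtype _) (fun y => ⟨⟨μ y, LinearMap.mem_range_self μ y⟩, rfl⟩))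
  have hμ : ∀ z : N ⊗[A] K, μ.rTensor K z = f • z := by
    intro z
    induction z using TensorProduct.induction_on with
    | zero => simp only [map_zero, smul_zero]
    | add z₁ z₂ h₁ h₂ => rw [map_add, h₁, h₂, smul_add]
    | tmul n k =>
      rw [LinearMap.rTensor_tmul, TensorProduct.smul_tmul']
      rfl
  have h1 : i.rTensor K (p.rTensor K x) = 0 := by
    rw [← LinearMap.comp_apply, ← LinearMap.rTensor_comp, hip, hμ, hfx]
  have h2 : p.rTensor K x = 0 := hiK (h1.trans (map_zero _).symm)
  obtain ⟨x', rfl⟩ := (rTensor_exact K (LinearMap.exact_subtype_ker_map p)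
    (LinearMap.surjective_rangeRestrict μ) x).mp h2
  have h3 : (LinearMap.ker p).subtype.rTensor F (ι.lTensor (LinearMap.ker p) x') = 0 := by
    rw [← LinearMap.comp_apply, LinearMap.rTensor_comp_lTensor, ← LinearMap.lTensor_comp_rTensor,
      LinearMap.comp_apply, hx]
  have h4 : ι.lTensor (LinearMap.ker p) x' = 0 :=
    (Module.Flat.rTensor_preserves_injective_linearMap _ (Submodule.injective_subtype _))
      (h3.trans (map_zero _).symm)
  have h5 : x' = 0 := by
    refine (hT (LinearMap.ker p) ?_) (h4.trans (map_zero _).symm)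
    rintro a ha ⟨y, hy⟩
    obtain ⟨c, rfl⟩ := Ideal.mem_span_singleton'.mp ha
    apply Subtype.ext
    change (c * f) • y = 0
    have h6 : f • y = 0 := by
      have h7 : i (p y) = f • y := rfl
      rw [← h7, LinearMap.mem_ker.mp hy, map_zero]
    rw [mul_smul, h6, smul_zero]
  rw [h5, map_zero]


/-- Elements of the Tor-substitute for `A ⧸ J` are killed by a power of `f` when `M_f` is flat. -/
theorem exists_pow_smul_eq_zero {A : Type u} {M K F : Type u} [CommRing A]
    [AddCommGroup M] [Module A M] [AddCommGroup K] [Module A K] [AddCommGroup F] [Module A F]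
    (ι : K →ₗ[A] F) (π : F →ₗ[A] M) (hex : Exact ι π) (hπ : Surjective π) (hι : Injective ι)
    (f : A) (hM : IsSMulRegular M f)
    [Module.Flat A (LocalizedModule (Submonoid.powers f) M)]
    (J : Ideal A) (x : (A ⧸ J) ⊗[A] K) (hx : ι.lTensor (A ⧸ J) x = 0) :
    ∃ n : ℕ, f ^ n • x = 0 := by
  classical
  obtain ⟨k, rfl⟩ := FlatLocal.exists_one_tmul_eq J x
  have h1 : (1 : A ⧸ J) ⊗ₜ[A] ι k = 0 := hx
  rw [FlatLocal.one_tmul_eq_zero_iff] at h1
  have hspan : (⊤ : Submodule A F) = Submodule.span A (Set.range (id : F → F)) := by simp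
  rw [hspan, Submodule.mem_ideal_smul_span_iff_exists_sum] at h1
  obtain ⟨c, hcJ, hc⟩ := h1
  -- index type: the support of `c`
  have hsum : ι k = ∑ t : ↥c.support, c t.1 • t.1 := by
    rw [← hc, Finset.sum_coe_sort c.support (fun t => c t • t)]
    rfl
  set G := LocalizedModule.mkLinearMap (Submonoid.powers f) M with hG
  have hGsmul : ∀ (r : A) (z : M), G (r • z) = r • G z := fun r z => map_smul G r z
  have hrel : ∑ t : ↥c.support, c t.1 • G (π t.1) = 0 := by
    have h2 : π (ι k) = 0 := hex.apply_apply_eq_zero k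
    rw [hsum, map_sum] at h2
    have h3 : G (∑ t : ↥c.support, π (c t.1 • t.1)) = 0 := by rw [h2, map_zero]
    rw [map_sum] at h3
    rw [← h3]
    refine Finset.sum_congr rfl (fun t _ => ?_)
    rw [map_smul, hGsmul]
  obtain ⟨κ, a, y, hy0, ha0⟩ := Module.Flat.isTrivialRelation_of_sum_smul_eq_zero hrel
  have hy : ∀ t : ↥c.support, G (π t.1) = ∑ j, a t j • y j := hy0
  have ha : ∀ j, ∑ t : ↥c.support, c t.1 * a t j = 0 := ha0
  obtain ⟨b, hb⟩ := IsLocalizedModule.exist_integer_multiples_of_finite (Submonoid.powers f) G y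
  choose y' hy' using hb
  obtain ⟨n, hn0⟩ := b.2
  have hn : f ^ n = (b : A) := hn0
  have hM' : ∀ t : ↥c.support, (b : A) • π t.1 = ∑ j, a t j • y' j := by
    intro t
    have h0 : G ((b : A) • π t.1 - ∑ j, a t j • y' j) = 0 := by
      rw [map_sub, hGsmul, hy t, map_sum, Finset.smul_sum, sub_eq_zero]
      refine Finset.sum_congr rfl (fun j _ => ?_)
      rw [hGsmul, hy' j, smul_comm]
    obtain ⟨d, hd⟩ := (IsLocalizedModule.eq_zero_iff (Submonoid.powers f) G).mp h0
    obtain ⟨n', hn0'⟩ := d.2
    have hn' : f ^ n' = (d : A) := hn0'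
    have hreg : IsSMulRegular M (d : A) := by
      rw [← hn']
      exact hM.pow n'
    apply sub_eq_zero.mp
    apply hreg
    change (d : A) • _ = (d : A) • (0 : M)
    rw [smul_zero]
    exact hd
  choose e' he' using fun j => hπ (y' j)
  have hc' : ∀ t : ↥c.support, ∃ c' : K, ι c' = (b : A) • t.1 - ∑ j, a t j • e' j := by
    intro t
    apply (hex _).mp
    rw [map_sub, map_smul, map_sum, hM' t, sub_eq_zero]
    refine Finset.sum_congr rfl (fun j _ => ?_)
    rw [map_smul, he']
  choose c' hc'' using hc'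
  refine ⟨n, ?_⟩
  have hk : (b : A) • k = ∑ t : ↥c.support, c t.1 • c' t := by
    apply hι
    rw [map_smul, hsum, map_sum, Finset.smul_sum]
    have h4 : ∀ t : ↥c.support, ι (c t.1 • c' t) =
        (b : A) • (c t.1 • t.1) - ∑ j, (c t.1 * a t j) • e' j := by
      intro t
      rw [map_smul, hc'', smul_sub, Finset.smul_sum, smul_comm]
      congr 1
      refine Finset.sum_congr rfl (fun j _ => ?_)
      rw [smul_smul]
    simp only [h4]
    rw [Finset.sum_sub_distrib, Finset.sum_comm]
    have h5 : ∀ j, ∑ t : ↥c.support, (c t.1 * a t j) • e' j = 0 := by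
      intro j
      rw [← Finset.sum_smul, ha j, zero_smul]
    simp only [h5, Finset.sum_const_zero, sub_zero]
  have h6 : f ^ n • ((1 : A ⧸ J) ⊗ₜ[A] k) = (1 : A ⧸ J) ⊗ₜ[A] ((b : A) • k) := by
    rw [TensorProduct.tmul_smul]
    exact congrArg (· • _) hn
  rw [h6, FlatLocal.one_tmul_eq_zero_iff, hk]
  exact Submodule.sum_mem _ (fun t _ => Submodule.smul_mem_smul (hcJ t.1) Submodule.mem_top)


/-- Flatness from flatness away from `f` and modulo `f`, with a chosen presentation. -/
theorem flat_of_presentation_of_regular {A : Type u} {M K F : Type u} [CommRing A]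
    [AddCommGroup M] [Module A M] [AddCommGroup K] [Module A K] [AddCommGroup F] [Module A F]
    [Module.Flat A F]
    (ι : K →ₗ[A] F) (π : F →ₗ[A] M) (hex : Exact ι π) (hπ : Surjective π) (hι : Injective ι)
    (f : A) (hF : IsSMulRegular F f) (hM : IsSMulRegular M f)
    [Module.Flat A (LocalizedModule (Submonoid.powers f) M)]
    (h2 : Module.Flat (A ⧸ Ideal.span {f}) ((A ⧸ Ideal.span {f}) ⊗[A] M)) :
    Module.Flat A M := by
  have hT : ∀ (N : Type u) [AddCommGroup N] [Module A N],
      (∀ a ∈ Ideal.span {f}, ∀ x : N, a • x = 0) → Injective (ι.lTensor N) :=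
    fun N _ _ hN => lTensor_injective_of_torsion ι π hex hπ hι (Ideal.span {f})
      (rTensor_span_singleton_injective f hM) h2 N hN
  -- `K` inherits the hypotheses
  have hKreg : IsSMulRegular K f := by
    intro k₁ k₂ h
    apply hι
    apply hF
    change f • ι k₁ = f • ι k₂
    rw [← map_smul, ← map_smul]
    exact congrArg ι h
  have hKflat : Module.Flat (A ⧸ Ideal.span {f}) ((A ⧸ Ideal.span {f}) ⊗[A] K) := by
    have hinj : Injective (AlgebraTensorModule.lTensor (A ⧸ Ideal.span {f}) (A ⧸ Ideal.span {f}) ι) :=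
      hT (A ⧸ Ideal.span {f}) (by
        intro a ha x
        obtain ⟨x, rfl⟩ := Submodule.mkQ_surjective _ x
        rw [← map_smul, Submodule.mkQ_apply, Submodule.Quotient.mk_eq_zero]
        exact Ideal.mul_mem_right _ _ ha)
    exact flat_of_exact_of_flat
      (AlgebraTensorModule.lTensor (A ⧸ Ideal.span {f}) (A ⧸ Ideal.span {f}) ι)
      (AlgebraTensorModule.lTensor (A ⧸ Ideal.span {f}) (A ⧸ Ideal.span {f}) π)
      (lTensor_exact (A ⧸ Ideal.span {f}) hex hπ)
      (LinearMap.lTensor_surjective (A ⧸ Ideal.span {f}) hπ) hinj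
  have hK : ∀ {N₁ N₂ : Type u} [AddCommGroup N₁] [Module A N₁] [AddCommGroup N₂] [Module A N₂]
      (i : N₁ →ₗ[A] N₂), Injective i → (∀ y : N₂, f • y ∈ LinearMap.range i) →
      Injective (i.lTensor K) :=
    fun i hi htors => lTensor_injective_of_torsion_coker f hKreg hKflat i hi htors
  rw [Module.Flat.iff_lTensor_injective']
  intro J
  have hTJ : Injective (ι.lTensor (A ⧸ J)) := by
    rw [injective_iff_map_eq_zero]
    intro x hx
    obtain ⟨n, hn⟩ := exists_pow_smul_eq_zero ι π hex hπ hι f hM J x hx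
    clear hM
    induction n generalizing x with
    | zero => rwa [pow_zero, one_smul] at hn
    | succ n ih =>
      apply ih x hx
      apply eq_zero_of_smul_eq_zero ι f hT hK (A ⧸ J) (f ^ n • x)
      · rw [map_smul, hx, smul_zero]
      · rw [smul_smul, ← pow_succ']
        exact hn
  exact lTensor_injective_of_exact_of_exact_of_rTensor_injective
      (M₁ := K) (M₂ := F) (M₃ := M)
      (N₁ := ↥J) (N₂ := A) (N₃ := A ⧸ J)
      (f₁ := ι) (f₂ := π) (g₁ := J.subtype)
      (g₂ := J.mkQ)
      hex hπ (LinearMap.exact_subtype_mkQ _) (Submodule.mkQ_surjective _)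
      ((LinearMap.lTensor_inj_iff_rTensor_inj _ _).mp hTJ)
      (Module.Flat.lTensor_preserves_injective_linearMap _ (Submodule.injective_subtype _))

/-- Flatness from flatness away from `f` and modulo `f`. -/
theorem flat_of_regular {A M : Type u} [CommRing A] [AddCommGroup M] [Module A M] (f : A)
    (hA : f ∈ nonZeroDivisors A) (hM : IsSMulRegular M f)
    [Module.Flat (Localization.Away f) (LocalizedModule (Submonoid.powers f) M)]
    (h2 : Module.Flat (A ⧸ Ideal.span {f}) ((A ⧸ Ideal.span {f}) ⊗[A] M)) : Module.Flat A M := by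
  haveI : Module.Flat A (LocalizedModule (Submonoid.powers f) M) :=
    Module.Flat.trans A (Localization.Away f) (LocalizedModule (Submonoid.powers f) M)
  obtain ⟨π, hπ⟩ : ∃ π : (M →₀ A) →ₗ[A] M, Surjective π :=
    ⟨_, Finsupp.linearCombination_id_surjective A M⟩
  have hex : Exact (LinearMap.ker π).subtype π := LinearMap.exact_subtype_ker_map π
  have hF : IsSMulRegular (M →₀ A) f := by
    intro x y hxy
    ext m
    have h1 := congrArg (fun z : M →₀ A => z m) hxy
    simp only [Finsupp.smul_apply, smul_eq_mul] at h1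
    exact (mem_nonZeroDivisors_iff.mp hA).1 _ (by
      rw [mul_sub, h1, sub_self]) |> sub_eq_zero.mp
  exact flat_of_presentation_of_regular (K := LinearMap.ker π) (F := M →₀ A)
    (LinearMap.ker π).subtype π hex hπ (Submodule.injective_subtype _) f hF hM h2

end regular

end Groth.Agent.Helper8.LocalCrit
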