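import Mathlib
import Groth.Agent.Lib.Helper8.FlatLocal

/-!
# Lifting regular sequences from the closed fibre of a flat local homomorphism (helper8)
-/

set_option autoImplicit false

universe u v

namespace Groth.Agent.Helper8.RegLift

open TensorProduct RingTheory.Sequence IsLocalRing
open scoped Pointwise

section iso

variable {S M : Type*} [CommRing S] [AddCommGroup M] [Module S M]

theorem pointwise_smul_top_eq_map (A : Submodule S M) (x : S) :
    x • (⊤ : Submodule S (M ⧸ A)) = (x • (⊤ : Submodule S M)).map A.mkQ := by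
  rw [← Submodule.ideal_span_singleton_smul, ← Submodule.ideal_span_singleton_smul,
    Submodule.map_smul'', Submodule.map_top, Submodule.range_mkQ]

theorem ideal_smul_top_eq_map (B : Submodule S M) (J : Ideal S) :
    J • (⊤ : Submodule S (M ⧸ B)) = (J • (⊤ : Submodule S M)).map B.mkQ := by
  rw [Submodule.map_smul'', Submodule.map_top, Submodule.range_mkQ]

/-- `(M / J M) / x ≃ (M / x M) / J`. -/
theorem nonempty_quotSMulTop_quot_equiv (J : Ideal S) (x : S) :
    Nonempty (QuotSMulTop x (M ⧸ (J • (⊤ : Submodule S M))) ≃ₗ[S]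
      (QuotSMulTop x M) ⧸ (J • (⊤ : Submodule S (QuotSMulTop x M)))) := by
  let A : Submodule S M := J • ⊤
  let B : Submodule S M := x • ⊤
  have e1 : ((M ⧸ A) ⧸ (x • (⊤ : Submodule S (M ⧸ A)))) ≃ₗ[S] ((M ⧸ A) ⧸ B.map A.mkQ) :=
    Submodule.quotEquivOfEq _ _ (pointwise_smul_top_eq_map A x)
  have e2 : ((M ⧸ A) ⧸ B.map A.mkQ) ≃ₗ[S] M ⧸ (A ⊔ B) :=
    Submodule.quotientQuotientEquivQuotientSup A B
  have e3 : (M ⧸ (A ⊔ B)) ≃ₗ[S] M ⧸ (B ⊔ A) := Submodule.quotEquivOfEq _ _ (sup_comm A B)
  have e4 : ((M ⧸ B) ⧸ A.map B.mkQ) ≃ₗ[S] M ⧸ (B ⊔ A) :=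
    Submodule.quotientQuotientEquivQuotientSup B A
  have e5 : ((M ⧸ B) ⧸ (J • (⊤ : Submodule S (M ⧸ B)))) ≃ₗ[S] ((M ⧸ B) ⧸ A.map B.mkQ) :=
    Submodule.quotEquivOfEq _ _ (ideal_smul_top_eq_map B J)
  exact ⟨e1 ≪≫ₗ e2 ≪≫ₗ e3 ≪≫ₗ e4.symm ≪≫ₗ e5.symm⟩

end iso

section lift

variable {R S : Type*} [CommRing R] [CommRing S] [IsLocalRing R] [IsLocalRing S]
  [IsNoetherianRing S] [Algebra R S] [IsLocalHom (algebraMap R S)]

/-- One step: an element regular on the closed fibre of a flat module is regular, and the quotient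
stays flat. -/
theorem isSMulRegular_and_flat_quotSMulTop {M : Type*} [AddCommGroup M] [Module R M] [Module S M]
    [IsScalarTower R S M] [Module.Finite S M] [Module.Flat R M] (x : S)
    (hx : IsSMulRegular (M ⧸ ((maximalIdeal R).map (algebraMap R S)) • (⊤ : Submodule S M)) x) :
    IsSMulRegular M x ∧ Module.Flat R (QuotSMulTop x M) := by
  let u : M →ₗ[R] M := (LinearMap.lsmul S M x).restrictScalars R
  have hu : ∀ y, u y = x • y := fun y => rfl
  have hsm : ∀ y : M, y ∈ maximalIdeal R • (⊤ : Submodule R M) ↔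
      y ∈ ((maximalIdeal R).map (algebraMap R S)) • (⊤ : Submodule S M) := by
    intro y
    have h1 : ((((maximalIdeal R).map (algebraMap R S)) • (⊤ : Submodule S M))).restrictScalars R =
        maximalIdeal R • (⊤ : Submodule R M) := by
      rw [Ideal.smul_restrictScalars, Submodule.restrictScalars_top]
    rw [← h1]
    exact Iff.rfl
  have H : ∀ y : M, u y ∈ maximalIdeal R • (⊤ : Submodule R M) →
      y ∈ maximalIdeal R • (⊤ : Submodule R M) := by
    intro y hy
    rw [hsm] at hy ⊢
    rw [hu] at hy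
    have h2 : x • (Submodule.Quotient.mk y :
        M ⧸ ((maximalIdeal R).map (algebraMap R S)) • (⊤ : Submodule S M)) = 0 := by
      rw [← Submodule.Quotient.mk_smul]
      exact (Submodule.Quotient.mk_eq_zero _).mpr hy
    have h3 : (Submodule.Quotient.mk y :
        M ⧸ ((maximalIdeal R).map (algebraMap R S)) • (⊤ : Submodule S M)) = 0 := by
      apply hx
      change x • _ = x • (0 : M ⧸ ((maximalIdeal R).map (algebraMap R S)) • (⊤ : Submodule S M))
      rw [smul_zero]
      exact h2
    exact (Submodule.Quotient.mk_eq_zero _).mp h3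
  obtain ⟨hinj, hflat⟩ := FlatLocal.injective_and_flat_quotient_of_mem (S := S) u H
  refine ⟨hinj, ?_⟩
  have hrange : LinearMap.range u = (x • (⊤ : Submodule S M)).restrictScalars R := by
    ext y
    rw [LinearMap.mem_range, Submodule.restrictScalars_mem, Submodule.mem_smul_pointwise_iff_exists]
    constructor
    · rintro ⟨z, rfl⟩
      exact ⟨z, Submodule.mem_top, rfl⟩
    · rintro ⟨z, -, rfl⟩
      exact ⟨z, rfl⟩
  let e : (M ⧸ LinearMap.range u) ≃ₗ[R] QuotSMulTop x M :=
    (Submodule.quotEquivOfEq _ _ hrange).trans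
      (Submodule.Quotient.restrictScalarsEquiv R (x • (⊤ : Submodule S M)))
  exact Module.Flat.of_linearEquiv e.symm

/-- Lifting weakly regular sequences from the closed fibre. -/
theorem isWeaklyRegular_of_isWeaklyRegular_quotient (rs : List S) :
    ∀ (M : Type u) [AddCommGroup M] [Module R M] [Module S M] [IsScalarTower R S M]
      [Module.Finite S M] [Module.Flat R M],
      IsWeaklyRegular (M ⧸ ((maximalIdeal R).map (algebraMap R S)) • (⊤ : Submodule S M)) rs →
      IsWeaklyRegular M rs := by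
  induction rs with
  | nil =>
    intro M _ _ _ _ _ _ _
    exact IsWeaklyRegular.nil S M
  | cons x rs ih =>
    intro M _ _ _ _ _ _ h
    rw [isWeaklyRegular_cons_iff] at h ⊢
    obtain ⟨h1, h2⟩ := h
    obtain ⟨hreg, hflat⟩ := isSMulRegular_and_flat_quotSMulTop (R := R) x h1
    refine ⟨hreg, ?_⟩
    haveI := hflat
    obtain ⟨e⟩ := nonempty_quotSMulTop_quot_equiv (M := M) ((maximalIdeal R).map (algebraMap R S)) x
    exact ih (QuotSMulTop x M) ((e.isWeaklyRegular_congr rs).mp h2)

end lift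

end Groth.Agent.Helper8.RegLift
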