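import Mathlib

/-! Helper lemmas on base change along a surjective ring map (for Milnor squares). -/

namespace Groth.Agent.Lib.Helper8.Milnor

open TensorProduct

variable {R S : Type*} [CommRing R] [CommRing S] [Algebra R S]
variable {M : Type*} [AddCommGroup M] [Module R M]

theorem exists_one_tmul (hs : Function.Surjective (algebraMap R S)) (t : S ⊗[R] M) :
    ∃ m : M, t = (1 : S) ⊗ₜ[R] m := by
  induction t using TensorProduct.induction_on with
  | zero => exact ⟨0, (TensorProduct.tmul_zero _ _).symm⟩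
  | tmul a m =>
    obtain ⟨r, rfl⟩ := hs a
    refine ⟨r • m, ?_⟩
    rw [Algebra.algebraMap_eq_smul_one, TensorProduct.smul_tmul]
  | add x y hx hy =>
    obtain ⟨m₁, rfl⟩ := hx
    obtain ⟨m₂, rfl⟩ := hy
    exact ⟨m₁ + m₂, (TensorProduct.tmul_add _ _ _).symm⟩

theorem one_tmul_eq_zero_of_mem {m : M}
    (hm : m ∈ (RingHom.ker (algebraMap R S)) • (⊤ : Submodule R M)) :
    (1 : S) ⊗ₜ[R] m = 0 := by
  refine Submodule.smul_induction_on hm ?_ ?_
  · intro r hr n _
    rw [← TensorProduct.smul_tmul, Algebra.smul_def, mul_one, (RingHom.mem_ker).1 hr,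
      TensorProduct.zero_tmul]
  · intro x y hx hy
    rw [TensorProduct.tmul_add, hx, hy, add_zero]

theorem mem_of_one_tmul_eq_zero (hs : Function.Surjective (algebraMap R S)) {m : M}
    (h : (1 : S) ⊗ₜ[R] m = 0) :
    m ∈ (RingHom.ker (algebraMap R S)) • (⊤ : Submodule R M) := by
  have hs' : Function.Surjective (Algebra.ofId R S) := hs
  have hk : RingHom.ker (Algebra.ofId R S) = RingHom.ker (algebraMap R S) := by
    ext x; exact Iff.rfl
  let e₁ := Ideal.quotientKerAlgEquivOfSurjective hs'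
  let e₂ : ((R ⧸ RingHom.ker (Algebra.ofId R S)) ⊗[R] M) ≃ₗ[R] S ⊗[R] M :=
    TensorProduct.congr e₁.toLinearEquiv (LinearEquiv.refl R M)
  have h1 : e₂ ((1 : R ⧸ RingHom.ker (Algebra.ofId R S)) ⊗ₜ[R] m) = (1 : S) ⊗ₜ[R] m := by
    rw [TensorProduct.congr_tmul]
    simp
  have h2 : ((1 : R ⧸ RingHom.ker (Algebra.ofId R S)) ⊗ₜ[R] m) = 0 := by
    apply e₂.injective
    rw [h1, h, map_zero]
  have h3 := congrArg (TensorProduct.quotTensorEquivQuotSMul M (RingHom.ker (Algebra.ofId R S))) h2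
  rw [TensorProduct.quotTensorEquivQuotSMul_mk_one_tmul, map_zero,
    Submodule.Quotient.mk_eq_zero] at h3
  rw [← hk]
  exact h3

end Groth.Agent.Lib.Helper8.Milnor
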