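import Mathlib
import Groth.Prelude.Def_EtMil
import Groth.Agent.Lib.Helper8.Milnor

/-! Milnor squares: the glued module `N ×_φ M'` recovers `N` and `M'` by base change. -/

universe u

namespace Groth.Agent.Lib.Helper8.Milnor

open TensorProduct

variable {B' B A' A : Type u} [CommRing B'] [CommRing B] [CommRing A'] [CommRing A]
  [Algebra B' B] [Algebra B' A'] [Algebra B A] [Algebra A' A] [Algebra B' A]
  [IsScalarTower B' B A] [IsScalarTower B' A' A]
variable {N M' : Type u} [AddCommGroup N] [Module B N] [Module B' N] [IsScalarTower B' B N]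
  [AddCommGroup M'] [Module A' M'] [Module B' M'] [IsScalarTower B' A' M']

theorem surj_B (hsq : EtMil.IsFibreSquare B' B A' A) : Function.Surjective (algebraMap B' B) := by
  intro b
  obtain ⟨a', ha'⟩ := hsq.1 (algebraMap B A b)
  obtain ⟨b', ⟨hb', _⟩, _⟩ := hsq.2 b a' ha'.symm
  exact ⟨b', hb'⟩

theorem exists_J (hsq : EtMil.IsFibreSquare B' B A' A) {a' : A'}
    (ha : a' ∈ RingHom.ker (algebraMap A' A)) :
    ∃ j : B', algebraMap B' B j = 0 ∧ algebraMap B' A' j = a' := by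
  have h : algebraMap B A 0 = algebraMap A' A a' := by rw [map_zero, (RingHom.mem_ker).1 ha]
  obtain ⟨j, ⟨h1, h2⟩, _⟩ := hsq.2 0 a' h
  exact ⟨j, h1, h2⟩

theorem exists_snd (hsq : EtMil.IsFibreSquare B' B A' A) (φ : A ⊗[B] N ≃ₗ[A] A ⊗[A'] M')
    (n : N) : ∃ m' : M', (n, m') ∈ EtMil.glue B' φ := by
  obtain ⟨m', hm'⟩ := exists_one_tmul hsq.1 (φ ((1 : A) ⊗ₜ[B] n))
  exact ⟨m', hm'⟩

theorem zero_mem (φ : A ⊗[B] N ≃ₗ[A] A ⊗[A'] M') {z : M'} (hz : (1 : A) ⊗ₜ[A'] z = 0) :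
    ((0 : N), z) ∈ EtMil.glue B' φ := by
  show φ ((1 : A) ⊗ₜ[B] (0 : N)) = (1 : A) ⊗ₜ[A'] z
  rw [TensorProduct.tmul_zero, map_zero, hz]

theorem span_snd (hsq : EtMil.IsFibreSquare B' B A' A) (φ : A ⊗[B] N ≃ₗ[A] A ⊗[A'] M') :
    Submodule.span A' (Set.range (EtMil.glueSnd B' φ)) = ⊤ := by
  rw [eq_top_iff]
  rintro m' -
  have hI : ∀ z : M', (1 : A) ⊗ₜ[A'] z = 0 →
      z ∈ Submodule.span A' (Set.range (EtMil.glueSnd B' φ)) := by
    intro z hz
    exact Submodule.subset_span ⟨⟨((0 : N), z), zero_mem φ hz⟩, rfl⟩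
  have key : ∀ t : A ⊗[B] N, ∀ m' : M', φ t = (1 : A) ⊗ₜ[A'] m' →
      m' ∈ Submodule.span A' (Set.range (EtMil.glueSnd B' φ)) := by
    intro t
    induction t using TensorProduct.induction_on with
    | zero =>
      intro m' h
      rw [map_zero] at h
      exact hI m' h.symm
    | tmul a n =>
      intro m' h
      obtain ⟨m₀, hm₀⟩ := exists_snd hsq φ n
      obtain ⟨a', rfl⟩ := hsq.1 a
      have h1 : φ ((algebraMap A' A a') ⊗ₜ[B] n) = (1 : A) ⊗ₜ[A'] (a' • m₀) := by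
        have h0 : (algebraMap A' A a') ⊗ₜ[B] n = (algebraMap A' A a') • ((1 : A) ⊗ₜ[B] n) := by
          rw [TensorProduct.smul_tmul', smul_eq_mul, mul_one]
        rw [h0, map_smul, (show φ ((1 : A) ⊗ₜ[B] n) = (1 : A) ⊗ₜ[A'] m₀ from hm₀),
          TensorProduct.smul_tmul', smul_eq_mul, mul_one, Algebra.algebraMap_eq_smul_one,
          TensorProduct.smul_tmul]
      have h2 : (1 : A) ⊗ₜ[A'] (m' - a' • m₀) = 0 := by
        rw [TensorProduct.tmul_sub, ← h, h1, sub_self]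
      have h3 := hI _ h2
      have h4 : a' • m₀ ∈ Submodule.span A' (Set.range (EtMil.glueSnd B' φ)) :=
        Submodule.smul_mem _ _ (Submodule.subset_span ⟨⟨(n, m₀), hm₀⟩, rfl⟩)
      have h5 := Submodule.add_mem _ h3 h4
      rwa [sub_add_cancel] at h5
    | add t₁ t₂ h₁ h₂ =>
      intro m' h
      obtain ⟨m₁, hm₁⟩ := exists_one_tmul hsq.1 (φ t₁)
      obtain ⟨m₂, hm₂⟩ := exists_one_tmul hsq.1 (φ t₂)
      have h3 : (1 : A) ⊗ₜ[A'] (m' - (m₁ + m₂)) = 0 := by
        rw [TensorProduct.tmul_sub, TensorProduct.tmul_add, ← h, map_add, hm₁, hm₂, sub_self]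
      have h5 := Submodule.add_mem _ (hI _ h3) (Submodule.add_mem _ (h₁ m₁ hm₁) (h₂ m₂ hm₂))
      rwa [sub_add_cancel] at h5
  exact key (φ.symm ((1 : A) ⊗ₜ[A'] m')) m' (φ.apply_symm_apply _)

theorem mem_J_smul (hsq : EtMil.IsFibreSquare B' B A' A) (φ : A ⊗[B] N ≃ₗ[A] A ⊗[A'] M')
    (x : EtMil.glue B' φ) (hx : x.1.1 = 0) :
    x ∈ (RingHom.ker (algebraMap B' B)) • (⊤ : Submodule B' (EtMil.glue B' φ)) := by
  have hq : ∀ m' ∈ Submodule.span A' (Set.range (EtMil.glueSnd B' φ)),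
      ∀ i ∈ RingHom.ker (algebraMap A' A), ∀ x : EtMil.glue B' φ, x.1 = ((0 : N), i • m') →
      x ∈ (RingHom.ker (algebraMap B' B)) • (⊤ : Submodule B' (EtMil.glue B' φ)) := by
    intro m' hm'
    induction hm' using Submodule.span_induction with
    | mem m' hm =>
      obtain ⟨y, rfl⟩ := hm
      intro i hi x hx
      obtain ⟨j, hj0, hji⟩ := exists_J hsq hi
      have hxy : x = j • y := by
        apply Subtype.ext
        rw [hx]
        show _ = j • y.1
        apply Prod.ext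
        · show (0 : N) = j • y.1.1
          rw [← IsScalarTower.algebraMap_smul B j y.1.1, hj0, zero_smul]
        · show i • (EtMil.glueSnd B' φ y) = j • y.1.2
          rw [← IsScalarTower.algebraMap_smul A' j y.1.2, hji]; rfl
      rw [hxy]
      exact Submodule.smul_mem_smul ((RingHom.mem_ker).2 hj0) Submodule.mem_top
    | zero =>
      intro i hi x hx
      have h0 : x = 0 := by
        apply Subtype.ext; rw [hx, smul_zero]; rfl
      rw [h0]; exact Submodule.zero_mem _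
    | add m₁ m₂ _ _ h₁ h₂ =>
      intro i hi x hx
      have hz : ∀ m : M', (1 : A) ⊗ₜ[A'] (i • m) = 0 := fun m =>
        one_tmul_eq_zero_of_mem (Submodule.smul_mem_smul hi Submodule.mem_top)
      have hx12 : x = ⟨((0 : N), i • m₁), zero_mem φ (hz m₁)⟩
          + ⟨((0 : N), i • m₂), zero_mem φ (hz m₂)⟩ := by
        apply Subtype.ext
        rw [hx, smul_add]
        show _ = ((0 : N), i • m₁) + ((0 : N), i • m₂)
        rw [Prod.mk_add_mk, add_zero]
      rw [hx12]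
      exact Submodule.add_mem _ (h₁ i hi _ rfl) (h₂ i hi _ rfl)
    | smul a' m _ h =>
      intro i hi x hx
      apply h (i * a') (Ideal.mul_mem_right _ _ hi) x
      rw [hx, mul_smul]
  have hxm : φ ((1 : A) ⊗ₜ[B] x.1.1) = (1 : A) ⊗ₜ[A'] x.1.2 := x.2
  rw [hx, TensorProduct.tmul_zero, map_zero] at hxm
  have hz := mem_of_one_tmul_eq_zero hsq.1 hxm.symm
  have hp : ∀ z ∈ (RingHom.ker (algebraMap A' A)) • (⊤ : Submodule A' M'),
      (1 : A) ⊗ₜ[A'] z = 0 ∧ ∀ x : EtMil.glue B' φ, x.1 = ((0 : N), z) →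
        x ∈ (RingHom.ker (algebraMap B' B)) • (⊤ : Submodule B' (EtMil.glue B' φ)) := by
    intro z hz
    refine Submodule.smul_induction_on hz ?_ ?_
    · intro i hi m _
      refine ⟨one_tmul_eq_zero_of_mem (Submodule.smul_mem_smul hi Submodule.mem_top), ?_⟩
      exact hq m (by rw [span_snd hsq φ]; exact Submodule.mem_top) i hi
    · rintro z₁ z₂ ⟨h1, h1'⟩ ⟨h2, h2'⟩
      refine ⟨by rw [TensorProduct.tmul_add, h1, h2, add_zero], ?_⟩
      intro x hx
      have hx12 : x = ⟨((0 : N), z₁), zero_mem φ h1⟩ + ⟨((0 : N), z₂), zero_mem φ h2⟩ := by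
        apply Subtype.ext
        rw [hx]
        show _ = ((0 : N), z₁) + ((0 : N), z₂)
        rw [Prod.mk_add_mk, add_zero]
      rw [hx12]
      exact Submodule.add_mem _ (h1' _ rfl) (h2' _ rfl)
  exact (hp x.1.2 hz).2 x (Prod.ext hx rfl)

theorem bijective_fst (hsq : EtMil.IsFibreSquare B' B A' A) (φ : A ⊗[B] N ≃ₗ[A] A ⊗[A'] M') :
    Function.Bijective (LinearMap.liftBaseChange B (EtMil.glueFst B' φ)) := by
  constructor
  · rw [injective_iff_map_eq_zero]
    intro t ht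
    obtain ⟨x, rfl⟩ := exists_one_tmul (surj_B hsq) t
    rw [LinearMap.liftBaseChange_tmul, one_smul] at ht
    exact one_tmul_eq_zero_of_mem (mem_J_smul hsq φ x ht)
  · intro n
    obtain ⟨m', hm'⟩ := exists_snd hsq φ n
    refine ⟨(1 : B) ⊗ₜ[B'] ⟨(n, m'), hm'⟩, ?_⟩
    rw [LinearMap.liftBaseChange_tmul, one_smul]; rfl

theorem fst_eq_zero_of_mem_J_smul (φ : A ⊗[B] N ≃ₗ[A] A ⊗[A'] M')
    (y : EtMil.glue B' φ)
    (hy : y ∈ (RingHom.ker (algebraMap B' B)) • (⊤ : Submodule B' (EtMil.glue B' φ))) :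
    y.1.1 = 0 := by
  refine Submodule.smul_induction_on hy ?_ ?_
  · intro j hj x _
    show j • x.1.1 = 0
    rw [← IsScalarTower.algebraMap_smul B j x.1.1, (RingHom.mem_ker).1 hj, zero_smul]
  · intro y₁ y₂ h₁ h₂
    show y₁.1.1 + y₂.1.1 = 0
    rw [h₁, h₂, add_zero]

theorem bijective_snd (hsq : EtMil.IsFibreSquare B' B A' A) (φ : A ⊗[B] N ≃ₗ[A] A ⊗[A'] M') :
    Function.Bijective (LinearMap.liftBaseChange A' (EtMil.glueSnd B' φ)) := by
  constructor
  · have hfst := bijective_fst hsq φ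
    let ψ := LinearMap.liftBaseChange A' (EtMil.glueSnd B' φ)
    let e₃ : B ⊗[B'] (EtMil.glue B' φ) ≃ₗ[B] N := LinearEquiv.ofBijective _ hfst
    let e₁ : A ⊗[A'] (A' ⊗[B'] (EtMil.glue B' φ)) ≃ₗ[A] A ⊗[B'] (EtMil.glue B' φ) :=
      TensorProduct.AlgebraTensorModule.cancelBaseChange B' A' A A (EtMil.glue B' φ)
    let e₂ : A ⊗[B] (B ⊗[B'] (EtMil.glue B' φ)) ≃ₗ[A] A ⊗[B'] (EtMil.glue B' φ) :=
      TensorProduct.AlgebraTensorModule.cancelBaseChange B' B A A (EtMil.glue B' φ)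
    let e₄ : A ⊗[B] (B ⊗[B'] (EtMil.glue B' φ)) ≃ₗ[A] A ⊗[B] N :=
      TensorProduct.AlgebraTensorModule.congr (LinearEquiv.refl A A) e₃
    have hcomp : ∀ s : A ⊗[A'] (A' ⊗[B'] (EtMil.glue B' φ)),
        φ (e₄ (e₂.symm (e₁ s))) = ψ.baseChange A s := by
      intro s
      induction s using TensorProduct.induction_on with
      | zero => simp only [map_zero]
      | add s₁ s₂ h₁ h₂ => simp only [map_add, h₁, h₂]
      | tmul a y =>
        induction y using TensorProduct.induction_on with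
        | zero => simp only [TensorProduct.tmul_zero, map_zero]
        | add y₁ y₂ h₁ h₂ => simp only [TensorProduct.tmul_add, map_add, h₁, h₂]
        | tmul a' x =>
          show φ ((a' • a) ⊗ₜ[B] ((1 : B) • x.1.1)) = a ⊗ₜ[A'] (a' • x.1.2)
          rw [one_smul]
          have hx : φ ((1 : A) ⊗ₜ[B] x.1.1) = (1 : A) ⊗ₜ[A'] x.1.2 := x.2
          have h1 : (a' • a) ⊗ₜ[B] x.1.1 = (a' • a) • ((1 : A) ⊗ₜ[B] x.1.1) := by
            rw [TensorProduct.smul_tmul', smul_eq_mul, mul_one]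
          rw [h1, map_smul, hx, TensorProduct.smul_tmul', smul_eq_mul, mul_one,
            TensorProduct.smul_tmul]
    rw [injective_iff_map_eq_zero]
    intro t ht
    have h1 : (1 : A) ⊗ₜ[A'] t = 0 := by
      have h2 := hcomp ((1 : A) ⊗ₜ[A'] t)
      rw [LinearMap.baseChange_tmul, ht, TensorProduct.tmul_zero] at h2
      have h3 := φ.injective (h2.trans (map_zero φ).symm)
      have h4 := e₄.injective (h3.trans (map_zero e₄).symm)
      have h5 := e₂.symm.injective (h4.trans (map_zero e₂.symm).symm)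
      exact e₁.injective (h5.trans (map_zero e₁).symm)
    have h2 := mem_of_one_tmul_eq_zero hsq.1 h1
    have hYs : ∀ s : A' ⊗[B'] (EtMil.glue B' φ), ∀ i ∈ RingHom.ker (algebraMap A' A),
        ∃ y ∈ (RingHom.ker (algebraMap B' B)) • (⊤ : Submodule B' (EtMil.glue B' φ)),
          i • s = (1 : A') ⊗ₜ[B'] y := by
      intro s
      induction s using TensorProduct.induction_on with
      | zero =>
        intro i hi
        exact ⟨0, Submodule.zero_mem _, by rw [smul_zero, TensorProduct.tmul_zero]⟩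
      | tmul a' x =>
        intro i hi
        obtain ⟨j, hj0, hji⟩ := exists_J hsq (Ideal.mul_mem_right a' _ hi)
        refine ⟨j • x, Submodule.smul_mem_smul ((RingHom.mem_ker).2 hj0) Submodule.mem_top, ?_⟩
        rw [TensorProduct.smul_tmul', smul_eq_mul, ← hji, Algebra.algebraMap_eq_smul_one,
          TensorProduct.smul_tmul]
      | add s₁ s₂ h₁ h₂ =>
        intro i hi
        obtain ⟨y₁, hy₁, e₁⟩ := h₁ i hi
        obtain ⟨y₂, hy₂, e₂⟩ := h₂ i hi
        exact ⟨y₁ + y₂, Submodule.add_mem _ hy₁ hy₂,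
          by rw [smul_add, e₁, e₂, TensorProduct.tmul_add]⟩
    have hY : ∀ s ∈ (RingHom.ker (algebraMap A' A)) •
        (⊤ : Submodule A' (A' ⊗[B'] (EtMil.glue B' φ))),
        ∃ y ∈ (RingHom.ker (algebraMap B' B)) • (⊤ : Submodule B' (EtMil.glue B' φ)),
          s = (1 : A') ⊗ₜ[B'] y := by
      intro s hs
      refine Submodule.smul_induction_on hs ?_ ?_
      · intro i hi s _
        exact hYs s i hi
      · rintro s₁ s₂ ⟨y₁, hy₁, e₁⟩ ⟨y₂, hy₂, e₂⟩
        exact ⟨y₁ + y₂, Submodule.add_mem _ hy₁ hy₂, by rw [e₁, e₂, TensorProduct.tmul_add]⟩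
    obtain ⟨y, hy, rfl⟩ := hY t h2
    rw [LinearMap.liftBaseChange_tmul, one_smul] at ht
    have h0 : y = 0 := Subtype.ext (Prod.ext (fst_eq_zero_of_mem_J_smul φ y hy) ht)
    rw [h0, TensorProduct.tmul_zero]
  · rw [← LinearMap.range_eq_top, eq_top_iff, ← span_snd hsq φ, Submodule.span_le]
    rintro _ ⟨x, rfl⟩
    exact ⟨(1 : A') ⊗ₜ[B'] x, by rw [LinearMap.liftBaseChange_tmul, one_smul]⟩

end Groth.Agent.Lib.Helper8.Milnor
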