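import Mathlib
import Groth.Prelude.Def_LambdaRing

/-! Helper lemmas (helper8): generating series of the γ-operations of a λ-ring. -/

namespace Groth.Agent.Helper8

open PowerSeries Finset LambdaRing

variable {K : Type*} [CommRing K] [LambdaOps K]

/-- The series `t/(1-t) = t + t^2 + ...`. -/
noncomputable def sSer (K : Type*) [CommRing K] : PowerSeries K := X * PowerSeries.mk 1

theorem hasSubst_sSer : PowerSeries.HasSubst (sSer K) := by
  apply PowerSeries.HasSubst.of_constantCoeff_zero'
  simp [sSer]

theorem coeff_sSer_pow_succ (d k : ℕ) :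
    PowerSeries.coeff k ((sSer K) ^ (d + 1)) = if d + 1 ≤ k then ((k - 1).choose d : K) else 0 := by
  rw [sSer, mul_pow, PowerSeries.mk_one_pow_eq_mk_choose_add, PowerSeries.coeff_X_pow_mul']
  split_ifs with h
  · rw [PowerSeries.coeff_mk]
    congr 2
    omega
  · rfl

theorem coeff_sSer_pow_zero (k : ℕ) :
    PowerSeries.coeff k ((sSer K) ^ 0) = if k = 0 then 1 else 0 := by
  rw [pow_zero, PowerSeries.coeff_one]

/-- The generating series of the γ-operations. -/
noncomputable def gammaSeries (x : K) : PowerSeries K := PowerSeries.mk fun k => gamma k x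

theorem gammaSeries_eq_subst (x : K) : gammaSeries x = (lamSeries x).subst (sSer K) := by
  ext k
  rw [PowerSeries.coeff_subst' hasSubst_sSer]
  rw [finsum_eq_sum_of_support_subset (s := Finset.range (k + 1))]
  · simp only [gammaSeries, PowerSeries.coeff_mk, lamSeries, smul_eq_mul]
    unfold gamma
    rcases k with _ | k
    · simp [LambdaOps.lam_zero]
    · rw [if_neg (Nat.succ_ne_zero k)]
      refine Finset.sum_congr rfl fun j hj => ?_
      rcases j with _ | j
      · simp
      · rw [coeff_sSer_pow_succ, if_neg (Nat.succ_ne_zero j)]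
        have hj' : j + 1 ≤ k + 1 := by
          have := Finset.mem_range.mp hj; omega
        rw [if_pos hj']
        simp [mul_comm]
  · intro d hd
    rw [Function.mem_support] at hd
    rw [Finset.coe_range, Set.mem_Iio]
    by_contra hlt
    apply hd
    rcases d with _ | d
    · omega
    · rw [coeff_sSer_pow_succ, if_neg (by omega), smul_zero]

theorem lamSeries_add (x y : K) : lamSeries (x + y) = lamSeries x * lamSeries y := by
  ext k
  rw [PowerSeries.coeff_mul, Finset.Nat.sum_antidiagonal_eq_sum_range_succ_mk]
  simp only [lamSeries, PowerSeries.coeff_mk]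
  exact LambdaOps.lam_add k x y

theorem gammaSeries_add (x y : K) : gammaSeries (x + y) = gammaSeries x * gammaSeries y := by
  rw [gammaSeries_eq_subst, gammaSeries_eq_subst, gammaSeries_eq_subst, lamSeries_add,
    PowerSeries.subst_mul hasSubst_sSer]

theorem gamma_add' (k : ℕ) (x y : K) :
    gamma k (x + y) = ∑ i ∈ range (k + 1), gamma i x * gamma (k - i) y := by
  have h := congrArg (PowerSeries.coeff k) (gammaSeries_add x y)
  rw [PowerSeries.coeff_mul, Finset.Nat.sum_antidiagonal_eq_sum_range_succ_mk] at h
  simpa [gammaSeries] using h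

end Groth.Agent.Helper8
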