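import Mathlib
import Groth.Prelude.Def_LambdaRing
import Groth.Agent.Lib.Helper8.LambdaGamma

/-! Helper lemmas (helper8): line elements and splitting in λ-rings with positive structure. -/

namespace Groth.Agent.Helper8

open PowerSeries Finset LambdaRing

universe u

variable {K : Type u} [CommRing K] [LambdaOps K]

theorem constantCoeff_lamSeries (x : K) : PowerSeries.constantCoeff (lamSeries x) = 1 := by
  rw [← PowerSeries.coeff_zero_eq_constantCoeff_apply]
  simp [lamSeries, LambdaOps.lam_zero]

theorem isUnit_lamSeries (x : K) : IsUnit (lamSeries x) := by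
  rw [PowerSeries.isUnit_iff_constantCoeff, constantCoeff_lamSeries]
  exact isUnit_one

theorem lamSeries_zero : lamSeries (0 : K) = 1 := by
  have h : lamSeries (0 : K) * lamSeries (0 : K) = lamSeries (0 : K) * 1 := by
    rw [← lamSeries_add, add_zero, mul_one]
  exact (isUnit_lamSeries (0 : K)).mul_left_cancel h

theorem lamSeries_multiset_sum (s : Multiset K) :
    lamSeries s.sum = (s.map lamSeries).prod := by
  induction s using Multiset.induction_on with
  | empty => simp [lamSeries_zero]
  | cons a s ih => simp [lamSeries_add, ih]

theorem lamSeries_line (P : PosStructure K) {x : K} (hx : P.IsLine x) :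
    lamSeries x = 1 + PowerSeries.C x * PowerSeries.X := by
  ext k
  rcases k with _ | _ | k
  · simp [lamSeries, LambdaOps.lam_zero]
  · simp [lamSeries, LambdaOps.lam_one, PowerSeries.coeff_one]
  · have h1 : LambdaOps.lam (k + 1 + 1) x = 0 := by
      apply P.lam_eq_zero x hx.1
      rw [hx.2]
      push_cast
      omega
    simp only [lamSeries, PowerSeries.coeff_mk, h1, map_add, PowerSeries.coeff_one,
      PowerSeries.coeff_succ_mul_X, PowerSeries.coeff_succ_C]
    simp

theorem aug_multiset_sum_of_lines (P : PosStructure K) (s : Multiset K)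
    (hs : ∀ x ∈ s, P.IsLine x) : P.aug s.sum = (Multiset.card s : ℤ) := by
  induction s using Multiset.induction_on with
  | empty => simp
  | cons a s ih =>
    rw [Multiset.sum_cons, map_add, ih (fun x hx => hs x (Multiset.mem_cons_of_mem hx)),
      (hs a (Multiset.mem_cons_self a s)).2, Multiset.card_cons]
    push_cast
    ring

theorem map_aug_lamSeries_sum_of_lines (P : PosStructure K) (s : Multiset K)
    (hs : ∀ x ∈ s, P.IsLine x) :
    PowerSeries.map P.aug (lamSeries s.sum) = (1 + PowerSeries.X) ^ (Multiset.card s) := by
  induction s using Multiset.induction_on with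
  | empty => simp [lamSeries_zero]
  | cons a s ih =>
    rw [Multiset.sum_cons, lamSeries_add, map_mul,
      ih (fun x hx => hs x (Multiset.mem_cons_of_mem hx)),
      lamSeries_line P (hs a (Multiset.mem_cons_self a s)), Multiset.card_cons, pow_succ']
    congr 1
    simp [(hs a (Multiset.mem_cons_self a s)).2]

theorem coeff_one_add_X_pow (R : Type*) [CommRing R] (n k : ℕ) :
    PowerSeries.coeff k ((1 + PowerSeries.X : PowerSeries R) ^ n) = (n.choose k : R) := by
  have h : ((1 + PowerSeries.X : PowerSeries R) ^ n) =
      (((1 + Polynomial.X : Polynomial R) ^ n : Polynomial R) : PowerSeries R) := by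
    simp
  rw [h, Polynomial.coeff_coe, Polynomial.coeff_one_add_X_pow]

theorem aug_lam_sum_of_lines (P : PosStructure K) (s : Multiset K)
    (hs : ∀ x ∈ s, P.IsLine x) (i : ℕ) :
    P.aug (LambdaOps.lam i s.sum) = ((Multiset.card s).choose i : ℤ) := by
  have h := congrArg (PowerSeries.coeff i) (map_aug_lamSeries_sum_of_lines P s hs)
  rw [PowerSeries.coeff_map, coeff_one_add_X_pow] at h
  simpa [lamSeries] using h

end Groth.Agent.Helper8
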