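import Mathlib
import Groth.Prelude.Def_LambdaRing
import Groth.Agent.Lib.Helper8.LambdaSplit

/-! Helper lemmas (helper8): Adams operations of λ-rings with positive structure. -/

namespace Groth.Agent.Helper8

open PowerSeries Finset LambdaRing

universe u

section general

theorem eq_invOfUnit_of_mul_eq_one {R : Type*} [CommRing R] (φ ψ : PowerSeries R)
    (h0 : PowerSeries.constantCoeff φ = ((1 : Rˣ) : R)) (h : φ * ψ = 1) :
    ψ = φ.invOfUnit 1 := by
  have h1 := PowerSeries.mul_invOfUnit φ 1 h0
  calc ψ = ψ * (φ * φ.invOfUnit 1) := by rw [h1, mul_one]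
    _ = (φ * ψ) * φ.invOfUnit 1 := by ring
    _ = φ.invOfUnit 1 := by rw [h, one_mul]

end general

variable {K : Type u} [CommRing K] [LambdaOps K]

/-- The series `λ_{-t}(x)`. -/
noncomputable def negLam (x : K) : PowerSeries K := PowerSeries.rescale (-1 : K) (lamSeries x)

theorem constantCoeff_negLam (x : K) :
    PowerSeries.constantCoeff (negLam x) = ((1 : Kˣ) : K) := by
  rw [← PowerSeries.coeff_zero_eq_constantCoeff_apply, negLam, PowerSeries.coeff_rescale]
  simp [lamSeries, LambdaOps.lam_zero]

theorem negLam_add (x y : K) : negLam (x + y) = negLam x * negLam y := by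
  rw [negLam, lamSeries_add, map_mul]
  rfl

theorem negLam_mul_inv (x : K) : negLam x * (negLam x).invOfUnit 1 = 1 :=
  PowerSeries.mul_invOfUnit _ 1 (constantCoeff_negLam x)

theorem adamsSeries_eq (P : PosStructure K) (x : K) :
    adamsSeries P x = PowerSeries.C (P.aug x : K) -
      PowerSeries.X * (PowerSeries.derivative K (negLam x)) * (negLam x).invOfUnit 1 := rfl

theorem invOfUnit_negLam_add (x y : K) :
    (negLam (x + y)).invOfUnit 1 = (negLam x).invOfUnit 1 * (negLam y).invOfUnit 1 := by
  symm
  apply eq_invOfUnit_of_mul_eq_one _ _ (constantCoeff_negLam _)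
  rw [negLam_add]
  calc negLam x * negLam y * ((negLam x).invOfUnit 1 * (negLam y).invOfUnit 1)
      = (negLam x * (negLam x).invOfUnit 1) * (negLam y * (negLam y).invOfUnit 1) := by ring
    _ = 1 := by rw [negLam_mul_inv, negLam_mul_inv, one_mul]

theorem adamsSeries_add (P : PosStructure K) (x y : K) :
    adamsSeries P (x + y) = adamsSeries P x + adamsSeries P y := by
  rw [adamsSeries_eq, adamsSeries_eq, adamsSeries_eq, invOfUnit_negLam_add, negLam_add,
    Derivation.leibniz, map_add]
  push_cast
  rw [map_add]
  have hx := negLam_mul_inv x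
  have hy := negLam_mul_inv y
  simp only [smul_eq_mul]
  linear_combination
    (-(PowerSeries.X * PowerSeries.derivative K (negLam y) * (negLam y).invOfUnit 1)) * hx +
    (-(PowerSeries.X * PowerSeries.derivative K (negLam x) * (negLam x).invOfUnit 1)) * hy

theorem adams_add (P : PosStructure K) (j : ℕ) (x y : K) :
    adams P j (x + y) = adams P j x + adams P j y := by
  unfold adams
  rw [adamsSeries_add, map_add]

theorem adams_zero (P : PosStructure K) (j : ℕ) : adams P j (0 : K) = 0 := by
  have h := adams_add P j (0 : K) 0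
  rw [add_zero] at h
  exact left_eq_add.mp h

/-- The Adams operation as an additive map. -/
noncomputable def adamsHom (P : PosStructure K) (j : ℕ) : K →+ K where
  toFun := adams P j
  map_zero' := adams_zero P j
  map_add' := adams_add P j

theorem adamsHom_apply (P : PosStructure K) (j : ℕ) (x : K) : adamsHom P j x = adams P j x := rfl

theorem adams_neg (P : PosStructure K) (j : ℕ) (x : K) : adams P j (-x) = -adams P j x :=
  (adamsHom P j).map_neg x

theorem adams_sub (P : PosStructure K) (j : ℕ) (x y : K) :
    adams P j (x - y) = adams P j x - adams P j y :=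
  (adamsHom P j).map_sub x y

theorem negLam_line (P : PosStructure K) {x : K} (hx : P.IsLine x) :
    negLam x = 1 - PowerSeries.C x * PowerSeries.X := by
  rw [negLam, lamSeries_line P hx]
  ext k
  rw [PowerSeries.coeff_rescale]
  rcases k with _ | _ | k
  · simp
  · simp [PowerSeries.coeff_one]
  · simp only [map_add, map_sub, PowerSeries.coeff_one, PowerSeries.coeff_succ_mul_X,
      PowerSeries.coeff_succ_C]
    simp

theorem geom_mul (x : K) :
    (1 - PowerSeries.C x * PowerSeries.X) * PowerSeries.mk (fun k => x ^ k) = 1 := by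
  ext k
  rw [sub_mul, one_mul, mul_assoc, map_sub, PowerSeries.coeff_C_mul]
  rcases k with _ | k
  · simp
  · rw [PowerSeries.coeff_succ_X_mul, PowerSeries.coeff_mk, PowerSeries.coeff_mk,
      PowerSeries.coeff_one]
    simp [pow_succ']

theorem adamsSeries_line (P : PosStructure K) {x : K} (hx : P.IsLine x) :
    adamsSeries P x = PowerSeries.mk (fun k => x ^ k) := by
  have hinv : (negLam x).invOfUnit 1 = PowerSeries.mk (fun k => x ^ k) := by
    symm
    apply eq_invOfUnit_of_mul_eq_one _ _ (constantCoeff_negLam _)
    rw [negLam_line P hx, geom_mul]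
  have hder : PowerSeries.derivative K (negLam x) = - PowerSeries.C x := by
    rw [negLam_line P hx, map_sub, Derivation.leibniz]
    simp
  rw [adamsSeries_eq, hinv, hder, hx.2, Int.cast_one, map_one]
  have h := geom_mul x
  linear_combination (-1 : PowerSeries K) * h

theorem adams_line (P : PosStructure K) {x : K} (hx : P.IsLine x) (j : ℕ) :
    adams P j x = x ^ j := by
  unfold adams
  rw [adamsSeries_line P hx, PowerSeries.coeff_mk]

theorem isLine_one (P : PosStructure K) : P.IsLine (1 : K) := by
  refine ⟨?_, map_one _⟩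
  have := P.natCast_mem 1 Nat.one_pos
  simpa using this

theorem IsLine.mul (P : PosStructure K) {x y : K} (hx : P.IsLine x) (hy : P.IsLine y) :
    P.IsLine (x * y) :=
  ⟨P.mul_mem x y hx.1 hy.1, by rw [map_mul, hx.2, hy.2, one_mul]⟩

theorem IsLine.pow (P : PosStructure K) {x : K} (hx : P.IsLine x) (j : ℕ) :
    P.IsLine (x ^ j) := by
  induction j with
  | zero => simpa using isLine_one P
  | succ j ih => rw [pow_succ]; exact IsLine.mul P ih hx

/-- The additive subgroup generated by line elements. -/
def lineSpan (P : PosStructure K) : AddSubgroup K := AddSubgroup.closure {x | P.IsLine x}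

theorem adams_mul_of_mem_lineSpan (P : PosStructure K) (j : ℕ) {x y : K}
    (hx : x ∈ lineSpan P) (hy : y ∈ lineSpan P) :
    adams P j (x * y) = adams P j x * adams P j y := by
  have key : ∀ b : K, P.IsLine b → ∀ x ∈ lineSpan P,
      adams P j (x * b) = adams P j x * adams P j b := by
    intro b hb x hx
    induction hx using AddSubgroup.closure_induction with
    | mem a ha =>
      rw [adams_line P (IsLine.mul P ha hb), adams_line P ha, adams_line P hb, mul_pow]
    | zero => simp [adams_zero]
    | add a c _ _ iha ihc => rw [add_mul, adams_add, adams_add, iha, ihc, add_mul]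
    | neg a _ iha => rw [neg_mul, adams_neg, adams_neg, iha, neg_mul]
  induction hy using AddSubgroup.closure_induction with
  | mem b hb => exact key b hb x hx
  | zero => simp [adams_zero]
  | add a c _ _ iha ihc => rw [mul_add, adams_add, adams_add, iha, ihc, mul_add]
  | neg a _ iha => rw [mul_neg, adams_neg, adams_neg, iha, mul_neg]

theorem adams_adams_of_mem_lineSpan (P : PosStructure K) (i j : ℕ) {x : K}
    (hx : x ∈ lineSpan P) :
    adams P i (adams P j x) = adams P (i * j) x := by
  induction hx using AddSubgroup.closure_induction with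
  | mem a ha =>
    rw [adams_line P ha, adams_line P (IsLine.pow P ha j), adams_line P ha, ← pow_mul, mul_comm]
  | zero => simp [adams_zero]
  | add a c _ _ iha ihc => rw [adams_add, adams_add, adams_add, iha, ihc]
  | neg a _ iha => rw [adams_neg, adams_neg, adams_neg, iha]

section ext

variable {K' : Type u} [CommRing K'] [LambdaOps K']
variable {K'' : Type u} [CommRing K''] [LambdaOps K'']

theorem map_lamSeries (f : K →+* K') (hf : IsLambdaHom f) (x : K) :
    PowerSeries.map f (lamSeries x) = lamSeries (f x) := by
  ext n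
  simp [lamSeries, hf n x]

theorem map_negLam (f : K →+* K') (hf : IsLambdaHom f) (x : K) :
    PowerSeries.map f (negLam x) = negLam (f x) := by
  ext n
  rw [negLam, negLam, PowerSeries.coeff_map, PowerSeries.coeff_rescale, PowerSeries.coeff_rescale,
    ← map_lamSeries f hf, PowerSeries.coeff_map]
  simp

theorem map_derivative (f : K →+* K') (φ : PowerSeries K) :
    PowerSeries.map f (PowerSeries.derivative K φ) =
      PowerSeries.derivative K' (PowerSeries.map f φ) := by
  ext n
  rw [PowerSeries.coeff_map, PowerSeries.coeff_derivative, PowerSeries.coeff_derivative,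
    PowerSeries.coeff_map]
  simp

theorem map_adamsSeries {P : PosStructure K} {P' : PosStructure K'} {f : K →+* K'}
    (hf : IsExtension P P' f) (x : K) :
    PowerSeries.map f (adamsSeries P x) = adamsSeries P' (f x) := by
  have hinv : PowerSeries.map f ((negLam x).invOfUnit 1) = (negLam (f x)).invOfUnit 1 := by
    apply eq_invOfUnit_of_mul_eq_one _ _ (constantCoeff_negLam _)
    rw [← map_negLam f hf.isLambdaHom, ← map_mul, negLam_mul_inv, map_one]
  rw [adamsSeries_eq, adamsSeries_eq, map_sub, map_mul, map_mul, hinv, map_derivative,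
    map_negLam f hf.isLambdaHom, PowerSeries.map_X, PowerSeries.map_C, map_intCast, hf.aug_comp]

theorem adams_map {P : PosStructure K} {P' : PosStructure K'} {f : K →+* K'}
    (hf : IsExtension P P' f) (j : ℕ) (x : K) :
    f (adams P j x) = adams P' j (f x) := by
  unfold adams
  rw [← map_adamsSeries hf, PowerSeries.coeff_map]

theorem isExtension_isLine {P : PosStructure K} {P' : PosStructure K'} {f : K →+* K'}
    (hf : IsExtension P P' f) {x : K} (hx : P.IsLine x) : P'.IsLine (f x) :=
  ⟨hf.pos_subset x hx.1, by rw [hf.aug_comp, hx.2]⟩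

theorem isExtension_comp {P : PosStructure K} {P' : PosStructure K'} {P'' : PosStructure K''}
    {f : K →+* K'} {g : K' →+* K''}
    (hf : IsExtension P P' f) (hg : IsExtension P' P'' g) : IsExtension P P'' (g.comp f) where
  isLambdaHom := fun i x => by
    rw [RingHom.comp_apply, RingHom.comp_apply, hf.isLambdaHom, hg.isLambdaHom]
  injective := hg.injective.comp hf.injective
  aug_comp := fun x => by rw [RingHom.comp_apply, hg.aug_comp, hf.aug_comp]
  pos_subset := fun e he => hg.pos_subset _ (hf.pos_subset e he)

theorem isExtension_map_lineSpan {P : PosStructure K} {P' : PosStructure K'} {f : K →+* K'}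
    (hf : IsExtension P P' f) {x : K} (hx : x ∈ lineSpan P) : f x ∈ lineSpan P' := by
  induction hx using AddSubgroup.closure_induction with
  | mem a ha => exact AddSubgroup.subset_closure (isExtension_isLine hf ha)
  | zero => rw [map_zero]; exact zero_mem _
  | add a c _ _ iha ihc => rw [map_add]; exact add_mem iha ihc
  | neg a _ iha => rw [map_neg]; exact neg_mem iha

end ext

theorem multiset_sum_mem_lineSpan (P : PosStructure K) (s : Multiset K)
    (hs : ∀ x ∈ s, P.IsLine x) : s.sum ∈ lineSpan P :=
  AddSubgroup.multiset_sum_mem _ _ (fun x hx => AddSubgroup.subset_closure (hs x hx))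

/-- The splitting hypothesis, for a class of λ-rings. -/
def SplitClass (C : Set PosLambdaRing.{u}) : Prop :=
  ∀ L ∈ C, ∀ e ∈ L.posStr.pos, ∃ L' ∈ C, ∃ f : L.carrier →+* L'.carrier,
      IsExtension L.posStr L'.posStr f ∧
      ∃ s : Multiset L'.carrier, (∀ x ∈ s, L'.posStr.IsLine x) ∧ s.sum = f e

theorem exists_split (C : Set PosLambdaRing.{u}) (hC : SplitClass C)
    (L : PosLambdaRing.{u}) (hL : L ∈ C) (x : L.carrier) :
    ∃ L' ∈ C, ∃ f : L.carrier →+* L'.carrier, IsExtension L.posStr L'.posStr f ∧
      f x ∈ lineSpan L'.posStr := by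
  obtain ⟨e, e', he, he', rfl⟩ := L.posStr.exists_sub x
  obtain ⟨L1, hL1, f1, hf1, s1, hs1, hsum1⟩ := hC L hL e he
  obtain ⟨L2, hL2, f2, hf2, s2, hs2, hsum2⟩ := hC L1 hL1 (f1 e') (hf1.pos_subset e' he')
  refine ⟨L2, hL2, f2.comp f1, isExtension_comp hf1 hf2, ?_⟩
  rw [map_sub, RingHom.comp_apply, RingHom.comp_apply, ← hsum2, ← hsum1]
  exact sub_mem (isExtension_map_lineSpan hf2 (multiset_sum_mem_lineSpan _ s1 hs1))
    (multiset_sum_mem_lineSpan _ s2 hs2)

theorem exists_split₂ (C : Set PosLambdaRing.{u}) (hC : SplitClass C)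
    (L : PosLambdaRing.{u}) (hL : L ∈ C) (x y : L.carrier) :
    ∃ L' ∈ C, ∃ f : L.carrier →+* L'.carrier, IsExtension L.posStr L'.posStr f ∧
      f x ∈ lineSpan L'.posStr ∧ f y ∈ lineSpan L'.posStr := by
  obtain ⟨L1, hL1, f1, hf1, hx1⟩ := exists_split C hC L hL x
  obtain ⟨L2, hL2, f2, hf2, hy2⟩ := exists_split C hC L1 hL1 (f1 y)
  exact ⟨L2, hL2, f2.comp f1, isExtension_comp hf1 hf2, isExtension_map_lineSpan hf2 hx1, hy2⟩

end Groth.Agent.Helper8
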