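import Mathlib
import Groth.Prelude.Def_LambdaRing
import Groth.Agent.Lib.Helper8.LambdaGamma
import Groth.Agent.Lib.Helper8.LambdaSplit

/-! Helper lemmas (helper8): more on the generating series of the γ-operations. -/

namespace Groth.Agent.Helper8

open PowerSeries Finset LambdaRing

universe u

variable {K : Type u} [CommRing K] [LambdaOps K]

theorem constantCoeff_gammaSeries (x : K) : PowerSeries.constantCoeff (gammaSeries x) = 1 := by
  rw [← PowerSeries.coeff_zero_eq_constantCoeff_apply]
  simp [gammaSeries, gamma]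

theorem isUnit_gammaSeries (x : K) : IsUnit (gammaSeries x) := by
  rw [PowerSeries.isUnit_iff_constantCoeff, constantCoeff_gammaSeries]
  exact isUnit_one

theorem gammaSeries_zero : gammaSeries (0 : K) = 1 := by
  have h : gammaSeries (0 : K) * gammaSeries (0 : K) = gammaSeries (0 : K) * 1 := by
    rw [← gammaSeries_add, add_zero, mul_one]
  exact (isUnit_gammaSeries (0 : K)).mul_left_cancel h

theorem gammaSeries_natCast_mul (x : K) (n : ℕ) :
    gammaSeries ((n : K) * x) = (gammaSeries x) ^ n := by
  induction n with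
  | zero => simp [gammaSeries_zero]
  | succ n ih => rw [Nat.cast_succ, add_mul, one_mul, gammaSeries_add, ih, pow_succ]

theorem sSer_mul_one_sub : sSer K * (1 - PowerSeries.X) = PowerSeries.X := by
  rw [sSer, mul_assoc, PowerSeries.mk_one_mul_one_sub_eq_one, mul_one]

theorem lamSeries_eq_coe_of_vanish (x : K) (m : ℕ) (h : ∀ i, m < i → LambdaOps.lam i x = 0) :
    lamSeries x = ((∑ i ∈ range (m + 1), Polynomial.C (LambdaOps.lam i x) * Polynomial.X ^ i :
      Polynomial K) : PowerSeries K) := by
  ext k
  rw [Polynomial.coeff_coe, Polynomial.finset_sum_coeff]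
  simp only [lamSeries, PowerSeries.coeff_mk, Polynomial.coeff_C_mul_X_pow]
  by_cases hk : k < m + 1
  · rw [Finset.sum_eq_single k]
    · simp
    · intro b _ hb
      rw [if_neg (Ne.symm hb)]
    · intro hk'
      exact absurd (Finset.mem_range.mpr hk) hk'
  · rw [h k (by omega), Finset.sum_eq_zero]
    intro b hb
    have := Finset.mem_range.mp hb
    rw [if_neg (by omega)]

theorem gammaSeries_eq_sum_of_vanish (x : K) (m : ℕ) (h : ∀ i, m < i → LambdaOps.lam i x = 0) :
    gammaSeries x = ∑ i ∈ range (m + 1), PowerSeries.C (LambdaOps.lam i x) * (sSer K) ^ i := by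
  rw [gammaSeries_eq_subst, lamSeries_eq_coe_of_vanish x m h, PowerSeries.subst_coe hasSubst_sSer,
    map_sum]
  refine Finset.sum_congr rfl fun i _ => ?_
  rw [map_mul, map_pow, Polynomial.aeval_C, Polynomial.aeval_X]
  rfl

theorem gammaSeries_one (P : PosStructure K) : gammaSeries (1 : K) = PowerSeries.mk 1 := by
  have hline : P.IsLine (1 : K) := by
    refine ⟨?_, map_one _⟩
    have := P.natCast_mem 1 Nat.one_pos
    simpa using this
  have hv : ∀ i, 1 < i → LambdaOps.lam i (1 : K) = 0 := by
    intro i hi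
    apply P.lam_eq_zero 1 hline.1
    rw [hline.2]
    exact_mod_cast hi
  rw [gammaSeries_eq_sum_of_vanish 1 1 hv]
  simp only [Finset.sum_range_succ, Finset.range_zero, Finset.sum_empty, zero_add, pow_zero,
    mul_one, pow_one, LambdaOps.lam_zero, LambdaOps.lam_one, map_one, one_mul]
  have h := PowerSeries.mk_one_mul_one_sub_eq_one K
  have h2 : PowerSeries.mk (1 : ℕ → K) = 1 + sSer K := by
    rw [sSer]
    linear_combination h
  rw [h2]

theorem gammaSeries_natCast_mul_one_sub_pow (P : PosStructure K) (n : ℕ) :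
    gammaSeries (n : K) * (1 - PowerSeries.X) ^ n = 1 := by
  have h := gammaSeries_natCast_mul (1 : K) n
  rw [mul_one] at h
  rw [h, gammaSeries_one P, ← mul_pow, PowerSeries.mk_one_mul_one_sub_eq_one, one_pow]

/-- The polynomial `Σ λ^i(e) t^i (1-t)^(m-i)`. -/
noncomputable def gammaPoly (e : K) (m : ℕ) : Polynomial K :=
  ∑ i ∈ range (m + 1), Polynomial.C (LambdaOps.lam i e) * Polynomial.X ^ i *
    (1 - Polynomial.X) ^ (m - i)

theorem gammaSeries_sub_natCast (P : PosStructure K) (e : K) (m : ℕ)
    (h : ∀ i, m < i → LambdaOps.lam i e = 0) :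
    gammaSeries (e - (m : K)) = ((gammaPoly e m : Polynomial K) : PowerSeries K) := by
  have h1 : gammaSeries (e - (m : K)) * gammaSeries (m : K) = gammaSeries e := by
    rw [← gammaSeries_add, sub_add_cancel]
  have h2 := gammaSeries_natCast_mul_one_sub_pow P m
  have h3 : gammaSeries (e - (m : K)) = gammaSeries e * (1 - PowerSeries.X) ^ m := by
    rw [← h1, mul_assoc, h2, mul_one]
  rw [h3, gammaSeries_eq_sum_of_vanish e m h, Finset.sum_mul, gammaPoly,
    ← Polynomial.coeToPowerSeries.ringHom_apply, map_sum]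
  refine Finset.sum_congr rfl fun i hi => ?_
  have hi' : i ≤ m := Nat.lt_succ_iff.mp (Finset.mem_range.mp hi)
  rw [Polynomial.coeToPowerSeries.ringHom_apply, Polynomial.coe_mul, Polynomial.coe_mul,
    Polynomial.coe_pow, Polynomial.coe_pow, Polynomial.coe_C, Polynomial.coe_X, Polynomial.coe_sub,
    Polynomial.coe_one, Polynomial.coe_X]
  have h4 : (1 - PowerSeries.X : PowerSeries K) ^ m =
      (1 - PowerSeries.X) ^ i * (1 - PowerSeries.X) ^ (m - i) := by
    rw [← pow_add]
    congr 1
    omega
  have h5 : (sSer K) ^ i * (1 - PowerSeries.X : PowerSeries K) ^ i = PowerSeries.X ^ i := by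
    rw [← mul_pow, sSer_mul_one_sub]
  rw [h4]
  linear_combination (PowerSeries.C (LambdaOps.lam i e) * (1 - PowerSeries.X) ^ (m - i)) * h5

theorem gamma_sub_natCast (P : PosStructure K) (e : K) (m : ℕ)
    (h : ∀ i, m < i → LambdaOps.lam i e = 0) (k : ℕ) :
    gamma k (e - (m : K)) = (gammaPoly e m).coeff k := by
  have h1 := congrArg (PowerSeries.coeff k) (gammaSeries_sub_natCast P e m h)
  rw [Polynomial.coeff_coe] at h1
  rw [← h1]
  simp [gammaSeries]

end Groth.Agent.Helper8
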