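import Mathlib

/-!
# Abhyankar's inequality (helper8)
-/

set_option autoImplicit false
universe u

namespace Groth.Agent.Helper8.Abhyankar

open Valuation IsLocalRing

section Ultra
variable {L Γ : Type*} [Field L] [LinearOrderedCommGroupWithZero Γ] (v : Valuation L Γ)

/-- A finite sum of nonzero elements with pairwise distinct valuations is nonzero. -/
lemma sum_ne_zero_of_injOn {ι : Type*} [DecidableEq ι] (S : Finset ι) (f : ι → L) (hS : S.Nonempty)
    (hne : ∀ i ∈ S, f i ≠ 0) (hinj : ∀ i ∈ S, ∀ j ∈ S, v (f i) = v (f j) → i = j) :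
    ∑ i ∈ S, f i ≠ 0 := by
  obtain ⟨i₀, hi₀, hmax⟩ := S.exists_max_image (fun i => v (f i)) hS
  rw [← Finset.add_sum_erase S f hi₀]
  have h0 : v (f i₀) ≠ 0 := (v.ne_zero_iff).mpr (hne i₀ hi₀)
  have hlt : v (∑ i ∈ S.erase i₀, f i) < v (f i₀) := by
    apply v.map_sum_lt h0
    intro i hi
    have hiS := Finset.mem_of_mem_erase hi
    refine lt_of_le_of_ne (hmax i hiS) (fun h => ?_)
    exact (Finset.ne_of_mem_erase hi) (hinj i hiS i₀ hi₀ h)
  intro h
  have h1 := v.map_add_eq_of_lt_left hlt
  rw [h, map_zero] at h1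
  exact h0 h1.symm
end Ultra

section Gauss

variable {K L Γ₀ Γ₁ : Type u} [Field K] [Field L] [Algebra K L]
    [LinearOrderedCommGroupWithZero Γ₀] [LinearOrderedCommGroupWithZero Γ₁]
    (vK : Valuation K Γ₀) (vL : Valuation L Γ₁) [vK.HasExtension vL]
variable {t : Type u} (y : t → vL.valuationSubring)

/-- compatibility of evaluation with the residue maps -/
lemma residue_aeval (q : MvPolynomial t vK.valuationSubring) :
    residue vL.valuationSubring (MvPolynomial.aeval y q) =
      MvPolynomial.aeval (fun j => residue vL.valuationSubring (y j))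
        (MvPolynomial.map (residue vK.valuationSubring) q) := by
  induction q using MvPolynomial.induction_on with
  | C a =>
    simp only [MvPolynomial.aeval_C, MvPolynomial.map_C]
    rfl
  | add p q hp hq => simp only [map_add, hp, hq]
  | mul_X p j hp => simp only [map_mul, hp, MvPolynomial.aeval_X, MvPolynomial.map_X]

/-- compatibility of evaluation with the inclusions into the fields -/
lemma coe_aeval (q : MvPolynomial t vK.valuationSubring) :
    ((MvPolynomial.aeval y q : vL.valuationSubring) : L) =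
      MvPolynomial.aeval (fun j => ((y j : vL.valuationSubring) : L))
        (MvPolynomial.map vK.valuationSubring.subtype q) := by
  induction q using MvPolynomial.induction_on with
  | C a =>
    simp only [MvPolynomial.aeval_C, MvPolynomial.map_C]
    rfl
  | add p q hp hq =>
    rw [map_add, map_add, map_add, ← hp, ← hq]
    rfl
  | mul_X p j hp =>
    rw [map_mul, map_mul, map_mul, ← hp, MvPolynomial.aeval_X, MvPolynomial.map_X, MvPolynomial.aeval_X]
    rfl


lemma val_eq_one_of_isUnit (w : vL.valuationSubring) (hw : IsUnit w) : vL (w : L) = 1 := by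
  obtain ⟨u, rfl⟩ := hw
  have h1 : vL ((u : vL.valuationSubring) : L) ≤ 1 := (Valuation.mem_valuationSubring_iff _ _).mp (u : vL.valuationSubring).2
  have h2 : vL (((u⁻¹ : (vL.valuationSubring)ˣ) : vL.valuationSubring) : L) ≤ 1 :=
    (Valuation.mem_valuationSubring_iff _ _).mp ((u⁻¹ : (vL.valuationSubring)ˣ) : vL.valuationSubring).2
  have h3 : vL ((u : vL.valuationSubring) : L) * vL (((u⁻¹ : (vL.valuationSubring)ˣ) : vL.valuationSubring) : L) = 1 := by
    rw [← map_mul, ← MulMemClass.coe_mul, ← Units.val_mul, mul_inv_cancel]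
    simp
  apply le_antisymm h1
  calc (1 : Γ₁) = vL ((u : vL.valuationSubring) : L) * vL (((u⁻¹ : (vL.valuationSubring)ˣ) : vL.valuationSubring) : L) := h3.symm
    _ ≤ vL ((u : vL.valuationSubring) : L) * 1 := by gcongr
    _ = _ := mul_one _

lemma gauss (hy : AlgebraicIndependent (ResidueField vK.valuationSubring)
      (fun j => residue vL.valuationSubring (y j)))
    (q : MvPolynomial t K) (hq : q ≠ 0) :
    ∃ c : K, c ≠ 0 ∧ vL (MvPolynomial.aeval (fun j => ((y j : vL.valuationSubring) : L)) q) =
      vL (algebraMap K L c) := by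
  classical
  have hsupp : q.support.Nonempty := by
    rw [Finset.nonempty_iff_ne_empty, Ne, MvPolynomial.support_eq_empty]; exact hq
  obtain ⟨d₀, hd₀, hmax⟩ := q.support.exists_max_image (fun d => vK (q.coeff d)) hsupp
  set c := q.coeff d₀ with hc_def
  have hc : c ≠ 0 := MvPolynomial.mem_support_iff.mp hd₀
  have hvc : vK c ≠ 0 := (vK.ne_zero_iff).mpr hc
  have hcoef : ∀ d, c⁻¹ * q.coeff d ∈ vK.valuationSubring := by
    intro d
    rw [Valuation.mem_valuationSubring_iff]
    by_cases hd : d ∈ q.support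
    · rw [map_mul, map_inv₀]
      have := hmax d hd
      rw [inv_mul_le_iff₀ (zero_lt_iff.mpr hvc), mul_one]
      exact this
    · rw [MvPolynomial.notMem_support_iff.mp hd, mul_zero, map_zero]
      exact zero_le_one
  let qt : MvPolynomial t vK.valuationSubring :=
    ∑ d ∈ q.support, MvPolynomial.monomial d (⟨c⁻¹ * q.coeff d, hcoef d⟩ : vK.valuationSubring)
  have hqt_coeff : ∀ d, qt.coeff d = (⟨c⁻¹ * q.coeff d, hcoef d⟩ : vK.valuationSubring) := by
    intro d
    simp only [qt, MvPolynomial.coeff_sum, MvPolynomial.coeff_monomial]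
    rw [Finset.sum_ite_eq' q.support d]
    split_ifs with hd
    · rfl
    · apply Subtype.ext
      change (0 : K) = c⁻¹ * q.coeff d
      rw [MvPolynomial.notMem_support_iff.mp hd, mul_zero]
  have hmap : MvPolynomial.map vK.valuationSubring.subtype qt = MvPolynomial.C c⁻¹ * q := by
    ext d
    rw [MvPolynomial.coeff_map, MvPolynomial.coeff_C_mul, hqt_coeff]
    rfl
  have hqbar : MvPolynomial.map (residue vK.valuationSubring) qt ≠ 0 := by
    intro h
    have h1 := congrArg (MvPolynomial.coeff d₀) h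
    rw [MvPolynomial.coeff_map, hqt_coeff, MvPolynomial.coeff_zero] at h1
    have h2 : (⟨c⁻¹ * q.coeff d₀, hcoef d₀⟩ : vK.valuationSubring) = 1 := by
      apply Subtype.ext
      change c⁻¹ * c = 1
      exact inv_mul_cancel₀ hc
    rw [h2, map_one] at h1
    exact one_ne_zero h1
  have h1 : MvPolynomial.aeval (fun j => residue vL.valuationSubring (y j))
      (MvPolynomial.map (residue vK.valuationSubring) qt) ≠ 0 := fun h =>
    hqbar ((injective_iff_map_eq_zero _).mp hy _ h)
  rw [← residue_aeval] at h1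
  have hunit : IsUnit (MvPolynomial.aeval y qt) := (IsLocalRing.residue_ne_zero_iff_isUnit _).mp h1
  have hw := val_eq_one_of_isUnit vL _ hunit
  rw [coe_aeval, hmap, map_mul, MvPolynomial.aeval_C, map_mul] at hw
  refine ⟨c, hc, ?_⟩
  have h2 : vL (algebraMap K L c) * vL (algebraMap K L c⁻¹) = 1 := by
    rw [← map_mul, ← map_mul, mul_inv_cancel₀ hc, map_one, map_one]
  calc vL (MvPolynomial.aeval (fun j => ((y j : vL.valuationSubring) : L)) q)
      = (vL (algebraMap K L c) * vL (algebraMap K L c⁻¹)) *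
          vL (MvPolynomial.aeval (fun j => ((y j : vL.valuationSubring) : L)) q) := by
        rw [h2, one_mul]
    _ = vL (algebraMap K L c) := by rw [mul_assoc, hw, mul_one]

end Gauss

section ValueGroup

variable {K L Γ₁ : Type u} [Field K] [Field L] [Algebra K L]
    [LinearOrderedCommGroupWithZero Γ₁] (vL : Valuation L Γ₁)

variable (K) in
noncomputable abbrev HH : Subgroup Lˣ :=
  vL.valuationSubring.unitGroup ⊔ (Units.map (algebraMap K L).toMonoidHom).range

variable {s : Type u} (x : s → Lˣ)

/-- the monomial in the `x i` with exponent vector `a` -/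
noncomputable def PP (a : s →₀ ℕ) : Lˣ := ∏ i ∈ a.support, x i ^ a i

lemma coe_PP (a : s →₀ ℕ) : ((PP x a : Lˣ) : L) = ∏ i ∈ a.support, ((x i : Lˣ) : L) ^ a i := by
  simp [PP, Units.coe_prod]

lemma mk_PP (a : s →₀ ℕ) :
    (QuotientAddGroup.mk (Additive.ofMul (PP x a)) :
      Additive Lˣ ⧸ Subgroup.toAddSubgroup (HH K vL)) =
    Finsupp.linearCombination ℕ (fun i => (QuotientAddGroup.mk (Additive.ofMul (x i)) :
      Additive Lˣ ⧸ Subgroup.toAddSubgroup (HH K vL))) a := by
  rw [Finsupp.linearCombination_apply, Finsupp.sum, PP, ofMul_prod]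
  change QuotientAddGroup.mk' _ _ = _
  rw [map_sum]
  refine Finset.sum_congr rfl (fun i _ => ?_)
  rw [ofMul_pow, map_nsmul]
  rfl

variable (hx : LinearIndependent ℤ (fun i => (QuotientAddGroup.mk (Additive.ofMul (x i)) :
      Additive Lˣ ⧸ Subgroup.toAddSubgroup (HH K vL))))

include hx in
lemma inj_PP (a a' : s →₀ ℕ) (hmem : (PP x a)⁻¹ * PP x a' ∈ HH K vL) : a = a' := by
  have h1 : (QuotientAddGroup.mk (Additive.ofMul (PP x a)) :
      Additive Lˣ ⧸ Subgroup.toAddSubgroup (HH K vL)) =
      QuotientAddGroup.mk (Additive.ofMul (PP x a')) := by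
    rw [QuotientAddGroup.eq]
    exact hmem
  rw [mk_PP, mk_PP] at h1
  exact (hx.restrict_scalars' ℕ) h1

include hx in
theorem VG (B : Subalgebra K L)
    (hB : ∀ b : B, b ≠ 0 → ∃ c : K, c ≠ 0 ∧ vL (b : L) = vL (algebraMap K L c)) :
    AlgebraicIndependent B (fun i => ((x i : Lˣ) : L)) := by
  classical
  rw [AlgebraicIndependent, injective_iff_map_eq_zero]
  intro p hp
  by_contra hne
  have hsupp : p.support.Nonempty := by
    rw [Finset.nonempty_iff_ne_empty, Ne, MvPolynomial.support_eq_empty]; exact hne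
  rw [MvPolynomial.aeval_def, MvPolynomial.eval₂_eq] at hp
  refine sum_ne_zero_of_injOn vL p.support _ hsupp ?_ ?_ hp
  · intro a ha
    refine mul_ne_zero ?_ ?_
    · intro h
      exact (MvPolynomial.mem_support_iff.mp ha) (Subtype.ext h)
    · rw [← coe_PP]
      exact Units.ne_zero _
  · intro a ha a' ha' hv
    apply inj_PP vL x hx
    obtain ⟨c, hc, hvc⟩ := hB (p.coeff a) (MvPolynomial.mem_support_iff.mp ha)
    obtain ⟨c', hc', hvc'⟩ := hB (p.coeff a') (MvPolynomial.mem_support_iff.mp ha')
    rw [← coe_PP, ← coe_PP, map_mul, map_mul] at hv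
    change vL ((p.coeff a : B) : L) * _ = vL ((p.coeff a' : B) : L) * _ at hv
    rw [hvc, hvc'] at hv
    let uc : Lˣ := Units.map (algebraMap K L).toMonoidHom (Units.mk0 c hc)
    let uc' : Lˣ := Units.map (algebraMap K L).toMonoidHom (Units.mk0 c' hc')
    have huc : ((uc : Lˣ) : L) = algebraMap K L c := rfl
    have huc' : ((uc' : Lˣ) : L) = algebraMap K L c' := rfl
    let w : Lˣ := (uc * PP x a) * (uc' * PP x a')⁻¹
    have hw : vL ((w : Lˣ) : L) = 1 := by
      simp only [w, Units.val_mul, Units.val_inv_eq_inv_val, map_mul, map_inv₀, huc, huc']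
      rw [hv]
      refine mul_inv_cancel₀ ?_
      refine mul_ne_zero ((vL.ne_zero_iff).mpr ?_) ((vL.ne_zero_iff).mpr (Units.ne_zero _))
      rw [← huc']; exact Units.ne_zero _
    have hwmem : w ∈ vL.valuationSubring.unitGroup := (Valuation.mem_unitGroup_iff (v := vL) (x := w)).mpr hw
    have hrange : uc * uc'⁻¹ ∈ (Units.map (algebraMap K L).toMonoidHom).range :=
      Subgroup.mul_mem _ ⟨_, rfl⟩ (Subgroup.inv_mem _ ⟨_, rfl⟩)
    have heq : (PP x a)⁻¹ * PP x a' = w⁻¹ * (uc * uc'⁻¹) := by
      apply Units.ext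
      simp only [w, Units.val_mul, Units.val_inv_eq_inv_val]
      have h1 := Units.ne_zero uc
      have h2 := Units.ne_zero uc'
      have h3 := Units.ne_zero (PP x a)
      have h4 := Units.ne_zero (PP x a')
      field_simp
    rw [heq]
    exact Subgroup.mul_mem_sup (Subgroup.inv_mem _ hwmem) hrange

end ValueGroup


section Main

variable {K L Γ₀ Γ₁ : Type u} [Field K] [Field L] [Algebra K L]
    [LinearOrderedCommGroupWithZero Γ₀] [LinearOrderedCommGroupWithZero Γ₁]
    (vK : Valuation K Γ₀) (vL : Valuation L Γ₁) [vK.HasExtension vL]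

theorem main :
    Module.rank ℤ (Additive Lˣ ⧸ Subgroup.toAddSubgroup
        (vL.valuationSubring.unitGroup ⊔ (Units.map (algebraMap K L).toMonoidHom).range)) +
      Algebra.trdeg (IsLocalRing.ResidueField vK.valuationSubring)
        (IsLocalRing.ResidueField vL.valuationSubring) ≤ Algebra.trdeg K L := by
  classical
  obtain ⟨s, hs, hli⟩ := exists_set_linearIndependent ℤ
    (Additive Lˣ ⧸ Subgroup.toAddSubgroup (HH K vL))
  obtain ⟨t, ht⟩ := exists_isTranscendenceBasis (ResidueField vK.valuationSubring)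
    (ResidueField vL.valuationSubring)
  have hxsurj : ∀ i : s, ∃ u : Lˣ, (QuotientAddGroup.mk (Additive.ofMul u) :
      Additive Lˣ ⧸ Subgroup.toAddSubgroup (HH K vL)) = i := fun i => by
    obtain ⟨a, ha⟩ := QuotientAddGroup.mk_surjective
      (i : Additive Lˣ ⧸ Subgroup.toAddSubgroup (HH K vL))
    exact ⟨Additive.toMul a, ha⟩
  choose x hx using hxsurj
  have hysurj : ∀ j : t, ∃ w : vL.valuationSubring, residue vL.valuationSubring w = j :=
    fun j => residue_surjective _
  choose y hy using hysurj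
  have hli' : LinearIndependent ℤ (fun i : s => (QuotientAddGroup.mk (Additive.ofMul (x i)) :
      Additive Lˣ ⧸ Subgroup.toAddSubgroup (HH K vL))) := by
    have : (fun i : s => (QuotientAddGroup.mk (Additive.ofMul (x i)) :
      Additive Lˣ ⧸ Subgroup.toAddSubgroup (HH K vL))) = (fun i : s => (i : Additive Lˣ ⧸ Subgroup.toAddSubgroup (HH K vL))) := funext hx
    rw [this]
    exact hli
  have hai : AlgebraicIndependent (ResidueField vK.valuationSubring)
      (fun j : t => residue vL.valuationSubring (y j)) := by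
    have : (fun j : t => residue vL.valuationSubring (y j)) = (fun j : t => (j : ResidueField vL.valuationSubring)) := funext hy
    rw [this]
    exact ht.1
  have hgauss := gauss vK vL y hai
  have hyL : AlgebraicIndependent K (fun j : t => ((y j : vL.valuationSubring) : L)) := by
    rw [AlgebraicIndependent, injective_iff_map_eq_zero]
    intro q hq
    by_contra hne
    obtain ⟨c, hc, hv⟩ := hgauss q hne
    rw [hq, map_zero] at hv
    exact (vL.ne_zero_iff.mpr ((map_ne_zero _).mpr hc)) hv.symm
  have hB : ∀ b : Algebra.adjoin K (Set.range (fun j : t => ((y j : vL.valuationSubring) : L))),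
      b ≠ 0 → ∃ c : K, c ≠ 0 ∧ vL (b : L) = vL (algebraMap K L c) := by
    rintro ⟨b, hb⟩ hb0
    rw [Algebra.adjoin_range_eq_range_aeval] at hb
    obtain ⟨q, rfl⟩ := hb
    have hq : q ≠ 0 := by
      rintro rfl
      exact hb0 (Subtype.ext (map_zero _))
    exact hgauss q hq
  have hxL := VG vL x hli' _ hB
  have hsum : AlgebraicIndependent K (Sum.elim (fun i : s => ((x i : Lˣ) : L))
      (fun j : t => ((y j : vL.valuationSubring) : L))) :=
    AlgebraicIndependent.sumElim_iff.mpr ⟨hyL, hxL⟩
  have hcard := hsum.cardinalMk_le_trdeg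
  rw [Cardinal.mk_sum, Cardinal.lift_id, Cardinal.lift_id] at hcard
  rw [← hs, ← ht.cardinalMk_eq_trdeg]
  exact hcard

end Main

end Groth.Agent.Helper8.Abhyankar
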