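import Mathlib

/-! Helper lemmas (helper8): descent of symmetric expressions along an injective ring map,
with weight tracking in a multiplicative filtration; "good" elements for an operator. -/

namespace Groth.Agent.Helper8.SymDescent

open Polynomial

theorem hom_aeval_int {σ S T : Type*} [CommRing S] [CommRing T] [Algebra ℤ S] [Algebra ℤ T]
    (φ : S →+* T) (g : σ → S)
    (p : MvPolynomial σ ℤ) :
    φ (MvPolynomial.aeval g p) = MvPolynomial.aeval (fun i => φ (g i)) p := by
  induction p using MvPolynomial.induction_on with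
  | C a => simp
  | add p q hp hq => rw [map_add, map_add, map_add, hp, hq]
  | mul_X p i hp =>
    rw [map_mul, map_mul, map_mul, hp, MvPolynomial.aeval_X, MvPolynomial.aeval_X]

theorem map_esymm {S T : Type*} [CommRing S] [CommRing T] (φ : S →+* T) (s : Multiset S)
    (n : ℕ) : φ (s.esymm n) = (s.map φ).esymm n := by
  unfold Multiset.esymm
  rw [map_multiset_sum, Multiset.powersetCard_map, Multiset.map_map, Multiset.map_map]
  refine congrArg _ (Multiset.map_congr rfl fun t _ => ?_)
  rw [Function.comp_apply, Function.comp_apply, map_multiset_prod]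

theorem esymm_zero' {S : Type*} [CommRing S] (s : Multiset S) : s.esymm 0 = 1 := by
  simp [Multiset.esymm]

theorem esymm_cons_succ {S : Type*} [CommRing S] (a : S) (s : Multiset S) (n : ℕ) :
    (a ::ₘ s).esymm (n + 1) = s.esymm (n + 1) + a * s.esymm n := by
  unfold Multiset.esymm
  rw [Multiset.powersetCard_cons, Multiset.map_add, Multiset.sum_add, Multiset.map_map]
  congr 1
  rw [← Multiset.sum_map_mul_left]
  refine congrArg _ (Multiset.map_congr rfl fun t _ => ?_)
  rw [Function.comp_apply, Multiset.prod_cons]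

theorem coeff_prod_one_add {S : Type*} [CommRing S] (s : Multiset S) (n : ℕ) :
    PowerSeries.coeff n
      ((s.map fun a => (1 + PowerSeries.C a * PowerSeries.X : PowerSeries S)).prod) =
      s.esymm n := by
  induction s using Multiset.induction_on generalizing n with
  | empty =>
    rcases n with _ | n
    · simp [Multiset.esymm]
    · simp [Multiset.esymm, PowerSeries.coeff_one, Multiset.powersetCard_zero_right]
  | cons a s ih =>
    rw [Multiset.map_cons, Multiset.prod_cons]
    rcases n with _ | n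
    · have h0 := ih 0
      rw [esymm_zero', PowerSeries.coeff_zero_eq_constantCoeff_apply] at h0
      rw [esymm_zero', PowerSeries.coeff_zero_eq_constantCoeff_apply, map_mul, h0]
      simp
    · rw [esymm_cons_succ, add_mul, one_mul, map_add, ih (n + 1), mul_assoc,
        PowerSeries.coeff_C_mul, PowerSeries.coeff_succ_X_mul, ih n]

/-- Hypotheses on a multiplicative filtration by ideals. -/
structure FiltHyp {K : Type*} [CommRing K] (F : ℕ → AddSubgroup K) : Prop where
  top0 : ∀ x, x ∈ F 0
  ideal : ∀ n a x, x ∈ F n → a * x ∈ F n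
  mul : ∀ a b x y, x ∈ F a → y ∈ F b → x * y ∈ F (a + b)
  anti : ∀ a b, a ≤ b → F b ≤ F a

/-- polynomials whose `w`-th coefficient lies in `F w` -/
def gradedSub {K : Type*} [CommRing K] (F : ℕ → AddSubgroup K) (hF : FiltHyp F) :
    Subring (Polynomial K) where
  carrier := {q | ∀ w, q.coeff w ∈ F w}
  mul_mem' := by
    intro p q hp hq
    change ∀ w, (p * q).coeff w ∈ F w
    intro w
    rw [Polynomial.coeff_mul]
    refine AddSubgroup.sum_mem _ fun x hx => ?_
    have h := hF.mul x.1 x.2 _ _ (hp x.1) (hq x.2)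
    have hx' : x.1 + x.2 = w := Finset.HasAntidiagonal.mem_antidiagonal.mp hx
    rwa [hx'] at h
  one_mem' := by
    change ∀ w, (1 : Polynomial K).coeff w ∈ F w
    intro w
    by_cases hw : w = 0
    · subst hw
      exact hF.top0 _
    · have : (1 : Polynomial K).coeff w = 0 := by simp [Polynomial.coeff_one, hw]
      rw [this]
      exact zero_mem _
  add_mem' := by
    intro p q hp hq
    change ∀ w, (p + q).coeff w ∈ F w
    intro w
    rw [Polynomial.coeff_add]
    exact add_mem (hp w) (hq w)
  zero_mem' := by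
    change ∀ w, (0 : Polynomial K).coeff w ∈ F w
    intro w
    rw [Polynomial.coeff_zero]
    exact zero_mem _
  neg_mem' := by
    intro p hp
    change ∀ w, (-p).coeff w ∈ F w
    intro w
    rw [Polynomial.coeff_neg]
    exact neg_mem (hp w)

theorem mem_gradedSub {K : Type*} [CommRing K] (F : ℕ → AddSubgroup K) (hF : FiltHyp F)
    (q : Polynomial K) : q ∈ gradedSub F hF ↔ ∀ w, q.coeff w ∈ F w := Iff.rfl

theorem sym_descent {K K' : Type*} [CommRing K] [CommRing K'] (f : K →+* K')
    (hf : Function.Injective f) (F : ℕ → AddSubgroup K) (hF : FiltHyp F)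
    (m : ℕ) (a : Fin m → K') (c : ℕ → K) (hc : ∀ i, c i ∈ F i)
    (hca : ∀ i, f (c i) = ((Finset.univ : Finset (Fin m)).val.map a).esymm i)
    (p : MvPolynomial (Fin m) ℤ) (hp : p.IsSymmetric) (d : ℕ)
    (hdiv : (X : Polynomial K') ^ d ∣ MvPolynomial.aeval (fun i => C (a i) * X) p) :
    ∃ y ∈ F d, f y = MvPolynomial.aeval a p := by
  obtain ⟨Q, hQ⟩ := MvPolynomial.esymmAlgHom_fin_surjective ℤ (le_refl m) ⟨p, hp⟩
  have hQ' : MvPolynomial.aeval
      (fun i : Fin m => MvPolynomial.esymm (Fin m) ℤ ((i : ℕ) + 1)) Q = p := by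
    rw [← MvPolynomial.esymmAlgHom_apply, hQ]
  obtain ⟨g, hg⟩ : ∃ g : Fin m → Polynomial K,
      g = (fun i : Fin m => C (c ((i : ℕ) + 1)) * X ^ ((i : ℕ) + 1)) := ⟨_, rfl⟩
  obtain ⟨Y, hYdef⟩ : ∃ Y : Polynomial K, Y = MvPolynomial.aeval g Q := ⟨_, rfl⟩
  have hgen : ∀ i : Fin m, g i ∈ gradedSub F hF := by
    intro i
    rw [mem_gradedSub, hg]
    intro w
    change (C (c ((i : ℕ) + 1)) * X ^ ((i : ℕ) + 1)).coeff w ∈ F w
    rw [Polynomial.coeff_C_mul_X_pow]
    split_ifs with h
    · rw [h]
      exact hc _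
    · exact zero_mem _
  have hY : Y ∈ gradedSub F hF := by
    have hall : ∀ Q : MvPolynomial (Fin m) ℤ, MvPolynomial.aeval g Q ∈ gradedSub F hF := by
      intro Q
      induction Q using MvPolynomial.induction_on with
      | C n =>
        rw [MvPolynomial.aeval_C, eq_intCast]
        exact intCast_mem _ n
      | add p q hp hq =>
        rw [map_add]
        exact add_mem hp hq
      | mul_X p i hp =>
        rw [map_mul, MvPolynomial.aeval_X]
        exact mul_mem hp (hgen i)
    rw [hYdef]
    exact hall Q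
  have hesymm : ∀ n : ℕ,
      ((Finset.univ : Finset (Fin m)).val.map (fun i => C (a i) * X)).esymm n =
        C (f (c n)) * X ^ n := by
    intro n
    have h1 := Multiset.pow_smul_esymm (X : Polynomial K') n
      ((Finset.univ : Finset (Fin m)).val.map (fun i => C (a i)))
    rw [Multiset.map_map] at h1
    have h2 : ((Finset.univ : Finset (Fin m)).val.map (fun i => C (a i))).esymm n =
        C (f (c n)) := by
      rw [hca, map_esymm (C : K' →+* Polynomial K'), Multiset.map_map]
      rfl
    rw [h2, smul_eq_mul] at h1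
    rw [mul_comm (C (f (c n))) (X ^ n), h1]
    refine congrArg (fun s => Multiset.esymm s n) (Multiset.map_congr rfl fun i _ => ?_)
    show C (a i) * X = X • C (a i)
    rw [smul_eq_mul, mul_comm]
  have hmap : Y.map f = MvPolynomial.aeval (fun i => C (a i) * X) p := by
    have h1 : Y.map f = MvPolynomial.aeval
        (fun i : Fin m => C (f (c ((i : ℕ) + 1))) * X ^ ((i : ℕ) + 1)) Q := by
      have h := hom_aeval_int (Polynomial.mapRingHom f) g Q
      rw [Polynomial.coe_mapRingHom] at h
      have hG : (fun i => Polynomial.map f (g i)) =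
          (fun i : Fin m => C (f (c ((i : ℕ) + 1))) * X ^ ((i : ℕ) + 1)) := by
        funext i
        rw [hg]
        simp
      rw [hYdef, h, hG]
    have hG2 : (fun i : Fin m => MvPolynomial.aeval (fun i => C (a i) * X)
        (MvPolynomial.esymm (Fin m) ℤ ((i : ℕ) + 1))) =
        (fun i : Fin m => C (f (c ((i : ℕ) + 1))) * X ^ ((i : ℕ) + 1)) := by
      funext i
      rw [MvPolynomial.aeval_esymm_eq_multiset_esymm, hesymm]
    rw [h1, ← hQ', MvPolynomial.comp_aeval_apply, hG2]
  have hcoeff0 : ∀ w, w < d → Y.coeff w = 0 := by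
    intro w hw
    apply hf
    rw [map_zero, ← Polynomial.coeff_map, hmap]
    exact (Polynomial.X_pow_dvd_iff.mp hdiv) w hw
  refine ⟨Y.eval 1, ?_, ?_⟩
  · rw [Polynomial.eval_eq_sum_range]
    refine AddSubgroup.sum_mem _ fun w _ => ?_
    rw [one_pow, mul_one]
    by_cases hw : w < d
    · rw [hcoeff0 w hw]
      exact zero_mem _
    · exact hF.anti d w (not_lt.mp hw) ((mem_gradedSub F hF Y).1 hY w)
  · rw [← Polynomial.eval_one_map, hmap]
    have h := hom_aeval_int (Polynomial.evalRingHom (1 : K')) (fun i => C (a i) * X) p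
    rw [Polynomial.coe_evalRingHom] at h
    have hG3 : (fun i : Fin m => Polynomial.eval 1 (C (a i) * X)) = a := by
      funext i
      simp
    rw [h, hG3]

/-- the universal polynomial `e_r((1+X_i)^j - 1) - j^r e_r(X_i)` -/
noncomputable def pp (m j r : ℕ) : MvPolynomial (Fin m) ℤ :=
  MvPolynomial.aeval (fun i : Fin m => (1 + MvPolynomial.X i : MvPolynomial (Fin m) ℤ) ^ j - 1)
      (MvPolynomial.esymm (Fin m) ℤ r)
    - (j : MvPolynomial (Fin m) ℤ) ^ r * MvPolynomial.esymm (Fin m) ℤ r

theorem pp_symm (m j r : ℕ) : (pp m j r).IsSymmetric := by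
  unfold pp
  refine MvPolynomial.IsSymmetric.sub ?_ ?_
  · intro e
    rw [MvPolynomial.comp_aeval_apply]
    have h1 : (fun i : Fin m => MvPolynomial.rename e
        ((1 + MvPolynomial.X i : MvPolynomial (Fin m) ℤ) ^ j - 1)) =
        (fun i : Fin m => (1 + MvPolynomial.X i : MvPolynomial (Fin m) ℤ) ^ j - 1) ∘ e := by
      funext i
      simp
    rw [h1, ← MvPolynomial.aeval_rename, MvPolynomial.esymm_isSymmetric (Fin m) ℤ r e]
  · refine MvPolynomial.IsSymmetric.mul ?_ (MvPolynomial.esymm_isSymmetric (Fin m) ℤ r)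
    intro e
    rw [map_pow, map_natCast]

theorem aeval_pp {T : Type*} [CommRing T] [Algebra ℤ T] (m j r : ℕ) (g : Fin m → T) :
    MvPolynomial.aeval g (pp m j r) =
      ((Finset.univ : Finset (Fin m)).val.map (fun i => (1 + g i) ^ j - 1)).esymm r -
        (j : T) ^ r * ((Finset.univ : Finset (Fin m)).val.map g).esymm r := by
  have h1 : (fun i : Fin m => MvPolynomial.aeval g
      ((1 + MvPolynomial.X i : MvPolynomial (Fin m) ℤ) ^ j - 1)) =
      fun i => (1 + g i) ^ j - 1 := by
    funext i
    simp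
  unfold pp
  rw [map_sub, map_mul, map_pow, map_natCast, MvPolynomial.comp_aeval_apply, h1,
    MvPolynomial.aeval_esymm_eq_multiset_esymm, MvPolynomial.aeval_esymm_eq_multiset_esymm]

theorem pp_dvd {T : Type*} [CommRing T] (m j r : ℕ) (a : Fin m → T) :
    (X : Polynomial T) ^ (r + 1) ∣
      MvPolynomial.aeval (fun i => C (a i) * X) (pp m j r) := by
  rw [aeval_pp]
  obtain ⟨β, hβ⟩ : ∃ β : Fin m → Polynomial T,
      β = (fun i : Fin m => C (a i) * ∑ l ∈ Finset.range j, (1 + C (a i) * X) ^ l) :=
    ⟨_, rfl⟩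
  have hb : ∀ i, (1 + C (a i) * X : Polynomial T) ^ j - 1 = (X : Polynomial T) • β i := by
    intro i
    have h := mul_geom_sum (1 + C (a i) * X : Polynomial T) j
    rw [← h, smul_eq_mul, hβ]
    ring
  have h1 : ((Finset.univ : Finset (Fin m)).val.map
      (fun i => (1 + C (a i) * X : Polynomial T) ^ j - 1)).esymm r =
      (X : Polynomial T) ^ r • ((Finset.univ : Finset (Fin m)).val.map β).esymm r := by
    rw [Multiset.pow_smul_esymm, Multiset.map_map]
    refine congrArg (fun s => Multiset.esymm s r) (Multiset.map_congr rfl fun i _ => ?_)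
    rw [Function.comp_apply, hb i]
  have h2 : ((Finset.univ : Finset (Fin m)).val.map (fun i => C (a i) * X)).esymm r =
      (X : Polynomial T) ^ r •
        ((Finset.univ : Finset (Fin m)).val.map (fun i => C (a i))).esymm r := by
    rw [Multiset.pow_smul_esymm, Multiset.map_map]
    refine congrArg (fun s => Multiset.esymm s r) (Multiset.map_congr rfl fun i _ => ?_)
    rw [Function.comp_apply, smul_eq_mul, mul_comm]
  have hE1 : Polynomial.eval 0 (((Finset.univ : Finset (Fin m)).val.map β).esymm r) =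
      (j : T) ^ r * ((Finset.univ : Finset (Fin m)).val.map a).esymm r := by
    have h := map_esymm (Polynomial.evalRingHom (0 : T))
      ((Finset.univ : Finset (Fin m)).val.map β) r
    rw [Polynomial.coe_evalRingHom, Multiset.map_map] at h
    rw [h, ← smul_eq_mul, Multiset.pow_smul_esymm, Multiset.map_map]
    refine congrArg (fun s => Multiset.esymm s r) (Multiset.map_congr rfl fun i _ => ?_)
    rw [Function.comp_apply, Function.comp_apply, hβ]
    show Polynomial.eval 0 (C (a i) * ∑ l ∈ Finset.range j, (1 + C (a i) * X) ^ l) =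
      (j : T) • a i
    rw [Polynomial.eval_mul, Polynomial.eval_C, Polynomial.eval_finsetSum]
    have hs : ∀ l ∈ Finset.range j,
        Polynomial.eval 0 ((1 + C (a i) * X : Polynomial T) ^ l) = 1 := by
      intro l _
      simp
    rw [Finset.sum_congr rfl hs, Finset.sum_const, Finset.card_range, smul_eq_mul,
      nsmul_eq_mul, mul_one, mul_comm]
  have hE2 : Polynomial.eval 0
      (((Finset.univ : Finset (Fin m)).val.map (fun i => C (a i))).esymm r) =
      ((Finset.univ : Finset (Fin m)).val.map a).esymm r := by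
    have h := map_esymm (Polynomial.evalRingHom (0 : T))
      ((Finset.univ : Finset (Fin m)).val.map (fun i => C (a i))) r
    rw [Polynomial.coe_evalRingHom, Multiset.map_map] at h
    rw [h]
    refine congrArg (fun s => Multiset.esymm s r) (Multiset.map_congr rfl fun i _ => ?_)
    simp
  have h3 : (X : Polynomial T) ∣ ((Finset.univ : Finset (Fin m)).val.map β).esymm r -
      (j : Polynomial T) ^ r *
        ((Finset.univ : Finset (Fin m)).val.map (fun i => C (a i))).esymm r := by
    rw [Polynomial.X_dvd_iff, Polynomial.coeff_zero_eq_eval_zero, Polynomial.eval_sub,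
      Polynomial.eval_mul, Polynomial.eval_pow, Polynomial.eval_natCast, hE1, hE2, sub_self]
  obtain ⟨q, hq⟩ := h3
  rw [h1, h2, smul_eq_mul, smul_eq_mul, pow_succ]
  exact ⟨q, by linear_combination (X : Polynomial T) ^ r * hq⟩

theorem sym_descent_pp {K K' : Type*} [CommRing K] [CommRing K'] (f : K →+* K')
    (hf : Function.Injective f) (F : ℕ → AddSubgroup K) (hF : FiltHyp F)
    (t : Multiset K') (c : ℕ → K) (hc : ∀ i, c i ∈ F i) (hca : ∀ i, f (c i) = t.esymm i)
    (j r : ℕ) :
    ∃ y ∈ F (r + 1),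
      f y = (t.map fun a => (1 + a) ^ j - 1).esymm r - (j : K') ^ r * t.esymm r := by
  obtain ⟨l, hl⟩ : ∃ l : List K', (l : Multiset K') = t := Quot.exists_rep t
  have hl' : (Finset.univ : Finset (Fin l.length)).val.map (fun i => l.get i) = t := by
    rw [Fin.univ_val_map, List.ofFn_get, hl]
  obtain ⟨y, hy, hfy⟩ := sym_descent f hf F hF l.length (fun i => l.get i) c hc
    (by intro i; rw [hl']; exact hca i) (pp l.length j r) (pp_symm _ _ _) (r + 1)
    (pp_dvd _ _ _ _)
  refine ⟨y, hy, ?_⟩
  rw [hfy, aeval_pp, ← hl', Multiset.map_map]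
  rfl

section Good

variable {K : Type*} [CommRing K] {F : ℕ → AddSubgroup K} {ψ : K →+* K} {j : K}

/-- `g` lies in `F r` and `ψ g ≡ j^r g` modulo `F (r+1)`. -/
def Good (F : ℕ → AddSubgroup K) (ψ : K →+* K) (j : K) (r : ℕ) (g : K) : Prop :=
  g ∈ F r ∧ ψ g - j ^ r * g ∈ F (r + 1)

theorem good_zero (r : ℕ) : Good F ψ j r 0 := by
  refine ⟨zero_mem _, ?_⟩
  rw [map_zero, mul_zero, sub_zero]
  exact zero_mem _

theorem good_add {r : ℕ} {g h : K} (hg : Good F ψ j r g) (hh : Good F ψ j r h) :
    Good F ψ j r (g + h) := by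
  refine ⟨add_mem hg.1 hh.1, ?_⟩
  have e : ψ (g + h) - j ^ r * (g + h) = (ψ g - j ^ r * g) + (ψ h - j ^ r * h) := by
    rw [map_add]
    ring
  rw [e]
  exact add_mem hg.2 hh.2

theorem good_neg {r : ℕ} {g : K} (hg : Good F ψ j r g) : Good F ψ j r (-g) := by
  refine ⟨neg_mem hg.1, ?_⟩
  have e : ψ (-g) - j ^ r * (-g) = -(ψ g - j ^ r * g) := by
    rw [map_neg]
    ring
  rw [e]
  exact neg_mem hg.2

theorem good_sum {ι : Type*} (s : Finset ι) {r : ℕ} (g : ι → K)
    (hg : ∀ i ∈ s, Good F ψ j r (g i)) : Good F ψ j r (∑ i ∈ s, g i) := by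
  classical
  induction s using Finset.induction_on with
  | empty =>
    rw [Finset.sum_empty]
    exact good_zero r
  | insert a s ha ih =>
    rw [Finset.sum_insert ha]
    exact good_add (hg a (Finset.mem_insert_self a s))
      (ih fun i hi => hg i (Finset.mem_insert_of_mem hi))

theorem good_one (hF : FiltHyp F) : Good F ψ j 0 1 := by
  refine ⟨hF.top0 1, ?_⟩
  rw [map_one, pow_zero, mul_one, sub_self]
  exact zero_mem _

theorem good_psi_mem (hF : FiltHyp F) {r : ℕ} {g : K} (hg : Good F ψ j r g) : ψ g ∈ F r := by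
  have e : ψ g = (ψ g - j ^ r * g) + j ^ r * g := by ring
  rw [e]
  exact add_mem (hF.anti r (r + 1) (Nat.le_succ r) hg.2) (hF.ideal r _ _ hg.1)

theorem good_mul (hF : FiltHyp F) {r s : ℕ} {g h : K} (hg : Good F ψ j r g)
    (hh : Good F ψ j s h) : Good F ψ j (r + s) (g * h) := by
  refine ⟨hF.mul r s g h hg.1 hh.1, ?_⟩
  have e : ψ (g * h) - j ^ (r + s) * (g * h) =
      ψ g * (ψ h - j ^ s * h) + (ψ g - j ^ r * g) * (j ^ s * h) := by
    rw [map_mul, pow_add]
    ring
  rw [e]
  have h1 := hF.mul r (s + 1) _ _ (good_psi_mem hF hg) hh.2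
  have h2 := hF.mul (r + 1) s _ _ hg.2 (hF.ideal s (j ^ s) h hh.1)
  have e1 : r + (s + 1) = r + s + 1 := by omega
  have e2 : r + 1 + s = r + s + 1 := by omega
  rw [e1] at h1
  rw [e2] at h2
  exact add_mem h1 h2

theorem good_mono (hF : FiltHyp F) {r s : ℕ} (hrs : r ≤ s) {g : K} (hg : Good F ψ j s g) :
    Good F ψ j r g := by
  rcases Nat.eq_or_lt_of_le hrs with h | h
  · rw [h]
    exact hg
  · refine ⟨hF.anti r s hrs hg.1, ?_⟩
    have h1 : ψ g ∈ F (r + 1) := hF.anti (r + 1) s h (good_psi_mem hF hg)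
    have h2 : j ^ r * g ∈ F (r + 1) := hF.ideal _ _ _ (hF.anti (r + 1) s h hg.1)
    exact sub_mem h1 h2

end Good

end Groth.Agent.Helper8.SymDescent
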