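import Mathlib
import Groth.Prelude.Def_LambdaRing
import Groth.Agent.Lib.Helper8.LambdaAdams
import Groth.Agent.Lib.Helper8.LambdaGamma2
import Groth.Agent.Lib.Helper8.SymDescent
import Groth.Agent.S3285
import Groth.Agent.S3291

/-! Helper lemmas (helper8): Adams operations act on the `n`-th graded piece of the
γ-filtration by `j^n`. -/

namespace Groth.Agent.Helper8

open PowerSeries Finset LambdaRing SymDescent

universe u

variable {K : Type u} [CommRing K] [LambdaOps K]

theorem map_gamma {K' : Type u} [CommRing K'] [LambdaOps K']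
    (f : K →+* K') (hf : IsLambdaHom f) (k : ℕ) (x : K) : f (gamma k x) = gamma k (f x) := by
  unfold gamma
  by_cases hk : k = 0
  · rw [if_pos hk, if_pos hk, map_one]
  · rw [if_neg hk, if_neg hk, map_sum]
    refine Finset.sum_congr rfl fun i _ => ?_
    rw [map_mul, map_natCast]
    by_cases hi : i = 0
    · rw [if_pos hi, if_pos hi, map_zero]
    · rw [if_neg hi, if_neg hi, hf i x]

theorem gammaFiltration_zero (P : PosStructure K) (x : K) : x ∈ gammaFiltration P 0 := by
  unfold gammaFiltration
  simp

theorem gammaFiltration_anti (P : PosStructure K) (a b : ℕ) (hab : a ≤ b) :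
    gammaFiltration P b ≤ gammaFiltration P a := by
  by_cases ha : a = 0
  · subst ha
    intro x _
    exact gammaFiltration_zero P x
  · have hb : b ≠ 0 := by omega
    rw [Groth.Agent.S3291.gammaFiltration_pos P a ha,
      Groth.Agent.S3291.gammaFiltration_pos P b hb]
    apply AddSubgroup.closure_mono
    rintro y ⟨l, hl, hsum, rfl⟩
    exact ⟨l, hl, le_trans hab hsum, rfl⟩

theorem filtHyp_gamma (P : PosStructure K) : FiltHyp (gammaFiltration P) where
  top0 := gammaFiltration_zero P
  ideal := (Groth.Agent.S3291.result K P).1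
  mul := (Groth.Agent.S3291.result K P).2
  anti := gammaFiltration_anti P

theorem gamma_zero' (x : K) : gamma 0 x = 1 := by
  simp [gamma]

theorem gamma_succ_zero (k : ℕ) : gamma (k + 1) (0 : K) = 0 := by
  have h := congrArg (PowerSeries.coeff (k + 1)) (gammaSeries_zero (K := K))
  simpa [gammaSeries, PowerSeries.coeff_one] using h

theorem gamma_mem (P : PosStructure K) (x : K) (hx : P.aug x = 0) (r : ℕ) :
    gamma r x ∈ gammaFiltration P r := by
  by_cases hr : r = 0
  · subst hr
    exact gammaFiltration_zero P _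
  · rw [Groth.Agent.S3291.gammaFiltration_pos P r hr]
    apply AddSubgroup.subset_closure
    refine ⟨[(r, x)], ?_, ?_, ?_⟩
    · intro p hp
      rw [List.mem_singleton] at hp
      rw [hp]
      exact hx
    · simp
    · simp

theorem gammaSeries_line_sub_one (P : PosStructure K) {u : K} (hu : P.IsLine u) :
    gammaSeries (u - 1) = 1 + PowerSeries.C (u - 1) * PowerSeries.X := by
  have hv : ∀ i, 1 < i → LambdaOps.lam i u = 0 := by
    intro i hi
    apply P.lam_eq_zero u hu.1
    rw [hu.2]
    exact_mod_cast hi
  have h := gammaSeries_sub_natCast P u 1 hv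
  rw [Nat.cast_one] at h
  have h2 : (gammaPoly u 1 : Polynomial K) =
      (1 - Polynomial.X) + Polynomial.C u * Polynomial.X := by
    simp [gammaPoly, Finset.sum_range_succ, LambdaOps.lam_zero, LambdaOps.lam_one]
  rw [h, h2]
  simp only [Polynomial.coe_add, Polynomial.coe_sub, Polynomial.coe_one, Polynomial.coe_X,
    Polynomial.coe_mul, Polynomial.coe_C, map_sub, map_one]
  ring

theorem gammaSeries_sum_lines (P : PosStructure K) (s : Multiset K)
    (hs : ∀ u ∈ s, P.IsLine u) :
    gammaSeries (s.sum - (Multiset.card s : K)) =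
      ((s.map fun u => u - 1).map fun a =>
        (1 + PowerSeries.C a * PowerSeries.X : PowerSeries K)).prod := by
  induction s using Multiset.induction_on with
  | empty => simp [gammaSeries_zero]
  | cons u s ih =>
    have hu := hs u (Multiset.mem_cons_self u s)
    have e : (u ::ₘ s).sum - (Multiset.card (u ::ₘ s) : K) =
        (u - 1) + (s.sum - (Multiset.card s : K)) := by
      rw [Multiset.sum_cons, Multiset.card_cons]
      push_cast
      ring
    rw [e, gammaSeries_add, gammaSeries_line_sub_one P hu,
      ih (fun v hv => hs v (Multiset.mem_cons_of_mem hv)), Multiset.map_cons, Multiset.map_cons,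
      Multiset.prod_cons]

theorem good_gamma_pos (P : PosStructure K) (hK : HasSplitting K P) (ψ : K →+* K) (j : ℕ)
    (hψ : ∀ x, ψ x = adams P j x) (e : K) (he : e ∈ P.pos) (r : ℕ) :
    Good (gammaFiltration P) ψ (j : K) r (gamma r (e - ((P.aug e).toNat : K))) := by
  have hm : (((P.aug e).toNat : ℕ) : ℤ) = P.aug e :=
    Int.toNat_of_nonneg (le_of_lt (P.aug_pos e he))
  obtain ⟨m, hmdef⟩ : ∃ m : ℕ, m = (P.aug e).toNat := ⟨_, rfl⟩
  rw [← hmdef] at hm ⊢
  have haug : P.aug (e - (m : K)) = 0 := by
    rw [map_sub, map_natCast, hm, sub_self]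
  refine ⟨gamma_mem P _ haug r, ?_⟩
  obtain ⟨C, hKC, hC⟩ := hK
  obtain ⟨L', hL', (f : K →+* L'.carrier), (hf : IsExtension P L'.posStr f), s, hs, hsum⟩ :=
    hC ⟨K, P⟩ hKC e he
  have hcard : Multiset.card s = m := by
    have h1 := aug_multiset_sum_of_lines L'.posStr s hs
    rw [hsum, hf.aug_comp, ← hm] at h1
    exact_mod_cast h1.symm
  obtain ⟨ψ', hψ'⟩ := Groth.Agent.S3285.result L'.carrier L'.posStr ⟨C, hL', hC⟩ j
  have hcomm : ∀ x, f (ψ x) = ψ' (f x) := by
    intro x
    rw [hψ, hψ', adams_map hf]
  obtain ⟨t, ht⟩ : ∃ t : Multiset L'.carrier, t = s.map (fun u => u - 1) := ⟨_, rfl⟩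
  have hca : ∀ i, f (gamma i (e - (m : K))) = t.esymm i := by
    intro i
    rw [map_gamma f hf.isLambdaHom, map_sub, map_natCast, ← hsum, ← hcard, ht,
      ← coeff_prod_one_add, ← gammaSeries_sum_lines L'.posStr s hs]
    simp [gammaSeries]
  obtain ⟨y, hy, hfy⟩ := sym_descent_pp f hf.injective (gammaFiltration P) (filtHyp_gamma P) t
    (fun i => gamma i (e - (m : K))) (fun i => gamma_mem P _ haug i) hca j r
  have hmapψ : t.map ψ' = t.map (fun a => (1 + a) ^ j - 1) := by
    rw [ht, Multiset.map_map, Multiset.map_map]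
    refine Multiset.map_congr rfl fun u hu => ?_
    rw [Function.comp_apply, Function.comp_apply, map_sub, map_one, hψ',
      adams_line L'.posStr (hs u hu)]
    have e1 : 1 + (u - 1) = u := by ring
    rw [e1]
  have hfinal : f (ψ (gamma r (e - (m : K))) - (j : K) ^ r * gamma r (e - (m : K))) = f y := by
    rw [hfy, map_sub, map_mul, map_pow, map_natCast, hcomm, hca, SymDescent.map_esymm, hmapψ]
  rw [hf.injective hfinal]
  exact hy

theorem good_gamma_neg (P : PosStructure K) (ψ : K →+* K) (j : K) (y : K)
    (hy : ∀ r, Good (gammaFiltration P) ψ j r (gamma r y)) :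
    ∀ r, Good (gammaFiltration P) ψ j r (gamma r (-y)) := by
  have hF := filtHyp_gamma P
  intro r
  induction r using Nat.strong_induction_on with
  | _ r ih =>
    rcases r with _ | k
    · rw [gamma_zero']
      exact good_one hF
    · have h0 : gamma (k + 1) (y + -y) = 0 := by
        rw [add_neg_cancel, gamma_succ_zero]
      rw [gamma_add', Finset.sum_range_succ', gamma_zero', one_mul, Nat.sub_zero] at h0
      have h1 : gamma (k + 1) (-y) =
          -∑ i ∈ Finset.range (k + 1), gamma (i + 1) y * gamma (k + 1 - (i + 1)) (-y) := by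
        linear_combination h0
      rw [h1]
      apply good_neg
      apply good_sum
      intro i hi
      have hi' := Finset.mem_range.mp hi
      have hidx : (i + 1) + (k + 1 - (i + 1)) = k + 1 := by omega
      have h2 := good_mul hF (hy (i + 1)) (ih (k + 1 - (i + 1)) (by omega))
      rwa [hidx] at h2

theorem good_gamma (P : PosStructure K) (hK : HasSplitting K P) (ψ : K →+* K) (j : ℕ)
    (hψ : ∀ x, ψ x = adams P j x) (x : K) (hx : P.aug x = 0) (r : ℕ) :
    Good (gammaFiltration P) ψ (j : K) r (gamma r x) := by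
  have hF := filtHyp_gamma P
  obtain ⟨e, f', he, hf', rfl⟩ := P.exists_sub x
  have haug : P.aug e = P.aug f' := by
    rw [map_sub] at hx
    exact sub_eq_zero.mp hx
  have hx' : e - f' = (e - ((P.aug e).toNat : K)) + -(f' - ((P.aug f').toNat : K)) := by
    rw [haug]
    ring
  rw [hx', gamma_add']
  apply good_sum
  intro i hi
  have hi' := Finset.mem_range.mp hi
  have hidx : i + (r - i) = r := by omega
  have h2 := good_mul hF (good_gamma_pos P hK ψ j hψ e he i)
    (good_gamma_neg P ψ (j : K) _ (good_gamma_pos P hK ψ j hψ f' hf') (r - i))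
  rwa [hidx] at h2

theorem good_list (P : PosStructure K) (hK : HasSplitting K P) (ψ : K →+* K) (j : ℕ)
    (hψ : ∀ x, ψ x = adams P j x) (l : List (ℕ × K)) (hl : ∀ p ∈ l, P.aug p.2 = 0) :
    Good (gammaFiltration P) ψ (j : K) (l.map Prod.fst).sum
      (l.map fun p => gamma p.1 p.2).prod := by
  induction l with
  | nil =>
    simp only [List.map_nil, List.sum_nil, List.prod_nil]
    exact good_one (filtHyp_gamma P)
  | cons p l ih =>
    simp only [List.map_cons, List.sum_cons, List.prod_cons]
    exact good_mul (filtHyp_gamma P)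
      (good_gamma P hK ψ j hψ p.2 (hl p (List.mem_cons.mpr (Or.inl rfl))) p.1)
      (ih fun q hq => hl q (List.mem_cons.mpr (Or.inr hq)))

/-- `ψ^j(x) − j^n x ∈ F^(n+1)` for `x ∈ F^n`. -/
theorem adams_sub_mem (P : PosStructure K) (hK : HasSplitting K P) (j n : ℕ) (x : K)
    (hx : x ∈ gammaFiltration P n) :
    adams P j x - (j : K) ^ n * x ∈ gammaFiltration P (n + 1) := by
  obtain ⟨ψ, hψ⟩ := Groth.Agent.S3285.result K P hK j
  have hF := filtHyp_gamma P
  have key : Good (gammaFiltration P) ψ (j : K) n x := by
    by_cases hn : n = 0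
    · subst hn
      refine ⟨hx, ?_⟩
      have h1 := good_gamma P hK ψ j hψ (x - ((P.aug x : ℤ) : K)) (by simp) 1
      rw [Groth.Agent.S3291.gamma_one] at h1
      have h2 := good_psi_mem hF h1
      have e : ψ x - (j : K) ^ 0 * x =
          ψ (x - ((P.aug x : ℤ) : K)) - (x - ((P.aug x : ℤ) : K)) := by
        rw [map_sub, map_intCast]
        ring
      rw [e]
      exact sub_mem h2 h1.1
    · rw [Groth.Agent.S3291.gammaFiltration_pos P n hn] at hx
      induction hx using AddSubgroup.closure_induction with
      | mem y hy =>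
        obtain ⟨l, hl, hsum, rfl⟩ := hy
        exact good_mono hF hsum (good_list P hK ψ j hψ l hl)
      | zero => exact good_zero n
      | add y z _ _ hy hz => exact good_add hy hz
      | neg y _ hy => exact good_neg hy
  have h := key.2
  rwa [hψ] at h

end Groth.Agent.Helper8
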