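import Mathlib
import Groth.Prelude.Def_LambdaRing
import Groth.Agent.Lib.Helper8.LambdaAdamsFilt
import Groth.Agent.S3286

/-! Helper lemmas (helper8): eigenspace decomposition of `ℚ ⊗ K` under Adams operations. -/

namespace Groth.Agent.Helper8.AdamsEigen

open TensorProduct LambdaRing Finset Groth.Agent.Helper8

universe u

variable {K : Type u} [CommRing K] [LambdaOps K]

/-- the filtration on `ℚ ⊗ K` induced by the γ-filtration -/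
noncomputable def Vn (P : PosStructure K) (n : ℕ) : Submodule ℚ (ℚ ⊗[ℤ] K) :=
  Submodule.span ℚ ((fun x : K => (1 : ℚ) ⊗ₜ[ℤ] x) '' (gammaFiltration P n : Set K))

theorem tmul_mem_Vn (P : PosStructure K) (n : ℕ) {x : K} (hx : x ∈ gammaFiltration P n) :
    (1 : ℚ) ⊗ₜ[ℤ] x ∈ Vn P n :=
  Submodule.subset_span ⟨x, hx, rfl⟩

theorem Vn_zero (P : PosStructure K) : Vn P 0 = ⊤ := by
  have hall : ∀ v : ℚ ⊗[ℤ] K, v ∈ Vn P 0 := by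
    intro v
    induction v using TensorProduct.induction_on with
    | zero => exact zero_mem _
    | tmul q x =>
      have h : q ⊗ₜ[ℤ] x = q • ((1 : ℚ) ⊗ₜ[ℤ] x) := by
        rw [TensorProduct.smul_tmul', smul_eq_mul, mul_one]
      rw [h]
      exact Submodule.smul_mem _ _ (tmul_mem_Vn P 0 (gammaFiltration_zero P x))
    | add a b ha hb => exact add_mem ha hb
  rw [eq_top_iff]
  intro v _
  exact hall v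

theorem Vn_anti (P : PosStructure K) {a b : ℕ} (hab : a ≤ b) : Vn P b ≤ Vn P a :=
  Submodule.span_mono
    (Set.image_mono (SetLike.coe_subset_coe.2 (gammaFiltration_anti P a b hab)))

theorem Vn_bot (P : PosStructure K) (d : ℕ) (hd : gammaFiltration P (d + 1) = ⊥) :
    Vn P (d + 1) = ⊥ := by
  unfold Vn
  rw [hd, Submodule.span_eq_bot]
  rintro _ ⟨x, hx, rfl⟩
  have hx0 : x = 0 := AddSubgroup.mem_bot.1 hx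
  subst hx0
  exact TensorProduct.tmul_zero _ _

theorem smul_one_tmul (j' n : ℕ) (x : K) :
    ((j' : ℚ) ^ n) • ((1 : ℚ) ⊗ₜ[ℤ] x) = (1 : ℚ) ⊗ₜ[ℤ] ((j' : K) ^ n * x) := by
  rw [TensorProduct.smul_tmul', smul_eq_mul, mul_one]
  have h := TensorProduct.smul_tmul (R := ℤ) (R' := ℤ) ((j' : ℤ) ^ n) (1 : ℚ) x
  rw [zsmul_eq_mul, zsmul_eq_mul, mul_one] at h
  push_cast at h
  exact h

theorem sub_smul_mem (P : PosStructure K) (hK : HasSplitting K P) (j' : ℕ)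
    (Ψ : ℚ ⊗[ℤ] K →ₗ[ℚ] ℚ ⊗[ℤ] K)
    (hΨ : ∀ x : K, Ψ (1 ⊗ₜ[ℤ] x) = 1 ⊗ₜ[ℤ] adams P j' x)
    (n : ℕ) (v : ℚ ⊗[ℤ] K) (hv : v ∈ Vn P n) :
    Ψ v - ((j' : ℚ) ^ n) • v ∈ Vn P (n + 1) := by
  unfold Vn at hv
  induction hv using Submodule.span_induction with
  | mem v hv =>
    obtain ⟨x, hx, rfl⟩ := hv
    show Ψ ((1 : ℚ) ⊗ₜ[ℤ] x) - ((j' : ℚ) ^ n) • ((1 : ℚ) ⊗ₜ[ℤ] x) ∈ Vn P (n + 1)
    rw [hΨ, smul_one_tmul, ← TensorProduct.tmul_sub]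
    exact tmul_mem_Vn P (n + 1) (adams_sub_mem P hK j' n x hx)
  | zero =>
    rw [map_zero, smul_zero, sub_zero]
    exact zero_mem _
  | add a b _ _ ha hb =>
    have e : Ψ (a + b) - ((j' : ℚ) ^ n) • (a + b) =
        (Ψ a - ((j' : ℚ) ^ n) • a) + (Ψ b - ((j' : ℚ) ^ n) • b) := by
      rw [map_add, smul_add]
      abel
    rw [e]
    exact add_mem ha hb
  | smul q a _ ha =>
    have e : Ψ (q • a) - ((j' : ℚ) ^ n) • (q • a) = q • (Ψ a - ((j' : ℚ) ^ n) • a) := by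
      rw [map_smul, smul_sub, smul_comm ((j' : ℚ) ^ n) q a]
    rw [e]
    exact Submodule.smul_mem _ _ ha

theorem pow_sub_ne (j' : ℕ) (hj : 2 ≤ j') (m n : ℕ) (hmn : n ≠ m) :
    (j' : ℚ) ^ m - (j' : ℚ) ^ n ≠ 0 := by
  intro h
  rw [sub_eq_zero] at h
  have h' : j' ^ m = j' ^ n := by exact_mod_cast h
  exact hmn (Nat.pow_right_injective hj h').symm

theorem step (P : PosStructure K) (hK : HasSplitting K P) (j' : ℕ)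
    (Ψ : ℚ ⊗[ℤ] K →ₗ[ℚ] ℚ ⊗[ℤ] K)
    (hΨ : ∀ x : K, Ψ (1 ⊗ₜ[ℤ] x) = 1 ⊗ₜ[ℤ] adams P j' x)
    (hj : 2 ≤ j') (m n : ℕ) (hmn : n ≠ m) (v : ℚ ⊗[ℤ] K)
    (hev : Ψ v = ((j' : ℚ) ^ m) • v) (hv : v ∈ Vn P n) : v ∈ Vn P (n + 1) := by
  have h1 := sub_smul_mem P hK j' Ψ hΨ n v hv
  rw [hev, ← sub_smul] at h1
  have hne := pow_sub_ne j' hj m n hmn
  have h2 := Submodule.smul_mem _ ((j' : ℚ) ^ m - (j' : ℚ) ^ n)⁻¹ h1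
  rwa [smul_smul, inv_mul_cancel₀ hne, one_smul] at h2

theorem mem_of_eigen (P : PosStructure K) (hK : HasSplitting K P) (j' : ℕ)
    (Ψ : ℚ ⊗[ℤ] K →ₗ[ℚ] ℚ ⊗[ℤ] K)
    (hΨ : ∀ x : K, Ψ (1 ⊗ₜ[ℤ] x) = 1 ⊗ₜ[ℤ] adams P j' x)
    (hj : 2 ≤ j') (m : ℕ) (v : ℚ ⊗[ℤ] K) (hev : Ψ v = ((j' : ℚ) ^ m) • v) :
    ∀ n, n ≤ m → v ∈ Vn P n := by
  intro n
  induction n with
  | zero =>
    intro _
    rw [Vn_zero]
    exact Submodule.mem_top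
  | succ n ih =>
    intro hn
    exact step P hK j' Ψ hΨ hj m n (by omega) v hev (ih (by omega))

theorem eq_zero_of_eigen (P : PosStructure K) (hK : HasSplitting K P) (j' : ℕ)
    (Ψ : ℚ ⊗[ℤ] K →ₗ[ℚ] ℚ ⊗[ℤ] K)
    (hΨ : ∀ x : K, Ψ (1 ⊗ₜ[ℤ] x) = 1 ⊗ₜ[ℤ] adams P j' x)
    (d : ℕ) (hd : gammaFiltration P (d + 1) = ⊥)
    (hj : 2 ≤ j') (m : ℕ) (v : ℚ ⊗[ℤ] K) (hev : Ψ v = ((j' : ℚ) ^ m) • v)
    (hv : v ∈ Vn P (m + 1)) : v = 0 := by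
  have h : ∀ k, v ∈ Vn P (m + 1 + k) := by
    intro k
    induction k with
    | zero => exact hv
    | succ k ih =>
      have h3 := step P hK j' Ψ hΨ hj m (m + 1 + k) (by omega) v hev ih
      exact h3
  have h2 := Vn_anti P (show d + 1 ≤ m + 1 + d by omega) (h d)
  rw [Vn_bot P d hd] at h2
  exact (Submodule.mem_bot ℚ).1 h2

theorem comm (P : PosStructure K) (hK : HasSplitting K P) (j' : ℕ)
    (Ψ : ℚ ⊗[ℤ] K →ₗ[ℚ] ℚ ⊗[ℤ] K)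
    (hΨ : ∀ x : K, Ψ (1 ⊗ₜ[ℤ] x) = 1 ⊗ₜ[ℤ] adams P j' x) (l' : ℕ)
    (Ψ' : ℚ ⊗[ℤ] K →ₗ[ℚ] ℚ ⊗[ℤ] K)
    (hΨ' : ∀ x : K, Ψ' (1 ⊗ₜ[ℤ] x) = 1 ⊗ₜ[ℤ] adams P l' x) :
    Ψ ∘ₗ Ψ' = Ψ' ∘ₗ Ψ := by
  have hspan := Vn_zero P
  unfold Vn at hspan
  apply LinearMap.ext_on hspan
  rintro _ ⟨x, _, rfl⟩
  show Ψ (Ψ' ((1 : ℚ) ⊗ₜ[ℤ] x)) = Ψ' (Ψ ((1 : ℚ) ⊗ₜ[ℤ] x))
  rw [hΨ', hΨ, hΨ, hΨ', Groth.Agent.S3286.result K P hK, Groth.Agent.S3286.result K P hK,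
    mul_comm]

theorem eigen_le (P : PosStructure K) (hK : HasSplitting K P) (j' : ℕ)
    (Ψ : ℚ ⊗[ℤ] K →ₗ[ℚ] ℚ ⊗[ℤ] K)
    (hΨ : ∀ x : K, Ψ (1 ⊗ₜ[ℤ] x) = 1 ⊗ₜ[ℤ] adams P j' x)
    (d : ℕ) (hd : gammaFiltration P (d + 1) = ⊥) (hj : 2 ≤ j') (l' : ℕ)
    (Ψ' : ℚ ⊗[ℤ] K →ₗ[ℚ] ℚ ⊗[ℤ] K)
    (hΨ' : ∀ x : K, Ψ' (1 ⊗ₜ[ℤ] x) = 1 ⊗ₜ[ℤ] adams P l' x) (m : ℕ) :
    Module.End.eigenspace Ψ ((j' : ℚ) ^ m) ≤ Module.End.eigenspace Ψ' ((l' : ℚ) ^ m) := by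
  intro v hv
  rw [Module.End.mem_eigenspace_iff] at hv ⊢
  have hvm : v ∈ Vn P m := mem_of_eigen P hK j' Ψ hΨ hj m v hv m le_rfl
  have hw : Ψ' v - ((l' : ℚ) ^ m) • v ∈ Vn P (m + 1) := sub_smul_mem P hK l' Ψ' hΨ' m v hvm
  have hcomm : ∀ u, Ψ (Ψ' u) = Ψ' (Ψ u) := fun u =>
    LinearMap.congr_fun (comm P hK j' Ψ hΨ l' Ψ' hΨ') u
  have hev : Ψ (Ψ' v - ((l' : ℚ) ^ m) • v) =
      ((j' : ℚ) ^ m) • (Ψ' v - ((l' : ℚ) ^ m) • v) := by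
    rw [map_sub, map_smul, hcomm, hv, map_smul, smul_sub,
      smul_comm ((l' : ℚ) ^ m) ((j' : ℚ) ^ m) v]
  have h0 := eq_zero_of_eigen P hK j' Ψ hΨ d hd hj m _ hev hw
  exact sub_eq_zero.mp h0

theorem Vn_le_iSup (P : PosStructure K) (hK : HasSplitting K P) (j' : ℕ)
    (Ψ : ℚ ⊗[ℤ] K →ₗ[ℚ] ℚ ⊗[ℤ] K)
    (hΨ : ∀ x : K, Ψ (1 ⊗ₜ[ℤ] x) = 1 ⊗ₜ[ℤ] adams P j' x)
    (d : ℕ) (hd : gammaFiltration P (d + 1) = ⊥) (hj : 2 ≤ j') :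
    ∀ k n, n + k = d + 1 →
      Vn P n ≤ ⨆ m ∈ Finset.Ico n (d + 1), Module.End.eigenspace Ψ ((j' : ℚ) ^ m) := by
  intro k
  induction k with
  | zero =>
    intro n hn
    have hn' : n = d + 1 := by omega
    subst hn'
    rw [Vn_bot P d hd]
    exact bot_le
  | succ k ih =>
    intro n hn
    have ih' := ih (n + 1) (by omega)
    intro v hv
    have hw := ih' (sub_smul_mem P hK j' Ψ hΨ n v hv)
    rw [Submodule.mem_iSup_finset_iff_exists_sum] at hw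
    obtain ⟨μ, hμ⟩ := hw
    obtain ⟨u, hu⟩ : ∃ u : ℚ ⊗[ℤ] K, u = ∑ m ∈ Finset.Ico (n + 1) (d + 1),
        ((j' : ℚ) ^ m - (j' : ℚ) ^ n)⁻¹ • (μ m : ℚ ⊗[ℤ] K) := ⟨_, rfl⟩
    have hmono : (⨆ m ∈ Finset.Ico (n + 1) (d + 1), Module.End.eigenspace Ψ ((j' : ℚ) ^ m)) ≤
        ⨆ m ∈ Finset.Ico n (d + 1), Module.End.eigenspace Ψ ((j' : ℚ) ^ m) := by
      apply biSup_mono
      intro m hm
      rw [Finset.mem_Ico] at hm ⊢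
      omega
    have hu_mem : u ∈ ⨆ m ∈ Finset.Ico n (d + 1),
        Module.End.eigenspace Ψ ((j' : ℚ) ^ m) := by
      apply hmono
      rw [hu]
      refine Submodule.sum_mem _ fun m hm => Submodule.smul_mem _ _ ?_
      exact (le_biSup (fun m => Module.End.eigenspace Ψ ((j' : ℚ) ^ m)) hm) (μ m).2
    have hu_ev : Ψ u - ((j' : ℚ) ^ n) • u = Ψ v - ((j' : ℚ) ^ n) • v := by
      rw [← hμ, hu, map_sum, Finset.smul_sum, ← Finset.sum_sub_distrib]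
      refine Finset.sum_congr rfl fun m hm => ?_
      have hm' := Finset.mem_Ico.mp hm
      have hne := pow_sub_ne j' hj m n (by omega)
      have hμm : Ψ (μ m : ℚ ⊗[ℤ] K) = ((j' : ℚ) ^ m) • (μ m : ℚ ⊗[ℤ] K) :=
        Module.End.mem_eigenspace_iff.mp (μ m).2
      rw [map_smul, hμm, smul_comm ((j' : ℚ) ^ n), ← smul_sub, ← sub_smul, smul_smul,
        inv_mul_cancel₀ hne, one_smul]
    have hdiff : v - u ∈ Module.End.eigenspace Ψ ((j' : ℚ) ^ n) := by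
      rw [Module.End.mem_eigenspace_iff, map_sub, smul_sub]
      calc Ψ v - Ψ u = (Ψ v - ((j' : ℚ) ^ n) • v) - (Ψ u - ((j' : ℚ) ^ n) • u) +
            (((j' : ℚ) ^ n) • v - ((j' : ℚ) ^ n) • u) := by abel
        _ = ((j' : ℚ) ^ n) • v - ((j' : ℚ) ^ n) • u := by rw [hu_ev, sub_self, zero_add]
    have hv_eq : v = (v - u) + u := by abel
    rw [hv_eq]
    refine add_mem ?_ hu_mem
    exact (le_biSup (fun m => Module.End.eigenspace Ψ ((j' : ℚ) ^ m))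
      (Finset.mem_Ico.mpr ⟨le_rfl, by omega⟩)) hdiff

theorem iSup_eq_top (P : PosStructure K) (hK : HasSplitting K P) (j' : ℕ)
    (Ψ : ℚ ⊗[ℤ] K →ₗ[ℚ] ℚ ⊗[ℤ] K)
    (hΨ : ∀ x : K, Ψ (1 ⊗ₜ[ℤ] x) = 1 ⊗ₜ[ℤ] adams P j' x)
    (d : ℕ) (hd : gammaFiltration P (d + 1) = ⊥) (hj : 2 ≤ j') :
    (⨆ m ∈ Finset.range (d + 1), Module.End.eigenspace Ψ ((j' : ℚ) ^ m)) = ⊤ := by
  have h := Vn_le_iSup P hK j' Ψ hΨ d hd hj (d + 1) 0 (by omega)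
  rw [Vn_zero, ← Finset.range_eq_Ico] at h
  exact top_le_iff.mp h

end Groth.Agent.Helper8.AdamsEigen
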