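import Mathlib
import Groth.Prelude.Def_AssocGrMod

set_option autoImplicit false
universe u

namespace Groth.Agent.Helper8.AdicGrLib

open AssocGr Polynomial

section
variable {A : Type u} [CommRing A] {I : Ideal A} {M : Type u} [AddCommGroup M] [Module A M]
  (F : I.Filtration M)

theorem coeff_smul_monomM (f : ↥(FiltBl.IdealFiltration.adic I).rees) (d : ℕ) (x : F.N d) (n : ℕ) :
    ReesM.coeff F (f • monomM F d x) n =
      if d ≤ n then (f : A[X]).coeff (n - d) • (x : M) else 0 := by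
  rw [ReesM.coeff_smul]
  simp only [ReesM.coeff_monomM, smul_ite, smul_zero]
  split_ifs with hdn
  · rw [Finset.sum_eq_single (n - d, d)]
    · rw [if_pos rfl]
    · rintro ⟨p, q⟩ hp hne
      rw [Finset.HasAntidiagonal.mem_antidiagonal] at hp
      rw [if_neg]
      intro hq
      apply hne
      simp only at hp hq
      subst hq
      rw [Prod.mk.injEq]
      exact ⟨by omega, rfl⟩
    · intro hnot
      exact absurd (Finset.HasAntidiagonal.mem_antidiagonal.2 (Nat.sub_add_cancel hdn)) hnot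
  · refine Finset.sum_eq_zero fun p hp => ?_
    rw [Finset.HasAntidiagonal.mem_antidiagonal] at hp
    rw [if_neg]
    intro hq
    exact hdn (by omega)

variable {k : ℕ} (d : Fin k → ℕ) (x : (i : Fin k) → ↥(F.N (d i)))

theorem step (n : ℕ) (y : M) (hy : y ∈ F.N n)
    (hmem : (inDegM F n ⟨y, hy⟩ : GrMod F) ∈
      Submodule.span (GrRing (FiltBl.IdealFiltration.adic I))
        (Set.range fun i => (inDegM F (d i) (x i) : GrMod F))) :
    ∃ a : Fin k → A, (∀ i, a i ∈ I ^ (n - d i)) ∧ y - ∑ i, a i • (x i : M) ∈ F.N (n + 1) := by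
  classical
  obtain ⟨g, hg⟩ := (Submodule.mem_span_range_iff_exists_fun _).1 hmem
  choose f hf using fun i => mkG_surjective (FiltBl.IdealFiltration.adic I) (g i)
  have h1 : mkGM F (monomM F n ⟨y, hy⟩ - ∑ i, f i • monomM F (d i) (x i)) = 0 := by
    rw [map_sub, map_sum, sub_eq_zero, ← coe_inDegM, ← hg]
    refine Finset.sum_congr rfl fun i _ => ?_
    rw [← hf i, coe_inDegM, mkG_smul_mkGM]
  rw [mkGM_eq_zero_iff, mem_succMod_iff] at h1
  have h2 := h1 n
  rw [← ReesM.coeffHom_apply, map_sub, map_sum] at h2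
  simp only [ReesM.coeffHom_apply, ReesM.coeff_monomM, coeff_smul_monomM, if_true] at h2
  refine ⟨fun i => if d i ≤ n then ((f i : A[X]).coeff (n - d i)) else 0, fun i => ?_, ?_⟩
  · dsimp only
    split_ifs with h
    · exact (f i).2 (n - d i)
    · exact Ideal.zero_mem _
  · convert h2 using 3
    rename_i i _
    dsimp only
    split_ifs with h
    · rfl
    · rw [zero_smul]

/-- The approximating sequence. -/
noncomputable def seqAux (a : ℕ → M → Fin k → A) (xs : Fin k → M) (n₀ : ℕ) (y : M) : ℕ → M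
  | 0 => y
  | j + 1 => seqAux a xs n₀ y j - ∑ i, a (n₀ + j) (seqAux a xs n₀ y j) i • xs i

theorem exists_repr [IsPrecomplete I A] (hsep : ⨅ n, F.N n = ⊥) (P : Submodule A M)
    (hxP : ∀ i, (x i : M) ∈ P)
    (hP : ∀ (n : ℕ) (y : M) (hy : y ∈ F.N n), y ∈ P → (inDegM F n ⟨y, hy⟩ : GrMod F) ∈
      Submodule.span (GrRing (FiltBl.IdealFiltration.adic I))
        (Set.range fun i => (inDegM F (d i) (x i) : GrMod F)))
    (n₀ : ℕ) (y : M) (hy : y ∈ F.N n₀) (hyP : y ∈ P) :
    ∃ L : Fin k → A, (∀ i, L i ∈ I ^ (n₀ - d i)) ∧ y = ∑ i, L i • (x i : M) := by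
  classical
  have stepAll : ∀ (n : ℕ) (z : M), ∃ a : Fin k → A, (∀ i, a i ∈ I ^ (n - d i)) ∧
      (z ∈ F.N n → z ∈ P → z - ∑ i, a i • (x i : M) ∈ F.N (n + 1)) := by
    intro n z
    by_cases hz : z ∈ F.N n ∧ z ∈ P
    · obtain ⟨a, ha1, ha2⟩ := step F d x n z hz.1 (hP n z hz.1 hz.2)
      exact ⟨a, ha1, fun _ _ => ha2⟩
    · exact ⟨fun _ => 0, fun _ => Ideal.zero_mem _, fun h1 h2 => absurd ⟨h1, h2⟩ hz⟩
  choose a ha1 ha2 using stepAll
  set ys : ℕ → M := seqAux a (fun i => (x i : M)) n₀ y with hys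
  set c : ℕ → Fin k → A := fun j i => a (n₀ + j) (ys j) i with hcdef
  have ys0 : ys 0 = y := rfl
  have ysS : ∀ j, ys (j + 1) = ys j - ∑ i, c j i • (x i : M) := fun j => rfl
  have ysmem : ∀ j, ys j ∈ F.N (n₀ + j) ∧ ys j ∈ P := by
    intro j
    induction j with
    | zero => exact ⟨hy, hyP⟩
    | succ j ih =>
      rw [ysS]
      exact ⟨ha2 _ _ ih.1 ih.2,
        P.sub_mem ih.2 (P.sum_mem fun i _ => P.smul_mem _ (hxP i))⟩
  have hc : ∀ j i, c j i ∈ I ^ (n₀ + j - d i) := fun j i => ha1 _ _ i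
  have hsum : ∀ j, y = ys j + ∑ i, (∑ l ∈ Finset.range j, c l i) • (x i : M) := by
    intro j
    induction j with
    | zero => simp [ys0]
    | succ j ih =>
      refine ih.trans ?_
      rw [ysS]
      simp only [Finset.sum_range_succ, add_smul, Finset.sum_add_distrib]
      abel
  have hcauchy : ∀ i, ∃ L : A, ∀ m, (∑ l ∈ Finset.range (m + d i), c l i) ≡ L
      [SMOD (I ^ m • ⊤ : Submodule A A)] := by
    intro i
    apply IsPrecomplete.prec ‹IsPrecomplete I A›
    intro m n hmn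
    rw [SModEq.sub_mem, smul_eq_mul, Ideal.mul_top]
    have hdiff : ∑ l ∈ Finset.range (m + d i), c l i - ∑ l ∈ Finset.range (n + d i), c l i =
        -∑ l ∈ Finset.Ico (m + d i) (n + d i), c l i := by
      rw [Finset.sum_Ico_eq_sub _ (by omega : m + d i ≤ n + d i)]; ring
    rw [hdiff]
    refine (I ^ m).neg_mem (Ideal.sum_mem _ fun l hl => ?_)
    rw [Finset.mem_Ico] at hl
    exact Ideal.pow_le_pow_right (by omega : m ≤ n₀ + l - d i) (hc l i)
  choose L hL using hcauchy
  have hLmem : ∀ i, L i ∈ I ^ (n₀ - d i) := by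
    intro i
    have h2 := hL i n₀
    rw [SModEq.sub_mem, smul_eq_mul, Ideal.mul_top] at h2
    have h3 : ∑ l ∈ Finset.range (n₀ + d i), c l i ∈ I ^ (n₀ - d i) :=
      Ideal.sum_mem _ fun l _ => Ideal.pow_le_pow_right (by omega) (hc l i)
    have h4 : ∑ l ∈ Finset.range (n₀ + d i), c l i - L i ∈ I ^ (n₀ - d i) :=
      Ideal.pow_le_pow_right (by omega) h2
    have := (I ^ (n₀ - d i)).sub_mem h3 h4
    rwa [sub_sub_cancel] at this
  have hzero : y - ∑ i, L i • (x i : M) ∈ (⨅ n, F.N n) := by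
    rw [Submodule.mem_iInf]
    intro n
    set D := Finset.univ.sup d with hD
    have hdD : ∀ i, d i ≤ D := fun i => Finset.le_sup (Finset.mem_univ i)
    have h1 := hsum (n + D)
    have hrw : y - ∑ i, L i • (x i : M) =
        ys (n + D) + ∑ i, ((∑ l ∈ Finset.range (n + D), c l i) - L i) • (x i : M) := by
      conv_lhs => rw [h1]
      simp only [sub_smul, Finset.sum_sub_distrib]
      abel
    rw [hrw]
    refine (F.N n).add_mem (F.antitone (by omega) (ysmem (n + D)).1)
      (Submodule.sum_mem _ fun i _ => ?_)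
    have hcoef : (∑ l ∈ Finset.range (n + D), c l i) - L i ∈ I ^ n := by
      have h2 := hL i (n + D - d i)
      have hle := hdD i
      rw [SModEq.sub_mem, smul_eq_mul, Ideal.mul_top,
        Nat.sub_add_cancel (by omega : d i ≤ n + D)] at h2
      exact Ideal.pow_le_pow_right (by omega) h2
    have h3 : ((∑ l ∈ Finset.range (n + D), c l i) - L i) • (x i : M) ∈ F.N (n + d i) :=
      F.pow_smul_le n (d i) (Submodule.smul_mem_smul hcoef (x i).2)
    exact F.antitone (Nat.le_add_right n (d i)) h3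
  rw [hsep, Submodule.mem_bot, sub_eq_zero] at hzero
  exact ⟨L, hLmem, hzero⟩

end

end Groth.Agent.Helper8.AdicGrLib
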