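import Mathlib
import Groth.Prelude.Def_AssocGrMod
import Groth.Agent.Lib.Helper8.AdicGrLib

set_option autoImplicit false
universe u

namespace Groth.Agent.Helper8.AdicGrLib

open AssocGr Polynomial

section
variable {A : Type u} [CommRing A] {I : Ideal A} {M : Type u} [AddCommGroup M] [Module A M]
  (F : I.Filtration M)

/-- The initial forms of the elements of a submodule. -/
def gens (M' : Submodule A M) : Set (GrMod F) :=
  {ξ | ∃ (n : ℕ) (y : M) (hy : y ∈ F.N n), y ∈ M' ∧ ξ = (inDegM F n ⟨y, hy⟩ : GrMod F)}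

theorem span_gens_top :
    Submodule.span (GrRing (FiltBl.IdealFiltration.adic I)) (gens F ⊤) = ⊤ := by
  rw [eq_top_iff]
  intro z _
  obtain ⟨w, rfl⟩ := mkGM_surjective F z
  rw [← sum_termM F w, map_sum]
  refine Submodule.sum_mem _ fun n _ => ?_
  exact Submodule.subset_span
    ⟨n, ReesM.coeff F w n, ReesM.coeff_mem F w n, Submodule.mem_top, rfl⟩

theorem closed_and_fg [IsPrecomplete I A] (h0 : F.N 0 = ⊤) (hsep : ⨅ n, F.N n = ⊥)
    (M' : Submodule A M)
    (hfg : (Submodule.span (GrRing (FiltBl.IdealFiltration.adic I)) (gens F M')).FG) :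
    (⨅ n, M' ⊔ F.N n) ≤ M' ∧ M'.FG := by
  classical
  obtain ⟨s, hs1, hs2⟩ := (Submodule.fg_span_iff_fg_span_finset_subset _).1 hfg
  let e : Fin s.card ≃ ↥s := (Finset.equivFin s).symm
  choose dn yv hyv hyM hξ using fun i : Fin s.card => hs1 (e i).2
  have hrange : (Set.range fun i => (inDegM F (dn i) ⟨yv i, hyv i⟩ : GrMod F)) = (s : Set (GrMod F)) := by
    ext ξ
    constructor
    · rintro ⟨i, rfl⟩
      change (inDegM F (dn i) ⟨yv i, hyv i⟩ : GrMod F) ∈ (s : Set (GrMod F))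
      rw [← hξ i]
      exact (e i).2
    · intro h
      refine ⟨e.symm ⟨ξ, h⟩, ?_⟩
      change (inDegM F (dn (e.symm ⟨ξ, h⟩)) ⟨yv (e.symm ⟨ξ, h⟩), hyv _⟩ : GrMod F) = ξ
      rw [← hξ, Equiv.apply_symm_apply]
  have hle : M' ≤ ⨅ n, M' ⊔ F.N n := le_iInf fun n => le_sup_left
  have hP : ∀ (n : ℕ) (y : M) (hy : y ∈ F.N n), y ∈ (⨅ n, M' ⊔ F.N n) →
      (inDegM F n ⟨y, hy⟩ : GrMod F) ∈
        Submodule.span (GrRing (FiltBl.IdealFiltration.adic I))
          (Set.range fun i => (inDegM F (dn i) ⟨yv i, hyv i⟩ : GrMod F)) := by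
    intro n y hy hyP
    rw [hrange, ← hs2]
    rw [Submodule.mem_iInf] at hyP
    obtain ⟨m', hm', z, hz, hmz⟩ := Submodule.mem_sup.1 (hyP (n + 1))
    have hm'n : m' ∈ F.N n := by
      have : m' = y - z := by rw [← hmz]; abel
      rw [this]
      exact (F.N n).sub_mem hy (F.antitone (Nat.le_succ n) hz)
    have heq : inDegM F n ⟨y, hy⟩ = inDegM F n ⟨m', hm'n⟩ := by
      rw [← sub_eq_zero, ← map_sub, inDegM_eq_zero_iff]
      change y - m' ∈ F.N (n + 1)
      have : y - m' = z := by rw [← hmz]; abel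
      rw [this]
      exact hz
    rw [heq]
    exact Submodule.subset_span ⟨n, m', hm'n, hm', rfl⟩
  have hrepr : ∀ y ∈ (⨅ n, M' ⊔ F.N n), ∃ L : Fin s.card → A, y = ∑ i, L i • yv i := by
    intro y hy
    obtain ⟨L, _, hL⟩ := exists_repr F dn (fun i => ⟨yv i, hyv i⟩) hsep (⨅ n, M' ⊔ F.N n)
      (fun i => hle (hyM i)) hP 0 y (by rw [h0]; exact Submodule.mem_top) hy
    exact ⟨L, hL⟩
  constructor
  · intro y hy
    obtain ⟨L, hL⟩ := hrepr y hy
    rw [hL]
    exact M'.sum_mem fun i _ => M'.smul_mem _ (hyM i)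
  · have hspan : M' = Submodule.span A (Set.range yv) := by
      apply le_antisymm
      · intro y hy
        obtain ⟨L, hL⟩ := hrepr y (hle hy)
        rw [hL]
        exact Submodule.sum_mem _ fun i _ =>
          Submodule.smul_mem _ _ (Submodule.subset_span ⟨i, rfl⟩)
      · rw [Submodule.span_le]
        rintro _ ⟨i, rfl⟩
        exact hyM i
    rw [hspan]
    exact Submodule.fg_span (Set.finite_range _)

end

end Groth.Agent.Helper8.AdicGrLib
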