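import Mathlib

/-!
A polynomial over an algebraically closed field with a nonzero coefficient below its degree has a
nonzero root (helper8).
-/

namespace Groth.Agent.Helper8

open Polynomial

theorem exists_ne_zero_root_of_coeff_ne_zero {k : Type*} [Field k] [IsAlgClosed k] (P : k[X])
    (m : ℕ) (hm : m < P.natDegree) (hc : P.coeff m ≠ 0) : ∃ z : k, z ≠ 0 ∧ P.eval z = 0 := by
  by_contra hcon
  push Not at hcon
  have hP0 : P ≠ 0 := by
    rintro rfl
    simp at hc
  have hsplit := IsAlgClosed.splits P
  have hroots : P.roots = Multiset.replicate P.natDegree 0 := by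
    rw [Multiset.eq_replicate]
    refine ⟨hsplit.natDegree_eq_card_roots.symm, ?_⟩
    intro z hz
    by_contra hz0
    exact hcon z hz0 ((Polynomial.mem_roots hP0).mp hz)
  have hPeq := hsplit.eq_prod_roots
  rw [hroots, Multiset.map_replicate, Multiset.prod_replicate, map_zero, sub_zero] at hPeq
  apply hc
  rw [hPeq, Polynomial.coeff_C_mul, Polynomial.coeff_X_pow, if_neg hm.ne, mul_zero]

end Groth.Agent.Helper8
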