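import Mathlib
import Groth.Agent.Lib.Helper8.LocalCrit

/-!
# Flatness descends along injective maps out of Artinian rings (helper8)
-/

set_option autoImplicit false

universe u v

namespace Groth.Agent.Helper8.ArtinFlat

open TensorProduct Function

/-- Nakayama for nilpotent ideals. -/
theorem le_of_le_sup_smul_of_pow_eq_bot {R M : Type*} [CommRing R] [AddCommGroup M] [Module R M]
    (I : Ideal R) (n : ℕ) (hn : I ^ n = ⊥) (N : Submodule R M)
    (h : (⊤ : Submodule R M) ≤ N ⊔ I • ⊤) : (⊤ : Submodule R M) ≤ N := by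
  have key : ∀ j : ℕ, (⊤ : Submodule R M) ≤ N ⊔ I ^ j • ⊤ := by
    intro j
    induction j with
    | zero => rw [pow_zero, Ideal.one_eq_top, Submodule.top_smul]; exact le_sup_right
    | succ j ih =>
      calc (⊤ : Submodule R M) ≤ N ⊔ I ^ j • ⊤ := ih
        _ ≤ N ⊔ I ^ j • (N ⊔ I • ⊤) := sup_le_sup_left (Submodule.smul_mono le_rfl h) N
        _ ≤ N ⊔ I ^ (j + 1) • ⊤ := by
          rw [Submodule.smul_sup, ← Submodule.mul_smul, ← pow_succ]
          exact sup_le le_sup_left (sup_le (le_sup_of_le_left Submodule.smul_le_right) le_sup_right)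
  have h1 := key n
  rwa [hn, Submodule.bot_smul, sup_bot_eq] at h1

/-- A submodule `K` with `K ≤ I • K` for a nilpotent ideal vanishes. -/
theorem subsingleton_of_top_le_smul_top {R K : Type*} [CommRing R] [AddCommGroup K] [Module R K]
    (I : Ideal R) (n : ℕ) (hn : I ^ n = ⊥) (h : (⊤ : Submodule R K) ≤ I • ⊤) : Subsingleton K := by
  have key : ∀ j : ℕ, (⊤ : Submodule R K) ≤ I ^ j • ⊤ := by
    intro j
    induction j with
    | zero => rw [pow_zero, Ideal.one_eq_top, Submodule.top_smul]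
    | succ j ih =>
      calc (⊤ : Submodule R K) ≤ I ^ j • ⊤ := ih
        _ ≤ I ^ j • (I • ⊤) := Submodule.smul_mono le_rfl h
        _ = I ^ (j + 1) • ⊤ := by rw [← Submodule.mul_smul, ← pow_succ]
  have h1 := key n
  rw [hn, Submodule.bot_smul] at h1
  exact ⟨fun x y => by
    have hx : x ∈ (⊥ : Submodule R K) := h1 Submodule.mem_top
    have hy : y ∈ (⊥ : Submodule R K) := h1 Submodule.mem_top
    rw [Submodule.mem_bot] at hx hy
    rw [hx, hy]⟩

theorem one_tmul_smul {R : Type*} [CommRing R] (m : Ideal R) {M : Type*} [AddCommGroup M]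
    [Module R M] (r : R) (x : M) :
    (1 : R ⧸ m) ⊗ₜ[R] (r • x) = (Ideal.Quotient.mk m r) • ((1 : R ⧸ m) ⊗ₜ[R] x) := by
  rw [TensorProduct.smul_tmul', ← TensorProduct.smul_tmul, smul_eq_mul, mul_one,
    Algebra.smul_def, mul_one]
  rfl

/-- Local case: maximal nilpotent ideal. -/
theorem flat_of_baseChange_flat_of_isMaximal_nilpotent {R S M : Type u} [CommRing R] [CommRing S]
    [Algebra R S] (m : Ideal R) [hmax : m.IsMaximal] (n : ℕ) (hnil : m ^ n = ⊥)
    (hinj : Injective (algebraMap R S))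
    [AddCommGroup M] [Module R M] [Module.Flat S (S ⊗[R] M)] : Module.Flat R M := by
  classical
  haveI hfree : Module.Free (R ⧸ m) ((R ⧸ m) ⊗[R] M) := by
    letI : Field (R ⧸ m) := Ideal.Quotient.field m
    exact inferInstance
  let bk := Module.Free.chooseBasis (R ⧸ m) ((R ⧸ m) ⊗[R] M)
  have hb : ∀ i, ∃ x : M, bk i = (1 : R ⧸ m) ⊗ₜ[R] x :=
    fun i => FlatLocal.exists_one_tmul_eq m (bk i)
  choose mb hmb using hb
  let φ : (Module.Free.ChooseBasisIndex (R ⧸ m) ((R ⧸ m) ⊗[R] M) →₀ R) →ₗ[R] M :=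
    Finsupp.linearCombination R mb
  have hφsingle : ∀ i, φ (Finsupp.single i 1) = mb i := fun i => by
    simp only [φ, Finsupp.linearCombination_single, one_smul]
  -- surjectivity
  have hφsurj : Surjective φ := by
    rw [← LinearMap.range_eq_top, eq_top_iff]
    apply le_of_le_sup_smul_of_pow_eq_bot m n hnil
    intro y _
    have hs : ∀ i, ∃ r : R, Ideal.Quotient.mk m r = bk.repr ((1 : R ⧸ m) ⊗ₜ[R] y) i :=
      fun i => Ideal.Quotient.mk_surjective _
    choose r hr using hs
    let d : Module.Free.ChooseBasisIndex (R ⧸ m) ((R ⧸ m) ⊗[R] M) →₀ R :=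
      ∑ i ∈ (bk.repr ((1 : R ⧸ m) ⊗ₜ[R] y)).support, Finsupp.single i (r i)
    have hφd : φ d = ∑ i ∈ (bk.repr ((1 : R ⧸ m) ⊗ₜ[R] y)).support, r i • mb i := by
      simp only [d, map_sum, φ, Finsupp.linearCombination_single]
    have h1 : (1 : R ⧸ m) ⊗ₜ[R] (y - φ d) = 0 := by
      rw [TensorProduct.tmul_sub, sub_eq_zero, hφd, TensorProduct.tmul_sum]
      conv_lhs => rw [← bk.linearCombination_repr ((1 : R ⧸ m) ⊗ₜ[R] y)]
      rw [Finsupp.linearCombination_apply, Finsupp.sum]
      refine Finset.sum_congr rfl (fun i _ => ?_)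
      rw [one_tmul_smul, hr i, hmb i]
    rw [FlatLocal.one_tmul_eq_zero_iff] at h1
    have h2 : y = φ d + (y - φ d) := by abel
    rw [h2]
    exact Submodule.add_mem _ (Submodule.mem_sup_left ⟨d, rfl⟩) (Submodule.mem_sup_right h1)
  -- the `S`-side
  let φS : S ⊗[R] (Module.Free.ChooseBasisIndex (R ⧸ m) ((R ⧸ m) ⊗[R] M) →₀ R) →ₗ[S] S ⊗[R] M :=
    AlgebraTensorModule.lTensor S S φ
  have hφS : ∀ (s : S) (x : Module.Free.ChooseBasisIndex (R ⧸ m) ((R ⧸ m) ⊗[R] M) →₀ R),
      φS (s ⊗ₜ x) = s ⊗ₜ φ x := fun s x => rfl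
  have hφSsurj : Surjective φS := LinearMap.lTensor_surjective S hφsurj
  let e := TensorProduct.finsuppScalarRight R S S
    (Module.Free.ChooseBasisIndex (R ⧸ m) ((R ⧸ m) ⊗[R] M))
  have hA : ∀ x : S ⊗[R] (Module.Free.ChooseBasisIndex (R ⧸ m) ((R ⧸ m) ⊗[R] M) →₀ R), φS x = 0 →
      x ∈ (m.map (algebraMap R S)) • (⊤ : Submodule S
        (S ⊗[R] (Module.Free.ChooseBasisIndex (R ⧸ m) ((R ⧸ m) ⊗[R] M) →₀ R))) := by
    intro x hx
    have hxe : x = ∑ i ∈ (e x).support, (e x i) ⊗ₜ[R] (Finsupp.single i (1 : R)) := by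
      apply e.injective
      rw [map_sum]
      conv_lhs => rw [← Finsupp.sum_single (e x)]
      rw [Finsupp.sum]
      refine Finset.sum_congr rfl (fun i _ => ?_)
      have h9 := TensorProduct.finsuppScalarRight_symm_apply_single (R := R) (S := S) (M := S) i (e x i)
      rw [← h9]
      exact (LinearEquiv.apply_symm_apply e _).symm
    let Ψ : S ⊗[R] M →ₗ[R] (S ⧸ m.map (algebraMap R S)) ⊗[R ⧸ m] ((R ⧸ m) ⊗[R] M) :=
      ((AlgebraTensorModule.cancelBaseChange R (R ⧸ m) (R ⧸ m)
        (S ⧸ m.map (algebraMap R S)) M).symm.toLinearMap.restrictScalars R) ∘ₗ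
        (LinearMap.rTensor M ((Ideal.Quotient.mkₐ R (m.map (algebraMap R S))).toLinearMap))
    have hΨ : ∀ (s : S) (y : M), Ψ (s ⊗ₜ y) =
        (Ideal.Quotient.mk (m.map (algebraMap R S)) s) ⊗ₜ ((1 : R ⧸ m) ⊗ₜ y) := fun s y => rfl
    have h0 : Ψ (φS x) = 0 := by rw [hx, map_zero]
    rw [hxe, map_sum, map_sum] at h0
    have h1 : ∀ i, Ψ (φS ((e x i) ⊗ₜ[R] (Finsupp.single i (1 : R)))) =
        (Ideal.Quotient.mk (m.map (algebraMap R S)) (e x i)) •
          (bk.baseChange (S ⧸ m.map (algebraMap R S))) i := by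
      intro i
      rw [hφS, hφsingle, hΨ, Module.Basis.baseChange_apply, hmb i, TensorProduct.smul_tmul',
        smul_eq_mul, mul_one]
    simp only [h1] at h0
    have h2 := (linearIndependent_iff'.mp
      (bk.baseChange (S ⧸ m.map (algebraMap R S))).linearIndependent) _ _ h0
    rw [hxe]
    refine Submodule.sum_mem _ (fun i hi => ?_)
    have h3 : e x i ∈ m.map (algebraMap R S) := Ideal.Quotient.eq_zero_iff_mem.mp (h2 i hi)
    have h4 : (e x i) ⊗ₜ[R] (Finsupp.single i (1 : R)) =
        (e x i) • ((1 : S) ⊗ₜ[R] (Finsupp.single i (1 : R))) := by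
      rw [TensorProduct.smul_tmul', smul_eq_mul, mul_one]
    rw [h4]
    exact Submodule.smul_mem_smul h3 Submodule.mem_top
  -- the kernel of `φS` is `I`-divisible, hence zero
  have hexS : Exact (LinearMap.ker φS).subtype φS := LinearMap.exact_subtype_ker_map φS
  have hTS := LocalCrit.lTensor_injective_of_flat_coker (R := S) (N₁ := LinearMap.ker φS)
    (N₂ := S ⊗[R] (Module.Free.ChooseBasisIndex (R ⧸ m) ((R ⧸ m) ⊗[R] M) →₀ R))
    (N₃ := S ⊗[R] M) (g₁ := (LinearMap.ker φS).subtype) (g₂ := φS)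
    hexS hφSsurj (Submodule.injective_subtype _) (S ⧸ m.map (algebraMap R S))
  have hB : (⊤ : Submodule S (LinearMap.ker φS)) ≤ (m.map (algebraMap R S)) • ⊤ := by
    intro z _
    have h1 : ((LinearMap.ker φS).subtype.lTensor (S ⧸ m.map (algebraMap R S)))
        ((1 : S ⧸ m.map (algebraMap R S)) ⊗ₜ[S] z) = 0 := by
      rw [LinearMap.lTensor_tmul, FlatLocal.one_tmul_eq_zero_iff]
      exact hA z.1 (LinearMap.mem_ker.mp z.2)
    have h2 := hTS (h1.trans (map_zero _).symm)
    exact (FlatLocal.one_tmul_eq_zero_iff _ z).mp h2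
  have hIn : (m.map (algebraMap R S)) ^ n = ⊥ := by
    rw [← Ideal.map_pow, hnil, Ideal.map_bot]
  have hsub := subsingleton_of_top_le_smul_top (R := S) (K := LinearMap.ker φS)
    (m.map (algebraMap R S)) n hIn hB
  have hφSinj : Injective φS := by
    rw [injective_iff_map_eq_zero]
    intro x hx
    have h1 : (⟨x, LinearMap.mem_ker.mpr hx⟩ : LinearMap.ker φS) = 0 := Subsingleton.elim _ _
    exact congrArg Subtype.val h1
  -- injectivity of `φ`
  haveI : FaithfulSMul R S := (faithfulSMul_iff_algebraMap_injective R S).mpr hinj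
  have hφinj : Injective φ := by
    rw [injective_iff_map_eq_zero]
    intro x hx
    have h1 : φS ((1 : S) ⊗ₜ[R] x) = 0 := by rw [hφS, hx, TensorProduct.tmul_zero]
    have h2 : (1 : S) ⊗ₜ[R] x = 0 := hφSinj (h1.trans (map_zero _).symm)
    exact Module.Flat.tensorProduct_mk_injective (R := R) (S := S)
      (M := Module.Free.ChooseBasisIndex (R ⧸ m) ((R ⧸ m) ⊗[R] M) →₀ R)
      (h2.trans (TensorProduct.tmul_zero _ _).symm)
  exact Module.Flat.of_linearEquiv (LinearEquiv.ofBijective φ ⟨hφinj, hφsurj⟩).symm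

/-- Flatness descends along an injective ring map out of an Artinian ring. -/
theorem flat_of_baseChange_flat_of_injective_artinian {R S M : Type u} [CommRing R] [CommRing S]
    [IsArtinianRing R] [Algebra R S] (hinj : Injective (algebraMap R S))
    [AddCommGroup M] [Module R M] [Module.Flat S (S ⊗[R] M)] : Module.Flat R M := by
  apply Module.flat_of_localized_maximal
  intro P hP
  rw [← Module.flat_iff_of_isLocalization (Localization.AtPrime P) P.primeCompl]
  have e : (Localization.AtPrime P) ⊗[R] M ≃ₗ[Localization.AtPrime P]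
      LocalizedModule P.primeCompl M :=
    (IsLocalizedModule.isBaseChange P.primeCompl (Localization.AtPrime P)
      (LocalizedModule.mkLinearMap P.primeCompl M)).equiv
  suffices h : Module.Flat (Localization.AtPrime P) ((Localization.AtPrime P) ⊗[R] M) from
    Module.Flat.of_linearEquiv e.symm
  obtain ⟨n, hn⟩ := IsArtinianRing.isNilpotent_jacobson_bot (R := Localization.AtPrime P)
  rw [IsLocalRing.jacobson_eq_maximalIdeal ⊥ bot_ne_top] at hn
  have hinj' : Injective (algebraMap (Localization.AtPrime P)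
      ((Localization.AtPrime P) ⊗[R] S)) :=
    Algebra.TensorProduct.includeLeft_injective (S := Localization.AtPrime P) hinj
  letI : Algebra S ((Localization.AtPrime P) ⊗[R] S) := Algebra.TensorProduct.rightAlgebra
  have e1 := AlgebraTensorModule.cancelBaseChange R (Localization.AtPrime P)
    ((Localization.AtPrime P) ⊗[R] S) ((Localization.AtPrime P) ⊗[R] S) M
  have e2 := AlgebraTensorModule.cancelBaseChange R S
    ((Localization.AtPrime P) ⊗[R] S) ((Localization.AtPrime P) ⊗[R] S) M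
  haveI : Module.Flat ((Localization.AtPrime P) ⊗[R] S)
      (((Localization.AtPrime P) ⊗[R] S) ⊗[R] M) := Module.Flat.of_linearEquiv e2.symm
  haveI : Module.Flat ((Localization.AtPrime P) ⊗[R] S)
      (((Localization.AtPrime P) ⊗[R] S) ⊗[Localization.AtPrime P]
        ((Localization.AtPrime P) ⊗[R] M)) := Module.Flat.of_linearEquiv e1
  exact flat_of_baseChange_flat_of_isMaximal_nilpotent (S := (Localization.AtPrime P) ⊗[R] S)
    (IsLocalRing.maximalIdeal (Localization.AtPrime P)) n hn hinj'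

end Groth.Agent.Helper8.ArtinFlat
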