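import Mathlib
import Groth.Prelude.Def_Found

/-!
# Catenary partial orders and catenary rings
-/

set_option autoImplicit false
universe u

namespace Groth.Agent.Helper8.CatOrder

/-- The order-theoretic catenary condition used in `CAlg.IsCatenary`. -/
def Cat (α : Type*) [PartialOrder α] : Prop :=
  (∀ p q : α, p ≤ q → ∃ n : ℕ, ∀ s : LTSeries α, s.head = p → s.last = q → s.length ≤ n) ∧
  ∀ s t : LTSeries α, s.head = t.head → s.last = t.last →
    (∀ i : Fin s.length, s (Fin.castSucc i) ⋖ s (Fin.succ i)) →
    (∀ i : Fin t.length, t (Fin.castSucc i) ⋖ t (Fin.succ i)) → s.length = t.length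

theorem isCatenary_iff (R : Type u) [CommRing R] : CAlg.IsCatenary R ↔ Cat (PrimeSpectrum R) :=
  Iff.rfl

/-- The catenary condition pulls back along order embeddings with order-connected range. -/
theorem cat_of_embedding {α β : Type*} [PartialOrder α] [PartialOrder β] (f : α ↪o β)
    (hf : (Set.range f).OrdConnected) (h : Cat β) : Cat α := by
  refine ⟨fun p q hpq => ?_, fun s t hst hst' hs ht => ?_⟩
  · obtain ⟨n, hn⟩ := h.1 (f p) (f q) (f.monotone hpq)
    refine ⟨n, fun s hs hs' => ?_⟩
    have := hn (s.map f f.strictMono) (by rw [LTSeries.head_map, hs])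
      (by rw [LTSeries.last_map, hs'])
    exact this
  · have := h.2 (s.map f f.strictMono) (t.map f f.strictMono)
      (by rw [LTSeries.head_map, LTSeries.head_map, hst])
      (by rw [LTSeries.last_map, LTSeries.last_map, hst'])
      (fun i => (Set.OrdConnected.apply_covBy_apply_iff f hf).2 (hs i))
      (fun i => (Set.OrdConnected.apply_covBy_apply_iff f hf).2 (ht i))
    exact this

theorem cat_of_orderIso {α β : Type*} [PartialOrder α] [PartialOrder β] (e : α ≃o β)
    (h : Cat β) : Cat α :=
  cat_of_embedding e.toOrderEmbedding (by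
    have : Set.range e.toOrderEmbedding = Set.univ := e.surjective.range_eq
    rw [this]; exact Set.ordConnected_univ) h

theorem ordConnected_of_lower {β : Type*} [PartialOrder β] (P : β → Prop)
    (hP : ∀ a b : β, a ≤ b → P b → P a) :
    (Set.range (OrderEmbedding.subtype P)).OrdConnected := by
  have : Set.range (OrderEmbedding.subtype P) = {b | P b} := Subtype.range_coe
  rw [this]
  exact ⟨fun a _ b hb c hc => hP c b hc.2 hb⟩

theorem ordConnected_of_upper {β : Type*} [PartialOrder β] (P : β → Prop)
    (hP : ∀ a b : β, a ≤ b → P a → P b) :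
    (Set.range (OrderEmbedding.subtype P)).OrdConnected := by
  have : Set.range (OrderEmbedding.subtype P) = {b | P b} := Subtype.range_coe
  rw [this]
  exact ⟨fun a ha b _ c hc => hP a c hc.1 ha⟩

/-- The catenary condition can be checked on a family of lower sets containing every element. -/
theorem cat_of_cover {β : Type*} [PartialOrder β]
    (h : ∀ q : β, ∃ P : β → Prop, (∀ a b : β, a ≤ b → P b → P a) ∧ P q ∧ Cat {b // P b}) :
    Cat β := by
  have lift : ∀ (P : β → Prop) (s : LTSeries β), (∀ i, P (s i)) →
      ∃ s' : LTSeries {b // P b}, s'.length = s.length ∧ (s'.head : β) = s.head ∧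
        (s'.last : β) = s.last ∧
        ((∀ i : Fin s.length, s (Fin.castSucc i) ⋖ s (Fin.succ i)) →
          (∀ a b : β, a ≤ b → P b → P a) →
          ∀ i : Fin s'.length, s' (Fin.castSucc i) ⋖ s' (Fin.succ i)) := by
    intro P s hs
    refine ⟨⟨s.length, fun i => ⟨s i, hs i⟩, fun i => s.step i⟩, rfl, rfl, rfl, ?_⟩
    intro hcov hP i
    have := (Set.OrdConnected.apply_covBy_apply_iff (OrderEmbedding.subtype P)
      (ordConnected_of_lower P hP) (a := ⟨s (Fin.castSucc i), hs _⟩)
      (b := ⟨s (Fin.succ i), hs _⟩)).1 (hcov i)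
    exact this
  have hle : ∀ (s : LTSeries β) (i : Fin (s.length + 1)), s i ≤ s.last := fun s i =>
    s.strictMono.monotone (Fin.le_last i)
  refine ⟨fun p q hpq => ?_, fun s t hst hst' hs ht => ?_⟩
  · obtain ⟨P, hP, hq, hcat⟩ := h q
    obtain ⟨n, hn⟩ := hcat.1 ⟨p, hP p q hpq hq⟩ ⟨q, hq⟩ hpq
    refine ⟨n, fun s hs hs' => ?_⟩
    have hall : ∀ i, P (s i) := fun i => hP _ _ (hs' ▸ hle s i) hq
    obtain ⟨s', hlen, hhead, hlast, -⟩ := lift P s hall
    rw [← hlen]
    exact hn s' (Subtype.ext (hhead.trans hs)) (Subtype.ext (hlast.trans hs'))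
  · obtain ⟨P, hP, hq, hcat⟩ := h s.last
    have halls : ∀ i, P (s i) := fun i => hP _ _ (hle s i) hq
    have hallt : ∀ i, P (t i) := fun i => hP _ _ (hst' ▸ hle t i) hq
    obtain ⟨s', hlen, hhead, hlast, hcov⟩ := lift P s halls
    obtain ⟨t', hlen', hhead', hlast', hcov'⟩ := lift P t hallt
    rw [← hlen, ← hlen']
    exact hcat.2 s' t' (Subtype.ext (by rw [hhead, hhead', hst]))
      (Subtype.ext (by rw [hlast, hlast', hst'])) (hcov hs hP) (hcov' ht hP)

section ring

variable {R : Type u} [CommRing R]

/-- A localization of a catenary ring is catenary. -/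
theorem isCatenary_localization (M : Submonoid R) (S : Type u) [CommRing S] [Algebra R S]
    [IsLocalization M S] (h : CAlg.IsCatenary R) : CAlg.IsCatenary S := by
  rw [isCatenary_iff] at h ⊢
  refine cat_of_orderIso (IsLocalization.primeSpectrumOrderIso M S) ?_
  refine cat_of_embedding (OrderEmbedding.subtype _)
    (ordConnected_of_lower _ fun a b hab hb => ?_) h
  exact hb.mono_right hab

/-- If the localization at `M` is catenary, so is the set of primes disjoint from `M`. -/
theorem cat_disjoint_of_isCatenary_localization (M : Submonoid R) (S : Type u) [CommRing S]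
    [Algebra R S] [IsLocalization M S] (h : CAlg.IsCatenary S) :
    Cat {p : PrimeSpectrum R // Disjoint (M : Set R) p.asIdeal} := by
  rw [isCatenary_iff] at h
  exact cat_of_orderIso (IsLocalization.primeSpectrumOrderIso M S).symm h

/-- A quotient of a catenary ring is catenary. -/
theorem isCatenary_of_surjective {S : Type u} [CommRing S] (f : R →+* S)
    (hf : Function.Surjective f) (h : CAlg.IsCatenary R) : CAlg.IsCatenary S := by
  rw [isCatenary_iff] at h ⊢
  refine cat_of_orderIso (Ideal.primeSpectrumOrderIsoZeroLocusOfSurj f hf rfl) ?_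
  refine cat_of_embedding (OrderEmbedding.subtype _)
    (ordConnected_of_upper _ fun a b hab ha => ?_) h
  exact (PrimeSpectrum.mem_zeroLocus _ _).2
    (((PrimeSpectrum.mem_zeroLocus _ _).1 ha).trans hab)

end ring

end Groth.Agent.Helper8.CatOrder
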