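import Mathlib

set_option autoImplicit false

namespace Groth.Agent.Helper8.CharpolyRevTrace

open Polynomial

theorem aux_coeff_one {Λ : Type*} [CommRing Λ] (a b : Λ) (q : Polynomial Λ) :
    (C a + C b * X + q * X ^ 2).coeff 1 = b := by
  simp [Polynomial.coeff_mul_X_pow', Polynomial.coeff_C]

/-- Jacobi/Newton: the derivative of `det (1 - T A)` as a power series. -/
theorem coe_derivative_charpolyRev {R : Type*} [CommRing R] {m : Type*} [Fintype m]
    [DecidableEq m] (A : Matrix m m R) :
    ((Polynomial.derivative A.charpolyRev : R[X]) : PowerSeries R) =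
      -((A.charpolyRev : PowerSeries R) * PowerSeries.mk (fun n => (A ^ (n + 1)).trace)) := by
  classical
  let ι : R →+* PowerSeries R := PowerSeries.C
  let T : PowerSeries R := PowerSeries.X
  let N : Matrix m m (PowerSeries R) := fun i j => PowerSeries.mk (fun n => (A ^ n) i j)
  let AΛ : Matrix m m (PowerSeries R) := A.map ι
  let B : Matrix m m (PowerSeries R) := 1 - T • AΛ
  have hBN : B * N = 1 := by
    ext i j n
    simp only [B, sub_mul, one_mul, Matrix.smul_mul, Matrix.sub_apply, Matrix.smul_apply,
      smul_eq_mul, map_sub]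
    rcases n with _ | n
    · simp only [T, PowerSeries.coeff_zero_X_mul, sub_zero, N, PowerSeries.coeff_mk, pow_zero,
        Matrix.one_apply]
      split_ifs <;> simp
    · rw [PowerSeries.coeff_succ_X_mul]
      have h1 : PowerSeries.coeff n ((AΛ * N) i j) = (A ^ (n + 1)) i j := by
        simp only [AΛ, N, Matrix.mul_apply, Matrix.map_apply, map_sum, ι,
          PowerSeries.coeff_C_mul, PowerSeries.coeff_mk, pow_succ']
      rw [h1]
      simp only [N, PowerSeries.coeff_mk, sub_self, Matrix.one_apply]
      split_ifs <;> simp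
  have hdetB : B.det = (A.charpolyRev : PowerSeries R) := by
    have h1 := RingHom.map_det (Polynomial.coeToPowerSeries.ringHom (R := R))
      (1 - (X : R[X]) • A.map C)
    rw [Matrix.charpolyRev, ← Polynomial.coeToPowerSeries.ringHom_apply, h1]
    congr 1
    ext i j
    simp only [B, AΛ, ι, T, RingHom.mapMatrix_apply, Matrix.map_apply, Matrix.sub_apply,
      Matrix.smul_apply, smul_eq_mul, Matrix.one_apply, map_sub, map_mul,
      Polynomial.coeToPowerSeries.ringHom_apply, Polynomial.coe_X, Polynomial.coe_C]
    split_ifs <;> simp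
  -- the ring Ω = Λ[S]
  let c : PowerSeries R →+* Polynomial (PowerSeries R) := Polynomial.C
  let S : Polynomial (PowerSeries R) := Polynomial.X
  let ψ : R[X] →+* Polynomial (PowerSeries R) := Polynomial.eval₂RingHom (c.comp ι) (c T + S)
  have hcoe : ∀ p : R[X], (p.map (c.comp ι)).eval (c T) = c (p : PowerSeries R) := by
    intro p
    rw [Polynomial.eval_map, ← Polynomial.hom_eval₂]
    congr 1
    exact Polynomial.eval₂_C_X_eq_coe
  -- E1
  obtain ⟨k, hk⟩ := (A.charpolyRev.map (c.comp ι)).binomExpansion (c T) S
  have E1 : ψ A.charpolyRev = c (A.charpolyRev : PowerSeries R) +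
      c ((Polynomial.derivative A.charpolyRev : R[X]) : PowerSeries R) * S + k * S ^ 2 := by
    have h1 : ψ A.charpolyRev = (A.charpolyRev.map (c.comp ι)).eval (c T + S) := by
      simp only [ψ, Polynomial.coe_eval₂RingHom, Polynomial.eval₂_eq_eval_map]
    rw [h1, hk, Polynomial.derivative_map, hcoe, hcoe]
  -- E2
  have hA : ψ A.charpolyRev = (B.map c - S • (AΛ.map c)).det := by
    have h1 := RingHom.map_det ψ (1 - (X : R[X]) • A.map C)
    rw [Matrix.charpolyRev, h1]
    congr 1
    ext i j
    simp only [ψ, B, AΛ, ι, RingHom.mapMatrix_apply, Matrix.map_apply, Matrix.sub_apply,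
      Matrix.smul_apply, smul_eq_mul, Matrix.one_apply, map_sub, map_mul,
      Polynomial.coe_eval₂RingHom]
    split_ifs <;> simp [c, S] <;> ring
  have hB2 : B.map c - S • (AΛ.map c) = (B.map c) * (1 + (-S) • ((N * AΛ).map c)) := by
    have h1 : (B.map c) * ((N * AΛ).map c) = AΛ.map c := by
      rw [← Matrix.map_mul, ← mul_assoc, hBN, one_mul]
    rw [mul_add, mul_one, Matrix.mul_smul, h1]
    ext i j
    simp only [Matrix.sub_apply, Matrix.add_apply, Matrix.smul_apply, smul_eq_mul]
    ring_nf
  have hdet2 : (B.map c).det = c B.det := by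
    rw [RingHom.map_det, RingHom.mapMatrix_apply]
  have htr : ((N * AΛ).map c).trace = c (N * AΛ).trace := by
    simp only [Matrix.trace, Matrix.diag_apply, Matrix.map_apply, map_sum]
  have hτ : (N * AΛ).trace = PowerSeries.mk (fun n => (A ^ (n + 1)).trace) := by
    ext n
    simp only [Matrix.trace, Matrix.diag_apply, Matrix.mul_apply, N, AΛ, Matrix.map_apply, ι,
      map_sum, PowerSeries.coeff_mul_C, PowerSeries.coeff_mk, pow_succ]
  have E2 : ψ A.charpolyRev = C (A.charpolyRev : PowerSeries R) +
      C (-((A.charpolyRev : PowerSeries R) * (N * AΛ).trace)) * X +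
      (C (A.charpolyRev : PowerSeries R) *
        (((1 + (X : (Polynomial (PowerSeries R))[X]) • ((N * AΛ).map c).map C).det).divX.divX.eval
          (-S))) * X ^ 2 := by
    rw [hA, hB2, Matrix.det_mul, hdet2, hdetB, Matrix.det_one_add_smul, htr]
    simp only [c, S, map_neg, map_mul]
    ring
  have h3 := congrArg (fun q => Polynomial.coeff q 1) (E1.symm.trans E2)
  simp only [c, S] at h3
  rw [aux_coeff_one, aux_coeff_one] at h3
  rw [h3, hτ]

/-- Uniqueness for the linear ODE `y' = a y` in characteristic zero. -/
theorem ode_unique {K : Type*} [Field K] [CharZero K] (a y z : PowerSeries K)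
    (hy : PowerSeries.derivative K y = a * y) (hz : PowerSeries.derivative K z = a * z)
    (h0 : PowerSeries.coeff 0 y = PowerSeries.coeff 0 z) : y = z := by
  suffices h : ∀ n, PowerSeries.coeff n (y - z) = 0 by
    ext n
    have h1 := h n
    rwa [map_sub, sub_eq_zero] at h1
  have hw : PowerSeries.derivative K (y - z) = a * (y - z) := by
    rw [map_sub, hy, hz, mul_sub]
  intro n
  induction n using Nat.strong_induction_on with
  | _ n ih =>
    rcases n with _ | n
    · rw [map_sub, h0, sub_self]
    · have h1 := PowerSeries.coeff_derivative (y - z) n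
      rw [hw, PowerSeries.coeff_mul] at h1
      have h2 : ∑ p ∈ Finset.HasAntidiagonal.antidiagonal n,
          PowerSeries.coeff p.1 a * PowerSeries.coeff p.2 (y - z) = 0 := by
        apply Finset.sum_eq_zero
        intro p hp
        have hp' := Finset.HasAntidiagonal.mem_antidiagonal.mp hp
        rw [ih p.2 (by omega), mul_zero]
      rw [h2] at h1
      have h3 : ((n : K) + 1) ≠ 0 := Nat.cast_add_one_ne_zero n
      exact (mul_eq_zero.mp h1.symm).resolve_right h3

end Groth.Agent.Helper8.CharpolyRevTrace
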