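import Mathlib
import Groth.Prelude.Def_HopfRep
import Groth.Prelude.Def_Hoch
import Groth.Agent.H29.ComodDual
import Groth.Agent.H15.FundComod

/-!
# Simple comodules with the same coefficient space are isomorphic (helper8)
-/

set_option autoImplicit false
universe u v w w'

namespace Groth.Agent.Helper8.CoeffSpace

open TensorProduct Groth.Agent.H29

section Slice

variable {K : Type*} [Field K] {E : Type*} [AddCommGroup E] [Module K E]

/-- The slice map `φ ⊗ id : E ⊗ V → V`. -/
noncomputable def sl (φ : E →ₗ[K] K) (V : Type*) [AddCommGroup V] [Module K V] :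
    E ⊗[K] V →ₗ[K] V :=
  (TensorProduct.lid K V).toLinearMap ∘ₗ φ.rTensor V

@[simp] lemma sl_tmul (φ : E →ₗ[K] K) (V : Type*) [AddCommGroup V] [Module K V] (e : E) (c : V) :
    sl φ V (e ⊗ₜ[K] c) = φ e • c := by
  simp [sl]

lemma sl_natural (φ : E →ₗ[K] K) {V W : Type*} [AddCommGroup V] [Module K V]
    [AddCommGroup W] [Module K W] (g : V →ₗ[K] W) (x : E ⊗[K] V) :
    g (sl φ V x) = sl φ W (g.lTensor E x) := by
  induction x using TensorProduct.induction_on with
  | zero => simp
  | tmul e c => simp
  | add x y hx hy => simp only [map_add, hx, hy]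

lemma sl_assoc (φ : E →ₗ[K] K) {V W : Type*} [AddCommGroup V] [Module K V]
    [AddCommGroup W] [Module K W] (y : (E ⊗[K] V) ⊗[K] W) :
    sl φ (V ⊗[K] W) (TensorProduct.assoc K E V W y) = (sl φ V).rTensor W y := by
  induction y using TensorProduct.induction_on with
  | zero => simp
  | tmul x w =>
    induction x using TensorProduct.induction_on with
    | zero => simp
    | tmul e c => simp [TensorProduct.smul_tmul']
    | add x y hx hy => simp only [TensorProduct.add_tmul, map_add, hx, hy]
  | add x y hx hy => simp only [map_add, hx, hy]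

/-- expansion of a tensor in a basis of the left factor -/
lemma sum_basis_tmul_sl {ι : Type*} [Fintype ι] (b : Module.Basis ι K E)
    (V : Type*) [AddCommGroup V] [Module K V] (x : E ⊗[K] V) :
    x = ∑ i, b i ⊗ₜ[K] sl (b.coord i) V x := by
  induction x using TensorProduct.induction_on with
  | zero => simp
  | tmul e c =>
    simp only [sl_tmul]
    conv_lhs => rw [← b.sum_repr e]
    rw [TensorProduct.sum_tmul]
    refine Finset.sum_congr rfl (fun i _ => ?_)
    rw [TensorProduct.smul_tmul]
    rfl
  | add x y hx hy =>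
    simp only [map_add, TensorProduct.tmul_add, Finset.sum_add_distrib]
    rw [← hx, ← hy]

end Slice

section Coeff

variable {K : Type u} [Field K] {C : Type v} [AddCommGroup C] [Module K C] [Coalgebra K C]
variable {E : Type w} [AddCommGroup E] [Module K E] [HopfRep.Comod K C E]

/-- The coefficient map `e ↦ (φ ⊗ id) ρ(e)`. -/
noncomputable def cf (φ : E →ₗ[K] K) : E →ₗ[K] C :=
  sl φ C ∘ₗ HopfRep.Comod.coact (k := K) (A := C)

lemma cf_apply (φ : E →ₗ[K] K) (e : E) :
    cf (C := C) φ e = sl φ C (HopfRep.Comod.coact (k := K) (A := C) e) := rfl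

lemma isComodHom_cf (φ : E →ₗ[K] K) : Hoch.IsComodHom C (cf (C := C) φ) := by
  unfold Hoch.IsComodHom
  ext e
  simp only [LinearMap.comp_apply]
  have hco := LinearMap.congr_fun (HopfRep.Comod.coassoc (k := K) (A := C) (V := E)) e
  simp only [LinearMap.comp_apply, LinearEquiv.coe_coe] at hco
  change Coalgebra.comul (R := K) (A := C) (cf φ e) = _
  rw [cf_apply, sl_natural, ← hco, sl_assoc, ← LinearMap.comp_apply, ← LinearMap.rTensor_comp]
  rfl

lemma coact_eq_sum {ι : Type*} [Fintype ι] (b : Module.Basis ι K E) (e : E) :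
    HopfRep.Comod.coact (k := K) (A := C) e = ∑ i, b i ⊗ₜ[K] cf (C := C) (b.coord i) e :=
  sum_basis_tmul_sl b C _

/-- the coefficient space is contained in the sum of the images of the coefficient maps -/
lemma coact_mem_iSup_range [Module.Finite K E] (e : E) :
    HopfRep.Comod.coact (k := K) (A := C) e ∈
      LinearMap.range (LinearMap.lTensor E
        (⨆ φ : E →ₗ[K] K, LinearMap.range (cf (C := C) φ)).subtype) := by
  let b := Module.finBasis K E
  rw [coact_eq_sum b e]
  refine Submodule.sum_mem _ (fun i _ => ?_)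
  have hmem : cf (C := C) (b.coord i) e ∈ ⨆ φ : E →ₗ[K] K, LinearMap.range (cf (C := C) φ) :=
    Submodule.mem_iSup_of_mem (b.coord i) ⟨e, rfl⟩
  exact ⟨b i ⊗ₜ[K] ⟨_, hmem⟩, by simp⟩

/-- the images of the coefficient maps lie in any space through which the coaction factors -/
lemma cf_mem_of_factors (D : Submodule K C)
    (hD : ∀ e : E, HopfRep.Comod.coact (k := K) (A := C) e ∈
      LinearMap.range (LinearMap.lTensor E D.subtype)) (φ : E →ₗ[K] K) (e : E) :
    cf (C := C) φ e ∈ D := by
  obtain ⟨y, hy⟩ := hD e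
  rw [cf_apply, ← hy, ← sl_natural]
  exact (sl φ D y).2

lemma exists_cf_ne_zero [Module.Finite K E] (e : E) (he : e ≠ 0) :
    ∃ φ : E →ₗ[K] K, cf (C := C) φ e ≠ 0 := by
  by_contra h
  push Not at h
  let b := Module.finBasis K E
  have h0 : HopfRep.Comod.coact (k := K) (A := C) e = 0 := by
    rw [coact_eq_sum b e]
    simp [h]
  have h1 := LinearMap.congr_fun (HopfRep.Comod.counit_comp (k := K) (A := C) (V := E)) e
  simp only [LinearMap.comp_apply, h0, map_zero, LinearMap.flip_apply, TensorProduct.mk_apply]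
    at h1
  have h2 : TensorProduct.rid K E (e ⊗ₜ[K] (1 : K)) = 0 := by rw [← h1]; simp
  simp at h2
  exact he h2

end Coeff

section Main

variable {K : Type u} [Field K] {C : Type v} [AddCommGroup C] [Module K C] [Coalgebra K C]
variable {E : Type w} [AddCommGroup E] [Module K E] [HopfRep.Comod K C E]
variable {E' : Type w'} [AddCommGroup E'] [Module K E'] [HopfRep.Comod K C E']

attribute [local instance] Groth.Agent.H29.dualModule

theorem main (hE : HopfRep.IsSimpleComod K C E) (hE' : HopfRep.IsSimpleComod K C E')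
    (D : Submodule K C)
    (hD : IsLeast {D' : Submodule K C |
      ∀ e : E, HopfRep.Comod.coact (k := K) (A := C) e ∈
        LinearMap.range (LinearMap.lTensor E D'.subtype)} D)
    (hD' : IsLeast {D' : Submodule K C |
      ∀ e : E', HopfRep.Comod.coact (k := K) (A := C) e ∈
        LinearMap.range (LinearMap.lTensor E' D'.subtype)} D) :
    ∃ e : E ≃ₗ[K] E', Hoch.IsComodHom C e.toLinearMap := by
  have : Module.Finite K E := Groth.Agent.H15.FundComod.simple_finite K C E hE
  have : Module.Finite K E' := Groth.Agent.H15.FundComod.simple_finite K C E' hE'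
  have hsE : IsSimpleModule (DualAlg K C) E := isSimpleModule_of_isSimpleComod K C E hE
  have hsE' : IsSimpleModule (DualAlg K C) E' := isSimpleModule_of_isSimpleComod K C E' hE'
  -- D is contained in the sum of the images of the coefficient maps of E
  have hD1 : D ≤ ⨆ φ : E →ₗ[K] K, LinearMap.range (cf (C := C) φ) :=
    hD.2 (fun e => coact_mem_iSup_range e)
  -- a nonzero coefficient map of E'
  have := hE'.1
  obtain ⟨e', he'⟩ := exists_ne (0 : E')
  obtain ⟨ψ, hψ⟩ := exists_cf_ne_zero (K := K) (C := C) e' he'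
  let f' : E' →ₗ[DualAlg K C] C := toDualHom (cf (C := C) ψ) (isComodHom_cf ψ)
  have hf'inj : Function.Injective f' := by
    rcases LinearMap.injective_or_eq_zero f' with h | h
    · exact h
    · exfalso
      apply hψ
      have := LinearMap.congr_fun h e'
      simpa [f'] using this
  let N : Submodule (DualAlg K C) C := LinearMap.range f'
  let e₁ : E' ≃ₗ[DualAlg K C] N := LinearEquiv.ofInjective f' hf'inj
  have : IsSimpleModule (DualAlg K C) N := IsSimpleModule.congr e₁.symm
  let f : (E →ₗ[K] K) → (E →ₗ[DualAlg K C] C) := fun φ =>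
    toDualHom (cf (C := C) φ) (isComodHom_cf φ)
  let s : Set (Submodule (DualAlg K C) C) :=
    {m | ∃ φ : E →ₗ[K] K, Function.Injective (f φ) ∧ m = LinearMap.range (f φ)}
  have hsimple : ∀ m : s, IsSimpleModule (DualAlg K C) m := by
    rintro ⟨m, φ, hinj, rfl⟩
    exact IsSimpleModule.congr (LinearEquiv.ofInjective (f φ) hinj).symm
  have hsup : (⨆ φ : E →ₗ[K] K, LinearMap.range (cf (C := C) φ)) ≤ ofDualSub (sSup s) := by
    refine iSup_le (fun φ => ?_)
    rintro _ ⟨e, rfl⟩
    rw [mem_ofDualSub]
    rcases LinearMap.injective_or_eq_zero (f φ) with h | h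
    · have hmem : LinearMap.range (f φ) ∈ s := ⟨φ, h, rfl⟩
      exact (le_sSup hmem) (LinearMap.mem_range_self (f φ) e)
    · have := LinearMap.congr_fun h e
      have h0 : cf (C := C) φ e = 0 := by simpa [f] using this
      rw [h0]
      exact Submodule.zero_mem _
  have hN : N ≤ sSup s := by
    rintro _ ⟨x, rfl⟩
    have h1 : cf (C := C) ψ x ∈ D := cf_mem_of_factors D hD'.1 ψ x
    exact hsup (hD1 h1)
  obtain ⟨S, ⟨φ, hinj, rfl⟩, ⟨e₂⟩⟩ := Submodule.linearEquiv_of_le_sSup N s hN
  exact exists_comodIso_of_dualEquiv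
    (((LinearEquiv.ofInjective (f φ) hinj).trans e₂.symm).trans e₁.symm)

end Main

end Groth.Agent.Helper8.CoeffSpace
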