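import Mathlib
import Groth.Agent.Lib.Helper8.CompleteNoeth

/-!
# Filtered version of `CompleteNoeth` (helper8)

A ring complete and separated for a multiplicative filtration `F` by ideals with `A ⧸ F 1`
Noetherian and `gr` generated in degree one by finitely many elements is Noetherian.
-/

set_option autoImplicit false
universe u

namespace Groth.Agent.Helper8.CompleteNoeth

open MvPolynomial

section Filt

variable {A : Type u} [CommRing A] (F : ℕ → Ideal A) {d : ℕ} (x : Fin d → A)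

lemma pow_le_F (hF0 : F 0 = ⊤) (hFmul : ∀ m n, F m * F n ≤ F (m + n)) (n : ℕ) :
    (F 1) ^ n ≤ F n := by
  induction n with
  | zero => rw [hF0]; exact le_top
  | succ n ih =>
    rw [pow_succ]
    exact (Ideal.mul_mono_left ih).trans (hFmul n 1)

lemma aeval_memF (hF0 : F 0 = ⊤) (hFmul : ∀ m n, F m * F n ≤ F (m + n))
    (hx : ∀ i, x i ∈ F 1) (L : Ideal A) {n : ℕ} (G : MvPolynomial (Fin d) A)
    (hG : G.IsHomogeneous n) (hL : ∀ α, coeff α G ∈ L) : aeval x G ∈ L * F n :=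
  Ideal.mul_mono_right (pow_le_F F hF0 hFmul n) (aeval_mem x (F 1) hx L G hG hL)

lemma aeval_mem_F (hF0 : F 0 = ⊤) (hFmul : ∀ m n, F m * F n ≤ F (m + n))
    (hx : ∀ i, x i ∈ F 1) {n : ℕ} (G : MvPolynomial (Fin d) A)
    (hG : G.IsHomogeneous n) : aeval x G ∈ F n :=
  pow_le_F F hF0 hFmul n (aeval_mem_pow x (F 1) hx G hG)

lemma stepF (hF0 : F 0 = ⊤) (hFanti : Antitone F) (hFmul : ∀ m n, F m * F n ≤ F (m + n))
    (hx : ∀ i, x i ∈ F 1)
    (hgen : ∀ n, ∀ y ∈ F n, ∃ G : MvPolynomial (Fin d) A, G.IsHomogeneous n ∧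
      y - aeval x G ∈ F (n + 1))
    (K : Ideal A) (T : Finset (MvPolynomial (Fin d) (A ⧸ F 1)))
    (nn : MvPolynomial (Fin d) (A ⧸ F 1) → ℕ)
    (GG : MvPolynomial (Fin d) (A ⧸ F 1) → MvPolynomial (Fin d) A)
    (kk : MvPolynomial (Fin d) (A ⧸ F 1) → A)
    (hGG : ∀ P ∈ T, (GG P).IsHomogeneous (nn P) ∧ map (Ideal.Quotient.mk (F 1)) (GG P) = P ∧
      aeval x (GG P) - kk P ∈ F (nn P + 1))
    (hspan : ∀ (n : ℕ) (G : MvPolynomial (Fin d) A), G.IsHomogeneous n →
      aeval x G ∈ K ⊔ F (n + 1) →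
      map (Ideal.Quotient.mk (F 1)) G ∈
        Ideal.span (T : Set (MvPolynomial (Fin d) (A ⧸ F 1))))
    (N : ℕ) (hN : ∀ P ∈ T, nn P ≤ N)
    (m : ℕ) (k' : A) (hk'K : k' ∈ K) (hk'J : k' ∈ F m) :
    ∃ c : MvPolynomial (Fin d) (A ⧸ F 1) → A, (∀ P, c P ∈ F (m - N)) ∧
      k' - ∑ P ∈ T, c P * kk P ∈ F (m + 1) := by
  classical
  obtain ⟨G, hG, hGk⟩ := hgen m k' hk'J
  have hF0' : map (Ideal.Quotient.mk (F 1)) G ∈
      Ideal.span (T : Set (MvPolynomial (Fin d) (A ⧸ F 1))) := by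
    apply hspan m G hG
    have : aeval x G = k' - (k' - aeval x G) := by ring
    rw [this]
    exact Submodule.sub_mem _ (Submodule.mem_sup_left hk'K) (Submodule.mem_sup_right hGk)
  obtain ⟨a, -, ha⟩ := Submodule.mem_span_finset.mp hF0'
  have hTh : ∀ P ∈ T, P.IsHomogeneous (nn P) := fun P hP => by
    have := (hGG P hP).1.map (Ideal.Quotient.mk (F 1))
    rwa [(hGG P hP).2.1] at this
  obtain ⟨a', ha'1, ha'2, ha'3⟩ := exists_homogeneous_coeffs T nn hTh a m _
    (hG.map (Ideal.Quotient.mk (F 1))) (by rw [← ha]; simp only [smul_eq_mul])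
  have hlift : ∀ P : MvPolynomial (Fin d) (A ⧸ F 1), ∃ At : MvPolynomial (Fin d) A,
      (P ∈ T → nn P ≤ m →
        At.IsHomogeneous (m - nn P) ∧ map (Ideal.Quotient.mk (F 1)) At = a' P) ∧
      (¬ (P ∈ T ∧ nn P ≤ m) → At = 0) := by
    intro P
    by_cases h : P ∈ T ∧ nn P ≤ m
    · obtain ⟨At, h1, h2⟩ := exists_homogeneous_lift (Ideal.Quotient.mk (F 1))
        Ideal.Quotient.mk_surjective (a' P) (m - nn P) (ha'1 P h.1 h.2)
      exact ⟨At, fun _ _ => ⟨h1, h2⟩, fun h' => absurd h h'⟩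
    · exact ⟨0, fun h1 h2 => absurd ⟨h1, h2⟩ h, fun _ => rfl⟩
  choose At hAt1 hAt2 using hlift
  refine ⟨fun P => aeval x (At P), ?_, ?_⟩
  · intro P
    show aeval x (At P) ∈ F (m - N)
    by_cases h : P ∈ T ∧ nn P ≤ m
    · have := aeval_mem_F F x hF0 hFmul hx (At P) (hAt1 P h.1 h.2).1
      exact hFanti (by have := hN P h.1; omega) this
    · rw [hAt2 P h, map_zero]; exact Ideal.zero_mem _
  · set D : MvPolynomial (Fin d) A := G - ∑ P ∈ T, At P * GG P with hD
    have hDh : D.IsHomogeneous m := by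
      apply hG.sub
      apply IsHomogeneous.sum
      intro P hP
      by_cases h : nn P ≤ m
      · have := (hAt1 P hP h).1.mul (hGG P hP).1
        rwa [Nat.sub_add_cancel h] at this
      · rw [hAt2 P (fun h' => h h'.2), zero_mul]; exact isHomogeneous_zero _ _ _
    have hDπ : map (Ideal.Quotient.mk (F 1)) D = 0 := by
      rw [hD, map_sub, map_sum, ha'3, sub_eq_zero]
      apply Finset.sum_congr rfl
      intro P hP
      rw [map_mul, (hGG P hP).2.1]
      by_cases h : nn P ≤ m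
      · rw [(hAt1 P hP h).2]
      · rw [hAt2 P (fun h' => h h'.2), ha'2 P hP h, map_zero]
    have hDJ : aeval x D ∈ F (m + 1) := by
      have := aeval_memF F x hF0 hFmul hx (F 1) D hDh (fun α => by
        have h1 : coeff α (map (Ideal.Quotient.mk (F 1)) D) = 0 := by rw [hDπ]; simp
        rw [coeff_map] at h1
        exact Ideal.Quotient.eq_zero_iff_mem.mp h1)
      have h2 := hFmul 1 m
      rw [add_comm] at h2
      exact h2 this
    have e : k' - ∑ P ∈ T, aeval x (At P) * kk P =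
        (k' - aeval x G) + aeval x D +
          ∑ P ∈ T, aeval x (At P) * (aeval x (GG P) - kk P) := by
      rw [hD, map_sub, map_sum]
      simp only [map_mul, mul_sub, Finset.sum_sub_distrib]
      ring
    rw [e]
    refine Ideal.add_mem _ (Ideal.add_mem _ hGk hDJ) (Ideal.sum_mem _ ?_)
    intro P hP
    by_cases h : nn P ≤ m
    · have h1 := aeval_mem_F F x hF0 hFmul hx (At P) (hAt1 P hP h).1
      have h2 := (hGG P hP).2.2
      have h3 := hFmul (m - nn P) (nn P + 1) (Ideal.mul_mem_mul h1 h2)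
      have e2 : m - nn P + (nn P + 1) = m + 1 := by omega
      rwa [e2] at h3
    · rw [hAt2 P (fun h' => h h'.2), map_zero, zero_mul]; exact Ideal.zero_mem _

/-- **Filtered main theorem.** -/
theorem isNoetherianRing_of_filtration (hF0 : F 0 = ⊤) (hFanti : Antitone F)
    (hFmul : ∀ m n, F m * F n ≤ F (m + n)) (hx : ∀ i, x i ∈ F 1)
    (hgen : ∀ n, ∀ y ∈ F n, ∃ G : MvPolynomial (Fin d) A, G.IsHomogeneous n ∧
      y - aeval x G ∈ F (n + 1))
    (hhaus : ∀ y : A, (∀ n, y ∈ F n) → y = 0)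
    (hprec : ∀ f : ℕ → A, (∀ m, f (m + 1) - f m ∈ F m) → ∃ L : A, ∀ n, f n - L ∈ F n)
    [IsNoetherianRing (A ⧸ F 1)] : IsNoetherianRing A := by
  classical
  rw [isNoetherianRing_iff_ideal_fg]
  intro K
  let S : Set (MvPolynomial (Fin d) (A ⧸ F 1)) :=
    {P | ∃ (n : ℕ) (G : MvPolynomial (Fin d) A), G.IsHomogeneous n ∧
      map (Ideal.Quotient.mk (F 1)) G = P ∧ aeval x G ∈ K ⊔ F (n + 1)}
  have hfg : (Ideal.span S).FG := IsNoetherian.noetherian _
  obtain ⟨T, hTS, hT⟩ := (Submodule.fg_span_iff_fg_span_finset_subset S).mp hfg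
  have hdata : ∀ P : MvPolynomial (Fin d) (A ⧸ F 1),
      ∃ (n : ℕ) (G : MvPolynomial (Fin d) A) (k : A), P ∈ T →
        (G.IsHomogeneous n ∧ map (Ideal.Quotient.mk (F 1)) G = P ∧ k ∈ K ∧
          aeval x G - k ∈ F (n + 1)) := by
    intro P
    by_cases hP : P ∈ T
    · obtain ⟨n, G, hG, hGF, hGK⟩ := hTS hP
      obtain ⟨k, hk, j, hj, hkj⟩ := Submodule.mem_sup.mp hGK
      refine ⟨n, G, k, fun _ => ⟨hG, hGF, hk, ?_⟩⟩
      rw [← hkj]
      simpa using hj
    · exact ⟨0, 0, 0, fun h => absurd h hP⟩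
  choose nn GG kk hdata' using hdata
  have hNle : ∀ P ∈ T, nn P ≤ T.sup nn := fun P hP => Finset.le_sup hP
  have hkkK : ∀ P ∈ T, kk P ∈ K := fun P hP => (hdata' P hP).2.2.1
  have hstep := stepF F x hF0 hFanti hFmul hx hgen K T nn GG kk
    (fun P hP => ⟨(hdata' P hP).1, (hdata' P hP).2.1, (hdata' P hP).2.2.2⟩)
    (fun n G hG hGK => by
      have h1 : map (Ideal.Quotient.mk (F 1)) G ∈ Ideal.span S :=
        Ideal.subset_span ⟨n, G, hG, rfl, hGK⟩
      have h2 : Ideal.span S = Ideal.span (T : Set (MvPolynomial (Fin d) (A ⧸ F 1))) := hT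
      rw [h2] at h1
      exact h1) (T.sup nn) hNle
  refine ⟨T.image kk, ?_⟩
  apply le_antisymm
  · rw [Submodule.span_le]
    intro y hy
    simp only [Finset.coe_image, Set.mem_image, Finset.mem_coe] at hy
    obtain ⟨P, hP, rfl⟩ := hy
    exact hkkK P hP
  · intro k hk
    choose c hc1 hc2 using hstep
    have hPK : ∀ s : MvPolynomial (Fin d) (A ⧸ F 1) → A, k - ∑ P ∈ T, s P * kk P ∈ K :=
      fun s => Ideal.sub_mem _ hk
        (Ideal.sum_mem _ (fun P hP => Ideal.mul_mem_left _ _ (hkkK P hP)))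
    let seq : (m : ℕ) → {s : MvPolynomial (Fin d) (A ⧸ F 1) → A //
        k - ∑ P ∈ T, s P * kk P ∈ F m} := fun m =>
      Nat.rec (motive := fun m => {s : MvPolynomial (Fin d) (A ⧸ F 1) → A //
          k - ∑ P ∈ T, s P * kk P ∈ F m})
        ⟨0, by rw [hF0]; exact Submodule.mem_top⟩
        (fun m a => ⟨fun P => a.1 P + c m (k - ∑ P ∈ T, a.1 P * kk P) (hPK a.1) a.2 P, by
          have := hc2 m (k - ∑ P ∈ T, a.1 P * kk P) (hPK a.1) a.2
          convert this using 1
          simp only [add_mul, Finset.sum_add_distrib]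
          ring⟩) m
    have hseq_succ : ∀ m P, (seq (m + 1)).1 P - (seq m).1 P ∈ F (m - T.sup nn) := by
      intro m P
      show ((seq m).1 P + c m _ (hPK (seq m).1) (seq m).2 P) - (seq m).1 P ∈ _
      rw [add_sub_cancel_left]
      exact hc1 m _ _ _ P
    let f : MvPolynomial (Fin d) (A ⧸ F 1) → ℕ → A := fun P m => (seq (m + T.sup nn)).1 P
    have hf1 : ∀ P m, f P (m + 1) - f P m ∈ F m := by
      intro P m
      have := hseq_succ (m + T.sup nn) P
      rw [Nat.add_sub_cancel] at this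
      have e : m + 1 + T.sup nn = m + T.sup nn + 1 := by omega
      show (seq (m + 1 + T.sup nn)).1 P - (seq (m + T.sup nn)).1 P ∈ F m
      rw [e]
      exact this
    have hL : ∀ P, ∃ L : A, ∀ n, f P n - L ∈ F n := fun P => hprec (f P) (hf1 P)
    choose L hL' using hL
    have hzero : k - ∑ P ∈ T, L P * kk P = 0 := by
      apply hhaus
      intro n
      have e : k - ∑ P ∈ T, L P * kk P =
          (k - ∑ P ∈ T, f P n * kk P) + ∑ P ∈ T, (f P n - L P) * kk P := by
        simp only [sub_mul, Finset.sum_sub_distrib]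
        ring
      rw [e]
      refine Ideal.add_mem _ ?_ (Ideal.sum_mem _ (fun P _ => Ideal.mul_mem_right _ _ (hL' P n)))
      exact hFanti (Nat.le_add_right n _) (seq (n + T.sup nn)).2
    rw [sub_eq_zero] at hzero
    rw [hzero]
    refine Ideal.sum_mem _ (fun P hP => Ideal.mul_mem_left _ _ (Ideal.subset_span ?_))
    simp only [Finset.coe_image, Set.mem_image, Finset.mem_coe]
    exact ⟨P, hP, rfl⟩

end Filt

end Groth.Agent.Helper8.CompleteNoeth
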