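import Mathlib
import Groth.Prelude.Def_CycDet

set_option linter.style.haveILetI false
set_option linter.unusedSectionVars false

/-!
# The determinant of a finite length module has dimension at most one (helper8)
-/

namespace Groth.Agent.Helper8.CycDetLib

open CycDet IsLocalRing

universe u v

variable {R : Type u} [CommRing R] [IsLocalRing R] {M : Type v} [AddCommGroup M] [Module R M]

section SB

variable {l : ℕ} (e : Fin l → M)

theorem sb_mono {s t : ℕ} (h : s ≤ t) : spanBefore R M e s ≤ spanBefore R M e t := by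
  apply Submodule.span_mono
  apply Set.image_mono
  intro j hj
  exact lt_of_lt_of_le hj h

theorem mem_sb {t : ℕ} (j : Fin l) (h : (j : ℕ) < t) : e j ∈ spanBefore R M e t :=
  Submodule.subset_span ⟨j, h, rfl⟩

theorem sb_le_of_forall {t : ℕ} (N : Submodule R M)
    (h : ∀ j : Fin l, (j : ℕ) < t → e j ∈ N) : spanBefore R M e t ≤ N := by
  apply Submodule.span_le.2
  rintro _ ⟨j, hj, rfl⟩
  exact h j hj

theorem sb_congr {e e' : Fin l → M} {t : ℕ} (h : ∀ j : Fin l, (j : ℕ) < t → e j = e' j) :
    spanBefore R M e t = spanBefore R M e' t := by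
  apply le_antisymm
  · apply sb_le_of_forall
    intro j hj
    rw [h j hj]
    exact mem_sb e' j hj
  · apply sb_le_of_forall
    intro j hj
    rw [← h j hj]
    exact mem_sb e j hj

theorem sb_succ (j : Fin l) (x : M) :
    x ∈ spanBefore R M e ((j : ℕ) + 1) ↔
      ∃ a : R, ∃ z ∈ spanBefore R M e (j : ℕ), x = a • e j + z := by
  have hset : e '' {s : Fin l | (s : ℕ) < (j : ℕ) + 1} =
      insert (e j) (e '' {s : Fin l | (s : ℕ) < (j : ℕ)}) := by
    rw [← Set.image_insert_eq]
    congr 1
    ext s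
    constructor
    · intro hs
      rcases Nat.lt_succ_iff_lt_or_eq.1 hs with h | h
      · exact Or.inr h
      · exact Or.inl (Fin.ext h)
    · rintro (h | h)
      · rw [h]
        exact Nat.lt_succ_self _
      · exact Nat.lt_succ_of_lt h
  unfold spanBefore
  rw [hset, Submodule.mem_span_insert]

end SB

theorem adm_update {l : ℕ} (e : Fin l → M) (he : IsAdmissible R M e) (j : Fin l) (i : ℕ)
    (hij : i ≤ (j : ℕ)) (x : M) (hx : ∀ r ∈ maximalIdeal R, r • x ∈ spanBefore R M e i)
    (a : Rˣ) (z : M) (hz : z ∈ spanBefore R M e (j : ℕ)) (hxe : x = (a : R) • e j + z) :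
    IsAdmissible R M (Function.update e j x) ∧
      ∀ t : ℕ, spanBefore R M (Function.update e j x) t = spanBefore R M e t := by
  have hlow : ∀ t : ℕ, t ≤ (j : ℕ) →
      spanBefore R M (Function.update e j x) t = spanBefore R M e t := by
    intro t ht
    apply sb_congr
    intro s hs
    exact Function.update_of_ne (Fin.ne_of_val_ne (by omega)) _ _
  have hsb : ∀ t : ℕ, spanBefore R M (Function.update e j x) t = spanBefore R M e t := by
    intro t
    by_cases ht : t ≤ (j : ℕ)
    · exact hlow t ht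
    · push Not at ht
      apply le_antisymm
      · apply sb_le_of_forall
        intro s hs
        by_cases hsj : s = j
        · rw [hsj, Function.update_self, hxe]
          exact add_mem (Submodule.smul_mem _ _ (mem_sb e j ht)) (sb_mono e (le_of_lt ht) hz)
        · rw [Function.update_of_ne hsj]
          exact mem_sb e s hs
      · apply sb_le_of_forall
        intro s hs
        by_cases hsj : s = j
        · rw [hsj]
          have h1 : e j = ((a⁻¹ : Rˣ) : R) • (x - z) := by
            rw [hxe, add_sub_cancel_right, smul_smul, Units.inv_mul, one_smul]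
          rw [h1]
          apply Submodule.smul_mem
          apply sub_mem
          · have := mem_sb (R := R) (Function.update e j x) j ht
            rwa [Function.update_self] at this
          · have hz' : z ∈ spanBefore R M (Function.update e j x) (j : ℕ) := by
              rw [hlow _ le_rfl]
              exact hz
            exact sb_mono _ (le_of_lt ht) hz'
        · have := mem_sb (R := R) (Function.update e j x) s hs
          rwa [Function.update_of_ne hsj] at this
  refine ⟨?_, hsb⟩
  intro t r hr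
  rw [hsb]
  by_cases htj : t = j
  · rw [htj, Function.update_self]
    exact sb_mono e hij (hx r hr)
  · rw [Function.update_of_ne htj]
    exact he t r hr

theorem sb_swap_low {l : ℕ} (e : Fin l → M) (a b : Fin l) (t : ℕ) (hb : t ≤ (b : ℕ))
    (hab : (b : ℕ) + 1 = (a : ℕ)) :
    spanBefore R M (e ∘ Equiv.swap a b) t = spanBefore R M e t := by
  apply sb_congr
  intro s hs
  show e (Equiv.swap a b s) = e s
  rw [Equiv.swap_apply_of_ne_of_ne (Fin.ne_of_val_ne (by omega)) (Fin.ne_of_val_ne (by omega))]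

theorem sb_swap_high {l : ℕ} (e : Fin l → M) (a b : Fin l) (t : ℕ) (ha : (a : ℕ) < t)
    (hb : (b : ℕ) < t) :
    spanBefore R M (e ∘ Equiv.swap a b) t = spanBefore R M e t := by
  have key : ∀ s : Fin l, (s : ℕ) < t → ((Equiv.swap a b s : Fin l) : ℕ) < t := by
    intro s hs
    by_cases h1 : s = a
    · rw [h1, Equiv.swap_apply_left]
      exact hb
    · by_cases h2 : s = b
      · rw [h2, Equiv.swap_apply_right]
        exact ha
      · rw [Equiv.swap_apply_of_ne_of_ne h1 h2]
        exact hs
  apply le_antisymm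
  · apply sb_le_of_forall
    intro s hs
    exact mem_sb (R := R) e _ (key s hs)
  · apply sb_le_of_forall
    intro s hs
    have h1 : e s = (e ∘ Equiv.swap a b) (Equiv.swap a b s) := by
      simp
    rw [h1]
    exact mem_sb (R := R) (e ∘ Equiv.swap a b) _ (key s hs)

theorem adm_swap {l : ℕ} (e : Fin l → M) (he : IsAdmissible R M e) (a b : Fin l)
    (hab : (b : ℕ) + 1 = (a : ℕ))
    (h : ∀ r ∈ maximalIdeal R, r • e a ∈ spanBefore R M e (b : ℕ)) :
    IsAdmissible R M (e ∘ Equiv.swap a b) := by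
  intro t r hr
  show r • e (Equiv.swap a b t) ∈ spanBefore R M (e ∘ Equiv.swap a b) (t : ℕ)
  by_cases h1 : t = a
  · rw [h1, Equiv.swap_apply_left]
    have h2 := he b r hr
    rw [← sb_swap_low e a b (b : ℕ) le_rfl hab] at h2
    exact sb_mono _ (by omega) h2
  · by_cases h2 : t = b
    · rw [h2, Equiv.swap_apply_right, sb_swap_low e a b (b : ℕ) le_rfl hab]
      exact h r hr
    · rw [Equiv.swap_apply_of_ne_of_ne h1 h2]
      have hta : (t : ℕ) ≠ (a : ℕ) := fun hh => h1 (Fin.ext hh)
      have htb : (t : ℕ) ≠ (b : ℕ) := fun hh => h2 (Fin.ext hh)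
      by_cases h3 : (t : ℕ) < (b : ℕ)
      · rw [sb_swap_low e a b (t : ℕ) (le_of_lt h3) hab]
        exact he t r hr
      · rw [sb_swap_high e a b (t : ℕ) (by omega) (by omega)]
        exact he t r hr

/-- The class of a symbol. -/
noncomputable def cls {l : ℕ} (e : Adm R M l) : DetOfLen R M l :=
  Submodule.Quotient.mk (sym R M e)

theorem cls_zero_of_degenerate {l : ℕ} (e : Adm R M l) (a : Fin l)
    (h : e.1 a ∈ spanBefore R M e.1 (a : ℕ)) : cls e = 0 :=
  (Submodule.Quotient.mk_eq_zero _).2
    (Submodule.subset_span (Or.inl (Or.inl ⟨e, a, h, rfl⟩)))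

theorem cls_b {l : ℕ} (e e' : Adm R M l) (a : Fin l) (c : Rˣ)
    (h1 : ∀ j, j ≠ a → e.1 j = e'.1 j)
    (h2 : e.1 a - (c : R) • e'.1 a ∈ spanBefore R M e.1 (a : ℕ)) :
    cls e = IsLocalRing.residue R (c : R) • cls e' := by
  have hmem : sym R M e - IsLocalRing.residue R (c : R) • sym R M e' ∈
      Submodule.span (ResidueField R) (relSet R M l) :=
    Submodule.subset_span (Or.inl (Or.inr ⟨e, e', a, c, h1, h2, rfl⟩))
  have h3 := (Submodule.Quotient.mk_eq_zero _).2 hmem
  rw [Submodule.Quotient.mk_sub, Submodule.Quotient.mk_smul, sub_eq_zero] at h3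
  exact h3

theorem cls_c {l : ℕ} (e e' : Adm R M l) (a b : Fin l) (hab : (b : ℕ) + 1 = (a : ℕ))
    (h : ∀ r ∈ maximalIdeal R, r • e.1 a ∈ spanBefore R M e.1 (b : ℕ))
    (h' : e'.1 = e.1 ∘ Equiv.swap a b) :
    cls e = (-1 : ResidueField R) • cls e' := by
  have hmem : sym R M e + sym R M e' ∈ Submodule.span (ResidueField R) (relSet R M l) :=
    Submodule.subset_span (Or.inr ⟨e, e', a, b, hab, h, h', rfl⟩)
  have h3 := (Submodule.Quotient.mk_eq_zero _).2 hmem
  rw [Submodule.Quotient.mk_add] at h3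
  rw [neg_smul, one_smul]
  exact eq_neg_of_add_eq_zero_left h3

theorem span_top_of_nondegenerate {l : ℕ} (hM : IsFiniteLength R M)
    (hl : Module.length R M = l) (e : Fin l → M)
    (hnd : ∀ t : Fin l, e t ∉ spanBefore R M e (t : ℕ)) : spanBefore R M e l = ⊤ := by
  obtain ⟨_, _⟩ := isFiniteLength_iff_isNoetherian_isArtinian.mp hM
  have hstep : ∀ t : ℕ, t ≤ l → (t : ℕ∞) ≤ Order.height (spanBefore R M e t) := by
    intro t
    induction t with
    | zero =>
      intro _
      simp
    | succ t ih =>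
      intro ht
      have ht' : t < l := ht
      have hlt : spanBefore R M e t < spanBefore R M e (t + 1) := by
        refine lt_of_le_of_ne (sb_mono e (Nat.le_succ t)) ?_
        intro heq
        apply hnd ⟨t, ht'⟩
        show e ⟨t, ht'⟩ ∈ spanBefore R M e t
        rw [heq]
        exact mem_sb e ⟨t, ht'⟩ (Nat.lt_succ_self t)
      have h1 := Submodule.height_strictMono hlt
      have h2 := ih (le_of_lt ht')
      calc ((t + 1 : ℕ) : ℕ∞) = (t : ℕ∞) + 1 := Nat.cast_succ t
        _ ≤ Order.height (spanBefore R M e t) + 1 := add_le_add h2 le_rfl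
        _ ≤ Order.height (spanBefore R M e (t + 1)) := Order.add_one_le_of_lt h1
  by_contra hne
  have h1 : Order.height (spanBefore R M e l) < Order.height (⊤ : Submodule R M) :=
    Submodule.height_strictMono (lt_top_iff_ne_top.2 hne)
  rw [← Module.length_eq_height, hl] at h1
  exact absurd (hstep l le_rfl) (not_le.2 h1)

theorem move {l : ℕ} : ∀ (d : ℕ) (e : Adm R M l) (j : Fin l) (i : ℕ), i + d = (j : ℕ) →
    (∀ r ∈ maximalIdeal R, r • e.1 j ∈ spanBefore R M e.1 i) →
    ∃ (e'' : Adm R M l) (ε : ResidueField R) (hi : i < l), cls e = ε • cls e'' ∧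
      e''.1 ⟨i, hi⟩ = e.1 j ∧ ∀ t : Fin l, (t : ℕ) < i → e''.1 t = e.1 t := by
  intro d
  induction d with
  | zero =>
    intro e j i hij h
    have hi : i < l := by
      have := j.2
      omega
    have hij' : (⟨i, hi⟩ : Fin l) = j := Fin.ext (by simpa using hij)
    refine ⟨e, 1, hi, (one_smul _ _).symm, ?_, fun t _ => rfl⟩
    rw [hij']
  | succ d ih =>
    intro e j i hij h
    obtain ⟨b, hab⟩ : ∃ b : Fin l, (b : ℕ) + 1 = (j : ℕ) :=
      ⟨⟨(j : ℕ) - 1, by have := j.2; omega⟩, by show (j : ℕ) - 1 + 1 = (j : ℕ); omega⟩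
    have hib : i ≤ (b : ℕ) := by omega
    have hm : ∀ r ∈ maximalIdeal R, r • e.1 j ∈ spanBefore R M e.1 (b : ℕ) :=
      fun r hr => sb_mono e.1 hib (h r hr)
    obtain ⟨e', he'⟩ : ∃ e' : Adm R M l, e'.1 = e.1 ∘ Equiv.swap j b :=
      ⟨⟨_, adm_swap e.1 e.2 j b hab hm⟩, rfl⟩
    have hc : cls e = (-1 : ResidueField R) • cls e' := cls_c e e' j b hab hm he'
    have he'b : e'.1 b = e.1 j := by
      rw [he']
      show e.1 (Equiv.swap j b b) = e.1 j
      rw [Equiv.swap_apply_right]
    have hlow : ∀ t : Fin l, (t : ℕ) < (b : ℕ) → e'.1 t = e.1 t := by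
      intro t ht
      rw [he']
      show e.1 (Equiv.swap j b t) = e.1 t
      rw [Equiv.swap_apply_of_ne_of_ne (Fin.ne_of_val_ne (by omega))
        (Fin.ne_of_val_ne (by omega))]
    have h' : ∀ r ∈ maximalIdeal R, r • e'.1 b ∈ spanBefore R M e'.1 i := by
      intro r hr
      rw [he'b, sb_congr (e := e'.1) (e' := e.1)
        (fun t ht => hlow t (lt_of_lt_of_le ht hib))]
      exact h r hr
    obtain ⟨e'', ε, hi, h1, h2, h3⟩ := ih e' b i (by omega) h'
    refine ⟨e'', -ε, hi, ?_, ?_, ?_⟩
    · rw [hc, h1, smul_smul]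
      congr 1
      ring
    · rw [h2, he'b]
    · intro t ht
      rw [h3 t ht, hlow t (lt_of_lt_of_le ht hib)]

theorem straighten {l : ℕ} (hM : IsFiniteLength R M) (hl : Module.length R M = l)
    (f : Adm R M l) (hf : ∀ t : Fin l, f.1 t ∉ spanBefore R M f.1 (t : ℕ)) :
    ∀ (k i : ℕ), i + k = l → ∀ e : Adm R M l,
      (∀ t : Fin l, (t : ℕ) < i → e.1 t = f.1 t) →
      ∃ c : ResidueField R, cls e = c • cls f := by
  intro k
  induction k with
  | zero =>
    intro i hi e hag
    refine ⟨1, ?_⟩
    have hef : e = f := Subtype.ext (funext fun t => hag t (by have := t.2; omega))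
    rw [hef, one_smul]
  | succ k ih =>
    intro i hi e hag
    have hil : i < l := by omega
    by_cases hnd : ∀ t : Fin l, e.1 t ∉ spanBefore R M e.1 (t : ℕ)
    · have htop := span_top_of_nondegenerate hM hl e.1 hnd
      obtain ⟨fi, hfi_def⟩ : ∃ x : M, x = f.1 ⟨i, hil⟩ := ⟨_, rfl⟩
      have hex : ∃ t : ℕ, fi ∈ spanBefore R M e.1 t :=
        ⟨l, by rw [htop]; exact Submodule.mem_top⟩
      classical
      obtain ⟨t₀, ht₀, hmin⟩ : ∃ t₀ : ℕ, fi ∈ spanBefore R M e.1 t₀ ∧
          ∀ s < t₀, fi ∉ spanBefore R M e.1 s :=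
        ⟨Nat.find hex, Nat.find_spec hex, fun s hs => Nat.find_min hex hs⟩
      have hsbi : spanBefore R M e.1 i = spanBefore R M f.1 i := sb_congr hag
      have hit₀ : i < t₀ := by
        by_contra hcon
        push Not at hcon
        apply hf ⟨i, hil⟩
        show f.1 ⟨i, hil⟩ ∈ spanBefore R M f.1 i
        rw [← hsbi, ← hfi_def]
        exact sb_mono e.1 hcon ht₀
      have ht₀l : t₀ ≤ l := by
        by_contra hcon
        push Not at hcon
        exact hmin l hcon (by rw [htop]; exact Submodule.mem_top)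
      obtain ⟨j, hj1⟩ : ∃ j : Fin l, (j : ℕ) + 1 = t₀ :=
        ⟨⟨t₀ - 1, by omega⟩, by show t₀ - 1 + 1 = t₀; omega⟩
      have hij : i ≤ (j : ℕ) := by omega
      have ht₀' : fi ∈ spanBefore R M e.1 ((j : ℕ) + 1) := by
        rw [hj1]
        exact ht₀
      obtain ⟨a, z, hz, hfi⟩ := (sb_succ e.1 j fi).1 ht₀'
      have ha : IsUnit a := by
        by_contra hna
        have ham : a ∈ maximalIdeal R := (IsLocalRing.mem_maximalIdeal a).2 hna
        have h1 := e.2 j a ham
        apply hmin (j : ℕ) (by omega)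
        rw [hfi]
        exact add_mem h1 hz
      obtain ⟨u, rfl⟩ := ha
      have hmx : ∀ r ∈ maximalIdeal R, r • fi ∈ spanBefore R M e.1 i := by
        intro r hr
        rw [hsbi, hfi_def]
        exact f.2 ⟨i, hil⟩ r hr
      obtain ⟨hadm, hsb⟩ := adm_update e.1 e.2 j i hij fi hmx u z hz hfi
      obtain ⟨e', he'⟩ : ∃ e' : Adm R M l, e'.1 = Function.update e.1 j fi :=
        ⟨⟨_, hadm⟩, rfl⟩
      have hb : cls e = IsLocalRing.residue R ((u⁻¹ : Rˣ) : R) • cls e' := by
        apply cls_b e e' j u⁻¹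
        · intro s hs
          rw [he', Function.update_of_ne hs]
        · rw [he', Function.update_self, hfi, smul_add, smul_smul, Units.inv_mul, one_smul]
          have h1 : e.1 j - (e.1 j + ((u⁻¹ : Rˣ) : R) • z) = -(((u⁻¹ : Rˣ) : R) • z) := by
            abel
          rw [h1]
          exact neg_mem (Submodule.smul_mem _ _ hz)
      have hmx' : ∀ r ∈ maximalIdeal R, r • e'.1 j ∈ spanBefore R M e'.1 i := by
        intro r hr
        rw [he', Function.update_self, hsb i]
        exact hmx r hr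
      obtain ⟨e'', ε, hi', h1, h2, h3⟩ := move ((j : ℕ) - i) e' j i (by omega) hmx'
      have hag'' : ∀ t : Fin l, (t : ℕ) < i + 1 → e''.1 t = f.1 t := by
        intro t ht
        rcases Nat.lt_succ_iff_lt_or_eq.1 ht with h | h
        · rw [h3 t h, he', Function.update_of_ne (Fin.ne_of_val_ne (by omega)), hag t h]
        · have htt : t = ⟨i, hi'⟩ := Fin.ext h
          rw [htt, h2, he', Function.update_self, hfi_def]
      obtain ⟨c, hc⟩ := ih (i + 1) (by omega) e'' hag''
      exact ⟨IsLocalRing.residue R ((u⁻¹ : Rˣ) : R) * ε * c, by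
        rw [hb, h1, hc, smul_smul, smul_smul]⟩
    · push Not at hnd
      obtain ⟨t, ht⟩ := hnd
      exact ⟨0, by rw [cls_zero_of_degenerate e t ht, zero_smul]⟩

theorem exists_generator {l : ℕ} (hM : IsFiniteLength R M) (hl : Module.length R M = l) :
    ∃ w : DetOfLen R M l, ∀ x : DetOfLen R M l, ∃ c : ResidueField R, c • w = x := by
  have key : ∃ w : DetOfLen R M l, ∀ e : Adm R M l, ∃ c : ResidueField R, cls e = c • w := by
    by_cases hex : ∃ f : Adm R M l, ∀ t : Fin l, f.1 t ∉ spanBefore R M f.1 (t : ℕ)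
    · obtain ⟨f, hf⟩ := hex
      exact ⟨cls f, fun e => straighten hM hl f hf l 0 (Nat.zero_add l) e
        (fun t ht => absurd ht (Nat.not_lt_zero _))⟩
    · push Not at hex
      refine ⟨0, fun e => ?_⟩
      obtain ⟨t, ht⟩ := hex e
      exact ⟨0, by rw [cls_zero_of_degenerate e t ht, zero_smul]⟩
  obtain ⟨w, hw⟩ := key
  refine ⟨w, fun x => ?_⟩
  obtain ⟨y, rfl⟩ := Submodule.Quotient.mk_surjective _ x
  induction y using Finsupp.induction_linear with
  | zero => exact ⟨0, by simp⟩
  | add p q hp hq =>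
    obtain ⟨c1, h1⟩ := hp
    obtain ⟨c2, h2⟩ := hq
    exact ⟨c1 + c2, by rw [add_smul, h1, h2, Submodule.Quotient.mk_add]⟩
  | single e c =>
    obtain ⟨c', hc'⟩ := hw e
    refine ⟨c * c', ?_⟩
    have h1 : (Finsupp.single e c : CycDet.Free R M l) = c • sym R M e := by
      unfold sym
      rw [Finsupp.smul_single, smul_eq_mul, mul_one]
    rw [h1, Submodule.Quotient.mk_smul, mul_smul]
    show c • c' • w = c • cls e
    rw [hc']

theorem rank_le_one (hM : IsFiniteLength R M) :
    Module.rank (ResidueField R) (Det R M) ≤ 1 := by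
  have hne : Module.length R M ≠ ⊤ := Module.length_ne_top_iff.2 hM
  have hl : Module.length R M = ((Module.length R M).toNat : ℕ∞) := (ENat.natCast_toNat hne).symm
  obtain ⟨w, hw⟩ := exists_generator hM hl
  exact rank_le_one_iff.2 ⟨w, hw⟩

end Groth.Agent.Helper8.CycDetLib
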