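import Mathlib
import Groth.Prelude.Def_CycDet
import Groth.Agent.Lib.Helper8.CycDetLib

set_option linter.style.haveILetI false
set_option linter.unusedSectionVars false

/-!
# det of a vector space over the residue field is the top exterior power (helper8)
-/

namespace Groth.Agent.Helper8.CycDetLib2

open CycDet IsLocalRing Groth.Agent.Helper8

universe u v

variable {R : Type u} [CommRing R] [IsLocalRing R] {M : Type v} [AddCommGroup M] [Module R M]
  [Module (ResidueField R) M] [IsScalarTower R (ResidueField R) M]

theorem max_smul (r : R) (hr : r ∈ maximalIdeal R) (x : M) : r • x = 0 := by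
  rw [← algebraMap_smul (ResidueField R) r x]
  have h0 : algebraMap R (ResidueField R) r = 0 := by
    rw [IsLocalRing.ResidueField.algebraMap_eq]
    exact (IsLocalRing.residue_eq_zero_iff r).2 hr
  rw [h0, zero_smul]

theorem all_adm {l : ℕ} (m : Fin l → M) : IsAdmissible R M m := by
  intro i r hr
  rw [max_smul r hr]
  exact Submodule.zero_mem _

theorem sb_sub_span {l : ℕ} (e : Fin l → M) (t : ℕ) (x : M) (hx : x ∈ spanBefore R M e t) :
    x ∈ Submodule.span (ResidueField R) (e '' {j : Fin l | (j : ℕ) < t}) :=
  Submodule.span_le_restrictScalars (R := R) (S := ResidueField R)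
    (s := e '' {j : Fin l | (j : ℕ) < t}) hx

theorem iota_zero_of_mem {l : ℕ} (e : Fin l → M) (a : Fin l)
    (h : e a ∈ spanBefore R M e (a : ℕ)) :
    exteriorPower.ιMulti (ResidueField R) l e = 0 := by
  apply AlternatingMap.map_linearDependent
  intro hli
  exact hli.notMem_span_image (s := {j : Fin l | (j : ℕ) < (a : ℕ)}) (x := a)
    (fun hh => lt_irrefl (a : ℕ) (show (a : ℕ) < (a : ℕ) from hh)) (sb_sub_span e a (e a) h)

noncomputable def psi (l : ℕ) :
    CycDet.Free R M l →ₗ[ResidueField R] ⋀[ResidueField R]^l M :=
  Finsupp.linearCombination (ResidueField R)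
    (fun e : Adm R M l => exteriorPower.ιMulti (ResidueField R) l e.1)

theorem psi_sym {l : ℕ} (e : Adm R M l) :
    psi l (sym R M e) = exteriorPower.ιMulti (ResidueField R) l e.1 := by
  unfold psi sym
  rw [Finsupp.linearCombination_single, one_smul]

theorem psi_rel {l : ℕ} : ∀ x ∈ relSet R M l, psi (R := R) (M := M) l x = 0 := by
  classical
  rintro x ((⟨e, a, h, rfl⟩ | ⟨e, e', a, c, h1, h2, rfl⟩) | ⟨e, e', a, b, hab, h, h', rfl⟩)
  · rw [psi_sym]
    exact iota_zero_of_mem e.1 a h
  · rw [map_sub, map_smul, psi_sym, psi_sym]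
    obtain ⟨d, hd⟩ : ∃ d : M, d = e.1 a - (c : R) • e'.1 a := ⟨_, rfl⟩
    have he : e.1 = Function.update e'.1 a ((c : R) • e'.1 a + d) := by
      funext j
      by_cases hj : j = a
      · rw [hj, Function.update_self, hd]
        abel
      · rw [Function.update_of_ne hj, h1 j hj]
    have hzero : exteriorPower.ιMulti (ResidueField R) l (Function.update e'.1 a d) = 0 := by
      apply iota_zero_of_mem (R := R) _ a
      rw [Function.update_self]
      have hsb : spanBefore R M (Function.update e'.1 a d) (a : ℕ) =
          spanBefore R M e.1 (a : ℕ) := by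
        apply CycDetLib.sb_congr
        intro j hj
        rw [Function.update_of_ne (Fin.ne_of_val_ne (by omega)),
          h1 j (Fin.ne_of_val_ne (by omega))]
      rw [hsb, hd]
      exact h2
    rw [he, AlternatingMap.map_update_add, hzero, add_zero]
    have hc : (c : R) • e'.1 a = (IsLocalRing.residue R (c : R)) • e'.1 a :=
      (algebraMap_smul (ResidueField R) (c : R) (e'.1 a)).symm
    rw [hc, AlternatingMap.map_update_smul, Function.update_eq_self, sub_self]
  · rw [map_add, psi_sym, psi_sym, h']
    have hne : a ≠ b := by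
      intro hh
      rw [hh] at hab
      omega
    rw [AlternatingMap.map_swap _ _ hne, add_neg_cancel]

noncomputable def Phi' (l : ℕ) :
    DetOfLen R M l →ₗ[ResidueField R] ⋀[ResidueField R]^l M :=
  Submodule.liftQ _ (psi l)
    (Submodule.span_le.2 (fun x hx => LinearMap.mem_ker.2 (psi_rel x hx)))

theorem Phi'_cls {l : ℕ} (e : Adm R M l) :
    Phi' l (CycDetLib.cls e) = exteriorPower.ιMulti (ResidueField R) l e.1 := by
  show Phi' l (Submodule.Quotient.mk (sym R M e)) = _
  unfold Phi'
  rw [Submodule.liftQ_apply, psi_sym]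

theorem Phi'_surj {l : ℕ} : Function.Surjective (Phi' (R := R) (M := M) l) := by
  rw [← LinearMap.range_eq_top, eq_top_iff, ← exteriorPower.ιMulti_span (ResidueField R) l M]
  apply Submodule.span_le.2
  rintro _ ⟨m, rfl⟩
  exact ⟨CycDetLib.cls ⟨m, all_adm m⟩, Phi'_cls _⟩

theorem exists_equiv [Module.Finite (ResidueField R) M] :
    ∃ Φ : Det R M ≃ₗ[ResidueField R] (⋀[ResidueField R]^((Module.length R M).toNat) M),
      ∀ e : Adm R M (Module.length R M).toNat,
        Φ (symbol R M e) =
          exteriorPower.ιMulti (ResidueField R) ((Module.length R M).toNat) e.1 := by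
  have hlen : Module.length R M = (Module.finrank (ResidueField R) M : ℕ∞) := by
    rw [Module.length_eq_of_surjective (R := ResidueField R) (S := R) (M := M)
      IsLocalRing.residue_surjective]
    exact Module.length_eq_finrank _ _
  have hne : Module.length R M ≠ ⊤ := by
    rw [hlen]
    exact ENat.natCast_ne_top _
  have hM : IsFiniteLength R M := Module.length_ne_top_iff.1 hne
  have hl : (Module.length R M).toNat = Module.finrank (ResidueField R) M := by
    rw [hlen]
    exact ENat.toNat_natCast _
  have hl' : Module.length R M = ((Module.length R M).toNat : ℕ∞) :=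
    (ENat.natCast_toNat hne).symm
  have h1 : Module.finrank (ResidueField R)
      (⋀[ResidueField R]^((Module.length R M).toNat) M) = 1 := by
    rw [exteriorPower.finrank_eq, hl, Nat.choose_self]
  haveI : Nontrivial (⋀[ResidueField R]^((Module.length R M).toNat) M) :=
    Module.nontrivial_of_finrank_eq_succ h1
  obtain ⟨w, hw⟩ := CycDetLib.exists_generator hM hl'
  have hinj : Function.Injective (Phi' (R := R) (M := M) (Module.length R M).toNat) := by
    rw [injective_iff_map_eq_zero]
    intro x hx
    obtain ⟨c, rfl⟩ := hw x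
    by_cases hc : c = 0
    · rw [hc, zero_smul]
    · exfalso
      rw [map_smul] at hx
      have hw0 : Phi' (Module.length R M).toNat w = 0 := (smul_eq_zero.1 hx).resolve_left hc
      obtain ⟨y, hy⟩ := exists_ne (0 : ⋀[ResidueField R]^((Module.length R M).toNat) M)
      obtain ⟨x', hx'⟩ := Phi'_surj (R := R) (M := M) y
      obtain ⟨c', rfl⟩ := hw x'
      apply hy
      rw [← hx', map_smul, hw0, smul_zero]
  refine ⟨LinearEquiv.ofBijective (Phi' (Module.length R M).toNat) ⟨hinj, Phi'_surj⟩, ?_⟩
  intro e
  show Phi' (Module.length R M).toNat (CycDetLib.cls e) = _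
  exact Phi'_cls e

end Groth.Agent.Helper8.CycDetLib2
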