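import Mathlib
import Groth.Prelude.Def_CycDet
import Groth.Agent.Lib.Helper8.CycDetLib

set_option linter.style.haveILetI false
set_option linter.unusedSectionVars false
set_option linter.unusedVariables false

/-!
# Symbols of generating admissible tuples do not vanish (helper8)
-/

namespace Groth.Agent.Helper8.CycDetLib3

open CycDet IsLocalRing Groth.Agent.Helper8.CycDetLib

universe u v

variable {R : Type u} [CommRing R] [IsLocalRing R] {M : Type v} [AddCommGroup M] [Module R M]

theorem sa_val {n : ℕ} (p : Fin (n + 1)) (i : Fin n) :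
    ((p.succAbove i : Fin (n + 1)) : ℕ) = if (i : ℕ) < (p : ℕ) then (i : ℕ) else (i : ℕ) + 1 := by
  by_cases h : (i : ℕ) < (p : ℕ)
  · rw [if_pos h, Fin.succAbove_of_castSucc_lt p i (by rw [Fin.lt_def]; simpa using h)]
    simp
  · rw [if_neg h, Fin.succAbove_of_le_castSucc p i (by rw [Fin.le_def]; simpa using not_lt.1 h)]
    simp

theorem sa_lt {n : ℕ} (p : Fin (n + 1)) (i : Fin n) (h : (i : ℕ) < (p : ℕ)) :
    ((p.succAbove i : Fin (n + 1)) : ℕ) = i := by
  rw [sa_val, if_pos h]

theorem sa_ge {n : ℕ} (p : Fin (n + 1)) (i : Fin n) (h : (p : ℕ) ≤ (i : ℕ)) :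
    ((p.succAbove i : Fin (n + 1)) : ℕ) = i + 1 := by
  rw [sa_val, if_neg (not_lt.2 h)]

theorem sa_exists {n : ℕ} (p s : Fin (n + 1)) (h : s ≠ p) : ∃ i : Fin n, p.succAbove i = s :=
  Fin.exists_succAbove_eq h

variable (f : M)

/-- The tuple with the `p`-th entry removed, in the quotient by the line spanned by `f`. -/
noncomputable def rem {n : ℕ} (e : Fin (n + 1) → M) (p : Fin (n + 1)) :
    Fin n → M ⧸ (Submodule.span R {f}) :=
  fun i => Submodule.Quotient.mk (e (p.succAbove i))

theorem rem_mem_Ebar {n : ℕ} (e : Fin (n + 1) → M) (p : Fin (n + 1)) (i : Fin n) (t : ℕ)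
    (h : ((p.succAbove i : Fin (n + 1)) : ℕ) < t) :
    rem f e p i ∈ Submodule.map (Submodule.span R {f}).mkQ (spanBefore R M e t) := by
  show (Submodule.span R {f}).mkQ (e (p.succAbove i)) ∈
    Submodule.map (Submodule.span R {f}).mkQ (spanBefore R M e t)
  have h1 : e (p.succAbove i) ∈ spanBefore R M e t := mem_sb (R := R) e (p.succAbove i) h
  exact Submodule.mem_map_of_mem h1

theorem mk_mem_sb_rem {n : ℕ} (e : Fin (n + 1) → M) (p s : Fin (n + 1)) (hs : s ≠ p) (t : ℕ)
    (h : ∀ i : Fin n, p.succAbove i = s → (i : ℕ) < t) :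
    (Submodule.Quotient.mk (e s) : M ⧸ (Submodule.span R {f})) ∈
      spanBefore R (M ⧸ (Submodule.span R {f})) (rem f e p) t := by
  obtain ⟨i, hi⟩ := sa_exists p s hs
  have h1 := mem_sb (R := R) (rem (R := R) f e p) i (h i hi)
  rw [← hi]
  exact h1

theorem sb_rem_low {n : ℕ} (e : Fin (n + 1) → M) (p : Fin (n + 1)) (t : ℕ) (ht : t ≤ (p : ℕ)) :
    spanBefore R (M ⧸ (Submodule.span R {f})) (rem f e p) t =
      Submodule.map (Submodule.span R {f}).mkQ (spanBefore R M e t) := by
  apply le_antisymm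
  · apply sb_le_of_forall
    intro i hi
    apply rem_mem_Ebar
    rw [sa_lt p i (by omega)]
    exact hi
  · rw [Submodule.map_le_iff_le_comap]
    apply sb_le_of_forall
    intro s hs
    rw [Submodule.mem_comap]
    refine mk_mem_sb_rem f e p s (Fin.ne_of_val_ne (by omega)) t ?_
    intro i hi
    have h1 := sa_val p i
    rw [hi] at h1
    split_ifs at h1 <;> omega

theorem sb_rem_high {n : ℕ} (e : Fin (n + 1) → M) (p : Fin (n + 1)) (t : ℕ) (ht : (p : ℕ) ≤ t)
    (hp : (Submodule.Quotient.mk (e p) : M ⧸ (Submodule.span R {f})) ∈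
      Submodule.map (Submodule.span R {f}).mkQ (spanBefore R M e (p : ℕ))) :
    spanBefore R (M ⧸ (Submodule.span R {f})) (rem f e p) t =
      Submodule.map (Submodule.span R {f}).mkQ (spanBefore R M e (t + 1)) := by
  apply le_antisymm
  · apply sb_le_of_forall
    intro i hi
    apply rem_mem_Ebar
    have h1 := sa_val p i
    split_ifs at h1 <;> omega
  · rw [Submodule.map_le_iff_le_comap]
    apply sb_le_of_forall
    intro s hs
    rw [Submodule.mem_comap]
    by_cases hsp : s = p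
    · rw [hsp]
      have h2 : (Submodule.Quotient.mk (e p) : M ⧸ (Submodule.span R {f})) ∈
          spanBefore R (M ⧸ (Submodule.span R {f})) (rem f e p) (p : ℕ) := by
        rw [sb_rem_low f e p p le_rfl]
        exact hp
      exact sb_mono _ ht h2
    · have hsp' : (s : ℕ) ≠ (p : ℕ) := fun hh => hsp (Fin.ext hh)
      refine mk_mem_sb_rem f e p s hsp t ?_
      intro i hi
      have h1 := sa_val p i
      rw [hi] at h1
      split_ifs at h1 <;> omega

theorem adm_rem {n : ℕ} (e : Fin (n + 1) → M) (he : IsAdmissible R M e) (p : Fin (n + 1))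
    (hp : (Submodule.Quotient.mk (e p) : M ⧸ (Submodule.span R {f})) ∈
      Submodule.map (Submodule.span R {f}).mkQ (spanBefore R M e (p : ℕ))) :
    IsAdmissible R (M ⧸ (Submodule.span R {f})) (rem f e p) := by
  intro i r hr
  have h1 : r • rem f e p i ∈ Submodule.map (Submodule.span R {f}).mkQ
      (spanBefore R M e ((p.succAbove i : Fin (n + 1)) : ℕ)) := by
    show (Submodule.span R {f}).mkQ (r • e (p.succAbove i)) ∈
      Submodule.map (Submodule.span R {f}).mkQ
        (spanBefore R M e ((p.succAbove i : Fin (n + 1)) : ℕ))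
    exact Submodule.mem_map_of_mem (he (p.succAbove i) r hr)
  by_cases hi : (i : ℕ) < (p : ℕ)
  · rw [sb_rem_low f e p i (le_of_lt hi)]
    rwa [sa_lt p i hi] at h1
  · rw [sb_rem_high f e p i (not_lt.1 hi) hp]
    rwa [sa_ge p i (not_lt.1 hi)] at h1

theorem rem_degenerate {n : ℕ} (e : Fin (n + 1) → M) (p q : Fin (n + 1)) (hq : q ≠ p)
    (hp : (Submodule.Quotient.mk (e p) : M ⧸ (Submodule.span R {f})) ∈
      Submodule.map (Submodule.span R {f}).mkQ (spanBefore R M e (p : ℕ)))
    (hdeg : (Submodule.Quotient.mk (e q) : M ⧸ (Submodule.span R {f})) ∈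
      Submodule.map (Submodule.span R {f}).mkQ (spanBefore R M e (q : ℕ))) :
    ∃ q' : Fin n, p.succAbove q' = q ∧
      rem f e p q' ∈ spanBefore R (M ⧸ (Submodule.span R {f})) (rem f e p) (q' : ℕ) := by
  obtain ⟨q', hq'⟩ := sa_exists p q hq
  refine ⟨q', hq', ?_⟩
  have h1 : rem f e p q' ∈
      Submodule.map (Submodule.span R {f}).mkQ (spanBefore R M e (q : ℕ)) := by
    show (Submodule.Quotient.mk (e (p.succAbove q')) : M ⧸ (Submodule.span R {f})) ∈
      Submodule.map (Submodule.span R {f}).mkQ (spanBefore R M e (q : ℕ))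
    rw [hq']
    exact hdeg
  by_cases hi : (q' : ℕ) < (p : ℕ)
  · rw [sb_rem_low f e p q' (le_of_lt hi)]
    have h2 : (q : ℕ) = q' := by rw [← hq', sa_lt p q' hi]
    rwa [h2] at h1
  · rw [sb_rem_high f e p q' (not_lt.1 hi) hp]
    have h2 : (q : ℕ) = q' + 1 := by rw [← hq', sa_ge p q' (not_lt.1 hi)]
    rwa [h2] at h1

/-- `f` enters the flag of `e` at position `p` with coefficient `a`. -/
def HasData {n : ℕ} (e : Fin (n + 1) → M) (p : Fin (n + 1)) (a : Rˣ) (s : M) : Prop :=
  s ∈ spanBefore R M e (p : ℕ) ∧ f = (a : R) • e p + s ∧ f ∉ spanBefore R M e (p : ℕ)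

theorem mk_f : (Submodule.Quotient.mk f : M ⧸ (Submodule.span R {f})) = 0 :=
  (Submodule.Quotient.mk_eq_zero _).2 (Submodule.mem_span_singleton_self f)

theorem data_mk {n : ℕ} {e : Fin (n + 1) → M} {p : Fin (n + 1)} {a : Rˣ} {s : M}
    (h : HasData f e p a s) :
    (Submodule.Quotient.mk (e p) : M ⧸ (Submodule.span R {f})) ∈
      Submodule.map (Submodule.span R {f}).mkQ (spanBefore R M e (p : ℕ)) := by
  obtain ⟨hs, hf, -⟩ := h
  have h1 : e p = ((a⁻¹ : Rˣ) : R) • (f - s) := by
    have h0 : f - s = (a : R) • e p := by rw [sub_eq_iff_eq_add]; exact hf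
    rw [h0, smul_smul, Units.inv_mul, one_smul]
  have h3 : (Submodule.Quotient.mk (e p) : M ⧸ (Submodule.span R {f})) =
      ((a⁻¹ : Rˣ) : R) • (0 - Submodule.Quotient.mk s) := by
    conv_lhs => rw [h1]
    rw [Submodule.Quotient.mk_smul, Submodule.Quotient.mk_sub, mk_f]
  rw [h3, zero_sub]
  exact Submodule.smul_mem _ _ (neg_mem (Submodule.mem_map_of_mem hs))

theorem data_unique {n : ℕ} {e : Fin (n + 1) → M} {p p' : Fin (n + 1)} {a a' : Rˣ} {s s' : M}
    (h : HasData f e p a s) (h' : HasData f e p' a' s') :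
    p = p' ∧ residue R (a : R) = residue R (a' : R) := by
  have key : ∀ {p p' : Fin (n + 1)} {a a' : Rˣ} {s s' : M}, HasData f e p a s →
      HasData f e p' a' s' → ¬ ((p : ℕ) < (p' : ℕ)) := by
    intro p p' a a' s s' h h' hlt
    apply h'.2.2
    have h0 := h.2.1
    have h1 : (a : R) • e p + s ∈ spanBefore R M e (p' : ℕ) := by
      apply add_mem
      · exact Submodule.smul_mem _ _ (mem_sb e p hlt)
      · exact sb_mono e (le_of_lt hlt) h.1
    rw [← h0] at h1
    exact h1
  have hpp : p = p' := by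
    apply Fin.ext
    have h1 := key h h'
    have h2 := key h' h
    omega
  subst hpp
  refine ⟨rfl, ?_⟩
  have e3 : (a : R) • e p + s = (a' : R) • e p + s' := h.2.1.symm.trans h'.2.1
  have h1 : ((a : R) - (a' : R)) • e p ∈ spanBefore R M e (p : ℕ) := by
    have h2 : ((a : R) - (a' : R)) • e p = s' - s := by
      rw [sub_smul, sub_eq_sub_iff_add_eq_add, e3, add_comm]
    rw [h2]
    exact sub_mem h'.1 h.1
  by_contra hne
  have hu : IsUnit ((a : R) - (a' : R)) := by
    by_contra hnu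
    apply hne
    have hm : (a : R) - (a' : R) ∈ maximalIdeal R := (IsLocalRing.mem_maximalIdeal _).2 hnu
    have h2 := (IsLocalRing.residue_eq_zero_iff _).2 hm
    rw [map_sub, sub_eq_zero] at h2
    exact h2
  obtain ⟨w, hw⟩ := hu
  have hep : e p ∈ spanBefore R M e (p : ℕ) := by
    have h2 : e p = ((w⁻¹ : Rˣ) : R) • (((a : R) - (a' : R)) • e p) := by
      rw [← hw, smul_smul, Units.inv_mul, one_smul]
    rw [h2]
    exact Submodule.smul_mem _ _ h1
  apply h.2.2
  have h0 := h.2.1
  have h3 : (a : R) • e p + s ∈ spanBefore R M e (p : ℕ) :=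
    add_mem (Submodule.smul_mem _ _ hep) h.1
  rw [← h0] at h3
  exact h3

open Classical in
/-- The class of the removed tuple (zero if not admissible). -/
noncomputable def clsR {n : ℕ} (e : Fin (n + 1) → M) (p : Fin (n + 1)) :
    DetOfLen R (M ⧸ (Submodule.span R {f})) n :=
  if h : IsAdmissible R (M ⧸ (Submodule.span R {f})) (rem f e p) then cls ⟨rem f e p, h⟩ else 0

/-- The value attached to a position and a residue. -/
noncomputable def val {n : ℕ} (e : Fin (n + 1) → M) (p : Fin (n + 1)) (ρ : ResidueField R) :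
    DetOfLen R (M ⧸ (Submodule.span R {f})) n :=
  ρ⁻¹ • ((-1 : ResidueField R) ^ (p : ℕ) • clsR f e p)

open Classical in
/-- The contraction map on admissible tuples. -/
noncomputable def theta {n : ℕ} (e : Adm R M (n + 1)) :
    DetOfLen R (M ⧸ (Submodule.span R {f})) n :=
  if h : ∃ (p : Fin (n + 1)) (a : Rˣ) (s : M), HasData f e.1 p a s then
    val f e.1 h.choose (residue R ((h.choose_spec.choose : Rˣ) : R))
  else 0

theorem theta_eq {n : ℕ} (e : Adm R M (n + 1)) {p : Fin (n + 1)} {a : Rˣ} {s : M}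
    (h : HasData f e.1 p a s) : theta f e = val f e.1 p (residue R (a : R)) := by
  have hex : ∃ (p : Fin (n + 1)) (a : Rˣ) (s : M), HasData f e.1 p a s := ⟨p, a, s, h⟩
  unfold theta
  rw [dif_pos hex]
  obtain ⟨h1, h2⟩ := data_unique f hex.choose_spec.choose_spec.choose_spec h
  rw [h2, h1]

theorem theta_none {n : ℕ} (e : Adm R M (n + 1))
    (h : ¬ ∃ (p : Fin (n + 1)) (a : Rˣ) (s : M), HasData f e.1 p a s) : theta f e = 0 := by
  unfold theta
  rw [dif_neg h]

theorem clsR_eq {n : ℕ} (e : Fin (n + 1) → M)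
    (p : Fin (n + 1)) (hadm : IsAdmissible R (M ⧸ (Submodule.span R {f})) (rem f e p)) :
    clsR f e p = cls ⟨rem f e p, hadm⟩ := by
  unfold clsR
  rw [dif_pos hadm]

theorem theta_degenerate {n : ℕ} (e : Adm R M (n + 1)) (q : Fin (n + 1))
    (hq : e.1 q ∈ spanBefore R M e.1 (q : ℕ)) : theta f e = 0 := by
  by_cases hex : ∃ (p : Fin (n + 1)) (a : Rˣ) (s : M), HasData f e.1 p a s
  · obtain ⟨p, a, s, h⟩ := hex
    rw [theta_eq f e h]
    have hqp : q ≠ p := by
      intro hh
      apply h.2.2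
      have h0 := h.2.1
      have h3 : (a : R) • e.1 p + s ∈ spanBefore R M e.1 (p : ℕ) := by
        refine add_mem (Submodule.smul_mem _ _ ?_) h.1
        rw [← hh]
        exact hq
      rw [← h0] at h3
      exact h3
    have hp := data_mk f h
    obtain ⟨q', -, hq'⟩ := rem_degenerate f e.1 p q hqp hp (Submodule.mem_map_of_mem hq)
    have hadm := adm_rem f e.1 e.2 p hp
    unfold val
    rw [clsR_eq f e.1 p hadm, cls_zero_of_degenerate ⟨rem f e.1 p, hadm⟩ q' hq', smul_zero,
      smul_zero]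
  · exact theta_none f e hex

theorem theta_zero_of {n : ℕ} (e : Adm R M (n + 1)) {p : Fin (n + 1)} {a : Rˣ} {s : M}
    (h : HasData f e.1 p a s) (q : Fin (n + 1)) (hqp : q ≠ p)
    (hdeg : (Submodule.Quotient.mk (e.1 q) : M ⧸ (Submodule.span R {f})) ∈
      Submodule.map (Submodule.span R {f}).mkQ (spanBefore R M e.1 (q : ℕ))) :
    theta f e = 0 := by
  rw [theta_eq f e h]
  have hp := data_mk f h
  obtain ⟨q', -, hq'⟩ := rem_degenerate f e.1 p q hqp hp hdeg
  have hadm := adm_rem (R := R) f e.1 e.2 p hp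
  unfold val
  rw [clsR_eq f e.1 p hadm, cls_zero_of_degenerate ⟨rem (R := R) f e.1 p, hadm⟩ q' hq', smul_zero,
    smul_zero]

theorem data_exists {n : ℕ} (e : Fin (n + 1) → M) (he : IsAdmissible R M e) (p : Fin (n + 1))
    (h1 : f ∈ spanBefore R M e ((p : ℕ) + 1)) (h2 : f ∉ spanBefore R M e (p : ℕ)) :
    ∃ (a : Rˣ) (s : M), HasData f e p a s := by
  obtain ⟨a, z, hz, hfz⟩ := (sb_succ e p f).1 h1
  have hu : IsUnit a := by
    by_contra hnu
    apply h2
    have hm : a ∈ maximalIdeal R := (IsLocalRing.mem_maximalIdeal _).2 hnu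
    have h3 : a • e p + z ∈ spanBefore R M e (p : ℕ) := add_mem (he p a hm) hz
    rw [← hfz] at h3
    exact h3
  obtain ⟨w, hw⟩ := hu
  refine ⟨w, z, hz, ?_, h2⟩
  rw [hw]
  exact hfz

theorem data_mem {n : ℕ} {e : Fin (n + 1) → M} {p : Fin (n + 1)} {a : Rˣ} {s : M}
    (h : HasData f e p a s) : f ∈ spanBefore R M e ((p : ℕ) + 1) := by
  have h0 := h.2.1
  have h1 : (a : R) • e p + s ∈ spanBefore R M e ((p : ℕ) + 1) :=
    add_mem (Submodule.smul_mem _ _ (mem_sb e p (Nat.lt_succ_self _)))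
      (sb_mono e (Nat.le_succ _) h.1)
  rw [← h0] at h1
  exact h1

theorem res_unit_ne_zero (c : Rˣ) : residue R (c : R) ≠ 0 := by
  intro h0
  exact (IsLocalRing.mem_maximalIdeal _).1 ((IsLocalRing.residue_eq_zero_iff _).1 h0) c.isUnit

theorem val_cancel {κ V : Type*} [Field κ] [AddCommGroup V] [Module κ V] (ρ : κ) (k : ℕ)
    (X : V) : ρ⁻¹ • ((-1 : κ) ^ k • ((-1 : κ) • X)) + ρ⁻¹ • ((-1 : κ) ^ k • X) = 0 := by
  rw [smul_smul, smul_smul, smul_smul, ← add_smul]
  have h : ρ⁻¹ * (-1 : κ) ^ k * (-1) + ρ⁻¹ * (-1 : κ) ^ k = 0 := by ring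
  rw [h, zero_smul]

theorem val_cancel' {κ V : Type*} [Field κ] [AddCommGroup V] [Module κ V] (ρ : κ) (k : ℕ)
    (X : V) : ρ⁻¹ • ((-1 : κ) ^ (k + 1) • X) + ρ⁻¹ • ((-1 : κ) ^ k • X) = 0 := by
  rw [smul_smul, smul_smul, ← add_smul]
  have h : ρ⁻¹ * (-1 : κ) ^ (k + 1) + ρ⁻¹ * (-1 : κ) ^ k = 0 := by ring
  rw [h, zero_smul]

theorem val_cancel'' {κ V : Type*} [Field κ] [AddCommGroup V] [Module κ V] (ρ : κ) (k : ℕ)
    (X : V) : ρ⁻¹ • ((-1 : κ) ^ k • X) + ρ⁻¹ • ((-1 : κ) ^ (k + 1) • X) = 0 := by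
  rw [add_comm]
  exact val_cancel' ρ k X

theorem thetaB {n : ℕ} (e e' : Adm R M (n + 1)) (q : Fin (n + 1)) (c : Rˣ)
    (h1 : ∀ j, j ≠ q → e.1 j = e'.1 j)
    (h2 : e.1 q - (c : R) • e'.1 q ∈ spanBefore R M e.1 (q : ℕ)) :
    theta f e = residue R (c : R) • theta f e' := by
  have hq0 : spanBefore R M e.1 (q : ℕ) = spanBefore R M e'.1 (q : ℕ) :=
    sb_congr (fun j hj => h1 j (Fin.ne_of_val_ne (Nat.ne_of_lt hj)))
  obtain ⟨d, hd⟩ : ∃ d, d = e.1 q - (c : R) • e'.1 q := ⟨_, rfl⟩
  have hdm : d ∈ spanBefore R M e'.1 (q : ℕ) := by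
    rw [← hq0, hd]
    exact h2
  have heq : e.1 q = (c : R) • e'.1 q + d := by
    rw [hd]
    abel
  have hupd : Function.update e'.1 q (e.1 q) = e.1 := by
    funext j
    by_cases hj : j = q
    · rw [hj, Function.update_self]
    · rw [Function.update_of_ne hj, h1 j hj]
  have hx : ∀ r ∈ maximalIdeal R, r • e.1 q ∈ spanBefore R M e'.1 (q : ℕ) := by
    intro r hr
    rw [← hq0]
    exact e.2 q r hr
  have hsb : ∀ t : ℕ, spanBefore R M e.1 t = spanBefore R M e'.1 t := by
    have h3 := (adm_update e'.1 e'.2 q (q : ℕ) le_rfl (e.1 q) hx c d hdm heq).2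
    rw [hupd] at h3
    exact h3
  have hc : residue R (c : R) ≠ 0 := res_unit_ne_zero c
  by_cases hex : ∃ (p : Fin (n + 1)) (a : Rˣ) (s : M), HasData f e.1 p a s
  · obtain ⟨p, a, s, h⟩ := hex
    rw [theta_eq f e h]
    by_cases hqp : q = p
    · rw [← hqp] at h
      have hs' : s ∈ spanBefore R M e'.1 (q : ℕ) := by
        rw [← hsb]
        exact h.1
      have h' : HasData f e'.1 q (a * c) ((a : R) • d + s) := by
        refine ⟨add_mem (Submodule.smul_mem _ _ hdm) hs', ?_, ?_⟩
        · rw [Units.val_mul, mul_smul, ← add_assoc, ← smul_add, ← heq]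
          exact h.2.1
        · rw [← hsb]
          exact h.2.2
      have hrem : rem (R := R) f e.1 q = rem (R := R) f e'.1 q := by
        funext i
        show (Submodule.Quotient.mk (e.1 (q.succAbove i)) : M ⧸ (Submodule.span R {f})) =
          Submodule.Quotient.mk (e'.1 (q.succAbove i))
        rw [h1 _ (Fin.succAbove_ne q i)]
      have hp := data_mk f h
      have hp' := data_mk f h'
      have hadm := adm_rem (R := R) f e.1 e.2 q hp
      have hadm' := adm_rem (R := R) f e'.1 e'.2 q hp'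
      have hX : clsR (R := R) f e.1 q = clsR (R := R) f e'.1 q := by
        rw [clsR_eq f e.1 q hadm, clsR_eq f e'.1 q hadm']
        congr 1
        exact Subtype.ext hrem
      rw [theta_eq f e' h', ← hqp]
      unfold val
      rw [hX, smul_smul (residue R (c : R))]
      congr 1
      rw [Units.val_mul, map_mul, mul_inv, mul_comm ((residue R (a : R))⁻¹) _, ← mul_assoc,
        mul_inv_cancel₀ hc, one_mul]
    · have hpq : p ≠ q := fun hh => hqp hh.symm
      have h' : HasData f e'.1 p a s := by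
        refine ⟨?_, ?_, ?_⟩
        · rw [← hsb]
          exact h.1
        · rw [← h1 p hpq]
          exact h.2.1
        · rw [← hsb]
          exact h.2.2
      rw [theta_eq f e' h']
      have hp := data_mk f h
      have hp' := data_mk f h'
      have hadm := adm_rem (R := R) f e.1 e.2 p hp
      have hadm' := adm_rem (R := R) f e'.1 e'.2 p hp'
      obtain ⟨q', hq'⟩ := sa_exists p q hqp
      have H1 : ∀ j, j ≠ q' → rem (R := R) f e.1 p j = rem (R := R) f e'.1 p j := by
        intro j hj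
        show (Submodule.Quotient.mk (e.1 (p.succAbove j)) : M ⧸ (Submodule.span R {f})) =
          Submodule.Quotient.mk (e'.1 (p.succAbove j))
        rw [h1 _ (fun hh => hj (Fin.succAbove_right_injective (hh.trans hq'.symm)))]
      have hmk : rem (R := R) f e.1 p q' - (c : R) • rem (R := R) f e'.1 p q' =
          (Submodule.span R {f}).mkQ (e.1 q - (c : R) • e'.1 q) := by
        show (Submodule.Quotient.mk (e.1 (p.succAbove q')) : M ⧸ (Submodule.span R {f})) -
          (c : R) • (Submodule.Quotient.mk (e'.1 (p.succAbove q')) :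
            M ⧸ (Submodule.span R {f})) = (Submodule.span R {f}).mkQ (e.1 q - (c : R) • e'.1 q)
        rw [hq']
        rfl
      have H2 : rem (R := R) f e.1 p q' - (c : R) • rem (R := R) f e'.1 p q' ∈
          spanBefore R (M ⧸ (Submodule.span R {f})) (rem (R := R) f e.1 p) (q' : ℕ) := by
        rw [hmk]
        by_cases hlt : (q' : ℕ) < (p : ℕ)
        · rw [sb_rem_low f e.1 p q' (le_of_lt hlt)]
          have hv : (q : ℕ) = q' := by rw [← hq', sa_lt p q' hlt]
          rw [hv] at h2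
          exact Submodule.mem_map_of_mem h2
        · rw [sb_rem_high f e.1 p q' (not_lt.1 hlt) hp]
          have hv : (q : ℕ) = q' + 1 := by rw [← hq', sa_ge p q' (not_lt.1 hlt)]
          rw [hv] at h2
          exact Submodule.mem_map_of_mem h2
      have hcb := cls_b ⟨rem (R := R) f e.1 p, hadm⟩ ⟨rem (R := R) f e'.1 p, hadm'⟩ q' c H1 H2
      unfold val
      rw [clsR_eq f e.1 p hadm, clsR_eq f e'.1 p hadm', hcb]
      simp only [smul_smul]
      congr 1
      ring
  · rw [theta_none f e hex]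
    by_cases hex' : ∃ (p : Fin (n + 1)) (a : Rˣ) (s : M), HasData f e'.1 p a s
    · exfalso
      obtain ⟨p, a, s, h'⟩ := hex'
      apply hex
      have h3 := data_mem f h'
      rw [← hsb] at h3
      have h4 := h'.2.2
      rw [← hsb] at h4
      obtain ⟨a', s', h5⟩ := data_exists f e.1 e.2 p h3 h4
      exact ⟨p, a', s', h5⟩
    · rw [theta_none f e' hex', smul_zero]

end Groth.Agent.Helper8.CycDetLib3
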