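import Mathlib
import Groth.Prelude.Def_CycDet
import Groth.Agent.Lib.Helper8.CycDetLib
import Groth.Agent.Lib.Helper8.CycDetLib3

set_option linter.style.haveILetI false
set_option linter.unusedSectionVars false
set_option linter.unusedVariables false

/-!
# Symbols of generating admissible tuples do not vanish, part 2 (helper8)
-/

namespace Groth.Agent.Helper8.CycDetLib4

open CycDet IsLocalRing Groth.Agent.Helper8.CycDetLib Groth.Agent.Helper8.CycDetLib3

universe u v

variable {R : Type u} [CommRing R] [IsLocalRing R]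

theorem swap_sa_a {n : ℕ} (a b : Fin (n + 1)) (hab : (b : ℕ) + 1 = (a : ℕ)) (i : Fin n) :
    Equiv.swap a b (a.succAbove i) = b.succAbove i := by
  have h1 := sa_val a i
  have h2 := sa_val b i
  by_cases hi : (i : ℕ) = (b : ℕ)
  · have h3 : a.succAbove i = b := by
      apply Fin.ext
      rw [h1, if_pos (by omega)]
      exact hi
    rw [h3, Equiv.swap_apply_right]
    apply Fin.ext
    rw [h2, if_neg (by omega)]
    omega
  · have hne_b : a.succAbove i ≠ b := by
      apply Fin.ne_of_val_ne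
      rw [h1]
      split_ifs <;> omega
    rw [Equiv.swap_apply_of_ne_of_ne (Fin.succAbove_ne a i) hne_b]
    apply Fin.ext
    rw [h1, h2]
    split_ifs <;> omega

theorem swap_sa_b {n : ℕ} (a b : Fin (n + 1)) (hab : (b : ℕ) + 1 = (a : ℕ)) (i : Fin n) :
    Equiv.swap a b (b.succAbove i) = a.succAbove i := by
  have h1 := sa_val a i
  have h2 := sa_val b i
  by_cases hi : (i : ℕ) = (b : ℕ)
  · have h3 : b.succAbove i = a := by
      apply Fin.ext
      rw [h2, if_neg (by omega)]
      omega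
    rw [h3, Equiv.swap_apply_left]
    apply Fin.ext
    rw [h1, if_pos (by omega)]
    exact hi.symm
  · have hne_a : b.succAbove i ≠ a := by
      apply Fin.ne_of_val_ne
      rw [h2]
      split_ifs <;> omega
    rw [Equiv.swap_apply_of_ne_of_ne hne_a (Fin.succAbove_ne b i)]
    apply Fin.ext
    rw [h1, h2]
    split_ifs <;> omega

variable {M : Type v} [AddCommGroup M] [Module R M]

/-- The hypotheses of the swap relation. -/
structure SwapHyp {n : ℕ} (e e' : Adm R M (n + 1)) (a b : Fin (n + 1)) : Prop where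
  hab : (b : ℕ) + 1 = (a : ℕ)
  hsw : e'.1 = e.1 ∘ Equiv.swap a b
  hm : ∀ r ∈ maximalIdeal R, r • e.1 a ∈ spanBefore R M e.1 (b : ℕ)

namespace SwapHyp

variable {n : ℕ} {e e' : Adm R M (n + 1)} {a b : Fin (n + 1)}

theorem low (H : SwapHyp e e' a b) (t : ℕ) (ht : t ≤ (b : ℕ)) :
    spanBefore R M e'.1 t = spanBefore R M e.1 t := by
  rw [H.hsw]
  exact sb_swap_low e.1 a b t ht H.hab

theorem high (H : SwapHyp e e' a b) (t : ℕ) (ht : (a : ℕ) < t) :
    spanBefore R M e'.1 t = spanBefore R M e.1 t := by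
  rw [H.hsw]
  have := H.hab
  exact sb_swap_high e.1 a b t ht (by omega)

theorem e'a (H : SwapHyp e e' a b) : e'.1 a = e.1 b := by
  rw [H.hsw, Function.comp_apply, Equiv.swap_apply_left]

theorem e'b (H : SwapHyp e e' a b) : e'.1 b = e.1 a := by
  rw [H.hsw, Function.comp_apply, Equiv.swap_apply_right]

theorem other (H : SwapHyp e e' a b) (j : Fin (n + 1)) (hja : j ≠ a) (hjb : j ≠ b) :
    e'.1 j = e.1 j := by
  rw [H.hsw, Function.comp_apply, Equiv.swap_apply_of_ne_of_ne hja hjb]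

theorem ne (H : SwapHyp e e' a b) : a ≠ b := by
  intro hh
  have := H.hab
  rw [hh] at this
  omega

theorem symm (H : SwapHyp e e' a b) : SwapHyp e' e a b := by
  refine ⟨H.hab, ?_, ?_⟩
  · funext i
    rw [H.hsw]
    simp only [Function.comp_apply, Equiv.swap_apply_self]
  · intro r hr
    rw [H.e'a, H.low (b : ℕ) le_rfl]
    exact e.2 b r hr

end SwapHyp

variable (f : M)

theorem caseA {n : ℕ} (e e' : Adm R M (n + 1)) (a b : Fin (n + 1)) (H : SwapHyp e e' a b)
    {p : Fin (n + 1)} {u : Rˣ} {s : M} (h : HasData f e.1 p u s) (hpa : p ≠ a) (hpb : p ≠ b) :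
    theta f e + theta f e' = 0 := by
  have hab := H.hab
  have hpa' : (p : ℕ) ≠ (a : ℕ) := fun hh => hpa (Fin.ext hh)
  have hpb' : (p : ℕ) ≠ (b : ℕ) := fun hh => hpb (Fin.ext hh)
  have hlt : (p : ℕ) < (b : ℕ) ∨ (a : ℕ) < (p : ℕ) := by omega
  have hsbp : spanBefore R M e'.1 (p : ℕ) = spanBefore R M e.1 (p : ℕ) := by
    rcases hlt with h1 | h1
    · exact H.low p (le_of_lt h1)
    · exact H.high p h1
  have hep : e'.1 p = e.1 p := H.other p hpa hpb
  have h' : HasData f e'.1 p u s := by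
    refine ⟨?_, ?_, ?_⟩
    · rw [hsbp]
      exact h.1
    · rw [hep]
      exact h.2.1
    · rw [hsbp]
      exact h.2.2
  rw [theta_eq f e h, theta_eq f e' h']
  have hp := data_mk f h
  have hp' := data_mk f h'
  have hadm := adm_rem (R := R) f e.1 e.2 p hp
  have hadm' := adm_rem (R := R) f e'.1 e'.2 p hp'
  obtain ⟨a', ha'⟩ := sa_exists p a hpa.symm
  obtain ⟨b', hb'⟩ := sa_exists p b hpb.symm
  have hab' : (b' : ℕ) + 1 = (a' : ℕ) := by
    have h1 := sa_val p a'
    rw [ha'] at h1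
    have h2 := sa_val p b'
    rw [hb'] at h2
    rcases hlt with hlt | hlt <;> split_ifs at h1 h2 <;> omega
  have hrem : rem (R := R) f e'.1 p = rem (R := R) f e.1 p ∘ Equiv.swap a' b' := by
    funext i
    show (Submodule.Quotient.mk (e'.1 (p.succAbove i)) : M ⧸ (Submodule.span R {f})) =
      Submodule.Quotient.mk (e.1 (p.succAbove (Equiv.swap a' b' i)))
    rw [H.hsw, Function.comp_apply,
      ← (Fin.succAbove_right_injective (p := p)).swap_apply a' b' i, ha', hb']
  have hm' : ∀ r ∈ maximalIdeal R, r • rem (R := R) f e.1 p a' ∈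
      spanBefore R (M ⧸ (Submodule.span R {f})) (rem (R := R) f e.1 p) (b' : ℕ) := by
    intro r hr
    have h3 : r • rem (R := R) f e.1 p a' ∈
        Submodule.map (Submodule.span R {f}).mkQ (spanBefore R M e.1 (b : ℕ)) := by
      show (Submodule.span R {f}).mkQ (r • e.1 (p.succAbove a')) ∈
        Submodule.map (Submodule.span R {f}).mkQ (spanBefore R M e.1 (b : ℕ))
      rw [ha']
      exact Submodule.mem_map_of_mem (H.hm r hr)
    by_cases hb'p : (b' : ℕ) < (p : ℕ)
    · rw [sb_rem_low f e.1 p b' (le_of_lt hb'p)]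
      have hbv : (b : ℕ) = b' := by rw [← hb', sa_lt p b' hb'p]
      rw [hbv] at h3
      exact h3
    · rw [sb_rem_high f e.1 p b' (not_lt.1 hb'p) hp]
      have hbv : (b : ℕ) = b' + 1 := by rw [← hb', sa_ge p b' (not_lt.1 hb'p)]
      rw [hbv] at h3
      exact h3
  have hc := cls_c ⟨rem (R := R) f e.1 p, hadm⟩ ⟨rem (R := R) f e'.1 p, hadm'⟩ a' b' hab' hm' hrem
  unfold val
  rw [clsR_eq f e.1 p hadm, clsR_eq f e'.1 p hadm', hc]
  exact val_cancel _ _ _

theorem caseBB_half {n : ℕ} (e e' : Adm R M (n + 1)) (a b : Fin (n + 1)) (H : SwapHyp e e' a b)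
    {u u' : Rˣ} {s s' : M} (h : HasData f e.1 b u s) (h' : HasData f e'.1 b u' s') :
    theta f e = 0 := by
  have hab := H.hab
  refine theta_zero_of f e h a H.ne ?_
  have h3 := data_mk f h'
  rw [H.e'b, H.low (b : ℕ) le_rfl] at h3
  exact Submodule.map_mono (sb_mono e.1 (by omega)) h3

theorem caseBB {n : ℕ} (e e' : Adm R M (n + 1)) (a b : Fin (n + 1)) (H : SwapHyp e e' a b)
    {u u' : Rˣ} {s s' : M} (h : HasData f e.1 b u s) (h' : HasData f e'.1 b u' s') :
    theta f e + theta f e' = 0 := by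
  rw [caseBB_half f e e' a b H h h', caseBB_half f e' e a b H.symm h' h, add_zero]

theorem caseAB {n : ℕ} (e e' : Adm R M (n + 1)) (a b : Fin (n + 1)) (H : SwapHyp e e' a b)
    {u : Rˣ} {s : M} (h : HasData f e.1 a u s) (hmem : f ∈ spanBefore R M e'.1 (a : ℕ)) :
    theta f e + theta f e' = 0 := by
  have hab := H.hab
  have hnb : f ∉ spanBefore R M e'.1 (b : ℕ) := by
    rw [H.low (b : ℕ) le_rfl]
    intro hh
    exact h.2.2 (sb_mono e.1 (by omega) hh)
  have hmem' : f ∈ spanBefore R M e'.1 ((b : ℕ) + 1) := by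
    rw [H.hab]
    exact hmem
  obtain ⟨u', s', h'⟩ := data_exists f e'.1 e'.2 b hmem' hnb
  have hs' : s' ∈ spanBefore R M e.1 (b : ℕ) := by
    rw [← H.low (b : ℕ) le_rfl]
    exact h'.1
  have h2 : HasData f e.1 a u' s' := by
    refine ⟨sb_mono e.1 (by omega) hs', ?_, h.2.2⟩
    rw [← H.e'b]
    exact h'.2.1
  rw [theta_eq f e h2, theta_eq f e' h']
  have hrem : rem (R := R) f e'.1 b = rem (R := R) f e.1 a := by
    funext i
    show (Submodule.Quotient.mk (e'.1 (b.succAbove i)) : M ⧸ (Submodule.span R {f})) =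
      Submodule.Quotient.mk (e.1 (a.succAbove i))
    rw [H.hsw, Function.comp_apply, swap_sa_b a b H.hab i]
  have hp := data_mk f h2
  have hp' := data_mk f h'
  have hadm := adm_rem (R := R) f e.1 e.2 a hp
  have hadm' := adm_rem (R := R) f e'.1 e'.2 b hp'
  have hX : clsR (R := R) f e'.1 b = clsR (R := R) f e.1 a := by
    rw [clsR_eq f e'.1 b hadm', clsR_eq f e.1 a hadm]
    congr 1
    exact Subtype.ext hrem
  unfold val
  rw [hX, ← H.hab]
  exact val_cancel' _ _ _

theorem caseAA {n : ℕ} (e e' : Adm R M (n + 1)) (a b : Fin (n + 1)) (H : SwapHyp e e' a b)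
    {u : Rˣ} {s : M} (h : HasData f e.1 a u s) (hnmem : f ∉ spanBefore R M e'.1 (a : ℕ)) :
    theta f e + theta f e' = 0 := by
  have hab := H.hab
  have hmem1 : f ∈ spanBefore R M e'.1 ((a : ℕ) + 1) := by
    rw [H.high _ (Nat.lt_succ_self _)]
    exact data_mem f h
  obtain ⟨α, z, hα⟩ := data_exists f e'.1 e'.2 a hmem1 hnmem
  have hz : z ∈ spanBefore R M e'.1 ((b : ℕ) + 1) := by
    rw [H.hab]
    exact hα.1
  obtain ⟨w, s₁, hs₁, hzw⟩ := (sb_succ e'.1 b z).1 hz
  have hs₁' : s₁ ∈ spanBefore R M e.1 (b : ℕ) := by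
    rw [← H.low (b : ℕ) le_rfl]
    exact hs₁
  have hf : f = (α : R) • e.1 b + (w • e.1 a + s₁) := by
    rw [← H.e'a, ← H.e'b, ← hzw]
    exact hα.2.1
  have hu : IsUnit w := by
    by_contra hnu
    apply h.2.2
    have hm : w ∈ maximalIdeal R := (IsLocalRing.mem_maximalIdeal _).2 hnu
    have h3 : (α : R) • e.1 b + (w • e.1 a + s₁) ∈ spanBefore R M e.1 (a : ℕ) := by
      refine add_mem (Submodule.smul_mem _ _ (mem_sb e.1 b (by omega))) ?_
      exact sb_mono e.1 (by omega) (add_mem (H.hm w hm) hs₁')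
    rw [← hf] at h3
    exact h3
  obtain ⟨ω, hω⟩ := hu
  have h2 : HasData f e.1 a ω ((α : R) • e.1 b + s₁) := by
    refine ⟨?_, ?_, h.2.2⟩
    · exact add_mem (Submodule.smul_mem _ _ (mem_sb e.1 b (by omega)))
        (sb_mono e.1 (by omega) hs₁')
    · rw [hω]
      have h4 : (α : R) • e.1 b + (w • e.1 a + s₁) = w • e.1 a + ((α : R) • e.1 b + s₁) := by
        abel
      rw [← h4]
      exact hf
  rw [theta_eq f e h2, theta_eq f e' hα]
  have hp := data_mk f h2
  have hp' := data_mk f hα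
  have hadm := adm_rem (R := R) f e.1 e.2 a hp
  have hadm' := adm_rem (R := R) f e'.1 e'.2 a hp'
  obtain ⟨b', hb'⟩ := sa_exists a b H.ne.symm
  have hb'v : (b' : ℕ) = (b : ℕ) := by
    have h1 := sa_val a b'
    rw [hb'] at h1
    split_ifs at h1 <;> omega
  have hb'lt : (b' : ℕ) < (a : ℕ) := by omega
  have H1 : ∀ j, j ≠ b' → rem (R := R) f e.1 a j = rem (R := R) f e'.1 a j := by
    intro j hj
    show (Submodule.Quotient.mk (e.1 (a.succAbove j)) : M ⧸ (Submodule.span R {f})) =
      Submodule.Quotient.mk (e'.1 (a.succAbove j))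
    rw [H.other (a.succAbove j) (Fin.succAbove_ne a j)
      (fun hh => hj (Fin.succAbove_right_injective (hh.trans hb'.symm)))]
  have e1 : f - s₁ = (α : R) • e.1 b + w • e.1 a := by
    have h4 : (α : R) • e.1 b + (w • e.1 a + s₁) - s₁ = (α : R) • e.1 b + w • e.1 a := by
      abel
    rw [← h4, ← hf]
  have hkey : e.1 b + ((α⁻¹ * ω : Rˣ) : R) • e.1 a = ((α⁻¹ : Rˣ) : R) • (f - s₁) := by
    rw [e1, smul_add, smul_smul, smul_smul, Units.inv_mul, one_smul, Units.val_mul, hω]
  have hmk : rem (R := R) f e.1 a b' - ((-(α⁻¹ * ω) : Rˣ) : R) • rem (R := R) f e'.1 a b' =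
      (Submodule.span R {f}).mkQ (-(((α⁻¹ : Rˣ) : R) • s₁)) := by
    have h5 : rem (R := R) f e.1 a b' - ((-(α⁻¹ * ω) : Rˣ) : R) • rem (R := R) f e'.1 a b' =
        (Submodule.span R {f}).mkQ (e.1 b + ((α⁻¹ * ω : Rˣ) : R) • e.1 a) := by
      show (Submodule.Quotient.mk (e.1 (a.succAbove b')) : M ⧸ (Submodule.span R {f})) -
        ((-(α⁻¹ * ω) : Rˣ) : R) • (Submodule.Quotient.mk (e'.1 (a.succAbove b')) :
          M ⧸ (Submodule.span R {f})) =
        (Submodule.span R {f}).mkQ (e.1 b + ((α⁻¹ * ω : Rˣ) : R) • e.1 a)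
      rw [hb', H.e'b, Units.val_neg, neg_smul, sub_neg_eq_add]
      rfl
    rw [h5, hkey, smul_sub, sub_eq_add_neg, map_add, map_smul]
    have h6 : (Submodule.span R {f}).mkQ f = 0 := mk_f (R := R) f
    rw [h6, smul_zero, zero_add]
  have H2 : rem (R := R) f e.1 a b' - ((-(α⁻¹ * ω) : Rˣ) : R) • rem (R := R) f e'.1 a b' ∈
      spanBefore R (M ⧸ (Submodule.span R {f})) (rem (R := R) f e.1 a) (b' : ℕ) := by
    rw [hmk, sb_rem_low f e.1 a b' (le_of_lt hb'lt), hb'v]
    exact Submodule.mem_map_of_mem (neg_mem (Submodule.smul_mem _ _ hs₁'))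
  have hcb := cls_b ⟨rem (R := R) f e.1 a, hadm⟩ ⟨rem (R := R) f e'.1 a, hadm'⟩ b'
    (-(α⁻¹ * ω)) H1 H2
  unfold val
  rw [clsR_eq f e.1 a hadm, clsR_eq f e'.1 a hadm', hcb, smul_smul, smul_smul, smul_smul,
    ← add_smul]
  have h7 := res_unit_ne_zero ω
  have hsc : (residue R (ω : R))⁻¹ * (-1) ^ (a : ℕ) * residue R ((-(α⁻¹ * ω) : Rˣ) : R) +
      (residue R (α : R))⁻¹ * (-1) ^ (a : ℕ) = 0 := by
    rw [Units.val_neg, map_neg, Units.val_mul, map_mul, map_units_inv]
    have h8 : (residue R (ω : R))⁻¹ * (-1) ^ (a : ℕ) *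
        (-((residue R (α : R))⁻¹ * residue R (ω : R))) +
        (residue R (α : R))⁻¹ * (-1) ^ (a : ℕ) =
        (1 - (residue R (ω : R))⁻¹ * residue R (ω : R)) *
          ((residue R (α : R))⁻¹ * (-1) ^ (a : ℕ)) := by ring
    rw [h8, inv_mul_cancel₀ h7, sub_self, zero_mul]
  rw [hsc, zero_smul]

theorem thetaC_aux {n : ℕ} (e e' : Adm R M (n + 1)) (a b : Fin (n + 1)) (H : SwapHyp e e' a b)
    {p : Fin (n + 1)} {u : Rˣ} {s : M} (h : HasData f e.1 p u s) :
    theta f e + theta f e' = 0 := by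
  have hab := H.hab
  by_cases hpa : p = a
  · rw [hpa] at h
    by_cases hmem : f ∈ spanBefore R M e'.1 (a : ℕ)
    · exact caseAB f e e' a b H h hmem
    · exact caseAA f e e' a b H h hmem
  · by_cases hpb : p = b
    · rw [hpb] at h
      by_cases hmem : f ∈ spanBefore R M e'.1 (a : ℕ)
      · have hnb : f ∉ spanBefore R M e'.1 (b : ℕ) := by
          rw [H.low (b : ℕ) le_rfl]
          exact h.2.2
        have hmem' : f ∈ spanBefore R M e'.1 ((b : ℕ) + 1) := by
          rw [H.hab]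
          exact hmem
        obtain ⟨u', s', h'⟩ := data_exists f e'.1 e'.2 b hmem' hnb
        exact caseBB f e e' a b H h h'
      · have h' : HasData f e'.1 a u s := by
          refine ⟨?_, ?_, hmem⟩
          · have h3 : s ∈ spanBefore R M e'.1 (b : ℕ) := by
              rw [H.low (b : ℕ) le_rfl]
              exact h.1
            exact sb_mono e'.1 (by omega) h3
          · rw [H.e'a]
            exact h.2.1
        have hmem2 : f ∈ spanBefore R M e.1 (a : ℕ) := by
          have h3 := data_mem f h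
          rw [H.hab] at h3
          exact h3
        have h4 := caseAB f e' e a b H.symm h' hmem2
        rw [add_comm]
        exact h4
    · exact caseA f e e' a b H h hpa hpb

theorem thetaC {n : ℕ} (e e' : Adm R M (n + 1)) (a b : Fin (n + 1)) (H : SwapHyp e e' a b) :
    theta f e + theta f e' = 0 := by
  by_cases hex : ∃ (p : Fin (n + 1)) (u : Rˣ) (s : M), HasData f e.1 p u s
  · obtain ⟨p, u, s, h⟩ := hex
    exact thetaC_aux f e e' a b H h
  · by_cases hex' : ∃ (p : Fin (n + 1)) (u : Rˣ) (s : M), HasData f e'.1 p u s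
    · obtain ⟨p, u, s, h⟩ := hex'
      rw [add_comm]
      exact thetaC_aux f e' e a b H.symm h
    · rw [theta_none f e hex, theta_none f e' hex', add_zero]

/-- The contraction on the free vector space. -/
noncomputable def ThetaLin {n : ℕ} :
    Free R M (n + 1) →ₗ[ResidueField R] DetOfLen R (M ⧸ (Submodule.span R {f})) n :=
  Finsupp.linearCombination (ResidueField R) (theta f)

theorem ThetaLin_sym {n : ℕ} (e : Adm R M (n + 1)) : ThetaLin f (sym R M e) = theta f e := by
  unfold ThetaLin sym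
  rw [Finsupp.linearCombination_single, one_smul]

theorem relSet_le_ker {n : ℕ} :
    Submodule.span (ResidueField R) (relSet R M (n + 1)) ≤ LinearMap.ker (ThetaLin (R := R) f) := by
  rw [Submodule.span_le]
  rintro x ((⟨e, a, ha, rfl⟩ | ⟨e, e', a, c, h1, h2, rfl⟩) | ⟨e, e', a, b, hab, hm, hsw, rfl⟩)
  · rw [SetLike.mem_coe, LinearMap.mem_ker, ThetaLin_sym]
    exact theta_degenerate f e a ha
  · rw [SetLike.mem_coe, LinearMap.mem_ker, map_sub, map_smul, ThetaLin_sym, ThetaLin_sym,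
      thetaB f e e' a c h1 h2, sub_self]
  · rw [SetLike.mem_coe, LinearMap.mem_ker, map_add, ThetaLin_sym, ThetaLin_sym]
    exact thetaC f e e' a b ⟨hab, hsw, hm⟩

/-- The contraction on the determinant. -/
noncomputable def ThetaBar {n : ℕ} :
    DetOfLen R M (n + 1) →ₗ[ResidueField R] DetOfLen R (M ⧸ (Submodule.span R {f})) n :=
  Submodule.liftQ _ (ThetaLin f) (relSet_le_ker f)

theorem ThetaBar_cls {n : ℕ} (e : Adm R M (n + 1)) : ThetaBar f (cls e) = theta f e := by
  unfold ThetaBar cls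
  rw [Submodule.liftQ_apply]
  exact ThetaLin_sym f e

end Groth.Agent.Helper8.CycDetLib4
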