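import Mathlib
import Groth.Prelude.Def_CycDet
import Groth.Agent.Lib.Helper8.CycDetLib
import Groth.Agent.Lib.Helper8.CycDetLib3
import Groth.Agent.Lib.Helper8.CycDetLib4

set_option linter.style.haveILetI false
set_option linter.unusedSectionVars false
set_option linter.unusedVariables false

/-!
# Symbols of generating admissible tuples do not vanish, part 3 (helper8)
-/

namespace Groth.Agent.Helper8.CycDetLib5

open CycDet IsLocalRing Groth.Agent.Helper8.CycDetLib Groth.Agent.Helper8.CycDetLib3
  Groth.Agent.Helper8.CycDetLib4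

universe u v

variable {R : Type u} [CommRing R] [IsLocalRing R]

theorem sb_zero {M : Type v} [AddCommGroup M] [Module R M] {l : ℕ} (e : Fin l → M) :
    spanBefore R M e 0 = ⊥ := by
  unfold spanBefore
  have h : {j : Fin l | (j : ℕ) < 0} = ∅ := by
    ext j
    simp
  rw [h, Set.image_empty, Submodule.span_empty]

theorem sb_top {M : Type v} [AddCommGroup M] [Module R M] {l : ℕ} (e : Fin l → M) :
    spanBefore R M e l = Submodule.span R (Set.range e) := by
  unfold spanBefore
  have h : {j : Fin l | (j : ℕ) < l} = Set.univ := by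
    ext j
    simp
  rw [h, Set.image_univ]

theorem cls_ne_zero : ∀ (n : ℕ) (M : Type v) [AddCommGroup M] [Module R M] (e : Adm R M n),
    (∀ t : Fin n, e.1 t ∉ spanBefore R M e.1 (t : ℕ)) → cls e ≠ 0 := by
  intro n
  induction n with
  | zero =>
    intro M _ _ e _ h0
    have hrel : relSet R M 0 = ∅ := by
      apply Set.eq_empty_of_forall_notMem
      rintro x ((⟨e, a, -⟩ | ⟨e, e', a, -⟩) | ⟨e, e', a, -⟩) <;> exact a.elim0
    have h1 : sym R M e ∈ Submodule.span (ResidueField R) (relSet R M 0) :=
      (Submodule.Quotient.mk_eq_zero _).1 h0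
    rw [hrel, Submodule.span_empty, Submodule.mem_bot] at h1
    unfold sym at h1
    rw [Finsupp.single_eq_zero] at h1
    exact one_ne_zero h1
  | succ n ih =>
    intro M _ _ e hnd h0
    obtain ⟨f, hf⟩ : ∃ f, f = e.1 0 := ⟨_, rfl⟩
    have hdata : HasData (R := R) f e.1 0 1 0 := by
      refine ⟨zero_mem _, ?_, ?_⟩
      · rw [Units.val_one, one_smul, add_zero]
        exact hf
      · rw [hf]
        exact hnd 0
    have hth : ThetaBar f (cls e) = theta f e := ThetaBar_cls f e
    rw [h0, map_zero, theta_eq f e hdata] at hth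
    have hp := data_mk f hdata
    have hadm := adm_rem (R := R) f e.1 e.2 0 hp
    unfold val at hth
    rw [clsR_eq f e.1 0 hadm, Units.val_one, map_one, inv_one, one_smul, Fin.val_zero, pow_zero,
      one_smul] at hth
    refine ih (M ⧸ Submodule.span R {f}) ⟨rem (R := R) f e.1 0, hadm⟩ ?_ hth.symm
    intro i hi
    change rem (R := R) f e.1 0 i ∈
      spanBefore R (M ⧸ Submodule.span R {f}) (rem (R := R) f e.1 0) (i : ℕ) at hi
    rw [sb_rem_high f e.1 0 i (by simp) hp] at hi
    obtain ⟨y, hy, hyi⟩ := hi
    have hj : (((0 : Fin (n + 1)).succAbove i : Fin (n + 1)) : ℕ) = i + 1 := sa_ge 0 i (by simp)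
    have hmemf : f ∈ spanBefore R M e.1 ((i : ℕ) + 1) := by
      rw [hf]
      exact mem_sb e.1 0 (by simp)
    have h3 : e.1 ((0 : Fin (n + 1)).succAbove i) - y ∈ Submodule.span R {f} := by
      rw [← Submodule.Quotient.eq]
      exact hyi.symm
    obtain ⟨c, hc⟩ := Submodule.mem_span_singleton.1 h3
    have h4 : e.1 ((0 : Fin (n + 1)).succAbove i) = y + c • f := by
      rw [hc]
      abel
    apply hnd ((0 : Fin (n + 1)).succAbove i)
    rw [hj, h4]
    exact add_mem hy (Submodule.smul_mem _ _ hmemf)

theorem length_bound : ∀ (n : ℕ) (M : Type v) [AddCommGroup M] [Module R M] (e : Adm R M n),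
    spanBefore R M e.1 n = ⊤ →
    Module.length R M ≤ n ∧
      ((∃ q : Fin n, e.1 q ∈ spanBefore R M e.1 (q : ℕ)) → Module.length R M + 1 ≤ n) := by
  intro n
  induction n with
  | zero =>
    intro M _ _ e htop
    rw [sb_zero] at htop
    have hsub : Subsingleton M :=
      (Submodule.subsingleton_iff R).1 (subsingleton_of_bot_eq_top htop)
    constructor
    · rw [Module.length_eq_zero_iff.2 hsub]
      exact le_rfl
    · rintro ⟨q, -⟩
      exact q.elim0
  | succ n ih =>
    intro M _ _ e htop
    obtain ⟨f, hf⟩ : ∃ f, f = e.1 0 := ⟨_, rfl⟩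
    have hp : (Submodule.Quotient.mk (e.1 0) : M ⧸ (Submodule.span R {f})) ∈
        Submodule.map (Submodule.span R {f}).mkQ
          (spanBefore R M e.1 ((0 : Fin (n + 1)) : ℕ)) := by
      rw [← hf, mk_f]
      exact zero_mem _
    have hadm := adm_rem (R := R) f e.1 e.2 0 hp
    have htop' : spanBefore R (M ⧸ Submodule.span R {f}) (rem (R := R) f e.1 0) n = ⊤ := by
      rw [sb_rem_high f e.1 0 n (by simp) hp, htop, Submodule.map_top, Submodule.range_mkQ]
    obtain ⟨ih1, ih2⟩ := ih (M ⧸ Submodule.span R {f}) ⟨rem (R := R) f e.1 0, hadm⟩ htop'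
    have hlen : Module.length R M = Module.length R (Submodule.span R {f}) +
        Module.length R (M ⧸ Submodule.span R {f}) :=
      Module.length_eq_add_of_exact (Submodule.span R {f}).subtype (Submodule.span R {f}).mkQ
        (Submodule.subtype_injective _) (Submodule.mkQ_surjective _)
        (LinearMap.exact_subtype_mkQ _)
    have hkill : ∀ r ∈ maximalIdeal R, r • f = 0 := by
      intro r hr
      have h1 := e.2 0 r hr
      rw [Fin.val_zero, sb_zero, Submodule.mem_bot] at h1
      rw [hf]
      exact h1
    have hle1 : Module.length R (Submodule.span R {f}) ≤ 1 := by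
      obtain ⟨φ, hφ⟩ : ∃ φ : R →ₗ[R] (Submodule.span R {f}), φ =
          LinearMap.toSpanSingleton R (Submodule.span R {f})
            ⟨f, Submodule.mem_span_singleton_self f⟩ := ⟨_, rfl⟩
      have hker : maximalIdeal R ≤ LinearMap.ker φ := by
        intro r hr
        rw [LinearMap.mem_ker, hφ, LinearMap.toSpanSingleton_apply]
        exact Subtype.ext (hkill r hr)
      have hsurj : Function.Surjective (Submodule.liftQ (maximalIdeal R) φ hker) := by
        rintro ⟨y, hy⟩
        obtain ⟨c, hc⟩ := Submodule.mem_span_singleton.1 hy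
        refine ⟨Submodule.Quotient.mk c, ?_⟩
        rw [Submodule.liftQ_apply, hφ, LinearMap.toSpanSingleton_apply]
        exact Subtype.ext hc
      have hsimple : IsSimpleModule R (R ⧸ maximalIdeal R) :=
        isSimpleModule_iff_quot_maximal.mpr ⟨maximalIdeal R, inferInstance,
          ⟨LinearEquiv.refl R _⟩⟩
      have h1 := Module.length_le_of_surjective _ hsurj
      exact h1.trans (le_of_eq (Module.length_eq_one_iff.2 hsimple))
    constructor
    · rw [hlen, Nat.cast_succ, add_comm]
      exact add_le_add ih1 hle1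
    · rintro ⟨q, hq⟩
      by_cases hq0 : q = 0
      · rw [hq0, Fin.val_zero, sb_zero, Submodule.mem_bot] at hq
        have hf0 : f = 0 := hf.trans hq
        have hss : Subsingleton (Submodule.span R {f}) := by
          rw [Submodule.subsingleton_iff_eq_bot, hf0, Submodule.span_zero_singleton]
        rw [hlen, Module.length_eq_zero_iff.2 hss, zero_add, Nat.cast_succ]
        exact add_le_add ih1 le_rfl
      · obtain ⟨q', -, hq'⟩ := rem_degenerate f e.1 0 q hq0 hp (Submodule.mem_map_of_mem hq)
        have h3 := ih2 ⟨q', hq'⟩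
        rw [hlen, Nat.cast_succ, add_assoc, add_comm]
        exact add_le_add h3 hle1

theorem symbol_ne_zero (M : Type v) [AddCommGroup M] [Module R M] (hM : IsFiniteLength R M)
    (e : Adm R M (Module.length R M).toNat)
    (he : Submodule.span R (Set.range e.1) = ⊤) : symbol R M e ≠ 0 := by
  have hfin : Module.length R M ≠ ⊤ := Module.length_ne_top_iff.2 hM
  have hcast : (((Module.length R M).toNat : ℕ) : ℕ∞) = Module.length R M :=
    ENat.natCast_toNat hfin
  have htop : spanBefore R M e.1 (Module.length R M).toNat = ⊤ := by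
    rw [sb_top]
    exact he
  obtain ⟨-, hb⟩ := length_bound (R := R) _ M e htop
  have hnd : ∀ t : Fin (Module.length R M).toNat, e.1 t ∉ spanBefore R M e.1 (t : ℕ) := by
    intro t ht
    have h1 := hb ⟨t, ht⟩
    rw [hcast, ENat.add_one_le_iff hfin] at h1
    exact lt_irrefl _ h1
  exact cls_ne_zero (R := R) _ M e hnd

end Groth.Agent.Helper8.CycDetLib5
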