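import Mathlib
import Groth.Prelude.Def_CycDet
import Groth.Agent.Lib.Helper8.CycDetLib
import Groth.Agent.Lib.Helper8.CycDetLib3
import Groth.Agent.Lib.Helper8.CycDetLib5

set_option linter.style.haveILetI false
set_option linter.unusedSectionVars false
set_option linter.unusedVariables false

/-!
# Determinants and short exact sequences: concatenated tuples (helper8)
-/

namespace Groth.Agent.Helper8.CycDetLib6

open CycDet IsLocalRing Groth.Agent.Helper8.CycDetLib Groth.Agent.Helper8.CycDetLib3
  Groth.Agent.Helper8.CycDetLib5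

universe u v

variable {R : Type u} [CommRing R] [IsLocalRing R]

section Append

variable {L : Type v} [AddCommGroup L] [Module R L] {k m : ℕ}

theorem sb_ge_len (a : Fin k → L) (t : ℕ) (h : k ≤ t) :
    spanBefore R L a t = spanBefore R L a k := by
  apply le_antisymm
  · apply sb_le_of_forall
    intro i _
    exact mem_sb a i i.2
  · exact sb_mono a h

theorem sb_append_le (a : Fin k → L) (b : Fin m → L) (t : ℕ) :
    spanBefore R L (Fin.append a b) t ≤ spanBefore R L a t ⊔ spanBefore R L b (t - k) := by
  apply sb_le_of_forall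
  intro i
  induction i using Fin.addCases with
  | left i =>
    intro hi
    rw [Fin.append_left]
    rw [Fin.val_castAdd] at hi
    exact Submodule.mem_sup_left (mem_sb a i hi)
  | right i =>
    intro hi
    rw [Fin.append_right]
    rw [Fin.val_natAdd] at hi
    exact Submodule.mem_sup_right (mem_sb b i (by omega))

theorem sb_left_le_append (a : Fin k → L) (b : Fin m → L) (t : ℕ) :
    spanBefore R L a t ≤ spanBefore R L (Fin.append a b) t := by
  apply sb_le_of_forall
  intro i hi
  have h := mem_sb (R := R) (Fin.append a b) (Fin.castAdd m i) (t := t)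
    (by rw [Fin.val_castAdd]; exact hi)
  rwa [Fin.append_left] at h

theorem sb_right_le_append (a : Fin k → L) (b : Fin m → L) (t : ℕ) :
    spanBefore R L b t ≤ spanBefore R L (Fin.append a b) (k + t) := by
  apply sb_le_of_forall
  intro i hi
  have h := mem_sb (R := R) (Fin.append a b) (Fin.natAdd k i) (t := k + t)
    (by rw [Fin.val_natAdd]; omega)
  rwa [Fin.append_right] at h

theorem sb_append (a : Fin k → L) (b : Fin m → L) (t : ℕ) :
    spanBefore R L (Fin.append a b) (k + t) = spanBefore R L a k ⊔ spanBefore R L b t := by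
  apply le_antisymm
  · refine (sb_append_le a b (k + t)).trans ?_
    rw [Nat.add_sub_cancel_left, sb_ge_len a (k + t) (Nat.le_add_right _ _)]
  · exact sup_le ((sb_left_le_append a b k).trans (sb_mono _ (Nat.le_add_right k t)))
      (sb_right_le_append a b t)

theorem sb_append_low (a : Fin k → L) (b : Fin m → L) (t : ℕ) (ht : t ≤ k) :
    spanBefore R L (Fin.append a b) t = spanBefore R L a t := by
  apply le_antisymm
  · refine (sb_append_le a b t).trans ?_
    rw [Nat.sub_eq_zero_of_le ht, sb_zero, sup_bot_eq]
  · exact sb_left_le_append a b t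

theorem sb_map {K : Type v} [AddCommGroup K] [Module R K] (φ : K →ₗ[R] L) (e : Fin k → K)
    (t : ℕ) : spanBefore R L (φ ∘ e) t = Submodule.map φ (spanBefore R K e t) := by
  unfold spanBefore
  rw [Submodule.map_span, Set.image_comp]

end Append

theorem flags_b {X : Type v} [AddCommGroup X] [Module R X] {l : ℕ} (e e' : Adm R X l) (q : Fin l)
    (c : Rˣ) (h1 : ∀ j, j ≠ q → e.1 j = e'.1 j)
    (h2 : e.1 q - (c : R) • e'.1 q ∈ spanBefore R X e.1 (q : ℕ)) :
    ∀ t : ℕ, spanBefore R X e.1 t = spanBefore R X e'.1 t := by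
  have hq0 : spanBefore R X e.1 (q : ℕ) = spanBefore R X e'.1 (q : ℕ) :=
    sb_congr (fun j hj => h1 j (Fin.ne_of_val_ne (Nat.ne_of_lt hj)))
  obtain ⟨d, hd⟩ : ∃ d, d = e.1 q - (c : R) • e'.1 q := ⟨_, rfl⟩
  have hdm : d ∈ spanBefore R X e'.1 (q : ℕ) := by
    rw [← hq0, hd]
    exact h2
  have heq : e.1 q = (c : R) • e'.1 q + d := by
    rw [hd]
    abel
  have hupd : Function.update e'.1 q (e.1 q) = e.1 := by
    funext j
    by_cases hj : j = q
    · rw [hj, Function.update_self]
    · rw [Function.update_of_ne hj, h1 j hj]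
  have hx : ∀ r ∈ maximalIdeal R, r • e.1 q ∈ spanBefore R X e'.1 (q : ℕ) := by
    intro r hr
    rw [← hq0]
    exact e.2 q r hr
  have h3 := (adm_update e'.1 e'.2 q (q : ℕ) le_rfl (e.1 q) hx c d hdm heq).2
  rw [hupd] at h3
  exact h3

section Seq

variable {K L M : Type v} [AddCommGroup K] [Module R K] [AddCommGroup L] [Module R L]
  [AddCommGroup M] [Module R M] (f : K →ₗ[R] L) (g : L →ₗ[R] M) {k m : ℕ}

theorem mem_sb_append_iff (hfg : LinearMap.range f = LinearMap.ker g) (e : Fin k → K)
    (htop : spanBefore R K e k = ⊤) (u : Fin m → L) (j : ℕ) (x : L) :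
    x ∈ spanBefore R L (Fin.append (f ∘ e) u) (k + j) ↔ g x ∈ spanBefore R M (g ∘ u) j := by
  rw [sb_append, sb_map f e k, sb_map g u j, htop, Submodule.map_top, hfg]
  constructor
  · intro hx
    obtain ⟨y, hy, z, hz, rfl⟩ := Submodule.mem_sup.1 hx
    rw [map_add, LinearMap.mem_ker.1 hy, zero_add]
    exact Submodule.mem_map_of_mem hz
  · rintro ⟨y, hy, hyx⟩
    have h1 : x = (x - y) + y := by abel
    rw [h1]
    refine add_mem (Submodule.mem_sup_left ?_) (Submodule.mem_sup_right hy)
    rw [LinearMap.mem_ker, map_sub, hyx, sub_self]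

theorem adm_append (hfg : LinearMap.range f = LinearMap.ker g) (e : Fin k → K)
    (he : IsAdmissible R K e) (htop : spanBefore R K e k = ⊤) (u : Fin m → L)
    (hu : IsAdmissible R M (g ∘ u)) : IsAdmissible R L (Fin.append (f ∘ e) u) := by
  intro i
  induction i using Fin.addCases with
  | left i =>
    intro r hr
    rw [Fin.append_left, Fin.val_castAdd]
    apply sb_left_le_append (R := R) (f ∘ e) u (i : ℕ)
    rw [sb_map f e i]
    exact ⟨r • e i, he i r hr, by simp⟩
  | right j =>
    intro r hr
    rw [Fin.append_right, Fin.val_natAdd, mem_sb_append_iff f g hfg e htop u j, map_smul]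
    exact hu j r hr

/-- The concatenated tuple for a varying `K`-part. -/
noncomputable def psiTuple (hfg : LinearMap.range f = LinearMap.ker g) (u : Fin m → L)
    (hu : IsAdmissible R M (g ∘ u)) (e : Adm R K k) (htop : spanBefore R K e.1 k = ⊤) :
    Adm R L (k + m) :=
  ⟨Fin.append (f ∘ e.1) u, adm_append f g hfg e.1 e.2 htop u hu⟩

open Classical in
/-- The value of `Ψ` on a generator. -/
noncomputable def psiFun (hfg : LinearMap.range f = LinearMap.ker g) (u : Fin m → L)
    (hu : IsAdmissible R M (g ∘ u)) (e : Adm R K k) : DetOfLen R L (k + m) :=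
  if htop : spanBefore R K e.1 k = ⊤ then cls (psiTuple f g hfg u hu e htop) else 0

theorem psiFun_pos (hfg : LinearMap.range f = LinearMap.ker g) (u : Fin m → L)
    (hu : IsAdmissible R M (g ∘ u)) (e : Adm R K k) (htop : spanBefore R K e.1 k = ⊤) :
    psiFun f g hfg u hu e = cls (psiTuple f g hfg u hu e htop) := by
  unfold psiFun
  rw [dif_pos htop]

theorem psiFun_neg (hfg : LinearMap.range f = LinearMap.ker g) (u : Fin m → L)
    (hu : IsAdmissible R M (g ∘ u)) (e : Adm R K k) (htop : ¬ spanBefore R K e.1 k = ⊤) :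
    psiFun f g hfg u hu e = 0 := by
  unfold psiFun
  rw [dif_neg htop]

/-- `Ψ` on the free vector space. -/
noncomputable def PsiLin (hfg : LinearMap.range f = LinearMap.ker g) (u : Fin m → L)
    (hu : IsAdmissible R M (g ∘ u)) : Free R K k →ₗ[ResidueField R] DetOfLen R L (k + m) :=
  Finsupp.linearCombination (ResidueField R) (psiFun f g hfg u hu)

theorem PsiLin_sym (hfg : LinearMap.range f = LinearMap.ker g) (u : Fin m → L)
    (hu : IsAdmissible R M (g ∘ u)) (e : Adm R K k) :
    PsiLin f g hfg u hu (sym R K e) = psiFun f g hfg u hu e := by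
  unfold PsiLin sym
  rw [Finsupp.linearCombination_single, one_smul]

theorem psi_rel (hfg : LinearMap.range f = LinearMap.ker g) (u : Fin m → L)
    (hu : IsAdmissible R M (g ∘ u)) :
    Submodule.span (ResidueField R) (relSet R K k) ≤ LinearMap.ker (PsiLin f g hfg u hu) := by
  rw [Submodule.span_le]
  rintro x ((⟨e, a, ha, rfl⟩ | ⟨e, e', a, c, h1, h2, rfl⟩) | ⟨e, e', a, b, hab, hm, hsw, rfl⟩)
  · rw [SetLike.mem_coe, LinearMap.mem_ker, PsiLin_sym]
    by_cases htop : spanBefore R K e.1 k = ⊤
    · rw [psiFun_pos f g hfg u hu e htop]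
      apply cls_zero_of_degenerate _ (Fin.castAdd m a)
      show Fin.append (f ∘ e.1) u (Fin.castAdd m a) ∈
        spanBefore R L (Fin.append (f ∘ e.1) u) ((Fin.castAdd m a : Fin (k + m)) : ℕ)
      rw [Fin.append_left, Fin.val_castAdd]
      apply sb_left_le_append (R := R) (f ∘ e.1) u (a : ℕ)
      rw [sb_map f e.1 a]
      exact Submodule.mem_map_of_mem ha
    · rw [psiFun_neg f g hfg u hu e htop]
  · rw [SetLike.mem_coe, LinearMap.mem_ker, map_sub, map_smul, PsiLin_sym, PsiLin_sym,
      sub_eq_zero]
    have hsb := flags_b e e' a c h1 h2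
    by_cases htop : spanBefore R K e.1 k = ⊤
    · have htop' : spanBefore R K e'.1 k = ⊤ := by
        rw [← hsb]
        exact htop
      rw [psiFun_pos f g hfg u hu e htop, psiFun_pos f g hfg u hu e' htop']
      apply cls_b _ _ (Fin.castAdd m a) c
      · intro j
        induction j using Fin.addCases with
        | left i =>
          intro hj
          show Fin.append (f ∘ e.1) u (Fin.castAdd m i) =
            Fin.append (f ∘ e'.1) u (Fin.castAdd m i)
          rw [Fin.append_left, Fin.append_left]
          show f (e.1 i) = f (e'.1 i)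
          rw [h1 i (fun hh => hj (by rw [hh]))]
        | right i =>
          intro _
          show Fin.append (f ∘ e.1) u (Fin.natAdd k i) =
            Fin.append (f ∘ e'.1) u (Fin.natAdd k i)
          rw [Fin.append_right, Fin.append_right]
      · show Fin.append (f ∘ e.1) u (Fin.castAdd m a) -
          (c : R) • Fin.append (f ∘ e'.1) u (Fin.castAdd m a) ∈
          spanBefore R L (Fin.append (f ∘ e.1) u) ((Fin.castAdd m a : Fin (k + m)) : ℕ)
        rw [Fin.append_left, Fin.append_left, Fin.val_castAdd]
        apply sb_left_le_append (R := R) (f ∘ e.1) u (a : ℕ)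
        rw [sb_map f e.1 a]
        exact ⟨e.1 a - (c : R) • e'.1 a, h2, by simp⟩
    · have htop' : ¬ spanBefore R K e'.1 k = ⊤ := by
        rw [← hsb]
        exact htop
      rw [psiFun_neg f g hfg u hu e htop, psiFun_neg f g hfg u hu e' htop', smul_zero]
  · rw [SetLike.mem_coe, LinearMap.mem_ker, map_add, PsiLin_sym, PsiLin_sym]
    have hk : spanBefore R K e'.1 k = spanBefore R K e.1 k := by
      rw [hsw]
      exact sb_swap_high e.1 a b k a.2 b.2
    by_cases htop : spanBefore R K e.1 k = ⊤
    · have htop' : spanBefore R K e'.1 k = ⊤ := by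
        rw [hk]
        exact htop
      rw [psiFun_pos f g hfg u hu e htop, psiFun_pos f g hfg u hu e' htop']
      have hab' : ((Fin.castAdd m b : Fin (k + m)) : ℕ) + 1 =
          ((Fin.castAdd m a : Fin (k + m)) : ℕ) := by
        rw [Fin.val_castAdd, Fin.val_castAdd]
        exact hab
      have hm' : ∀ r ∈ maximalIdeal R, r • Fin.append (f ∘ e.1) u (Fin.castAdd m a) ∈
          spanBefore R L (Fin.append (f ∘ e.1) u) ((Fin.castAdd m b : Fin (k + m)) : ℕ) := by
        intro r hr
        rw [Fin.append_left, Fin.val_castAdd]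
        apply sb_left_le_append (R := R) (f ∘ e.1) u (b : ℕ)
        rw [sb_map f e.1 b]
        exact ⟨r • e.1 a, hm r hr, by simp⟩
      have hsw' : Fin.append (f ∘ e'.1) u =
          Fin.append (f ∘ e.1) u ∘ Equiv.swap (Fin.castAdd m a) (Fin.castAdd m b) := by
        funext j
        induction j using Fin.addCases with
        | left i =>
          have h3 : Equiv.swap (Fin.castAdd m a) (Fin.castAdd m b) (Fin.castAdd m i) =
              Fin.castAdd m (Equiv.swap a b i) := (Fin.castAdd_injective k m).swap_apply a b i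
          rw [Function.comp_apply, h3, Fin.append_left, Fin.append_left]
          simp only [hsw, Function.comp_apply]
        | right i =>
          have h3 : Equiv.swap (Fin.castAdd m a) (Fin.castAdd m b) (Fin.natAdd k i) =
              Fin.natAdd k i := by
            apply Equiv.swap_apply_of_ne_of_ne
            · apply Fin.ne_of_val_ne
              rw [Fin.val_natAdd, Fin.val_castAdd]
              have := a.2
              omega
            · apply Fin.ne_of_val_ne
              rw [Fin.val_natAdd, Fin.val_castAdd]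
              have := b.2
              omega
          rw [Function.comp_apply, h3, Fin.append_right, Fin.append_right]
      have hc := cls_c (psiTuple f g hfg u hu e htop) (psiTuple f g hfg u hu e' htop')
        (Fin.castAdd m a) (Fin.castAdd m b) hab' hm' hsw'
      rw [hc, neg_smul, one_smul, neg_add_cancel]
    · have htop' : ¬ spanBefore R K e'.1 k = ⊤ := by
        rw [hk]
        exact htop
      rw [psiFun_neg f g hfg u hu e htop, psiFun_neg f g hfg u hu e' htop', add_zero]

/-- `Ψ` on determinants. -/
noncomputable def Psi (hfg : LinearMap.range f = LinearMap.ker g) (u : Fin m → L)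
    (hu : IsAdmissible R M (g ∘ u)) :
    DetOfLen R K k →ₗ[ResidueField R] DetOfLen R L (k + m) :=
  Submodule.liftQ _ (PsiLin f g hfg u hu) (psi_rel f g hfg u hu)

theorem Psi_cls (hfg : LinearMap.range f = LinearMap.ker g) (u : Fin m → L)
    (hu : IsAdmissible R M (g ∘ u)) (e : Adm R K k) (htop : spanBefore R K e.1 k = ⊤) :
    Psi f g hfg u hu (cls e) = cls (psiTuple f g hfg u hu e htop) := by
  have h1 : Psi f g hfg u hu (cls e) = PsiLin f g hfg u hu (sym R K e) := by
    unfold Psi cls
    rw [Submodule.liftQ_apply]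
  rw [h1, PsiLin_sym, psiFun_pos f g hfg u hu e htop]

/-- Canonical lifts. -/
noncomputable def liftT (hg : Function.Surjective g) (ē : Fin m → M) : Fin m → L :=
  fun j => Function.surjInv hg (ē j)

theorem g_liftT_apply (hg : Function.Surjective g) (ē : Fin m → M) (j : Fin m) :
    g (liftT g hg ē j) = ē j :=
  Function.surjInv_eq hg (ē j)

theorem g_liftT (hg : Function.Surjective g) (ē : Fin m → M) : g ∘ liftT g hg ē = ē := by
  funext j
  exact g_liftT_apply g hg ē j

theorem adm_liftT (hg : Function.Surjective g) (ē : Adm R M m) :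
    IsAdmissible R M (g ∘ liftT g hg ē.1) := by
  rw [g_liftT]
  exact ē.2

/-- The concatenated tuple for a varying `M`-part. -/
noncomputable def phiTuple (hfg : LinearMap.range f = LinearMap.ker g)
    (hg : Function.Surjective g) (e : Fin k → K) (he : IsAdmissible R K e)
    (htop : spanBefore R K e k = ⊤) (ē : Adm R M m) : Adm R L (k + m) :=
  ⟨Fin.append (f ∘ e) (liftT g hg ē.1), adm_append f g hfg e he htop _ (adm_liftT g hg ē)⟩

/-- `Φ` on the free vector space. -/
noncomputable def PhiLin (hfg : LinearMap.range f = LinearMap.ker g)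
    (hg : Function.Surjective g) (e : Fin k → K) (he : IsAdmissible R K e)
    (htop : spanBefore R K e k = ⊤) : Free R M m →ₗ[ResidueField R] DetOfLen R L (k + m) :=
  Finsupp.linearCombination (ResidueField R) (fun ē => cls (phiTuple f g hfg hg e he htop ē))

theorem PhiLin_sym (hfg : LinearMap.range f = LinearMap.ker g)
    (hg : Function.Surjective g) (e : Fin k → K) (he : IsAdmissible R K e)
    (htop : spanBefore R K e k = ⊤) (ē : Adm R M m) :
    PhiLin f g hfg hg e he htop (sym R M ē) = cls (phiTuple f g hfg hg e he htop ē) := by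
  unfold PhiLin sym
  rw [Finsupp.linearCombination_single, one_smul]

theorem phi_rel (hfg : LinearMap.range f = LinearMap.ker g)
    (hg : Function.Surjective g) (e : Fin k → K) (he : IsAdmissible R K e)
    (htop : spanBefore R K e k = ⊤) :
    Submodule.span (ResidueField R) (relSet R M m) ≤
      LinearMap.ker (PhiLin f g hfg hg e he htop) := by
  rw [Submodule.span_le]
  rintro x ((⟨ē, a, ha, rfl⟩ | ⟨ē, ē', a, c, h1, h2, rfl⟩) | ⟨ē, ē', a, b, hab, hm, hsw, rfl⟩)
  · rw [SetLike.mem_coe, LinearMap.mem_ker, PhiLin_sym]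
    apply cls_zero_of_degenerate _ (Fin.natAdd k a)
    show Fin.append (f ∘ e) (liftT g hg ē.1) (Fin.natAdd k a) ∈
      spanBefore R L (Fin.append (f ∘ e) (liftT g hg ē.1)) ((Fin.natAdd k a : Fin (k + m)) : ℕ)
    rw [Fin.append_right, Fin.val_natAdd, mem_sb_append_iff f g hfg e htop _ a, g_liftT,
      g_liftT_apply]
    exact ha
  · rw [SetLike.mem_coe, LinearMap.mem_ker, map_sub, map_smul, PhiLin_sym, PhiLin_sym,
      sub_eq_zero]
    apply cls_b _ _ (Fin.natAdd k a) c
    · intro j
      induction j using Fin.addCases with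
      | left i =>
        intro _
        show Fin.append (f ∘ e) (liftT g hg ē.1) (Fin.castAdd m i) =
          Fin.append (f ∘ e) (liftT g hg ē'.1) (Fin.castAdd m i)
        rw [Fin.append_left, Fin.append_left]
      | right i =>
        intro hj
        show Fin.append (f ∘ e) (liftT g hg ē.1) (Fin.natAdd k i) =
          Fin.append (f ∘ e) (liftT g hg ē'.1) (Fin.natAdd k i)
        rw [Fin.append_right, Fin.append_right]
        show Function.surjInv hg (ē.1 i) = Function.surjInv hg (ē'.1 i)
        rw [h1 i (fun hh => hj (by rw [hh]))]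
    · show Fin.append (f ∘ e) (liftT g hg ē.1) (Fin.natAdd k a) -
        (c : R) • Fin.append (f ∘ e) (liftT g hg ē'.1) (Fin.natAdd k a) ∈
        spanBefore R L (Fin.append (f ∘ e) (liftT g hg ē.1))
          ((Fin.natAdd k a : Fin (k + m)) : ℕ)
      rw [Fin.append_right, Fin.append_right, Fin.val_natAdd,
        mem_sb_append_iff f g hfg e htop _ a, g_liftT, map_sub, map_smul, g_liftT_apply,
        g_liftT_apply]
      exact h2
  · rw [SetLike.mem_coe, LinearMap.mem_ker, map_add, PhiLin_sym, PhiLin_sym]
    have hab' : ((Fin.natAdd k b : Fin (k + m)) : ℕ) + 1 =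
        ((Fin.natAdd k a : Fin (k + m)) : ℕ) := by
      rw [Fin.val_natAdd, Fin.val_natAdd]
      omega
    have hm' : ∀ r ∈ maximalIdeal R,
        r • Fin.append (f ∘ e) (liftT g hg ē.1) (Fin.natAdd k a) ∈
        spanBefore R L (Fin.append (f ∘ e) (liftT g hg ē.1))
          ((Fin.natAdd k b : Fin (k + m)) : ℕ) := by
      intro r hr
      rw [Fin.append_right, Fin.val_natAdd, mem_sb_append_iff f g hfg e htop _ b, g_liftT,
        map_smul, g_liftT_apply]
      exact hm r hr
    have hsw' : Fin.append (f ∘ e) (liftT g hg ē'.1) =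
        Fin.append (f ∘ e) (liftT g hg ē.1) ∘
          Equiv.swap (Fin.natAdd k a) (Fin.natAdd k b) := by
      funext j
      induction j using Fin.addCases with
      | left i =>
        have h3 : Equiv.swap (Fin.natAdd k a) (Fin.natAdd k b) (Fin.castAdd m i) =
            Fin.castAdd m i := by
          apply Equiv.swap_apply_of_ne_of_ne
          · apply Fin.ne_of_val_ne
            rw [Fin.val_natAdd, Fin.val_castAdd]
            have := i.2
            omega
          · apply Fin.ne_of_val_ne
            rw [Fin.val_natAdd, Fin.val_castAdd]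
            have := i.2
            omega
        rw [Function.comp_apply, h3, Fin.append_left, Fin.append_left]
      | right i =>
        have h3 : Equiv.swap (Fin.natAdd k a) (Fin.natAdd k b) (Fin.natAdd k i) =
            Fin.natAdd k (Equiv.swap a b i) := (Fin.natAdd_injective m k).swap_apply a b i
        rw [Function.comp_apply, h3, Fin.append_right, Fin.append_right]
        show Function.surjInv hg (ē'.1 i) = Function.surjInv hg (ē.1 (Equiv.swap a b i))
        simp only [hsw, Function.comp_apply]
    have hc := cls_c (phiTuple f g hfg hg e he htop ē) (phiTuple f g hfg hg e he htop ē')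
      (Fin.natAdd k a) (Fin.natAdd k b) hab' hm' hsw'
    rw [hc, neg_smul, one_smul, neg_add_cancel]

/-- `Φ` on determinants. -/
noncomputable def Phi (hfg : LinearMap.range f = LinearMap.ker g)
    (hg : Function.Surjective g) (e : Fin k → K) (he : IsAdmissible R K e)
    (htop : spanBefore R K e k = ⊤) :
    DetOfLen R M m →ₗ[ResidueField R] DetOfLen R L (k + m) :=
  Submodule.liftQ _ (PhiLin f g hfg hg e he htop) (phi_rel f g hfg hg e he htop)

theorem Phi_cls (hfg : LinearMap.range f = LinearMap.ker g)
    (hg : Function.Surjective g) (e : Fin k → K) (he : IsAdmissible R K e)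
    (htop : spanBefore R K e k = ⊤) (ē : Adm R M m) :
    Phi f g hfg hg e he htop (cls ē) = cls (phiTuple f g hfg hg e he htop ē) := by
  have h1 : Phi f g hfg hg e he htop (cls ē) = PhiLin f g hfg hg e he htop (sym R M ē) := by
    unfold Phi cls
    rw [Submodule.liftQ_apply]
  rw [h1, PhiLin_sym]

theorem cls_eq_of_lifts (hfg : LinearMap.range f = LinearMap.ker g) (e : Fin k → K)
    (he : IsAdmissible R K e) (htop : spanBefore R K e k = ⊤) :
    ∀ (j : ℕ), j ≤ m → ∀ (u u' : Fin m → L) (hu : IsAdmissible R M (g ∘ u))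
      (hu' : IsAdmissible R M (g ∘ u')), g ∘ u = g ∘ u' →
      (∀ i : Fin m, j ≤ (i : ℕ) → u i = u' i) →
      cls (⟨Fin.append (f ∘ e) u, adm_append f g hfg e he htop u hu⟩ : Adm R L (k + m)) =
        cls ⟨Fin.append (f ∘ e) u', adm_append f g hfg e he htop u' hu'⟩ := by
  intro j
  induction j with
  | zero =>
    intro _ u u' hu hu' _ hag
    have huu : u = u' := funext fun i => hag i (Nat.zero_le _)
    subst huu
    rfl
  | succ j ih =>
    intro hj u u' hu hu' hgu hag
    have hjm : j < m := hj
    obtain ⟨v, hv⟩ : ∃ v, v = Function.update u ⟨j, hjm⟩ (u' ⟨j, hjm⟩) := ⟨_, rfl⟩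
    have hgv : g ∘ v = g ∘ u' := by
      funext i
      by_cases hi : i = ⟨j, hjm⟩
      · rw [hv, Function.comp_apply, Function.comp_apply, hi, Function.update_self]
      · rw [hv, Function.comp_apply, Function.comp_apply, Function.update_of_ne hi]
        exact congrFun hgu i
    have hadv : IsAdmissible R M (g ∘ v) := by
      rw [hgv]
      exact hu'
    have hagv : ∀ i : Fin m, j ≤ (i : ℕ) → v i = u' i := by
      intro i hi
      by_cases hij : i = ⟨j, hjm⟩
      · rw [hv, hij, Function.update_self]
      · rw [hv, Function.update_of_ne hij]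
        apply hag
        have hne : (i : ℕ) ≠ j := fun hh => hij (Fin.ext hh)
        omega
    rw [← ih (Nat.le_of_succ_le hj) v u' hadv hu' hgv hagv]
    have H1 : ∀ t, t ≠ Fin.natAdd k (⟨j, hjm⟩ : Fin m) →
        Fin.append (f ∘ e) u t = Fin.append (f ∘ e) v t := by
      intro t
      induction t using Fin.addCases with
      | left i =>
        intro _
        rw [Fin.append_left, Fin.append_left]
      | right i =>
        intro hne
        have hi : i ≠ ⟨j, hjm⟩ := fun hh => hne (by rw [hh])
        rw [Fin.append_right, Fin.append_right, hv, Function.update_of_ne hi]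
    have H2 : Fin.append (f ∘ e) u (Fin.natAdd k (⟨j, hjm⟩ : Fin m)) -
        ((1 : Rˣ) : R) • Fin.append (f ∘ e) v (Fin.natAdd k (⟨j, hjm⟩ : Fin m)) ∈
        spanBefore R L (Fin.append (f ∘ e) u)
          ((Fin.natAdd k (⟨j, hjm⟩ : Fin m) : Fin (k + m)) : ℕ) := by
      rw [Fin.append_right, Fin.append_right, Fin.val_natAdd,
        mem_sb_append_iff f g hfg e htop u ((⟨j, hjm⟩ : Fin m) : ℕ)]
      have h0 : g (u ⟨j, hjm⟩ - ((1 : Rˣ) : R) • v ⟨j, hjm⟩) = 0 := by
        rw [Units.val_one, one_smul, map_sub, hv, Function.update_self, sub_eq_zero]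
        exact congrFun hgu ⟨j, hjm⟩
      rw [h0]
      exact zero_mem _
    have hb := cls_b (⟨Fin.append (f ∘ e) u, adm_append f g hfg e he htop u hu⟩ : Adm R L (k + m))
      ⟨Fin.append (f ∘ e) v, adm_append f g hfg e he htop v hadv⟩
      (Fin.natAdd k (⟨j, hjm⟩ : Fin m)) 1 H1 H2
    rw [hb, Units.val_one, map_one, one_smul]

end Seq

end Groth.Agent.Helper8.CycDetLib6
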