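import Mathlib
import Groth.Prelude.Def_CycDet
import Groth.Agent.Lib.Helper8.CycDetLib
import Groth.Agent.Lib.Helper8.CycDetLib3
import Groth.Agent.Lib.Helper8.CycDetLib5
import Groth.Agent.Lib.Helper8.CycDetLib6

set_option linter.style.haveILetI false
set_option linter.unusedSectionVars false
set_option linter.unusedVariables false

/-!
# Determinants and short exact sequences: the isomorphism (helper8)
-/

namespace Groth.Agent.Helper8.CycDetLib7

open CycDet IsLocalRing TensorProduct Groth.Agent.Helper8.CycDetLib Groth.Agent.Helper8.CycDetLib3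
  Groth.Agent.Helper8.CycDetLib5 Groth.Agent.Helper8.CycDetLib6

universe u v

variable {R : Type u} [CommRing R] [IsLocalRing R]

theorem length_span_le_one {X : Type v} [AddCommGroup X] [Module R X] (x : X)
    (hkill : ∀ r ∈ maximalIdeal R, r • x = 0) :
    Module.length R (Submodule.span R {x}) ≤ 1 := by
  obtain ⟨φ, hφ⟩ : ∃ φ : R →ₗ[R] (Submodule.span R {x}), φ =
      LinearMap.toSpanSingleton R (Submodule.span R {x})
        ⟨x, Submodule.mem_span_singleton_self x⟩ := ⟨_, rfl⟩
  have hker : maximalIdeal R ≤ LinearMap.ker φ := by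
    intro r hr
    rw [LinearMap.mem_ker, hφ, LinearMap.toSpanSingleton_apply]
    exact Subtype.ext (hkill r hr)
  have hsurj : Function.Surjective (Submodule.liftQ (maximalIdeal R) φ hker) := by
    rintro ⟨y, hy⟩
    obtain ⟨c, hc⟩ := Submodule.mem_span_singleton.1 hy
    refine ⟨Submodule.Quotient.mk c, ?_⟩
    rw [Submodule.liftQ_apply, hφ, LinearMap.toSpanSingleton_apply]
    exact Subtype.ext hc
  have hsimple : IsSimpleModule R (R ⧸ maximalIdeal R) :=
    isSimpleModule_iff_quot_maximal.mpr ⟨maximalIdeal R, inferInstance,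
      ⟨LinearEquiv.refl R _⟩⟩
  have h1 := Module.length_le_of_surjective _ hsurj
  exact h1.trans (le_of_eq (Module.length_eq_one_iff.2 hsimple))

theorem mem_of_mk_mem {X : Type v} [AddCommGroup X] [Module R X] (x : X) (N : Submodule R X)
    (hx : x ∈ N) (z : X)
    (h : (Submodule.Quotient.mk z : X ⧸ Submodule.span R {x}) ∈
      Submodule.map (Submodule.span R {x}).mkQ N) : z ∈ N := by
  obtain ⟨y, hy, hyz⟩ := h
  have h3 : z - y ∈ Submodule.span R {x} := by
    rw [← Submodule.Quotient.eq]
    exact hyz.symm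
  obtain ⟨c, hc⟩ := Submodule.mem_span_singleton.1 h3
  have h4 : z = y + c • x := by
    rw [hc]
    abel
  rw [h4]
  exact add_mem hy (Submodule.smul_mem _ _ hx)

theorem exists_kill (X : Type v) [AddCommGroup X] [Module R X] [Nontrivial X]
    (hX : IsFiniteLength R X) : ∃ x : X, x ≠ 0 ∧ ∀ r ∈ maximalIdeal R, r • x = 0 := by
  obtain ⟨_, _⟩ := isFiniteLength_iff_isNoetherian_isArtinian.mp hX
  haveI : Nontrivial (Submodule R X) := (Submodule.nontrivial_iff R).2 inferInstance
  obtain ⟨N, hN⟩ := IsAtomic.exists_atom (Submodule R X)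
  obtain ⟨x, hxN, hx0⟩ := Submodule.exists_mem_ne_zero_of_ne_bot hN.1
  refine ⟨x, hx0, fun r hr => ?_⟩
  by_contra hne
  have hle : Submodule.span R {r • x} ≤ N := by
    rw [Submodule.span_singleton_le_iff_mem]
    exact N.smul_mem r hxN
  rcases hN.le_iff.1 hle with h | h
  · apply hne
    have h5 : r • x ∈ Submodule.span R {r • x} := Submodule.mem_span_singleton_self _
    rw [h, Submodule.mem_bot] at h5
    exact h5
  · have hx : x ∈ Submodule.span R {r • x} := by
      rw [h]
      exact hxN
    obtain ⟨s, hs⟩ := Submodule.mem_span_singleton.1 hx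
    have hu : IsUnit (1 - s * r) :=
      IsLocalRing.isUnit_one_sub_self_of_mem_nonunits (s * r)
        ((IsLocalRing.mem_maximalIdeal _).1 (Ideal.mul_mem_left _ s hr))
    have h0 : (1 - s * r) • x = 0 := by
      rw [sub_smul, one_smul, mul_smul, hs, sub_self]
    exact hx0 (hu.smul_eq_zero.1 h0)

theorem exists_nondeg : ∀ (n : ℕ) (X : Type v) [AddCommGroup X] [Module R X],
    IsFiniteLength R X → Module.length R X = n →
    ∃ e : Adm R X n, ∀ t : Fin n, e.1 t ∉ spanBefore R X e.1 (t : ℕ) := by
  intro n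
  induction n with
  | zero =>
    intro X _ _ _ _
    exact ⟨⟨fun i => i.elim0, fun i => i.elim0⟩, fun t => t.elim0⟩
  | succ n ih =>
    intro X _ _ hX hlen
    have hnt : Nontrivial X := by
      rw [← not_subsingleton_iff_nontrivial, ← Module.length_eq_zero_iff (R := R), hlen]
      exact_mod_cast Nat.succ_ne_zero n
    obtain ⟨x, hx0, hkill⟩ := exists_kill (R := R) X hX
    have hXq : IsFiniteLength R (X ⧸ Submodule.span R {x}) :=
      IsFiniteLength.of_surjective hX (Submodule.mkQ_surjective _)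
    have hadd : Module.length R X = Module.length R (Submodule.span R {x}) +
        Module.length R (X ⧸ Submodule.span R {x}) :=
      Module.length_eq_add_of_exact (Submodule.span R {x}).subtype (Submodule.span R {x}).mkQ
        (Submodule.subtype_injective _) (Submodule.mkQ_surjective _)
        (LinearMap.exact_subtype_mkQ _)
    have h1 : Module.length R (Submodule.span R {x}) = 1 := by
      apply le_antisymm (length_span_le_one x hkill)
      rw [Order.one_le_iff_pos, Module.length_pos_iff, Submodule.nontrivial_iff_ne_bot]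
      intro hb
      apply hx0
      have h5 : x ∈ Submodule.span R {x} := Submodule.mem_span_singleton_self x
      rw [hb, Submodule.mem_bot] at h5
      exact h5
    have hq : Module.length R (X ⧸ Submodule.span R {x}) = n := by
      have hfin : Module.length R (X ⧸ Submodule.span R {x}) ≠ ⊤ :=
        Module.length_ne_top_iff.2 hXq
      obtain ⟨q, hqdef⟩ : ∃ q : ℕ, Module.length R (X ⧸ Submodule.span R {x}) = q :=
        ⟨_, (ENat.natCast_toNat hfin).symm⟩
      rw [hlen, h1, hqdef] at hadd
      have h6 : n + 1 = 1 + q := by exact_mod_cast hadd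
      have h7 : q = n := by omega
      rw [hqdef, h7]
    obtain ⟨e', hnd'⟩ := ih (X ⧸ Submodule.span R {x}) hXq hq
    obtain ⟨e, he⟩ : ∃ e : Fin (n + 1) → X, e = Fin.cons x (fun i =>
        Function.surjInv (Submodule.mkQ_surjective (Submodule.span R {x})) (e'.1 i)) :=
      ⟨_, rfl⟩
    have he0 : e 0 = x := by rw [he, Fin.cons_zero]
    have hes : ∀ i : Fin n, (Submodule.span R {x}).mkQ (e i.succ) = e'.1 i := by
      intro i
      rw [he, Fin.cons_succ]
      exact Function.surjInv_eq _ _
    have hrem : rem (R := R) x e 0 = e'.1 := by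
      funext i
      show (Submodule.span R {x}).mkQ (e ((0 : Fin (n + 1)).succAbove i)) = e'.1 i
      rw [Fin.succAbove_zero_apply]
      exact hes i
    have hp : (Submodule.Quotient.mk (e 0) : X ⧸ Submodule.span R {x}) ∈
        Submodule.map (Submodule.span R {x}).mkQ
          (spanBefore R X e ((0 : Fin (n + 1)) : ℕ)) := by
      rw [he0, mk_f]
      exact zero_mem _
    have hsbq : ∀ t : ℕ, spanBefore R (X ⧸ Submodule.span R {x}) e'.1 t =
        Submodule.map (Submodule.span R {x}).mkQ (spanBefore R X e (t + 1)) := by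
      intro t
      rw [← hrem]
      exact sb_rem_high x e 0 t (by simp) hp
    have hx_mem : ∀ t : ℕ, x ∈ spanBefore R X e (t + 1) := by
      intro t
      rw [← he0]
      exact mem_sb e 0 (by simp)
    have hadm : IsAdmissible R X e := by
      intro i r hr
      induction i using Fin.cases with
      | zero =>
        rw [he0, hkill r hr]
        exact zero_mem _
      | succ i =>
        rw [Fin.val_succ]
        apply mem_of_mk_mem x _ (hx_mem i)
        rw [← hsbq i]
        have h2 := e'.2 i r hr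
        rw [← hes i] at h2
        exact h2
    refine ⟨⟨e, hadm⟩, ?_⟩
    intro t
    induction t using Fin.cases with
    | zero =>
      show e 0 ∉ spanBefore R X e ((0 : Fin (n + 1)) : ℕ)
      rw [Fin.val_zero, sb_zero, Submodule.mem_bot, he0]
      exact hx0
    | succ i =>
      show e i.succ ∉ spanBefore R X e ((i.succ : Fin (n + 1)) : ℕ)
      rw [Fin.val_succ]
      intro hmem
      apply hnd' i
      rw [hsbq i, ← hes i]
      exact Submodule.mem_map_of_mem hmem

theorem exists_coord {κ V : Type*} [Field κ] [AddCommGroup V] [Module κ V] (w : V) (hw : w ≠ 0)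
    (hspan : ∀ x : V, ∃ c : κ, x = c • w) : ∃ ι : κ ≃ₗ[κ] V, ∀ c, ι c = c • w := by
  refine ⟨LinearEquiv.ofBijective (LinearMap.toSpanSingleton κ V w) ⟨?_, ?_⟩, fun c => ?_⟩
  · intro c c' hcc
    rw [LinearMap.toSpanSingleton_apply, LinearMap.toSpanSingleton_apply] at hcc
    have h1 : (c - c') • w = 0 := by rw [sub_smul, hcc, sub_self]
    rcases smul_eq_zero.1 h1 with h | h
    · exact sub_eq_zero.1 h
    · exact absurd h hw
  · intro x
    obtain ⟨c, hc⟩ := hspan x
    exact ⟨c, by rw [LinearMap.toSpanSingleton_apply, hc]⟩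
  · show LinearMap.toSpanSingleton κ V w c = c • w
    rw [LinearMap.toSpanSingleton_apply]

theorem all_smul {X : Type v} [AddCommGroup X] [Module R X] (hX : IsFiniteLength R X) {n : ℕ}
    (hl : Module.length R X = n) (w : DetOfLen R X n) (hw : w ≠ 0) :
    ∀ x : DetOfLen R X n, ∃ c : ResidueField R, x = c • w := by
  obtain ⟨w', hw'⟩ := exists_generator hX hl
  obtain ⟨c₀, hc₀⟩ := hw' w
  have hc0 : c₀ ≠ 0 := by
    intro h
    apply hw
    rw [← hc₀, h, zero_smul]
  intro x
  obtain ⟨c, hc⟩ := hw' x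
  refine ⟨c * c₀⁻¹, ?_⟩
  rw [← hc₀, smul_smul, mul_assoc, inv_mul_cancel₀ hc0, mul_one, hc]

theorem core {K L M : Type v} [AddCommGroup K] [Module R K] [AddCommGroup L] [Module R L]
    [AddCommGroup M] [Module R M] (hK : IsFiniteLength R K) (hM : IsFiniteLength R M)
    (f : K →ₗ[R] L) (g : L →ₗ[R] M) (hf : Function.Injective f) (hg : Function.Surjective g)
    (hfg : LinearMap.range f = LinearMap.ker g) (k m : ℕ) (hk : Module.length R K = k)
    (hm : Module.length R M = m) :
    ∀ (n : ℕ) (h : k + m = n),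
      ∃ γ : (DetOfLen R K k ⊗[ResidueField R] DetOfLen R M m) ≃ₗ[ResidueField R] DetOfLen R L n,
      ∀ (eK : Adm R K k) (eM : Adm R M m) (eL : Adm R L n), cls eK ≠ 0 →
        (∀ i : Fin k, eL.1 (Fin.cast h (Fin.castAdd m i)) = f (eK.1 i)) →
        (∀ j : Fin m, g (eL.1 (Fin.cast h (Fin.natAdd k j))) = eM.1 j) →
        γ (cls eK ⊗ₜ[ResidueField R] cls eM) = cls eL := by
  intro n h
  subst h
  have hLlen : Module.length R L = ((k + m : ℕ) : ℕ∞) := by
    rw [Module.length_eq_add_of_exact f g hf hg (LinearMap.exact_iff.2 hfg.symm), hk, hm,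
      Nat.cast_add]
  have hL : IsFiniteLength R L := by
    rw [← Module.length_ne_top_iff, hLlen]
    exact ENat.natCast_ne_top _
  obtain ⟨e0, hnd0⟩ := exists_nondeg (R := R) k K hK hk
  obtain ⟨f0, hndf⟩ := exists_nondeg (R := R) m M hM hm
  have htop0 : spanBefore R K e0.1 k = ⊤ := span_top_of_nondegenerate hK hk e0.1 hnd0
  have hwK : cls e0 ≠ 0 := cls_ne_zero (R := R) k K e0 hnd0
  have hwM : cls f0 ≠ 0 := cls_ne_zero (R := R) m M f0 hndf
  obtain ⟨g0, hg0⟩ : ∃ g0 : Adm R L (k + m), g0 = phiTuple f g hfg hg e0.1 e0.2 htop0 f0 :=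
    ⟨_, rfl⟩
  have hwL : cls g0 ≠ 0 := by
    apply cls_ne_zero (R := R) (k + m) L g0
    intro t
    induction t using Fin.addCases with
    | left i =>
      intro hmem
      rw [hg0] at hmem
      change Fin.append (f ∘ e0.1) (liftT g hg f0.1) (Fin.castAdd m i) ∈
        spanBefore R L (Fin.append (f ∘ e0.1) (liftT g hg f0.1))
          ((Fin.castAdd m i : Fin (k + m)) : ℕ) at hmem
      rw [Fin.append_left, Fin.val_castAdd, sb_append_low _ _ _ (le_of_lt i.2),
        sb_map f e0.1 i] at hmem
      obtain ⟨y, hy, hyi⟩ := hmem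
      have hye : y = e0.1 i := hf hyi
      rw [hye] at hy
      exact hnd0 i hy
    | right j =>
      intro hmem
      rw [hg0] at hmem
      change Fin.append (f ∘ e0.1) (liftT g hg f0.1) (Fin.natAdd k j) ∈
        spanBefore R L (Fin.append (f ∘ e0.1) (liftT g hg f0.1))
          ((Fin.natAdd k j : Fin (k + m)) : ℕ) at hmem
      rw [Fin.append_right, Fin.val_natAdd, mem_sb_append_iff f g hfg e0.1 htop0 _ j, g_liftT,
        g_liftT_apply] at hmem
      exact hndf j hmem
  obtain ⟨ιK, hιK⟩ := exists_coord (cls e0) hwK (all_smul hK hk _ hwK)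
  obtain ⟨ιM, hιM⟩ := exists_coord (cls f0) hwM (all_smul hM hm _ hwM)
  obtain ⟨ιL, hιL⟩ := exists_coord (cls g0) hwL (all_smul hL hLlen _ hwL)
  refine ⟨(TensorProduct.congr ιK.symm ιM.symm).trans
    ((TensorProduct.lid (ResidueField R) (ResidueField R)).trans ιL), ?_⟩
  intro eK eM eL hne h1 h2
  have hndK : ∀ t : Fin k, eK.1 t ∉ spanBefore R K eK.1 (t : ℕ) :=
    fun t ht => hne (cls_zero_of_degenerate eK t ht)
  have htopK : spanBefore R K eK.1 k = ⊤ := span_top_of_nondegenerate hK hk eK.1 hndK
  obtain ⟨a, ha⟩ := all_smul hK hk _ hwK (cls eK)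
  obtain ⟨b, hb⟩ := all_smul hM hm _ hwM (cls eM)
  have hL1 : ((TensorProduct.congr ιK.symm ιM.symm).trans
      ((TensorProduct.lid (ResidueField R) (ResidueField R)).trans ιL))
      (cls eK ⊗ₜ[ResidueField R] cls eM) = (a * b) • cls g0 := by
    simp only [LinearEquiv.trans_apply, TensorProduct.congr_tmul, TensorProduct.lid_tmul]
    rw [ha, hb, ← hιK a, ← hιM b, LinearEquiv.symm_apply_apply, LinearEquiv.symm_apply_apply,
      hιL, smul_eq_mul]
  rw [hL1]
  obtain ⟨u2, hu2⟩ : ∃ u2 : Fin m → L, u2 = fun j => eL.1 (Fin.natAdd k j) := ⟨_, rfl⟩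
  have heL : eL.1 = Fin.append (f ∘ eK.1) u2 := by
    funext t
    induction t using Fin.addCases with
    | left i =>
      rw [Fin.append_left]
      have h3 := h1 i
      rw [Fin.cast_eq_self] at h3
      exact h3
    | right j =>
      rw [Fin.append_right, hu2]
  have hgu2 : g ∘ u2 = eM.1 := by
    funext j
    rw [hu2]
    have h3 := h2 j
    rw [Fin.cast_eq_self] at h3
    exact h3
  have hadu2 : IsAdmissible R M (g ∘ u2) := by
    rw [hgu2]
    exact eM.2
  have hstep1 : cls eL = cls (⟨Fin.append (f ∘ eK.1) u2,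
      adm_append f g hfg eK.1 eK.2 htopK u2 hadu2⟩ : Adm R L (k + m)) := by
    congr 1
    exact Subtype.ext heL
  have hstep2 := cls_eq_of_lifts f g hfg eK.1 eK.2 htopK m le_rfl u2 (liftT g hg eM.1) hadu2
    (adm_liftT g hg eM) (by rw [hgu2, g_liftT])
    (fun i hi => absurd i.2 (not_lt.2 hi))
  symm
  rw [hstep1, hstep2]
  change cls (phiTuple f g hfg hg eK.1 eK.2 htopK eM) = _
  rw [← Phi_cls f g hfg hg eK.1 eK.2 htopK eM, hb, map_smul,
    Phi_cls f g hfg hg eK.1 eK.2 htopK f0]
  change b • cls (psiTuple f g hfg (liftT g hg f0.1) (adm_liftT g hg f0) eK htopK) = _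
  rw [← Psi_cls f g hfg (liftT g hg f0.1) (adm_liftT g hg f0) eK htopK, ha, map_smul,
    Psi_cls f g hfg (liftT g hg f0.1) (adm_liftT g hg f0) e0 htop0, hg0, smul_smul,
    mul_comm b a]
  all_goals rfl

end Groth.Agent.Helper8.CycDetLib7
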