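import Mathlib

namespace Groth.Agent.Helper8.DiagSq

open TensorProduct

variable (k : Type*) [CommRing k] (A : Type*) [CommRing A] [Algebra k A]

/-- the element `a ⊗ bc − ab ⊗ c − ac ⊗ b + abc ⊗ 1` of the square of the diagonal ideal. -/
noncomputable def w (a b c : A) : A ⊗[k] A :=
  a ⊗ₜ[k] (b * c) - (a * b) ⊗ₜ[k] c - (a * c) ⊗ₜ[k] b + (a * b * c) ⊗ₜ[k] (1 : A)

/-- the `k`-span of the elements `p ⊗ q - pq ⊗ 1`. -/
noncomputable def J0 : Submodule k (A ⊗[k] A) :=
  Submodule.span k (Set.range fun pq : A × A => pq.1 ⊗ₜ[k] pq.2 - (pq.1 * pq.2) ⊗ₜ[k] (1 : A))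

theorem sub_mem_J0 (x : A ⊗[k] A) :
    x - (Algebra.TensorProduct.lmul' k x) ⊗ₜ[k] (1 : A) ∈ J0 k A := by
  induction x using TensorProduct.induction_on with
  | zero => simp
  | tmul p q =>
    rw [Algebra.TensorProduct.lmul'_apply_tmul]
    exact Submodule.subset_span ⟨(p, q), rfl⟩
  | add x y hx hy =>
    rw [map_add, TensorProduct.add_tmul, ← sub_add_sub_comm]
    exact add_mem hx hy

theorem mem_J0_of_mem_ideal (x : A ⊗[k] A) (hx : x ∈ KaehlerDifferential.ideal k A) :
    x ∈ J0 k A := by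
  have h := sub_mem_J0 k A x
  have hx' : Algebra.TensorProduct.lmul' k x = 0 := hx
  rwa [hx', TensorProduct.zero_tmul, sub_zero] at h

theorem mul_mem_span_w (x y : A ⊗[k] A) (hx : x ∈ J0 k A) (hy : y ∈ J0 k A) :
    x * y ∈ Submodule.span k (Set.range fun abc : A × A × A => w k A abc.1 abc.2.1 abc.2.2) := by
  have h := Submodule.mul_mem_mul hx hy
  rw [J0, Submodule.span_mul_span] at h
  refine Submodule.span_mono ?_ h
  rintro _ ⟨_, ⟨⟨p, q⟩, rfl⟩, _, ⟨⟨p', q'⟩, rfl⟩, rfl⟩
  refine ⟨(p * p', q, q'), ?_⟩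
  simp only [w, sub_mul, mul_sub, Algebra.TensorProduct.tmul_mul_tmul, mul_one, one_mul]
  have e1 : p * p' * q' = p * (p' * q') := by ring
  have e2 : p * p' * q = p * q * p' := by ring
  have e3 : p * q * p' * q' = p * q * (p' * q') := by ring
  rw [e1, e2, e3]
  abel

theorem mem_span_w (h : A ⊗[k] A) (h1 : Algebra.TensorProduct.lmul' k h = 0)
    (h2 : (KaehlerDifferential.D k A).tensorProductTo h = 0) :
    h ∈ Submodule.span k (Set.range fun abc : A × A × A => w k A abc.1 abc.2.1 abc.2.2) := by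
  have hI : h ∈ KaehlerDifferential.ideal k A := h1
  have h3 : (KaehlerDifferential.ideal k A).toCotangent ⟨h, hI⟩ = 0 := by
    rw [← KaehlerDifferential.D_tensorProductTo]
    exact h2
  rw [Ideal.toCotangent_eq_zero, pow_two] at h3
  refine Submodule.mul_induction_on (C := fun z => z ∈ Submodule.span k (Set.range fun abc : A × A × A => w k A abc.1 abc.2.1 abc.2.2)) h3 ?_ ?_
  · intro m hm n hn
    exact mul_mem_span_w k A m n (mem_J0_of_mem_ideal k A m hm) (mem_J0_of_mem_ideal k A n hn)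
  · intro x y hx hy
    exact add_mem hx hy

end Groth.Agent.Helper8.DiagSq
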