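import Mathlib

namespace Groth.Agent.Helper8.DiagSym3

open TensorProduct

variable (k : Type*) [CommRing k] (A : Type*) [CommRing A] [Algebra k A]

theorem ext3 {M : Type*} [AddCommMonoid M] [Module k M]
    (f g : A ⊗[k] (A ⊗[k] A) →ₗ[k] M)
    (h : ∀ a b c : A, f (a ⊗ₜ[k] (b ⊗ₜ[k] c)) = g (a ⊗ₜ[k] (b ⊗ₜ[k] c))) : f = g := by
  refine TensorProduct.ext' fun a t => ?_
  exact LinearMap.congr_fun (TensorProduct.ext'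
    (g := f ∘ₗ TensorProduct.mk k A (A ⊗[k] A) a) (h := g ∘ₗ TensorProduct.mk k A (A ⊗[k] A) a)
    fun b c => h a b c) t

/-- swap of the first two factors. -/
noncomputable def s1 : A ⊗[k] (A ⊗[k] A) →ₗ[k] A ⊗[k] (A ⊗[k] A) :=
  (TensorProduct.leftComm k A A A).toLinearMap

/-- swap of the last two factors. -/
noncomputable def s2 : A ⊗[k] (A ⊗[k] A) →ₗ[k] A ⊗[k] (A ⊗[k] A) :=
  LinearMap.lTensor A (TensorProduct.comm k A A).toLinearMap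

@[simp] theorem s1_tmul (a b c : A) :
    s1 k A (a ⊗ₜ[k] (b ⊗ₜ[k] c)) = b ⊗ₜ[k] (a ⊗ₜ[k] c) := by
  simp [s1]

@[simp] theorem s2_tmul (a b c : A) :
    s2 k A (a ⊗ₜ[k] (b ⊗ₜ[k] c)) = a ⊗ₜ[k] (c ⊗ₜ[k] b) := by
  simp [s2]

/-- sum over the six permutations. -/
noncomputable def Sym : A ⊗[k] (A ⊗[k] A) →ₗ[k] A ⊗[k] (A ⊗[k] A) :=
  LinearMap.id + s1 k A + s2 k A + s1 k A ∘ₗ s2 k A + s2 k A ∘ₗ s1 k A + s1 k A ∘ₗ s2 k A ∘ₗ s1 k A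

theorem Sym_tmul (a b c : A) :
    Sym k A (a ⊗ₜ[k] (b ⊗ₜ[k] c)) =
      a ⊗ₜ[k] (b ⊗ₜ[k] c) + b ⊗ₜ[k] (a ⊗ₜ[k] c) + a ⊗ₜ[k] (c ⊗ₜ[k] b) + c ⊗ₜ[k] (a ⊗ₜ[k] b)
        + b ⊗ₜ[k] (c ⊗ₜ[k] a) + c ⊗ₜ[k] (b ⊗ₜ[k] a) := by
  simp [Sym]

theorem s1_Sym (x : A ⊗[k] (A ⊗[k] A)) : s1 k A (Sym k A x) = Sym k A x := by
  have h : s1 k A ∘ₗ Sym k A = Sym k A := by
    refine ext3 k A _ _ fun a b c => ?_
    simp only [LinearMap.comp_apply, Sym_tmul, map_add, s1_tmul]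
    abel
  exact LinearMap.congr_fun h x

theorem s2_Sym (x : A ⊗[k] (A ⊗[k] A)) : s2 k A (Sym k A x) = Sym k A x := by
  have h : s2 k A ∘ₗ Sym k A = Sym k A := by
    refine ext3 k A _ _ fun a b c => ?_
    simp only [LinearMap.comp_apply, Sym_tmul, map_add, s2_tmul]
    abel
  exact LinearMap.congr_fun h x

theorem Sym_of_fixed (x : A ⊗[k] (A ⊗[k] A)) (h1 : s1 k A x = x) (h2 : s2 k A x = x) :
    Sym k A x = (6 : k) • x := by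
  simp only [Sym, LinearMap.add_apply, LinearMap.comp_apply, LinearMap.id_apply, h1, h2]
  rw [show (6 : k) = 1 + 1 + 1 + 1 + 1 + 1 by norm_num]
  simp only [add_smul, one_smul]

theorem r_Sym_tmul (r : A ⊗[k] (A ⊗[k] A) →ₗ[k] A ⊗[k] A)
    (hr : ∀ a b c : A, r (a ⊗ₜ[k] (b ⊗ₜ[k] c)) = (a * b) ⊗ₜ[k] c) (a b c : A) :
    r (Sym k A (a ⊗ₜ[k] (b ⊗ₜ[k] c))) =
      (2 : k) • ((a * b) ⊗ₜ[k] c + (a * c) ⊗ₜ[k] b + (b * c) ⊗ₜ[k] a) := by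
  simp only [Sym_tmul, map_add, hr]
  rw [mul_comm b a, mul_comm c a, mul_comm c b, two_smul]
  abel

end Groth.Agent.Helper8.DiagSym3
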