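import Mathlib
import Groth.Prelude.Def_Disp2

set_option autoImplicit false
set_option linter.style.haveILetI false
set_option linter.unusedSectionVars false
set_option linter.unusedVariables false

universe u v

noncomputable section

namespace Groth.Agent.Helper8.DispBC

open Dieu TensorProduct

section Psi

variable {A : Type u} {B : Type u} [CommRing A] [CommRing B] (g : A →+* B)
variable {P : Type v} [AddCommGroup P] [Module A P]

/-- `x ↦ 1 ⊗ (1 ⊗ x)`. -/
def kap (b : B →+* B) : P →ₛₗ[b.comp g] BC b (BC g P) where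
  toFun x := BC.tmul b 1 (BC.tmul g 1 x)
  map_add' x y := by rw [BC.tmul_add, BC.tmul_add]
  map_smul' s x := by
    rw [← BC.tmul_apply_eq, BC.tmul_eq_smul_tmul_one g (g s) x, ← BC.tmul_apply_eq,
      BC.tmul_eq_smul_tmul_one b (b (g s))]
    try rfl

lemma kap_apply (b : B →+* B) (x : P) : kap g b x = BC.tmul b 1 (BC.tmul g 1 x) := rfl

/-- `u ⊗ x ↦ g u ⊗ (1 ⊗ x)`. -/
def Psi {a : A →+* A} {b : B →+* B} (e : g.comp a = b.comp g) : BC a P →ₛₗ[g] BC b (BC g P) :=
  ((BC.lift (b.comp g) (kap g b)).comp (BC.castHom e)).comp (BC.push a g)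

lemma Psi_tmul {a : A →+* A} {b : B →+* B} (e : g.comp a = b.comp g) (u : A) (x : P) :
    Psi g e (BC.tmul a u x) = BC.tmul b (g u) (BC.tmul g 1 x) := by
  show (BC.lift (b.comp g) (kap g b)) ((BC.castHom e) ((BC.push a g) (BC.tmul a u x))) = _
  rw [BC.push_tmul, BC.castHom_tmul, BC.lift_tmul, kap_apply, BC.smul_tmul, mul_one]

lemma Psi_cast {a a' : A →+* A} {b b' : B →+* B} (e : g.comp a = b.comp g) (ha : a = a')
    (hb : b = b') (e' : g.comp a' = b'.comp g) (ζ : BC a P) :
    BC.castHom hb (Psi g e ζ) = Psi g e' (BC.castHom ha ζ) := by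
  subst ha; subst hb; rfl

lemma Psi_cast_push {a a' hS : A →+* A} {b b' hR : B →+* B} (e : g.comp a = b.comp g)
    (eh : g.comp hS = hR.comp g) (ca : hS.comp a = a') (cb : hR.comp b = b')
    (e' : g.comp a' = b'.comp g) (η : BC a P) :
    BC.castHom cb (BC.push b hR (Psi g e η)) = Psi g e' (BC.castHom ca (BC.push a hS η)) := by
  induction η using BC.induction_on a with
  | zero => simp only [map_zero]
  | tmul v x =>
    rw [Psi_tmul, BC.push_tmul, BC.castHom_tmul, BC.push_tmul, BC.castHom_tmul, Psi_tmul]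
    have : hR (g v) = g (hS v) := (RingHom.congr_fun eh v).symm
    rw [this]
  | add z₁ z₂ h₁ h₂ => simp only [map_add, h₁, h₂]

lemma Psi_mem {a : A →+* A} {b : B →+* B} (e : g.comp a = b.comp g) (JS : Ideal A) (JR : Ideal B)
    (hJ : ∀ s ∈ JS, g s ∈ JR) (η : BC a P) (hη : η ∈ JS • (⊤ : Submodule A (BC a P))) :
    Psi g e η ∈ JR • (⊤ : Submodule B (BC b (BC g P))) := by
  refine Submodule.smul_induction_on hη ?_ ?_
  · intro s hs n hn
    rw [map_smulₛₗ]; exact Submodule.smul_mem_smul (hJ s hs) Submodule.mem_top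
  · intro x y hx hy
    rw [map_add]; exact add_mem hx hy

end Psi

section Main

variable {p : ℕ} [Fact p.Prime] {S R : Type u} [CommRing S] [CommRing R] (f : S →+* R)
variable {P : Type v} [AddCommGroup P] [Module (WittVector p S) P]

/-- `W(f)` -/
abbrev gW : WittVector p S →+* WittVector p R := WittVector.map f

/-- Frobenius of `W(T)` -/
abbrev sg (p : ℕ) [Fact p.Prime] (T : Type u) [CommRing T] : WittVector p T →+* WittVector p T :=
  WittVector.frobenius

lemma map_frob (x : WittVector p S) :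
    WittVector.map f (WittVector.frobenius x) = WittVector.frobenius (WittVector.map f x) :=
  (WittVector.frobenius_isPoly p).map f x

lemma e1 : (gW (p := p) f).comp (sg p S) = (sg p R).comp (gW (p := p) f) :=
  RingHom.ext fun x => map_frob f x

lemma en (n : ℕ) : (gW (p := p) f).comp ((sg p S) ^ n) = ((sg p R) ^ n).comp (gW (p := p) f) := by
  have h : Function.Semiconj (⇑(gW (p := p) f)) (⇑(sg p S)) (⇑(sg p R)) := fun x => map_frob f x
  refine RingHom.ext fun x => ?_
  rw [RingHom.comp_apply, RingHom.comp_apply, RingHom.coe_pow, RingHom.coe_pow]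
  exact h.iterate_right n x

/-- the operator `V^#` of the base change. -/
def VsR (Vs : P →ₗ[WittVector p S] BC (sg p S) P) :
    BC (gW (p := p) f) P →ₗ[WittVector p R] BC (sg p R) (BC (gW (p := p) f) P) :=
  BC.lift (gW (p := p) f) ((Psi (gW (p := p) f) (e1 f)).comp Vs)

lemma VsR_tmul (Vs : P →ₗ[WittVector p S] BC (sg p S) P) (w : WittVector p R) (x : P) :
    VsR f Vs (BC.tmul (gW (p := p) f) w x) = w • Psi (gW (p := p) f) (e1 f) (Vs x) := by
  rw [VsR, BC.lift_tmul]; rfl

lemma vSharpPow_VsR (Vs : P →ₗ[WittVector p S] BC (sg p S) P) :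
    ∀ (n : ℕ) (w : WittVector p R) (x : P),
      vSharpPow (VsR f Vs) n (BC.tmul (gW (p := p) f) w x) =
        w • Psi (gW (p := p) f) (en f (n + 1)) (vSharpPow Vs n x)
  | 0, w, x => by
    rw [vSharpPow_zero_apply, vSharpPow_zero_apply, VsR_tmul, map_smul]
    congr 1 <;> exact Psi_cast (gW (p := p) f) (e1 f) _ _ _ (Vs x)
  | n + 1, w, x => by
    rw [vSharpPow_succ_apply, vSharpPow_succ_apply, VsR_tmul, map_smul, map_smul, map_smul]
    congr 1
    generalize Vs x = ζ
    induction ζ using BC.induction_on (sg p S) with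
    | zero => simp only [map_zero]
    | tmul u x' =>
      simp only [Psi_tmul, BC.map_tmul, BC.lift_tmul, map_smul, map_smulₛₗ,
        vSharpPow_VsR Vs n 1 x', one_smul]
      congr 1 <;> exact Psi_cast_push (gW (p := p) f) (en f (n + 1)) (e1 f) _ _ _ (vSharpPow Vs n x')
    | add z₁ z₂ h₁ h₂ => simp only [map_add, h₁, h₂]

lemma hJ : ∀ s ∈ W4c1extbt610.IV p S ⊔ Ideal.span {(p : WittVector p S)},
    gW f s ∈ W4c1extbt610.IV p R ⊔ Ideal.span {(p : WittVector p R)} := by
  intro s hs
  have : W4c1extbt610.IV p S ⊔ Ideal.span {(p : WittVector p S)} ≤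
      (W4c1extbt610.IV p R ⊔ Ideal.span {(p : WittVector p R)}).comap (gW (p := p) f) := by
    refine sup_le ?_ ?_
    · rw [W4c1extbt610.IV, Ideal.span_le]
      rintro _ ⟨u, rfl⟩
      change gW f (WittVector.verschiebung u) ∈
        W4c1extbt610.IV p R ⊔ Ideal.span {(p : WittVector p R)}
      rw [show gW f (WittVector.verschiebung u) = WittVector.verschiebung (gW f u) from
        WittVector.map_verschiebung f u]
      exact Ideal.mem_sup_left (W4c1extbt610.verschiebung_mem_IV p R _)
    · rw [Ideal.span_le]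
      rintro _ rfl
      change gW f (p : WittVector p S) ∈
        W4c1extbt610.IV p R ⊔ Ideal.span {(p : WittVector p R)}
      rw [map_natCast]
      exact Ideal.mem_sup_right (Ideal.mem_span_singleton_self _)
  exact this hs

lemma nilp_VsR (Vs : P →ₗ[WittVector p S] BC (sg p S) P) (n : ℕ)
    (hn : ∀ x : P, vSharpPow Vs n x ∈
      (W4c1extbt610.IV p S ⊔ Ideal.span {(p : WittVector p S)}) •
        (⊤ : Submodule (WittVector p S) (BC ((sg p S) ^ (n + 1)) P))) :
    ∀ z : BC (gW (p := p) f) P, vSharpPow (VsR f Vs) n z ∈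
      (W4c1extbt610.IV p R ⊔ Ideal.span {(p : WittVector p R)}) •
        (⊤ : Submodule (WittVector p R) (BC ((sg p R) ^ (n + 1)) (BC (gW (p := p) f) P))) := by
  intro z
  induction z using BC.induction_on (gW (p := p) f) with
  | zero => rw [map_zero]; exact zero_mem _
  | tmul w x =>
    rw [vSharpPow_VsR]
    exact Submodule.smul_mem _ _ (Psi_mem (gW (p := p) f) _ _ _ (hJ f) _ (hn x))
  | add z₁ z₂ h₁ h₂ => rw [map_add]; exact add_mem h₁ h₂

lemma sharpF (D : W4c1extbt610.Display3n p S P)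
    (DR : W4c1extbt610.Display3n p R (BC (gW (p := p) f) P)) (hDR : IsDispBaseChange f D DR)
    (Vs : P →ₗ[WittVector p S] BC (sg p S) P) (hVs : IsVSharp D Vs)
    (w' : WittVector p R) (z : BC (gW (p := p) f) P) :
    VsR f Vs (w' • DR.F z) = (p : WittVector p R) • BC.tmul (sg p R) w' z := by
  induction z using BC.induction_on (gW (p := p) f) with
  | zero => simp
  | tmul w x =>
    have h1 : Vs (D.F x) = BC.tmul (sg p S) (p : WittVector p S) x := by
      have := hVs.app_smul_F 1 x
      rw [one_smul, BC.smul_tmul, mul_one] at this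
      exact this
    rw [hDR.F_tmul, BC.smul_tmul (gW (p := p) f) w', VsR_tmul, h1, Psi_tmul, map_natCast,
      BC.smul_tmul (sg p R) (w' * _), BC.smul_tmul (sg p R) (p : WittVector p R),
      BC.tmul_eq_smul_tmul_one (gW (p := p) f) w x, ← BC.tmul_mul_apply]
    congr 1
    ring
  | add z₁ z₂ h₁ h₂ => rw [map_add, smul_add, map_add, h₁, h₂, BC.tmul_add, smul_add]

/-- generators of `Q_R` -/
def Gen (D : W4c1extbt610.Display3n p S P) : Set (BC (gW (p := p) f) P) :=
  {y | ∃ (w : WittVector p R) (q : P), q ∈ D.Q ∧ y = BC.tmul (gW (p := p) f) w q} ∪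
  {y | ∃ (u : WittVector p R) (x : P), y = BC.tmul (gW (p := p) f) (WittVector.verschiebung u) x}

lemma ker_cc_le (Y : WittVector p R) (h : WittVector.constantCoeff Y = 0) :
    ∃ u, Y = WittVector.verschiebung u := by
  refine ⟨Y.shift 1, ?_⟩
  have := WittVector.eq_iterate_verschiebung (x := Y) (n := 1) (by
    intro i hi
    obtain rfl : i = 0 := by omega
    exact h)
  simpa using this

lemma mem_closure (D : W4c1extbt610.Display3n p S P)
    (DR : W4c1extbt610.Display3n p R (BC (gW (p := p) f) P)) (hDR : IsDispBaseChange f D DR)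
    (y : BC (gW (p := p) f) P) (hy : y ∈ DR.Q) :
    y ∈ AddSubmonoid.closure (Gen f D) := by
  classical
  obtain ⟨L, T, hLT, hQ⟩ := D.exists_normal
  haveI := D.finite
  haveI := D.projective
  obtain ⟨n, r, hr⟩ := Module.Finite.exists_fin' (WittVector p S) P
  obtain ⟨i, hi⟩ := Module.projective_lifting_property r LinearMap.id hr
  obtain ⟨πT, hπT⟩ : ∃ πT : P →ₗ[WittVector p S] P, πT = T.projection L hLT.symm := ⟨_, rfl⟩
  obtain ⟨πL, hπL⟩ : ∃ πL : P →ₗ[WittVector p S] P, πL = L.projection T hLT := ⟨_, rfl⟩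
  have hadd : ∀ x, πL x + πT x = x := fun x => by
    rw [hπT, hπL]; exact Submodule.projection_add_projection_eq_self hLT x
  have hLmem : ∀ x, πL x ∈ L := fun x => by
    rw [hπL]; exact Submodule.projection_apply_mem hLT x
  have hTL : ∀ l ∈ L, πT l = 0 := fun l hl => by
    rw [hπT]; exact Submodule.projection_apply_of_mem_right hLT.symm hl
  have hTT : ∀ t ∈ T, πT t = t := fun t ht => by
    rw [hπT]; exact Submodule.projection_apply_of_mem_left hLT.symm ht
  have hTmem : ∀ x, πT x ∈ T := fun x => by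
    rw [hπT]; exact Submodule.projection_apply_mem hLT.symm x
  obtain ⟨d, hd⟩ : ∃ d : Fin n → (P →ₗ[WittVector p S] WittVector p S),
      d = fun j => (LinearMap.proj j) ∘ₗ i ∘ₗ πT := ⟨_, rfl⟩
  obtain ⟨τ, hτ⟩ : ∃ τ : Fin n → P,
      τ = fun j => πT (r (fun k => if j = k then 1 else 0)) := ⟨_, rfl⟩
  have hsum : ∀ x, πT x = ∑ j, d j x • τ j := by
    intro x
    have h1 : r (i (πT x)) = πT x := by
      have := LinearMap.congr_fun hi (πT x)
      simpa using this
    have h2 := LinearMap.pi_apply_eq_sum_univ r (i (πT x))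
    calc πT x = πT (πT x) := (hTT _ (hTmem x)).symm
      _ = πT (r (i (πT x))) := by rw [h1]
      _ = πT (∑ j, (i (πT x)) j • r (fun k => if j = k then 1 else 0)) := by rw [← h2]
      _ = ∑ j, d j x • τ j := by
        rw [map_sum]
        refine Finset.sum_congr rfl fun j _ => ?_
        rw [map_smul, hd, hτ]
        rfl
  obtain ⟨Y, hY⟩ : ∃ Y : Fin n → (BC (gW (p := p) f) P →ₗ[WittVector p R] WittVector p R),
      Y = fun j => BC.lift (gW (p := p) f) ((semilinearOfRingHom (gW (p := p) f)).comp (d j)) := ⟨_, rfl⟩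
  have hYt : ∀ j w x, Y j (BC.tmul (gW (p := p) f) w x) = w * gW f (d j x) := by
    intro j w x
    rw [hY]
    show BC.lift (gW (p := p) f) _ (BC.tmul (gW (p := p) f) w x) = _
    rw [BC.lift_tmul]
    rfl
  have hB1 : ∀ y : BC (gW (p := p) f) P, ∃ ℓ ∈ AddSubmonoid.closure (Gen f D),
      y = ℓ + ∑ j, Y j y • BC.tmul (gW (p := p) f) 1 (τ j) := by
    intro y
    induction y using BC.induction_on (gW (p := p) f) with
    | zero => exact ⟨0, zero_mem _, by simp⟩
    | tmul w x =>
      refine ⟨BC.tmul (gW (p := p) f) w (πL x),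
        AddSubmonoid.subset_closure (Or.inl ⟨w, πL x, ?_, rfl⟩), ?_⟩
      · rw [hQ]; exact Submodule.mem_sup_left (hLmem x)
      · have h3 : ∀ j, Y j (BC.tmul (gW (p := p) f) w x) • BC.tmul (gW (p := p) f) 1 (τ j) =
            BC.tmul (gW (p := p) f) w (d j x • τ j) := by
          intro j
          rw [hYt, BC.smul_tmul, mul_one, BC.tmul_mul_apply]
        rw [Finset.sum_congr rfl (fun j _ => h3 j)]
        have h4 : ∑ j, BC.tmul (gW (p := p) f) w (d j x • τ j) = BC.tmul (gW (p := p) f) w (πT x) := by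
          rw [hsum x, BC.tmul_eq_smul_tmul_one (gW (p := p) f) w (∑ j, d j x • τ j), ← BC.ι_apply, map_sum,
            Finset.smul_sum]
          refine Finset.sum_congr rfl fun j _ => ?_
          rw [BC.ι_apply, ← BC.tmul_eq_smul_tmul_one]
        rw [h4, ← BC.tmul_add, hadd]
    | add y₁ y₂ h₁ h₂ =>
      obtain ⟨ℓ₁, hℓ₁, e₁⟩ := h₁
      obtain ⟨ℓ₂, hℓ₂, e₂⟩ := h₂
      refine ⟨ℓ₁ + ℓ₂, add_mem hℓ₁ hℓ₂, ?_⟩
      have hs : ∑ j, Y j (y₁ + y₂) • BC.tmul (gW (p := p) f) 1 (τ j) =
          ∑ j, Y j y₁ • BC.tmul (gW (p := p) f) 1 (τ j) + ∑ j, Y j y₂ • BC.tmul (gW (p := p) f) 1 (τ j) := by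
        rw [← Finset.sum_add_distrib]
        refine Finset.sum_congr rfl fun j _ => ?_
        rw [map_add, add_smul]
      have e12 : y₁ + y₂ = (ℓ₁ + ∑ j, Y j y₁ • BC.tmul (gW (p := p) f) 1 (τ j)) +
          (ℓ₂ + ∑ j, Y j y₂ • BC.tmul (gW (p := p) f) 1 (τ j)) := by rw [← e₁, ← e₂]
      rw [hs, e12]
      abel
  have hker0 : ∀ a ∈ W4c1extbt610.IV p S,
      (WittVector.constantCoeff : WittVector p R →+* R) (gW f a) = 0 := by
    intro a ha
    have : W4c1extbt610.IV p S ≤
        RingHom.ker ((WittVector.constantCoeff : WittVector p R →+* R).comp (gW (p := p) f)) := by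
      rw [W4c1extbt610.IV, Ideal.span_le]
      rintro _ ⟨u, rfl⟩
      change (WittVector.constantCoeff : WittVector p R →+* R)
        (gW f (WittVector.verschiebung u)) = 0
      rw [show gW f (WittVector.verschiebung u) = WittVector.verschiebung (gW f u) from
        WittVector.map_verschiebung f u]
      exact WittVector.verschiebung_coeff_zero (p := p) (gW (p := p) f u)
    exact this ha
  have hYcc : ∀ j, (WittVector.constantCoeff : WittVector p R →+* R) (Y j y) = 0 := by
    intro j
    let ψ' : P →ₛₗ[(WittVector.constantCoeff : WittVector p R →+* R).comp (gW (p := p) f)] R :=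
      (semilinearOfRingHom
        ((WittVector.constantCoeff : WittVector p R →+* R).comp (gW (p := p) f))).comp (d j)
    have hψ' : ∀ x, ψ' x = WittVector.constantCoeff (gW f (d j x)) := fun x => rfl
    have hkerψ : D.Q ≤ LinearMap.ker ψ' := by
      rw [hQ]
      refine sup_le ?_ (Submodule.smul_le.2 ?_)
      · intro l hl
        rw [LinearMap.mem_ker, hψ', hd]
        show WittVector.constantCoeff (gW f ((i (πT l)) j)) = 0
        rw [hTL l hl, map_zero]
        simp
      · intro a ha t ht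
        rw [LinearMap.mem_ker, hψ', map_smul, smul_eq_mul, map_mul, map_mul, hker0 a ha, zero_mul]
    let ψ : (P ⧸ D.Q) →ₛₗ[(WittVector.constantCoeff : WittVector p R →+* R).comp
        (gW (p := p) f)] R := D.Q.liftQ ψ' hkerψ
    have hid : ∀ z : BC (gW (p := p) f) P,
        (WittVector.constantCoeff : WittVector p R →+* R) (Y j z) =
          BC.lift _ ψ (bcQuotMap f D.Q z) := by
      intro z
      induction z using BC.induction_on (gW (p := p) f) with
      | zero => simp only [map_zero]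
      | tmul w x =>
        rw [hYt, bcQuotMap_tmul, BC.lift_tmul, map_mul]
        rfl
      | add z₁ z₂ h₁ h₂ => simp only [map_add, h₁, h₂]
    rw [hid y]
    have h0 : bcQuotMap f D.Q y = 0 := by
      have := hy
      rw [hDR.Q_eq, LinearMap.mem_ker] at this
      exact this
    rw [h0, map_zero]
  choose uu huu using fun j => ker_cc_le (Y j y) (hYcc j)
  obtain ⟨ℓ, hℓ, e⟩ := hB1 y
  rw [e]
  refine add_mem hℓ (sum_mem fun j _ => AddSubmonoid.subset_closure (Or.inr ⟨uu j, τ j, ?_⟩))
  rw [huu j, BC.smul_tmul, mul_one]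

lemma sharpVinv (D : W4c1extbt610.Display3n p S P)
    (DR : W4c1extbt610.Display3n p R (BC (gW (p := p) f) P)) (hDR : IsDispBaseChange f D DR)
    (Vs : P →ₗ[WittVector p S] BC (sg p S) P) (hVs : IsVSharp D Vs)
    (w' : WittVector p R) (y : DR.Q) :
    VsR f Vs (w' • DR.Vinv y) = BC.tmul (sg p R) w' (y : BC (gW (p := p) f) P) := by
  have hVF : ∀ x, Vs (D.F x) = BC.tmul (sg p S) (p : WittVector p S) x := by
    intro x
    have := hVs.app_smul_F 1 x
    rw [one_smul, BC.smul_tmul, mul_one] at this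
    exact this
  have hVV : ∀ q : D.Q, Vs (D.Vinv q) = BC.tmul (sg p S) 1 (q : P) := by
    intro q
    have := hVs.app_smul_Vinv 1 q
    rw [one_smul] at this
    exact this
  have key : ∀ z ∈ AddSubmonoid.closure (Gen f D), ∃ hz : z ∈ DR.Q, ∀ w' : WittVector p R,
      VsR f Vs (w' • DR.Vinv ⟨z, hz⟩) = BC.tmul (sg p R) w' z := by
    intro z hz
    induction hz using AddSubmonoid.closure_induction with
    | mem z hz =>
      rcases hz with ⟨w, q, hq, rfl⟩ | ⟨u, x, rfl⟩
      · have hq0 : D.Q.mkQ q = 0 := (Submodule.Quotient.mk_eq_zero D.Q).2 hq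
        have hmem : BC.tmul (gW (p := p) f) w q ∈ DR.Q := by
          rw [hDR.Q_eq, LinearMap.mem_ker, bcQuotMap_tmul, hq0]
          exact BC.tmul_zero _ _
        refine ⟨hmem, fun w' => ?_⟩
        rw [hDR.Vinv_tmul w ⟨q, hq⟩ hmem, BC.smul_tmul (gW (p := p) f) w', VsR_tmul, hVV, Psi_tmul, map_one,
          BC.smul_tmul (sg p R), mul_one, BC.tmul_eq_smul_tmul_one (gW (p := p) f) w q,
          ← BC.tmul_mul_apply]
      · have hmem : BC.tmul (gW (p := p) f) (WittVector.verschiebung u) x ∈ DR.Q := by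
          rw [hDR.Q_eq, LinearMap.mem_ker, bcQuotMap_tmul]
          have : (WittVector.constantCoeff : WittVector p R →+* R) (WittVector.verschiebung u) = 0 :=
            WittVector.verschiebung_coeff_zero u
          rw [this]
          exact BC.zero_tmul _ _
        refine ⟨hmem, fun w' => ?_⟩
        rw [hDR.Vinv_verschiebung_tmul u x hmem, BC.smul_tmul (gW (p := p) f) w', VsR_tmul, hVF, Psi_tmul,
          map_natCast, BC.smul_tmul (sg p R),
          BC.tmul_eq_smul_tmul_one (gW (p := p) f) (WittVector.verschiebung u) x, ← BC.tmul_mul_apply]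
        congr 1
        show w' * u * (p : WittVector p R) =
          w' * WittVector.frobenius (WittVector.verschiebung u)
        rw [WittVector.frobenius_verschiebung, mul_assoc]
    | zero =>
      refine ⟨zero_mem _, fun w' => ?_⟩
      have h0 : (⟨0, zero_mem _⟩ : DR.Q) = 0 := rfl
      rw [h0, map_zero, smul_zero, map_zero, BC.tmul_zero]
    | add z₁ z₂ hz₁ hz₂ h₁ h₂ =>
      obtain ⟨m₁, p₁⟩ := h₁
      obtain ⟨m₂, p₂⟩ := h₂
      refine ⟨add_mem m₁ m₂, fun w' => ?_⟩
      have h0 : (⟨z₁ + z₂, add_mem m₁ m₂⟩ : DR.Q) = ⟨z₁, m₁⟩ + ⟨z₂, m₂⟩ := rfl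
      rw [h0, map_add, smul_add, map_add, p₁, p₂, BC.tmul_add]
  obtain ⟨hz, h⟩ := key y.1 (mem_closure f D DR hDR y.1 y.2)
  exact h w'

theorem main (D : W4c1extbt610.Display3n p S P) (hD : Dieu.IsDisplay D)
    (DR : W4c1extbt610.Display3n p R (BC (WittVector.map f : WittVector p S →+* WittVector p R) P))
    (hDR : Dieu.IsDispBaseChange f D DR) : Dieu.IsDisplay DR := by
  obtain ⟨Vs, hVs, n, hn⟩ := hD
  exact ⟨VsR f Vs, ⟨fun w z => sharpF f D DR hDR Vs hVs w z,
    fun w y => sharpVinv f D DR hDR Vs hVs w y⟩, n, nilp_VsR f Vs n hn⟩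

end Main

end Groth.Agent.Helper8.DispBC
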