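import Mathlib
import Groth.Prelude.Def_Disp2
import Groth.Agent.Lib.Helper8.DispBC

set_option autoImplicit false
set_option linter.style.haveILetI false
set_option linter.unusedSectionVars false
set_option linter.unusedVariables false
set_option linter.unusedTactic false
set_option linter.unreachableTactic false

universe u v

noncomputable section

namespace Groth.Agent.Helper8.DispBC2

open Dieu TensorProduct Groth.Agent.Helper8.DispBC

section Witt

variable {p : ℕ} [Fact p.Prime] {T : Type u} [CommRing T]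

lemma shift_V (u : WittVector p T) : (WittVector.verschiebung u).shift 1 = u := by
  ext n
  rw [WittVector.shift_coeff, add_comm 1 n, WittVector.verschiebung_coeff_succ]

lemma cc_V (u : WittVector p T) :
    (WittVector.constantCoeff : WittVector p T →+* T) (WittVector.verschiebung u) = 0 :=
  WittVector.verschiebung_coeff_zero u

lemma sh_add (Y₁ Y₂ : WittVector p T) (h₁ : WittVector.constantCoeff Y₁ = 0)
    (h₂ : WittVector.constantCoeff Y₂ = 0) :
    (Y₁ + Y₂).shift 1 = Y₁.shift 1 + Y₂.shift 1 := by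
  obtain ⟨u₁, rfl⟩ := ker_cc_le Y₁ h₁
  obtain ⟨u₂, rfl⟩ := ker_cc_le Y₂ h₂
  rw [← map_add (WittVector.verschiebung : WittVector p T →+ WittVector p T) u₁ u₂,
    shift_V, shift_V, shift_V]

lemma sh_mul (c Y : WittVector p T) (h : WittVector.constantCoeff Y = 0) :
    (c * Y).shift 1 = WittVector.frobenius c * Y.shift 1 := by
  obtain ⟨u, rfl⟩ := ker_cc_le Y h
  rw [mul_comm c, ← WittVector.verschiebung_mul_frobenius, shift_V, shift_V, mul_comm]

lemma mem_IV_aux (x : WittVector p T) (hx' : x ∈ Submodule.span (WittVector p T)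
      (Set.range (WittVector.verschiebung : WittVector p T → WittVector p T))) :
    ∃ a, x = WittVector.verschiebung a := by
  induction hx' using Submodule.span_induction with
  | mem x h => obtain ⟨u, rfl⟩ := h; exact ⟨u, rfl⟩
  | zero => exact ⟨0, (map_zero _).symm⟩
  | add x y _ _ hx hy =>
    obtain ⟨a, rfl⟩ := hx
    obtain ⟨b, rfl⟩ := hy
    exact ⟨a + b, (map_add _ _ _).symm⟩
  | smul c x _ hx =>
    obtain ⟨a, rfl⟩ := hx
    exact ⟨a * WittVector.frobenius c, by
      rw [WittVector.verschiebung_mul_frobenius, smul_eq_mul, mul_comm]⟩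

lemma mem_IV (x : WittVector p T) (hx : x ∈ W4c1extbt610.IV p T) :
    ∃ a, x = WittVector.verschiebung a := mem_IV_aux x hx

end Witt

section Main

variable {p : ℕ} [Fact p.Prime] {S R : Type u} [CommRing S] [CommRing R] (f : S →+* R)
variable {P : Type v} [AddCommGroup P] [Module (WittVector p S) P]

/-- `x ↦ 1 ⊗ φ x` -/
def kapF (φ : P →ₛₗ[sg p S] P) :
    P →ₛₗ[(gW (p := p) f).comp (sg p S)] BC (gW (p := p) f) P where
  toFun x := BC.tmul (gW (p := p) f) 1 (φ x)
  map_add' x y := by rw [map_add, BC.tmul_add]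
  map_smul' s x := by
    rw [map_smulₛₗ, ← BC.tmul_apply_eq]
    exact BC.tmul_eq_smul_tmul_one _ _ _

lemma kapF_apply (φ : P →ₛₗ[sg p S] P) (x : P) :
    kapF f φ x = BC.tmul (gW (p := p) f) 1 (φ x) := rfl

/-- semilinear extension `w ⊗ x ↦ σ w ⊗ φ x`. -/
def ext (φ : P →ₛₗ[sg p S] P) : BC (gW (p := p) f) P →ₛₗ[sg p R] BC (gW (p := p) f) P :=
  ((BC.lift ((gW (p := p) f).comp (sg p S)) (kapF f φ)).comp (BC.castHom (e1 f).symm)).comp
    (BC.push (gW (p := p) f) (sg p R))

lemma ext_tmul (φ : P →ₛₗ[sg p S] P) (w : WittVector p R) (x : P) :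
    ext f φ (BC.tmul (gW (p := p) f) w x) =
      BC.tmul (gW (p := p) f) (WittVector.frobenius w) (φ x) := by
  show (BC.lift ((gW (p := p) f).comp (sg p S)) (kapF f φ)) ((BC.castHom (e1 f).symm)
    ((BC.push (gW (p := p) f) (sg p R)) (BC.tmul (gW (p := p) f) w x))) = _
  rw [BC.push_tmul, BC.castHom_tmul, BC.lift_tmul, kapF_apply, BC.smul_tmul, mul_one]

lemma tmul_sum {ι : Type*} (w : WittVector p R) (s : Finset ι) (z : ι → P) :
    BC.tmul (gW (p := p) f) w (∑ j ∈ s, z j) = ∑ j ∈ s, BC.tmul (gW (p := p) f) w (z j) := by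
  rw [BC.tmul_eq_smul_tmul_one (gW (p := p) f) w (∑ j ∈ s, z j), ← BC.ι_apply, map_sum,
    Finset.smul_sum]
  refine Finset.sum_congr rfl fun j _ => ?_
  rw [BC.ι_apply, ← BC.tmul_eq_smul_tmul_one]

/-- linear functional extended -/
def Yg (e : P →ₗ[WittVector p S] WittVector p S) :
    BC (gW (p := p) f) P →ₗ[WittVector p R] WittVector p R :=
  BC.lift (gW (p := p) f) ((semilinearOfRingHom (gW (p := p) f)).comp e)

lemma Yg_tmul (e : P →ₗ[WittVector p S] WittVector p S) (w : WittVector p R) (x : P) :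
    Yg f e (BC.tmul (gW (p := p) f) w x) = w * gW f (e x) := by
  unfold Yg
  rw [BC.lift_tmul]
  rfl

lemma lin_sum {n : ℕ} (e : Fin n → (P →ₗ[WittVector p S] WittVector p S)) (v : Fin n → P)
    (π : P →ₗ[WittVector p S] P) (h : ∀ x, π x = ∑ j, e j x • v j)
    (y : BC (gW (p := p) f) P) :
    BC.map (gW (p := p) f) π y = ∑ j, Yg f (e j) y • BC.tmul (gW (p := p) f) 1 (v j) := by
  induction y using BC.induction_on (gW (p := p) f) with
  | zero => simp
  | tmul w x =>
    rw [BC.map_tmul, h x]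
    have h3 : ∀ j, Yg f (e j) (BC.tmul (gW (p := p) f) w x) • BC.tmul (gW (p := p) f) 1 (v j) =
        BC.tmul (gW (p := p) f) w (e j x • v j) := by
      intro j
      rw [Yg_tmul, BC.smul_tmul, mul_one, BC.tmul_mul_apply]
    rw [Finset.sum_congr rfl (fun j _ => h3 j), tmul_sum]
  | add y₁ y₂ h₁ h₂ =>
    rw [map_add, h₁, h₂, ← Finset.sum_add_distrib]
    refine Finset.sum_congr rfl fun j _ => ?_
    rw [map_add, add_smul]

lemma map_id' (y : BC (gW (p := p) f) P) : BC.map (gW (p := p) f) LinearMap.id y = y := by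
  induction y using BC.induction_on (gW (p := p) f) with
  | zero => exact map_zero _
  | tmul w x => rw [BC.map_tmul]; rfl
  | add a b ha hb => rw [map_add, ha, hb]

lemma tmul_mem_ker (Q : Submodule (WittVector p S) P) (w : WittVector p R) {q : P} (hq : q ∈ Q) :
    BC.tmul (gW (p := p) f) w q ∈ LinearMap.ker (bcQuotMap f Q) := by
  have hq0 : Q.mkQ q = 0 := (Submodule.Quotient.mk_eq_zero Q).2 hq
  rw [LinearMap.mem_ker, bcQuotMap_tmul, hq0]
  exact BC.tmul_zero _ _

lemma Vtmul_mem_ker (Q : Submodule (WittVector p S) P) (u : WittVector p R) (x : P) :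
    BC.tmul (gW (p := p) f) (WittVector.verschiebung u) x ∈ LinearMap.ker (bcQuotMap f Q) := by
  rw [LinearMap.mem_ker, bcQuotMap_tmul, cc_V]
  exact BC.zero_tmul _ _

lemma IV_le (Q : Submodule (WittVector p S) P) :
    W4c1extbt610.IV p R • (⊤ : Submodule (WittVector p R) (BC (gW (p := p) f) P)) ≤
      LinearMap.ker (bcQuotMap f Q) := by
  refine Submodule.smul_le.2 fun a ha y _ => ?_
  obtain ⟨b, rfl⟩ := mem_IV a ha
  rw [LinearMap.mem_ker, map_smulₛₗ, cc_V, zero_smul]

lemma hker0 (a : WittVector p S) (ha : a ∈ W4c1extbt610.IV p S) :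
    (WittVector.constantCoeff : WittVector p R →+* R) (gW f a) = 0 := by
  obtain ⟨b, rfl⟩ := mem_IV a ha
  rw [show gW f (WittVector.verschiebung b) = WittVector.verschiebung (gW f b) from
    WittVector.map_verschiebung f b]
  exact cc_V _

/-- auxiliary data: normal decomposition + dual basis. -/
structure Data (D : W4c1extbt610.Display3n p S P) where
  L : Submodule (WittVector p S) P
  T : Submodule (WittVector p S) P
  hLT : IsCompl L T
  hQ : D.Q = L ⊔ W4c1extbt610.IV p S • T
  n : ℕ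
  r : (Fin n → WittVector p S) →ₗ[WittVector p S] P
  i : P →ₗ[WittVector p S] (Fin n → WittVector p S)
  hi : r ∘ₗ i = LinearMap.id

lemma nonempty_data (D : W4c1extbt610.Display3n p S P) : Nonempty (Data D) := by
  obtain ⟨L, T, hLT, hQ⟩ := D.exists_normal
  haveI := D.finite
  haveI := D.projective
  obtain ⟨n, r, hr⟩ := Module.Finite.exists_fin' (WittVector p S) P
  obtain ⟨i, hi⟩ := Module.projective_lifting_property r LinearMap.id hr
  exact ⟨⟨L, T, hLT, hQ, n, r, i, hi⟩⟩

variable {D : W4c1extbt610.Display3n p S P} (E : Data D)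

/-- projection to `T` -/
def πT : P →ₗ[WittVector p S] P := E.T.projection E.L E.hLT.symm
/-- projection to `L` -/
def πL : P →ₗ[WittVector p S] P := E.L.projection E.T E.hLT

lemma hadd (x : P) : πL E x + πT E x = x :=
  Submodule.projection_add_projection_eq_self E.hLT x
lemma hLmem (x : P) : πL E x ∈ E.L := Submodule.projection_apply_mem E.hLT x
lemma hTmem (x : P) : πT E x ∈ E.T := Submodule.projection_apply_mem E.hLT.symm x
lemma hTL {l : P} (hl : l ∈ E.L) : πT E l = 0 :=
  Submodule.projection_apply_of_mem_right E.hLT.symm hl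
lemma hTT {t : P} (ht : t ∈ E.T) : πT E t = t :=
  Submodule.projection_apply_of_mem_left E.hLT.symm ht
lemma hLT0 {t : P} (ht : t ∈ E.T) : πL E t = 0 :=
  Submodule.projection_apply_of_mem_right E.hLT ht
lemma hLQ (x : P) : πL E x ∈ D.Q := by
  rw [E.hQ]; exact Submodule.mem_sup_left (hLmem E x)

/-- coordinate functionals -/
def c (j : Fin E.n) : P →ₗ[WittVector p S] WittVector p S := (LinearMap.proj j) ∘ₗ E.i
/-- generators -/
def ρ (j : Fin E.n) : P := E.r (fun k => if j = k then 1 else 0)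
/-- coordinate functionals on `T` -/
def d (j : Fin E.n) : P →ₗ[WittVector p S] WittVector p S := (c E j) ∘ₗ (πT E)
/-- generators of `T` -/
def τ (j : Fin E.n) : P := πT E (ρ E j)

lemma hc_sum (x : P) : x = ∑ j, c E j x • ρ E j := by
  have h1 : E.r (E.i x) = x := by
    have := LinearMap.congr_fun E.hi x
    simpa using this
  have h2 := LinearMap.pi_apply_eq_sum_univ E.r (E.i x)
  calc x = E.r (E.i x) := h1.symm
    _ = ∑ j, (E.i x) j • E.r (fun k => if j = k then 1 else 0) := h2
    _ = ∑ j, c E j x • ρ E j := rfl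

lemma hsum (x : P) : πT E x = ∑ j, d E j x • τ E j := by
  have h := hc_sum E (πT E x)
  calc πT E x = πT E (πT E x) := (hTT E (hTmem E x)).symm
    _ = πT E (∑ j, c E j (πT E x) • ρ E j) := congrArg (πT E) h
    _ = ∑ j, d E j x • τ E j := by
      rw [map_sum]
      refine Finset.sum_congr rfl fun j _ => ?_
      rw [map_smul]
      rfl

lemma hτT (j : Fin E.n) : τ E j ∈ E.T := hTmem E _
lemma hτ_fix (j : Fin E.n) : πT E (τ E j) = τ E j := hTT E (hτT E j)

/-- coordinates of the base change -/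
def iR : BC (gW (p := p) f) P →ₗ[WittVector p R] (Fin E.n → WittVector p R) :=
  LinearMap.pi fun j => Yg f (c E j)

/-- retraction -/
def sR : (Fin E.n → WittVector p R) →ₗ[WittVector p R] BC (gW (p := p) f) P :=
  Fintype.linearCombination (WittVector p R) fun j => BC.tmul (gW (p := p) f) 1 (ρ E j)

lemma sR_iR : (sR f E) ∘ₗ (iR f E) = LinearMap.id := by
  apply LinearMap.ext; intro y
  show Fintype.linearCombination (WittVector p R) _ (iR f E y) = y
  rw [Fintype.linearCombination_apply]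
  have := lin_sum f (c E) (ρ E) LinearMap.id (fun x => hc_sum E x) y
  rw [map_id'] at this
  exact this.symm

lemma hYcc (j : Fin E.n) (y : BC (gW (p := p) f) P)
    (hy : y ∈ LinearMap.ker (bcQuotMap f D.Q)) :
    (WittVector.constantCoeff : WittVector p R →+* R) (Yg f (d E j) y) = 0 := by
  let ψ' : P →ₛₗ[(WittVector.constantCoeff : WittVector p R →+* R).comp (gW (p := p) f)] R :=
    (semilinearOfRingHom
      ((WittVector.constantCoeff : WittVector p R →+* R).comp (gW (p := p) f))).comp (d E j)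
  have hψ' : ∀ x, ψ' x = WittVector.constantCoeff (gW f (d E j x)) := fun x => rfl
  have hkerψ : D.Q ≤ LinearMap.ker ψ' := by
    rw [E.hQ]
    refine sup_le ?_ (Submodule.smul_le.2 ?_)
    · intro l hl
      rw [LinearMap.mem_ker, hψ']
      have : d E j l = 0 := by
        show c E j (πT E l) = 0
        rw [hTL E hl, map_zero]
      rw [this, map_zero, map_zero]
    · intro a ha t ht
      rw [LinearMap.mem_ker, hψ', map_smul, smul_eq_mul, map_mul, map_mul, hker0 f a ha, zero_mul]
  let ψ : (P ⧸ D.Q) →ₛₗ[(WittVector.constantCoeff : WittVector p R →+* R).comp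
      (gW (p := p) f)] R := D.Q.liftQ ψ' hkerψ
  have hid : ∀ z : BC (gW (p := p) f) P,
      (WittVector.constantCoeff : WittVector p R →+* R) (Yg f (d E j) z) =
        BC.lift _ ψ (bcQuotMap f D.Q z) := by
    intro z
    induction z using BC.induction_on (gW (p := p) f) with
    | zero => simp only [map_zero]
    | tmul w x =>
      rw [Yg_tmul, bcQuotMap_tmul, BC.lift_tmul, map_mul]
      rfl
    | add z₁ z₂ h₁ h₂ => simp only [map_add, h₁, h₂]
  rw [hid y, LinearMap.mem_ker.1 hy, map_zero]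

/-- `V⁻¹` on the `L`-part -/
def VL : P →ₛₗ[sg p S] P := D.Vinv.comp (LinearMap.codRestrict D.Q (πL E) (hLQ E))

lemma VL_apply (x : P) : VL E x = D.Vinv ⟨πL E x, hLQ E x⟩ := rfl

/-- the `T`-part of `V_R⁻¹` -/
def W2 (y : BC (gW (p := p) f) P) : BC (gW (p := p) f) P :=
  ∑ j, ((Yg f (d E j) y).shift 1) • BC.tmul (gW (p := p) f) 1 (D.F (τ E j))

lemma W2_add (y₁ y₂ : BC (gW (p := p) f) P) (h₁ : y₁ ∈ LinearMap.ker (bcQuotMap f D.Q))
    (h₂ : y₂ ∈ LinearMap.ker (bcQuotMap f D.Q)) :
    W2 f E (y₁ + y₂) = W2 f E y₁ + W2 f E y₂ := by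
  unfold W2
  rw [← Finset.sum_add_distrib]
  refine Finset.sum_congr rfl fun j _ => ?_
  rw [map_add, sh_add _ _ (hYcc f E j y₁ h₁) (hYcc f E j y₂ h₂), add_smul]

lemma W2_smul (cw : WittVector p R) (y : BC (gW (p := p) f) P)
    (h : y ∈ LinearMap.ker (bcQuotMap f D.Q)) :
    W2 f E (cw • y) = WittVector.frobenius cw • W2 f E y := by
  unfold W2
  rw [Finset.smul_sum]
  refine Finset.sum_congr rfl fun j _ => ?_
  rw [map_smul, smul_eq_mul, sh_mul _ _ (hYcc f E j y h), mul_smul]

/-- `V_R⁻¹` -/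
def VinvR : ↥(LinearMap.ker (bcQuotMap f D.Q)) →ₛₗ[sg p R] BC (gW (p := p) f) P where
  toFun y := ext f (VL E) y.1 + W2 f E y.1
  map_add' y₁ y₂ := by
    show ext f (VL E) (y₁.1 + y₂.1) + W2 f E (y₁.1 + y₂.1) =
      (ext f (VL E) y₁.1 + W2 f E y₁.1) + (ext f (VL E) y₂.1 + W2 f E y₂.1)
    rw [map_add, W2_add f E _ _ y₁.2 y₂.2]
    abel
  map_smul' cw y := by
    show ext f (VL E) (cw • y.1) + W2 f E (cw • y.1) =
      (sg p R) cw • (ext f (VL E) y.1 + W2 f E y.1)
    rw [map_smulₛₗ, W2_smul f E cw _ y.2, smul_add]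

lemma VinvR_apply (y : BC (gW (p := p) f) P) (h : y ∈ LinearMap.ker (bcQuotMap f D.Q)) :
    VinvR f E ⟨y, h⟩ = ext f (VL E) y + W2 f E y := rfl

lemma F_eq_p_Vinv (q : P) (hq : q ∈ D.Q) :
    D.F q = (p : WittVector p S) • D.Vinv ⟨q, hq⟩ := by
  have h := D.Vinv_verschiebung_smul 1 q
  rw [one_smul] at h
  have h2 : D.Vinv (WittVector.verschiebung (1 : WittVector p S) • (⟨q, hq⟩ : D.Q)) = D.F q := h
  rw [map_smulₛₗ, WittVector.frobenius_verschiebung, one_mul] at h2
  exact h2.symm

lemma Vinv_sum (D : W4c1extbt610.Display3n p S P) {ι : Type*} (s : Finset ι)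
    (a : ι → WittVector p S) (t : ι → P)
    (h : ∑ j ∈ s, WittVector.verschiebung (a j) • t j ∈ D.Q) :
    D.Vinv ⟨_, h⟩ = ∑ j ∈ s, a j • D.F (t j) := by
  have e : (⟨_, h⟩ : D.Q) = ∑ j ∈ s, (⟨WittVector.verschiebung (a j) • t j,
      D.IV_smul_le (Submodule.smul_mem_smul (W4c1extbt610.verschiebung_mem_IV p S (a j))
        Submodule.mem_top)⟩ : D.Q) := by
    apply Subtype.ext
    rw [Submodule.coe_sum]
  rw [e, map_sum]
  exact Finset.sum_congr rfl fun j _ => D.Vinv_verschiebung_smul (a j) (t j)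

lemma hV2 (u : WittVector p R) (x : P)
    (h : BC.tmul (gW (p := p) f) (WittVector.verschiebung u) x ∈
      LinearMap.ker (bcQuotMap f D.Q)) :
    VinvR f E ⟨BC.tmul (gW (p := p) f) (WittVector.verschiebung u) x, h⟩ =
      BC.tmul (gW (p := p) f) u (D.F x) := by
  rw [VinvR_apply]
  have h1 : ext f (VL E) (BC.tmul (gW (p := p) f) (WittVector.verschiebung u) x) =
      BC.tmul (gW (p := p) f) u (D.F (πL E x)) := by
    rw [ext_tmul, VL_apply, WittVector.frobenius_verschiebung, F_eq_p_Vinv (πL E x) (hLQ E x)]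
    rw [← BC.tmul_mul_apply, map_natCast]
  have h2 : W2 f E (BC.tmul (gW (p := p) f) (WittVector.verschiebung u) x) =
      BC.tmul (gW (p := p) f) u (D.F (πT E x)) := by
    unfold W2
    have h4 : ∀ j, WittVector.frobenius (d E j x) • D.F (τ E j) = D.F (d E j x • τ E j) :=
      fun j => (D.F.map_smulₛₗ _ _).symm
    have h3 : ∀ j, ((Yg f (d E j) (BC.tmul (gW (p := p) f) (WittVector.verschiebung u) x)).shift 1) •
        BC.tmul (gW (p := p) f) 1 (D.F (τ E j)) =
        BC.tmul (gW (p := p) f) u (D.F (d E j x • τ E j)) := by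
      intro j
      rw [Yg_tmul, ← WittVector.verschiebung_mul_frobenius, shift_V, BC.smul_tmul, mul_one,
        ← map_frob, BC.tmul_mul_apply, h4]
    rw [Finset.sum_congr rfl (fun j _ => h3 j), hsum E x, map_sum, tmul_sum]
  rw [h1, h2, ← BC.tmul_add, ← map_add, hadd]

lemma dj_mem_IV (j : Fin E.n) (q : P) (hq : q ∈ D.Q) : d E j q ∈ W4c1extbt610.IV p S := by
  have hT : πT E q ∈ W4c1extbt610.IV p S • E.T := by
    have hq' := hq
    rw [E.hQ] at hq'
    obtain ⟨l, hl, t, ht, e⟩ := Submodule.mem_sup.1 hq'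
    have htT : t ∈ E.T := (Submodule.smul_le.2 (fun a _ t' ht' => E.T.smul_mem a ht')) ht
    rw [← e, map_add, hTL E hl, zero_add, hTT E htT]
    exact ht
  show c E j (πT E q) ∈ _
  refine Submodule.smul_induction_on hT ?_ ?_
  · intro a ha t ht
    rw [map_smul, smul_eq_mul]
    exact Ideal.mul_mem_right _ _ ha
  · intro x y hx hy
    rw [map_add]; exact add_mem hx hy

lemma hV1 (w : WittVector p R) (q : P) (hq : q ∈ D.Q)
    (h : BC.tmul (gW (p := p) f) w q ∈ LinearMap.ker (bcQuotMap f D.Q)) :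
    VinvR f E ⟨BC.tmul (gW (p := p) f) w q, h⟩ =
      BC.tmul (gW (p := p) f) (WittVector.frobenius w) (D.Vinv ⟨q, hq⟩) := by
  rw [VinvR_apply]
  choose a ha using fun j => mem_IV (d E j q) (dj_mem_IV E j q hq)
  have hTq : πT E q ∈ D.Q := by
    have h0 := D.Q.sub_mem hq (hLQ E q)
    have e : q - πL E q = πT E q := by
      rw [sub_eq_iff_eq_add, add_comm, hadd]
    rwa [e] at h0
  have hsplit : D.Vinv ⟨q, hq⟩ = D.Vinv ⟨πL E q, hLQ E q⟩ + D.Vinv ⟨πT E q, hTq⟩ := by
    have : (⟨q, hq⟩ : D.Q) = ⟨πL E q, hLQ E q⟩ + ⟨πT E q, hTq⟩ := Subtype.ext (hadd E q).symm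
    rw [this, map_add]
  have hT2 : D.Vinv ⟨πT E q, hTq⟩ = ∑ j, a j • D.F (τ E j) := by
    have key : ∀ (z : P) (hz : z ∈ D.Q), z = ∑ j, WittVector.verschiebung (a j) • τ E j →
        D.Vinv ⟨z, hz⟩ = ∑ j, a j • D.F (τ E j) := by
      intro z hz e
      subst e
      exact Vinv_sum D Finset.univ a (τ E) hz
    refine key _ hTq ?_
    rw [hsum E q]
    exact Finset.sum_congr rfl fun j _ => by rw [ha j]
  have h2 : W2 f E (BC.tmul (gW (p := p) f) w q) =
      BC.tmul (gW (p := p) f) (WittVector.frobenius w) (∑ j, a j • D.F (τ E j)) := by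
    unfold W2
    rw [tmul_sum]
    refine Finset.sum_congr rfl fun j _ => ?_
    rw [Yg_tmul, ha j, show gW f (WittVector.verschiebung (a j)) =
      WittVector.verschiebung (gW f (a j)) from WittVector.map_verschiebung f (a j),
      mul_comm w, ← WittVector.verschiebung_mul_frobenius, shift_V, BC.smul_tmul, mul_one,
      mul_comm (gW f (a j)), BC.tmul_mul_apply]
  rw [ext_tmul, VL_apply, h2, hsplit, hT2, BC.tmul_add]


lemma PL_add_PT (y : BC (gW (p := p) f) P) :
    BC.map (gW (p := p) f) (πL E) y + BC.map (gW (p := p) f) (πT E) y = y := by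
  induction y using BC.induction_on (gW (p := p) f) with
  | zero => rw [map_zero, map_zero, add_zero]
  | tmul w x => rw [BC.map_tmul, BC.map_tmul, ← BC.tmul_add, hadd]
  | add a b ha hb => rw [map_add, map_add, add_add_add_comm, ha, hb]

lemma PT_PL (y : BC (gW (p := p) f) P) :
    BC.map (gW (p := p) f) (πT E) (BC.map (gW (p := p) f) (πL E) y) = 0 := by
  induction y using BC.induction_on (gW (p := p) f) with
  | zero => rw [map_zero, map_zero]
  | tmul w x => rw [BC.map_tmul, BC.map_tmul, hTL E (hLmem E x), BC.tmul_zero]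
  | add a b ha hb => rw [map_add, map_add, ha, hb, add_zero]

lemma PL_PT (y : BC (gW (p := p) f) P) :
    BC.map (gW (p := p) f) (πL E) (BC.map (gW (p := p) f) (πT E) y) = 0 := by
  induction y using BC.induction_on (gW (p := p) f) with
  | zero => rw [map_zero, map_zero]
  | tmul w x => rw [BC.map_tmul, BC.map_tmul, hLT0 E (hTmem E x), BC.tmul_zero]
  | add a b ha hb => rw [map_add, map_add, ha, hb, add_zero]

lemma isCompl_R : IsCompl (LinearMap.range (BC.map (gW (p := p) f) (πL E)))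
    (LinearMap.range (BC.map (gW (p := p) f) (πT E))) := by
  constructor
  · rw [Submodule.disjoint_def]
    rintro y ⟨a, rfl⟩ ⟨b, hb⟩
    have h1 : BC.map (gW (p := p) f) (πT E) (BC.map (gW (p := p) f) (πL E) a) = 0 := PT_PL f E a
    have h2 := PL_add_PT f E (BC.map (gW (p := p) f) (πL E) a)
    rw [h1, add_zero] at h2
    calc BC.map (gW (p := p) f) (πL E) a
        = BC.map (gW (p := p) f) (πL E) (BC.map (gW (p := p) f) (πL E) a) := h2.symm
      _ = BC.map (gW (p := p) f) (πL E) (BC.map (gW (p := p) f) (πT E) b) := by rw [hb]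
      _ = 0 := PL_PT f E b
  · rw [Submodule.codisjoint_iff_exists_add_eq]
    intro y
    exact ⟨_, _, ⟨y, rfl⟩, ⟨y, rfl⟩, PL_add_PT f E y⟩

lemma ker_eq : LinearMap.ker (bcQuotMap f D.Q) =
    LinearMap.range (BC.map (gW (p := p) f) (πL E)) ⊔
      W4c1extbt610.IV p R • LinearMap.range (BC.map (gW (p := p) f) (πT E)) := by
  apply le_antisymm
  · intro y hy
    have e := PL_add_PT f E y
    rw [← e]
    refine add_mem (Submodule.mem_sup_left ⟨y, rfl⟩) (Submodule.mem_sup_right ?_)
    rw [lin_sum f (d E) (τ E) (πT E) (hsum E) y]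
    refine Submodule.sum_mem _ fun j _ => Submodule.smul_mem_smul ?_
      ⟨BC.tmul (gW (p := p) f) 1 (τ E j), ?_⟩
    · obtain ⟨u, hu⟩ := ker_cc_le _ (hYcc f E j y hy)
      rw [hu]; exact W4c1extbt610.verschiebung_mem_IV p R u
    · rw [BC.map_tmul, hτ_fix]
  · refine sup_le ?_ ?_
    · rintro _ ⟨a, rfl⟩
      induction a using BC.induction_on (gW (p := p) f) with
      | zero => rw [map_zero]; exact zero_mem _
      | tmul w x => rw [BC.map_tmul]; exact tmul_mem_ker f D.Q w (hLQ E x)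
      | add a b ha hb => rw [map_add]; exact add_mem ha hb
    · exact le_trans (Submodule.smul_mono le_rfl le_top) (IV_le f D.Q)

lemma span_top : Submodule.span (WittVector p R) (Set.range (VinvR f E)) = ⊤ := by
  have h1 : ∀ x : P, BC.tmul (gW (p := p) f) 1 x ∈
      Submodule.span (WittVector p R) (Set.range (VinvR f E)) := by
    have : (⊤ : Submodule (WittVector p S) P) ≤
        (Submodule.span (WittVector p R) (Set.range (VinvR f E))).comap
          (BC.ι (gW (p := p) f) P) := by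
      rw [← D.span_range_Vinv, Submodule.span_le]
      rintro _ ⟨q, rfl⟩
      show BC.ι (gW (p := p) f) P (D.Vinv q) ∈
        Submodule.span (WittVector p R) (Set.range (VinvR f E))
      refine Submodule.subset_span ⟨⟨BC.tmul (gW (p := p) f) 1 q.1, tmul_mem_ker f D.Q 1 q.2⟩, ?_⟩
      rw [hV1 f E 1 q.1 q.2, map_one, BC.ι_apply]
    intro x; exact this Submodule.mem_top
  rw [eq_top_iff]
  intro y hy
  clear hy
  induction y using BC.induction_on (gW (p := p) f) with
  | zero => exact zero_mem _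
  | tmul w x => rw [BC.tmul_eq_smul_tmul_one]; exact Submodule.smul_mem _ _ (h1 x)
  | add a b ha hb => exact add_mem ha hb

lemma VVs (w : WittVector p R) : ∀ (y : BC (gW (p := p) f) P)
    (h : WittVector.verschiebung w • y ∈ LinearMap.ker (bcQuotMap f D.Q)),
    VinvR f E ⟨WittVector.verschiebung w • y, h⟩ = w • ext f D.F y := by
  intro y
  induction y using BC.induction_on (gW (p := p) f) with
  | zero =>
    intro h
    have e : (⟨WittVector.verschiebung w • (0 : BC (gW (p := p) f) P), h⟩ :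
        LinearMap.ker (bcQuotMap f D.Q)) = 0 := Subtype.ext (smul_zero _)
    rw [e, map_zero, map_zero, smul_zero]
  | tmul w' x =>
    intro h
    have e : WittVector.verschiebung w • BC.tmul (gW (p := p) f) w' x =
        BC.tmul (gW (p := p) f) (WittVector.verschiebung (w * WittVector.frobenius w')) x := by
      rw [BC.smul_tmul, WittVector.verschiebung_mul_frobenius]
    have key : ∀ (z : BC (gW (p := p) f) P) (hz : z ∈ LinearMap.ker (bcQuotMap f D.Q)),
        z = BC.tmul (gW (p := p) f) (WittVector.verschiebung (w * WittVector.frobenius w')) x →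
        VinvR f E ⟨z, hz⟩ = BC.tmul (gW (p := p) f) (w * WittVector.frobenius w') (D.F x) := by
      intro z hz ez
      subst ez
      exact hV2 f E _ x hz
    rw [key _ h e, ext_tmul, BC.smul_tmul]
  | add a b ha hb =>
    intro h
    have h1 := IV_le f D.Q (Submodule.smul_mem_smul (W4c1extbt610.verschiebung_mem_IV p R w)
      (Submodule.mem_top : a ∈ (⊤ : Submodule (WittVector p R) (BC (gW (p := p) f) P))))
    have h2 := IV_le f D.Q (Submodule.smul_mem_smul (W4c1extbt610.verschiebung_mem_IV p R w)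
      (Submodule.mem_top : b ∈ (⊤ : Submodule (WittVector p R) (BC (gW (p := p) f) P))))
    have e : (⟨WittVector.verschiebung w • (a + b), h⟩ : LinearMap.ker (bcQuotMap f D.Q)) =
        ⟨_, h1⟩ + ⟨_, h2⟩ := Subtype.ext (smul_add _ _ _)
    rw [e, map_add, ha h1, hb h2, map_add, smul_add]

/-- the base change 3n-display -/
def mkDR : W4c1extbt610.Display3n p R (BC (gW (p := p) f) P) where
  Q := LinearMap.ker (bcQuotMap f D.Q)
  F := ext f D.F
  Vinv := VinvR f E
  finite := Module.Finite.of_surjective (sR f E)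
    (fun y => ⟨iR f E y, LinearMap.congr_fun (sR_iR f E) y⟩)
  projective := Module.Projective.of_split (iR f E) (sR f E) (sR_iR f E)
  IV_smul_le := IV_le f D.Q
  exists_normal := ⟨_, _, isCompl_R f E, ker_eq f E⟩
  span_range_Vinv := span_top f E
  Vinv_verschiebung_smul := fun w y => VVs f E w y _

lemma isBC : IsDispBaseChange f D (mkDR f E) where
  Q_eq := rfl
  F_tmul := fun w x => ext_tmul f D.F w x
  Vinv_tmul := fun w y h => hV1 f E w y.1 y.2 h
  Vinv_verschiebung_tmul := fun w x h => hV2 f E w x h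

lemma unique (D : W4c1extbt610.Display3n p S P)
    (D1 D2 : W4c1extbt610.Display3n p R (BC (gW (p := p) f) P))
    (h1 : IsDispBaseChange f D D1) (h2 : IsDispBaseChange f D D2) : D1 = D2 := by
  have hQ : D1.Q = D2.Q := h1.Q_eq.trans h2.Q_eq.symm
  have hF : D1.F = D2.F := by
    apply LinearMap.ext; intro y
    induction y using BC.induction_on (gW (p := p) f) with
    | zero => rw [map_zero, map_zero]
    | tmul w x => rw [h1.F_tmul, h2.F_tmul]
    | add a b ha hb => rw [map_add, map_add, ha, hb]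
  have keyE : ∀ z ∈ AddSubmonoid.closure (Gen f D), ∃ (hz1 : z ∈ D1.Q) (hz2 : z ∈ D2.Q),
      D1.Vinv ⟨z, hz1⟩ = D2.Vinv ⟨z, hz2⟩ := by
    intro z hz
    induction hz using AddSubmonoid.closure_induction with
    | mem z hz =>
      rcases hz with ⟨w, q, hq, rfl⟩ | ⟨u, x, rfl⟩
      · have m1 : BC.tmul (gW (p := p) f) w q ∈ D1.Q := by
          rw [h1.Q_eq]; exact tmul_mem_ker f D.Q w hq
        have m2 : BC.tmul (gW (p := p) f) w q ∈ D2.Q := by
          rw [h2.Q_eq]; exact tmul_mem_ker f D.Q w hq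
        exact ⟨m1, m2, by rw [h1.Vinv_tmul w ⟨q, hq⟩ m1, h2.Vinv_tmul w ⟨q, hq⟩ m2]⟩
      · have m1 : BC.tmul (gW (p := p) f) (WittVector.verschiebung u) x ∈ D1.Q := by
          rw [h1.Q_eq]; exact Vtmul_mem_ker f D.Q u x
        have m2 : BC.tmul (gW (p := p) f) (WittVector.verschiebung u) x ∈ D2.Q := by
          rw [h2.Q_eq]; exact Vtmul_mem_ker f D.Q u x
        exact ⟨m1, m2, by
          rw [h1.Vinv_verschiebung_tmul u x m1, h2.Vinv_verschiebung_tmul u x m2]⟩
    | zero =>
      refine ⟨zero_mem _, zero_mem _, ?_⟩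
      have e1 : (⟨0, zero_mem _⟩ : D1.Q) = 0 := rfl
      have e2 : (⟨0, zero_mem _⟩ : D2.Q) = 0 := rfl
      rw [e1, e2, map_zero, map_zero]
    | add a b _ _ ha hb =>
      obtain ⟨a1, a2, ea⟩ := ha
      obtain ⟨b1, b2, eb⟩ := hb
      refine ⟨add_mem a1 b1, add_mem a2 b2, ?_⟩
      have e1 : (⟨a + b, add_mem a1 b1⟩ : D1.Q) = ⟨a, a1⟩ + ⟨b, b1⟩ := rfl
      have e2 : (⟨a + b, add_mem a2 b2⟩ : D2.Q) = ⟨a, a2⟩ + ⟨b, b2⟩ := rfl
      rw [e1, e2, map_add, map_add, ea, eb]
  have key : ∀ z (hz1 : z ∈ D1.Q) (hz2 : z ∈ D2.Q), D1.Vinv ⟨z, hz1⟩ = D2.Vinv ⟨z, hz2⟩ := by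
    intro z hz1 hz2
    obtain ⟨_, _, e⟩ := keyE z (mem_closure f D D1 h1 z hz1)
    exact e
  obtain ⟨Q1, F1, V1, a1, a2, a3, a4, a5, a6⟩ := D1
  obtain ⟨Q2, F2, V2, b1, b2, b3, b4, b5, b6⟩ := D2
  have hQ' : Q1 = Q2 := hQ
  subst hQ'
  have hF' : F1 = F2 := hF
  subst hF'
  have hV : V1 = V2 := by
    apply LinearMap.ext
    rintro ⟨z, hz⟩
    exact key z hz hz
  subst hV
  rfl

theorem main (D : W4c1extbt610.Display3n p S P) :
    ∃! DR : W4c1extbt610.Display3n p R
        (BC (WittVector.map f : WittVector p S →+* WittVector p R) P),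
      IsDispBaseChange f D DR := by
  obtain ⟨E⟩ := nonempty_data D
  exact ⟨mkDR f E, isBC f E, fun DR' h => unique f D DR' (mkDR f E) h (isBC f E)⟩

end Main

end Groth.Agent.Helper8.DispBC2
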