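import Mathlib
import Groth.Prelude.Def_Disp2

set_option autoImplicit false
set_option linter.style.haveILetI false
set_option linter.unusedSectionVars false
set_option linter.unusedVariables false
set_option linter.unusedTactic false
set_option linter.unreachableTactic false

universe u v

noncomputable section

namespace Groth.Agent.Helper8.DispEq

open Dieu TensorProduct

section Generic

variable {A B C : Type u} [CommRing A] [CommRing B] [CommRing C]
variable (g : A →+* B) (h₁ h₂ : B →+* C) (e : h₁.comp g = h₂.comp g)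
variable (M : Type v) [AddCommGroup M] [Module A M]

/-- `g` as an `A`-linear map `A → Res g`. -/
def gl : A →ₗ[A] Res g where
  toFun a := Res.mk g (g a)
  map_add' a b := by rw [map_add]; rfl
  map_smul' a b := by rw [smul_eq_mul, map_mul, RingHom.id_apply, Res.smul_mk]

/-- `h₁ - h₂` as an `A`-linear map. -/
def del : Res g →ₗ[A] Res (h₂.comp g) where
  toFun t := Res.mk (h₂.comp g) (h₁ t.val - h₂ t.val)
  map_add' s t := by
    apply Res.ext
    simp only [Res.val_add, Res.val_mk, map_add]; ring
  map_smul' a t := by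
    apply Res.ext
    have ha : h₁ (g a) = h₂ (g a) := RingHom.congr_fun e a
    simp only [Res.val_smul, Res.val_mk, map_mul, RingHom.id_apply, RingHom.comp_apply, ha]
    ring

lemma exact_gl_del (Hex : ∀ b : B, h₁ b = h₂ b → ∃ a, g a = b) :
    Function.Exact (gl g) (del g h₁ h₂ e) := by
  intro t
  constructor
  · intro ht
    have h0 : h₁ t.val - h₂ t.val = 0 := congrArg Res.val ht
    obtain ⟨a, ha⟩ := Hex _ (sub_eq_zero.mp h0)
    exact ⟨a, Res.ext _ ha⟩
  · rintro ⟨a, rfl⟩
    apply Res.ext
    show h₁ (g a) - h₂ (g a) = 0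
    rw [show h₁ (g a) = h₂ (g a) from RingHom.congr_fun e a, sub_self]

lemma range_rT_gl : Set.range ((gl g).rTensor M) = Set.range (BC.ι g M) := by
  have h1 : ∀ m : M, (gl g).rTensor M ((1 : A) ⊗ₜ[A] m) = BC.ι g M m := by
    intro m
    rw [LinearMap.rTensor_tmul]
    show (Res.mk g (g 1)) ⊗ₜ[A] m = BC.tmul g 1 m
    rw [map_one]; rfl
  ext z
  constructor
  · rintro ⟨y, rfl⟩
    obtain ⟨m, rfl⟩ := (TensorProduct.lid A M).symm.surjective y
    exact ⟨m, by rw [TensorProduct.lid_symm_apply, h1]⟩
  · rintro ⟨m, rfl⟩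
    exact ⟨(1 : A) ⊗ₜ[A] m, h1 m⟩

/-- `del ⊗ M` as an additive map between the `BC` types. -/
def delT : BC g M →+ BC (h₂.comp g) M := ((del g h₁ h₂ e).rTensor M).toAddMonoidHom

lemma delT_apply (z : BC g M) : delT g h₁ h₂ e M z = (del g h₁ h₂ e).rTensor M z := rfl

lemma rT_del (z : BC g M) :
    delT g h₁ h₂ e M z = BC.castHom e (BC.push g h₁ z) - BC.push g h₂ z := by
  induction z using BC.induction_on g with
  | zero => simp only [map_zero, sub_zero]
  | tmul b m =>
    rw [BC.push_tmul, BC.castHom_tmul, BC.push_tmul]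
    show (del g h₁ h₂ e (Res.mk g b)) ⊗ₜ[A] m =
      (Res.mk (h₂.comp g) (h₁ b)) ⊗ₜ[A] m - (Res.mk (h₂.comp g) (h₂ b)) ⊗ₜ[A] m
    rw [← TensorProduct.sub_tmul]
    rfl
  | add z₁ z₂ h₁' h₂' =>
    simp only [map_add, h₁', h₂']; abel

theorem main_generic [Module.Flat A M] (hg : Function.Injective g)
    (Hex : ∀ b : B, h₁ b = h₂ b → ∃ a, g a = b) :
    Function.Injective (BC.ι g M) ∧
      ∀ z : BC g M, (BC.castHom e (BC.push g h₁ z) = BC.push g h₂ z ↔
        z ∈ Set.range (BC.ι g M)) := by
  constructor
  · have hinj : Function.Injective ((gl g).rTensor M) :=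
      Module.Flat.rTensor_preserves_injective_linearMap (gl g)
        (fun a b hab => hg (congrArg Res.val hab))
    intro m₁ m₂ hm
    have h1 : ∀ m : M, BC.ι g M m = (gl g).rTensor M ((1 : A) ⊗ₜ[A] m) := by
      intro m
      rw [LinearMap.rTensor_tmul]
      show BC.tmul g 1 m = (Res.mk g (g 1)) ⊗ₜ[A] m
      rw [map_one]; rfl
    rw [h1, h1] at hm
    have h2 := congrArg (TensorProduct.lid A M) (hinj hm)
    simpa using h2
  · intro z
    have hex := Module.Flat.rTensor_exact M (exact_gl_del g h₁ h₂ e Hex)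
    have hr := Set.ext_iff.mp (range_rT_gl g M) z
    have hd := rT_del g h₁ h₂ e M z
    constructor
    · intro h
      refine hr.mp ((hex z).mp ?_)
      have h0 : delT g h₁ h₂ e M z = 0 := hd.trans (sub_eq_zero.mpr h)
      exact h0
    · intro h
      have h0 : delT g h₁ h₂ e M z = 0 := (hex z).mpr (hr.mpr h)
      exact sub_eq_zero.mp (hd.symm.trans h0)

end Generic

section Main

variable {p : ℕ} [Fact p.Prime] {S R : Type u} [CommRing S] [CommRing R] [Algebra S R]
  [Module.FaithfullyFlat S R]

lemma Hex_witt (b : WittVector p R)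
    (hb : (WittVector.map (Algebra.TensorProduct.includeLeftRingHom : R →+* TensorProduct S R R)) b =
      (WittVector.map ((Algebra.TensorProduct.includeRight : R →ₐ[S] TensorProduct S R R) :
        R →+* TensorProduct S R R)) b) :
    ∃ a : WittVector p S, WittVector.map (algebraMap S R) a = b := by
  have heff := Algebra.IsEffective.of_faithfullyFlat (R := S) (S := R)
  have h1 : ∀ n, ∃ s : S, algebraMap S R s = b.coeff n := by
    intro n
    have h2 := congrArg (fun x => WittVector.coeff x n) hb
    simp only [WittVector.map_coeff] at h2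
    have h3 : Algebra.TensorProduct.includeLeftSubRight S R (b.coeff n) = 0 := by
      rw [Algebra.TensorProduct.includeLeftSubRight_apply, sub_eq_zero]
      exact h2
    obtain ⟨s, hs⟩ := (heff (b.coeff n)).mp h3
    exact ⟨s, hs⟩
  choose s hs using h1
  refine ⟨WittVector.mk p s, ?_⟩
  ext n
  rw [WittVector.map_coeff, WittVector.coeff_mk, hs]

end Main

end Groth.Agent.Helper8.DispEq
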