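import Mathlib
import Groth.Prelude.Def_Disp2
import Groth.Agent.Lib.Helper8.DispEq
import Groth.Agent.S16542

set_option autoImplicit false
set_option linter.style.haveILetI false
set_option linter.unusedSectionVars false
set_option linter.unusedVariables false
set_option linter.unusedTactic false
set_option linter.unreachableTactic false
set_option linter.style.longLine false

universe u v

noncomputable section

namespace Groth.Agent.Helper8.DispDesc

open Dieu TensorProduct Groth.Agent.Helper8.DispEq

section Generic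

variable {A B C : Type u} [CommRing A] [CommRing B] [CommRing C]
variable {P : Type v} [AddCommGroup P] [Module A P]

lemma cast_cast {g₁ g₂ g₃ : A →+* B} (h : g₁ = g₂) (h' : g₂ = g₃) (z : BC g₁ P) :
    BC.castHom h' (BC.castHom h z) = BC.castHom (h.trans h') z := by
  subst h; subst h'; rfl

lemma cast_self {g₁ : A →+* B} (h : g₁ = g₁) (z : BC g₁ P) : BC.castHom h z = z := rfl

variable (g : A →+* B) (h₁ h₂ : B →+* C) (k : A →+* C) (e₁ : h₁.comp g = k) (e₂ : h₂.comp g = k)
variable (P) (P' : Type v) [AddCommGroup P'] [Module A P']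

lemma exists_desc [Module.Flat A P'] (hg : Function.Injective g)
    (Hex : ∀ b : B, h₁ b = h₂ b → ∃ a, g a = b)
    (χ : BC g P →ₗ[B] BC g P')
    (hdesc : ∀ (z₁ : BC h₁ (BC g P)) (z₂ : BC h₂ (BC g P)),
      (BC.castHom (P := P) e₁).comp (BC.lift h₁ (BC.push g h₁)) z₁ =
        (BC.castHom (P := P) e₂).comp (BC.lift h₂ (BC.push g h₂)) z₂ →
      (BC.castHom (P := P') e₁).comp (BC.lift h₁ (BC.push g h₁)) (BC.map h₁ χ z₁) =
        (BC.castHom (P := P') e₂).comp (BC.lift h₂ (BC.push g h₂)) (BC.map h₂ χ z₂)) :
    ∃ ψ : P →ₗ[A] P', BC.map g ψ = χ ∧ ∀ x, BC.ι g P' (ψ x) = χ (BC.ι g P x) := by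
  have e : h₁.comp g = h₂.comp g := e₁.trans e₂.symm
  obtain ⟨hinj, heq⟩ := main_generic g h₁ h₂ e P' hg Hex
  have key : ∀ x : P, ∃ x' : P', BC.ι g P' x' = χ (BC.ι g P x) := by
    intro x
    have hz := hdesc (BC.tmul h₁ 1 (BC.tmul g 1 x)) (BC.tmul h₂ 1 (BC.tmul g 1 x)) (by
      simp only [LinearMap.comp_apply, BC.lift_tmul, one_smul, BC.push_tmul, map_one,
        BC.castHom_tmul])
    simp only [LinearMap.comp_apply, BC.map_tmul, BC.lift_tmul, one_smul] at hz
    have h3 := congrArg (BC.castHom e₂.symm) hz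
    rw [cast_cast, cast_cast, cast_self] at h3
    obtain ⟨x', hx'⟩ := (heq _).mp h3
    exact ⟨x', hx'⟩
  choose ψf hψf using key
  have hadd : ∀ x y, ψf (x + y) = ψf x + ψf y := by
    intro x y; apply hinj; rw [hψf, map_add, map_add, map_add, hψf, hψf]
  have hsmul : ∀ (a : A) x, ψf (a • x) = a • ψf x := by
    intro a x; apply hinj; rw [hψf, map_smulₛₗ, map_smul, map_smulₛₗ, hψf]
  refine ⟨{ toFun := ψf, map_add' := hadd,
            map_smul' := fun a x => by rw [RingHom.id_apply]; exact hsmul a x }, ?_, hψf⟩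
  apply BC.ext
  intro x
  rw [BC.map_tmul]
  exact hψf x

end Generic

theorem main (p : ℕ) [Fact p.Prime]
    (S R : Type u) [CommRing S] [CommRing R] [Algebra S R] [Module.FaithfullyFlat S R] (hp : IsNilpotent (p : S))
    (e₁ : (WittVector.map (Algebra.TensorProduct.includeLeftRingHom : R →+* TensorProduct S R R) : WittVector p R →+* WittVector p (TensorProduct S R R)).comp (WittVector.map (algebraMap S R) : WittVector p S →+* WittVector p R) = (WittVector.map (algebraMap S (TensorProduct S R R)) : WittVector p S →+* WittVector p (TensorProduct S R R)))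
    (e₂ : (WittVector.map ((Algebra.TensorProduct.includeRight : R →ₐ[S] TensorProduct S R R) : R →+* TensorProduct S R R) : WittVector p R →+* WittVector p (TensorProduct S R R)).comp (WittVector.map (algebraMap S R) : WittVector p S →+* WittVector p R) = (WittVector.map (algebraMap S (TensorProduct S R R)) : WittVector p S →+* WittVector p (TensorProduct S R R)))
    (P P' : Type v) [AddCommGroup P] [Module (WittVector p S) P] [AddCommGroup P'] [Module (WittVector p S) P']
    (D : W4c1extbt610.Display3n p S P) (D' : W4c1extbt610.Display3n p S P')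
    (hD : Dieu.IsDisplay D) (hD' : Dieu.IsDisplay D')
    (DR : W4c1extbt610.Display3n p R (Dieu.BC (WittVector.map (algebraMap S R) : WittVector p S →+* WittVector p R) P)) (hDR : Dieu.IsDispBaseChange (algebraMap S R) D DR)
    (DR' : W4c1extbt610.Display3n p R (Dieu.BC (WittVector.map (algebraMap S R) : WittVector p S →+* WittVector p R) P')) (hDR' : Dieu.IsDispBaseChange (algebraMap S R) D' DR')
    (χ : Dieu.BC (WittVector.map (algebraMap S R) : WittVector p S →+* WittVector p R) P →ₗ[WittVector p R] Dieu.BC (WittVector.map (algebraMap S R) : WittVector p S →+* WittVector p R) P') (hχ : W4c1extbt610.IsHom DR DR' χ)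
    (hdesc : ∀ (z₁ : Dieu.BC (WittVector.map (Algebra.TensorProduct.includeLeftRingHom : R →+* TensorProduct S R R) : WittVector p R →+* WittVector p (TensorProduct S R R)) (Dieu.BC (WittVector.map (algebraMap S R) : WittVector p S →+* WittVector p R) P)) (z₂ : Dieu.BC (WittVector.map ((Algebra.TensorProduct.includeRight : R →ₐ[S] TensorProduct S R R) : R →+* TensorProduct S R R) : WittVector p R →+* WittVector p (TensorProduct S R R)) (Dieu.BC (WittVector.map (algebraMap S R) : WittVector p S →+* WittVector p R) P)),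
      (Dieu.BC.castHom (P := P) e₁).comp (Dieu.BC.lift (WittVector.map (Algebra.TensorProduct.includeLeftRingHom : R →+* TensorProduct S R R) : WittVector p R →+* WittVector p (TensorProduct S R R)) (Dieu.BC.push (WittVector.map (algebraMap S R) : WittVector p S →+* WittVector p R) (WittVector.map (Algebra.TensorProduct.includeLeftRingHom : R →+* TensorProduct S R R) : WittVector p R →+* WittVector p (TensorProduct S R R)))) z₁ = (Dieu.BC.castHom (P := P) e₂).comp (Dieu.BC.lift (WittVector.map ((Algebra.TensorProduct.includeRight : R →ₐ[S] TensorProduct S R R) : R →+* TensorProduct S R R) : WittVector p R →+* WittVector p (TensorProduct S R R)) (Dieu.BC.push (WittVector.map (algebraMap S R) : WittVector p S →+* WittVector p R) (WittVector.map ((Algebra.TensorProduct.includeRight : R →ₐ[S] TensorProduct S R R) : R →+* TensorProduct S R R) : WittVector p R →+* WittVector p (TensorProduct S R R)))) z₂ →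
        (Dieu.BC.castHom (P := P') e₁).comp (Dieu.BC.lift (WittVector.map (Algebra.TensorProduct.includeLeftRingHom : R →+* TensorProduct S R R) : WittVector p R →+* WittVector p (TensorProduct S R R)) (Dieu.BC.push (WittVector.map (algebraMap S R) : WittVector p S →+* WittVector p R) (WittVector.map (Algebra.TensorProduct.includeLeftRingHom : R →+* TensorProduct S R R) : WittVector p R →+* WittVector p (TensorProduct S R R)))) (Dieu.BC.map (WittVector.map (Algebra.TensorProduct.includeLeftRingHom : R →+* TensorProduct S R R) : WittVector p R →+* WittVector p (TensorProduct S R R)) χ z₁) =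
          (Dieu.BC.castHom (P := P') e₂).comp (Dieu.BC.lift (WittVector.map ((Algebra.TensorProduct.includeRight : R →ₐ[S] TensorProduct S R R) : R →+* TensorProduct S R R) : WittVector p R →+* WittVector p (TensorProduct S R R)) (Dieu.BC.push (WittVector.map (algebraMap S R) : WittVector p S →+* WittVector p R) (WittVector.map ((Algebra.TensorProduct.includeRight : R →ₐ[S] TensorProduct S R R) : R →+* TensorProduct S R R) : WittVector p R →+* WittVector p (TensorProduct S R R)))) (Dieu.BC.map (WittVector.map ((Algebra.TensorProduct.includeRight : R →ₐ[S] TensorProduct S R R) : R →+* TensorProduct S R R) : WittVector p R →+* WittVector p (TensorProduct S R R)) χ z₂)) :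
    ∃! ψ : P →ₗ[WittVector p S] P', W4c1extbt610.IsHom D D' ψ ∧ Dieu.BC.map (WittVector.map (algebraMap S R) : WittVector p S →+* WittVector p R) ψ = χ := by
  haveI hproj : Module.Projective (WittVector p S) P' := D'.projective
  haveI hfl : Module.Flat (WittVector p S) P' := Module.Flat.of_projective
  have hginj : Function.Injective (WittVector.map (algebraMap S R) : WittVector p S →+* WittVector p R) :=
    WittVector.map_injective _ (FaithfulSMul.algebraMap_injective S R)
  have hιinj := (main_generic (WittVector.map (algebraMap S R) : WittVector p S →+* WittVector p R)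
    (WittVector.map (Algebra.TensorProduct.includeLeftRingHom : R →+* TensorProduct S R R))
    (WittVector.map ((Algebra.TensorProduct.includeRight : R →ₐ[S] TensorProduct S R R) : R →+* TensorProduct S R R))
    (e₁.trans e₂.symm) P' hginj (fun b hb => Hex_witt b hb)).1
  obtain ⟨ψ, hψχ, hψι⟩ := exists_desc P _ _ _ _ e₁ e₂ P' hginj (fun b hb => Hex_witt b hb) χ hdesc
  have hQ : ∀ x : P, x ∈ D.Q ↔ BC.ι _ P x ∈ DR.Q :=
    fun x => Groth.Agent.S16542.result p S R hp P D hD DR hDR x
  have hQ' : ∀ x : P', x ∈ D'.Q ↔ BC.ι _ P' x ∈ DR'.Q :=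
    fun x => Groth.Agent.S16542.result p S R hp P' D' hD' DR' hDR' x
  have mapsTo : ∀ q : P, q ∈ D.Q → ψ q ∈ D'.Q := by
    intro q hq
    rw [hQ', hψι]
    exact hχ.mapsTo _ ((hQ q).mp hq)
  refine ⟨ψ, ⟨⟨mapsTo, ?_, ?_⟩, hψχ⟩, ?_⟩
  · intro x
    apply hιinj
    have hF1 : BC.ι _ P (D.F x) = DR.F (BC.ι _ P x) := by
      rw [BC.ι_apply, BC.ι_apply, hDR.F_tmul, map_one]
    have hF2 : BC.ι _ P' (D'.F (ψ x)) = DR'.F (BC.ι _ P' (ψ x)) := by
      rw [BC.ι_apply, BC.ι_apply, hDR'.F_tmul, map_one]
    rw [hψι, hF1, hχ.comm_F, ← hψι, hF2]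
  · intro q
    apply hιinj
    have hq1 : BC.ι _ P (q : P) ∈ DR.Q := (hQ q).mp q.2
    have hV1 : BC.ι _ P (D.Vinv q) = DR.Vinv ⟨BC.ι _ P (q : P), hq1⟩ := by
      have := hDR.Vinv_tmul 1 q hq1
      rw [map_one] at this
      exact this.symm
    have hq2 : BC.ι _ P' (ψ q) ∈ DR'.Q := (hQ' _).mp (mapsTo q q.2)
    have hV2 : BC.ι _ P' (D'.Vinv ⟨ψ q, mapsTo q q.2⟩) = DR'.Vinv ⟨BC.ι _ P' (ψ q), hq2⟩ := by
      have := hDR'.Vinv_tmul 1 ⟨ψ q, mapsTo q q.2⟩ hq2
      rw [map_one] at this
      exact this.symm
    rw [hψι, hV1, hχ.comm_Vinv ⟨_, hq1⟩, hV2]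
    exact congrArg DR'.Vinv (Subtype.ext (hψι q).symm)
  · rintro ψ₂ ⟨-, h2⟩
    apply LinearMap.ext
    intro x
    apply hιinj
    have := LinearMap.congr_fun (h2.trans hψχ.symm) (BC.tmul _ 1 x)
    rw [BC.map_tmul, BC.map_tmul] at this
    exact this

end Groth.Agent.Helper8.DispDesc
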