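import Mathlib

set_option linter.style.haveILetI false
set_option linter.unusedSectionVars false
set_option linter.unusedVariables false

namespace Groth.Agent.Helper8.WittSolve

universe u

variable (p : ℕ) [hp : Fact p.Prime] (R : Type u) [CommRing R]

theorem ghost_eq (n : ℕ) (x : WittVector p R) :
    WittVector.ghostComponent n x =
      ∑ i ∈ Finset.range (n + 1), (p : R) ^ i * x.coeff i ^ p ^ (n - i) := by
  rw [WittVector.ghostComponent_apply, wittPolynomial_eq_sum_C_mul_X_pow, map_sum]
  refine Finset.sum_congr rfl fun i _ => ?_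
  simp

variable {p R}

theorem pow_cancel (hR : ∀ y : R, (p : R) * y = 0 → y = 0) (a : ℕ) (y : R)
    (h : (p : R) ^ a * y = 0) : y = 0 := by
  induction a with
  | zero => simpa using h
  | succ a ih =>
    apply ih
    apply hR
    rw [← mul_assoc, ← pow_succ']
    exact h

theorem dvd_of_pow_mul_dvd (hR : ∀ y : R, (p : R) * y = 0 → y = 0) (a b : ℕ) (x : R)
    (h : (p : R) ^ (a + b) ∣ (p : R) ^ a * x) : (p : R) ^ b ∣ x := by
  obtain ⟨r, hr⟩ := h
  refine ⟨r, ?_⟩
  have h0 : (p : R) ^ a * (x - (p : R) ^ b * r) = 0 := by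
    rw [mul_sub, hr, pow_add]; ring
  exact sub_eq_zero.1 (pow_cancel hR a _ h0)

theorem lemmaA (hR : ∀ y : R, (p : R) * y = 0 → y = 0) (y : WittVector p R) (t u m : ℕ)
    (h : ∀ i < m, (p : R) ^ (t + u + m) ∣ ((p : WittVector p R) ^ u * y).coeff i) :
    ∀ i < m, (p : R) ^ (t + m - i) ∣ y.coeff i := by
  have hp0 : p ≠ 0 := hp.out.ne_zero
  intro i
  induction i using Nat.strong_induction_on with
  | _ i ih =>
    intro hi
    have hg1 : (p : R) ^ (t + u + m) ∣
        WittVector.ghostComponent i ((p : WittVector p R) ^ u * y) := by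
      rw [ghost_eq]
      refine Finset.dvd_sum fun j hj => ?_
      have hj' : j < m := lt_of_le_of_lt (Nat.lt_succ_iff.1 (Finset.mem_range.1 hj)) hi
      exact Dvd.dvd.mul_left (dvd_pow (h j hj') (pow_ne_zero _ hp0)) _
    rw [map_mul, map_pow, map_natCast] at hg1
    have hg2 : (p : R) ^ (t + m) ∣ WittVector.ghostComponent i y := by
      apply dvd_of_pow_mul_dvd hR u (t + m)
      have e : u + (t + m) = t + u + m := by omega
      rw [e]; exact hg1
    rw [ghost_eq, Finset.sum_range_succ, Nat.sub_self, pow_zero, pow_one] at hg2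
    have hsum : (p : R) ^ (t + m) ∣
        ∑ j ∈ Finset.range i, (p : R) ^ j * y.coeff j ^ p ^ (i - j) := by
      refine Finset.dvd_sum fun j hj => ?_
      have hji : j < i := Finset.mem_range.1 hj
      have h1 := ih j hji (hji.trans hi)
      have h2 : (p : R) ^ (t + m - j) ∣ y.coeff j ^ p ^ (i - j) :=
        dvd_pow h1 (pow_ne_zero _ hp0)
      have e : (p : R) ^ (t + m) = (p : R) ^ j * (p : R) ^ (t + m - j) := by
        rw [← pow_add]; congr 1; omega
      rw [e]; exact mul_dvd_mul_left _ h2
    have h3 : (p : R) ^ (t + m) ∣ (p : R) ^ i * y.coeff i := (dvd_add_right hsum).1 hg2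
    apply dvd_of_pow_mul_dvd hR i (t + m - i)
    have e : i + (t + m - i) = t + m := by omega
    rw [e]; exact h3

variable (p R) in
/-- Reduce mod `p^s` and truncate to length `m`. -/
noncomputable def rho (s m : ℕ) :
    WittVector p R →+* TruncatedWittVector p m (R ⧸ Ideal.span {(p : R) ^ s}) :=
  (WittVector.truncate m).comp (WittVector.map (Ideal.Quotient.mk (Ideal.span {(p : R) ^ s})))

theorem rho_eq_iff (s m : ℕ) (y y' : WittVector p R) :
    rho p R s m y = rho p R s m y' ↔ ∀ i < m, (p : R) ^ s ∣ y.coeff i - y'.coeff i := by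
  have key : ∀ i : ℕ,
      ((WittVector.map (Ideal.Quotient.mk (Ideal.span {(p : R) ^ s})) y).coeff i =
        (WittVector.map (Ideal.Quotient.mk (Ideal.span {(p : R) ^ s})) y').coeff i) ↔
      (p : R) ^ s ∣ y.coeff i - y'.coeff i := by
    intro i
    rw [WittVector.map_coeff, WittVector.map_coeff, Ideal.Quotient.eq, Ideal.mem_span_singleton]
  unfold rho
  rw [RingHom.comp_apply, RingHom.comp_apply, TruncatedWittVector.ext_iff]
  constructor
  · intro h i hi
    have := h ⟨i, hi⟩
    rw [WittVector.coeff_truncate, WittVector.coeff_truncate] at this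
    exact (key i).1 this
  · intro h i
    rw [WittVector.coeff_truncate, WittVector.coeff_truncate]
    exact (key i).2 (h i i.2)

theorem rho_eq_zero_iff (s m : ℕ) (y : WittVector p R) :
    rho p R s m y = 0 ↔ ∀ i < m, (p : R) ^ s ∣ y.coeff i := by
  rw [← map_zero (rho p R s m), rho_eq_iff]
  simp only [WittVector.zero_coeff, sub_zero]

theorem trunc_eq_iff (r : ℕ) (y y' : WittVector p R) :
    WittVector.truncate r y = WittVector.truncate r y' ↔ ∀ i < r, y.coeff i = y'.coeff i := by
  rw [TruncatedWittVector.ext_iff]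
  constructor
  · intro h i hi
    have := h ⟨i, hi⟩
    rwa [WittVector.coeff_truncate, WittVector.coeff_truncate] at this
  · intro h i
    rw [WittVector.coeff_truncate, WittVector.coeff_truncate]
    exact h i i.2

theorem trunc_eq_zero_iff (r : ℕ) (y : WittVector p R) :
    WittVector.truncate r y = 0 ↔ ∀ i < r, y.coeff i = 0 := by
  rw [← map_zero (WittVector.truncate (p := p) (R := R) r), trunc_eq_iff]
  simp only [WittVector.zero_coeff]

section complete

variable [hc : IsAdicComplete (Ideal.span {(p : R)}) R]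

theorem exists_lim (f : ℕ → R) (hf : ∀ t t', t ≤ t' → (p : R) ^ t ∣ f t' - f t) :
    ∃ L : R, ∀ t, (p : R) ^ t ∣ L - f t := by
  obtain ⟨L, hL⟩ := IsPrecomplete.prec hc.toIsPrecomplete (f := f) (by
    intro a b hab
    rw [SModEq.sub_mem, smul_eq_mul, Ideal.mul_top, Ideal.span_singleton_pow,
      Ideal.mem_span_singleton, ← neg_sub]
    exact (dvd_neg.2 (hf a b hab)))
  refine ⟨L, fun t => ?_⟩
  have := hL t
  rw [SModEq.sub_mem, smul_eq_mul, Ideal.mul_top, Ideal.span_singleton_pow,
    Ideal.mem_span_singleton] at this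
  rw [← neg_sub]
  exact dvd_neg.2 this

theorem eq_zero_of_forall_dvd (r : R) (h : ∀ t, (p : R) ^ t ∣ r) : r = 0 := by
  refine IsHausdorff.haus hc.toIsHausdorff r fun t => ?_
  rw [SModEq.zero, smul_eq_mul, Ideal.mul_top, Ideal.span_singleton_pow, Ideal.mem_span_singleton]
  exact h t

theorem main861 (hR : ∀ y : R, (p : R) * y = 0 → y = 0) (a : WittVector p R) (m u : ℕ)
    (h : ∀ s : ℕ, ∃ z : WittVector p R, ∀ i < m,
      (p : R) ^ s ∣ ((p : WittVector p R) ^ u * z - a).coeff i) :
    ∃ x : WittVector p R, ∀ i < m, ((p : WittVector p R) ^ u * x - a).coeff i = 0 := by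
  choose z hz using h
  have hQ' : ∀ s s', s ≤ s' → rho p R s m ((p : WittVector p R) ^ u * z s' - a) = 0 := by
    intro s s' hss'
    rw [rho_eq_zero_iff]
    intro i hi
    exact (pow_dvd_pow _ hss').trans (hz s' i hi)
  have hcauchy : ∀ t t', t ≤ t' → ∀ i < m,
      (p : R) ^ t ∣ (z (t' + u + m)).coeff i - (z (t + u + m)).coeff i := by
    intro t t' htt'
    rw [← rho_eq_iff, ← sub_eq_zero, ← map_sub, rho_eq_zero_iff]
    intro i hi
    have h1 : ∀ j < m, (p : R) ^ (t + u + m) ∣
        ((p : WittVector p R) ^ u * (z (t' + u + m) - z (t + u + m))).coeff j := by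
      rw [← rho_eq_zero_iff]
      have e : (p : WittVector p R) ^ u * (z (t' + u + m) - z (t + u + m)) =
          ((p : WittVector p R) ^ u * z (t' + u + m) - a) -
            ((p : WittVector p R) ^ u * z (t + u + m) - a) := by ring
      rw [e, map_sub, hQ' (t + u + m) (t' + u + m) (by omega),
        hQ' (t + u + m) (t + u + m) le_rfl, sub_zero]
    exact (pow_dvd_pow _ (by omega)).trans (lemmaA hR _ t u m h1 i hi)
  have hL : ∀ i : ℕ, ∃ L : R, i < m → ∀ t, (p : R) ^ t ∣ L - (z (t + u + m)).coeff i := by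
    intro i
    by_cases hi : i < m
    · obtain ⟨L, hL⟩ := exists_lim (p := p) (fun t => (z (t + u + m)).coeff i)
        (fun t t' htt' => hcauchy t t' htt' i hi)
      exact ⟨L, fun _ => hL⟩
    · exact ⟨0, fun h => absurd h hi⟩
  choose L hL using hL
  refine ⟨WittVector.mk p L, ?_⟩
  have hx : ∀ t, rho p R t m (WittVector.mk p L) = rho p R t m (z (t + u + m)) := by
    intro t
    rw [rho_eq_iff]
    intro i hi
    rw [WittVector.coeff_mk]
    exact hL i hi t
  have hfin : ∀ t, rho p R t m ((p : WittVector p R) ^ u * WittVector.mk p L - a) = 0 := by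
    intro t
    rw [map_sub, map_mul, hx t, ← map_mul, ← map_sub]
    exact hQ' t (t + u + m) (by omega)
  intro i hi
  refine eq_zero_of_forall_dvd (p := p) _ fun t => ?_
  exact (rho_eq_zero_iff t m _).1 (hfin t) i hi

theorem main862 (hR : ∀ y : R, (p : R) * y = 0 → y = 0) (u : ℕ) :
    (⨅ r : ℕ, ⨅ s : ℕ,
        Ideal.span {(p : WittVector p R) ^ u} ⊔
          RingHom.ker (WittVector.truncate (p := p) (R := R) r) ⊔
          RingHom.ker (WittVector.map (p := p)
            (Ideal.Quotient.mk (Ideal.span {(p : R) ^ s})))) =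
      Ideal.span {(p : WittVector p R) ^ u} := by
  apply le_antisymm
  · intro a ha
    have h1 : ∀ r s : ℕ, ∃ z : WittVector p R, ∀ i < r,
        (p : R) ^ s ∣ ((p : WittVector p R) ^ u * z - a).coeff i := by
      intro r s
      have ha' := (Ideal.mem_iInf.1 ((Ideal.mem_iInf.1 ha) r)) s
      obtain ⟨y, hy, w, hw, hyw⟩ := Submodule.mem_sup.1 ha'
      obtain ⟨b, hb, v, hv, hbv⟩ := Submodule.mem_sup.1 hy
      obtain ⟨z, hz⟩ := Ideal.mem_span_singleton'.1 hb
      refine ⟨z, ?_⟩
      rw [← rho_eq_zero_iff]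
      have e : (p : WittVector p R) ^ u * z - a = -(v + w) := by
        rw [← hyw, ← hbv, ← hz]; ring
      have hv' : rho p R s r v = 0 := by
        rw [rho_eq_zero_iff]
        intro i hi
        rw [(trunc_eq_zero_iff r v).1 (RingHom.mem_ker.1 hv) i hi]
        exact dvd_zero _
      have hw' : rho p R s r w = 0 := by
        unfold rho
        rw [RingHom.comp_apply, RingHom.mem_ker.1 hw, map_zero]
      rw [e, map_neg, map_add, hv', hw', add_zero, neg_zero]
    have h2 : ∀ r, ∃ x : WittVector p R, ∀ i < r,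
        ((p : WittVector p R) ^ u * x - a).coeff i = 0 :=
      fun r => main861 hR a r u (h1 r)
    choose x hx using h2
    have hcompat : ∀ r r', r ≤ r' → ∀ i < r, (x r').coeff i = (x r).coeff i := by
      intro r r' hrr'
      rw [← trunc_eq_iff, ← sub_eq_zero, ← map_sub, trunc_eq_zero_iff]
      intro i hi
      refine eq_zero_of_forall_dvd (p := p) _ fun t => ?_
      have h3 : ∀ j < r, (p : R) ^ (t + u + r) ∣
          ((p : WittVector p R) ^ u * (x r' - x r)).coeff j := by
        intro j hj
        have e : (p : WittVector p R) ^ u * (x r' - x r) =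
            ((p : WittVector p R) ^ u * x r' - a) - ((p : WittVector p R) ^ u * x r - a) := by
          ring
        have h4 : WittVector.truncate r ((p : WittVector p R) ^ u * (x r' - x r)) = 0 := by
          rw [e, map_sub,
            (trunc_eq_zero_iff r _).2 (fun j hj => hx r' j (lt_of_lt_of_le hj hrr')),
            (trunc_eq_zero_iff r _).2 (hx r), sub_zero]
        rw [(trunc_eq_zero_iff r _).1 h4 j hj]
        exact dvd_zero _
      exact (pow_dvd_pow _ (by omega)).trans (lemmaA hR _ t u r h3 i hi)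
    obtain ⟨X, hX⟩ : ∃ X : WittVector p R,
        X = WittVector.mk p (fun i => (x (i + 1)).coeff i) := ⟨_, rfl⟩
    have hXr : ∀ r, WittVector.truncate r X = WittVector.truncate r (x r) := by
      intro r
      rw [trunc_eq_iff]
      intro i hi
      rw [hX, WittVector.coeff_mk]
      exact (hcompat (i + 1) r (by omega) i (by omega)).symm
    have hzero : (p : WittVector p R) ^ u * X - a = 0 := by
      ext i
      rw [WittVector.zero_coeff]
      have h5 : WittVector.truncate (i + 1) ((p : WittVector p R) ^ u * X - a) = 0 := by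
        rw [map_sub, map_mul, hXr (i + 1), ← map_mul, ← map_sub, trunc_eq_zero_iff]
        exact hx (i + 1)
      exact (trunc_eq_zero_iff (i + 1) _).1 h5 i (by omega)
    rw [Ideal.mem_span_singleton]
    exact ⟨X, (sub_eq_zero.1 hzero).symm⟩
  · exact le_iInf fun r => le_iInf fun s => le_sup_of_le_left le_sup_left

end complete

end Groth.Agent.Helper8.WittSolve
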