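import Mathlib

/-!
Powers of the kernel of the zeroth component of the ring of Witt vectors (helper8).
-/

namespace Groth.Agent.Helper8

universe u

theorem verschiebung_mul_verschiebung (p : ℕ) [Fact p.Prime] (R : Type u) [CommRing R]
    (x y : WittVector p R) : WittVector.verschiebung x * WittVector.verschiebung y =
      (p : WittVector p R) * WittVector.verschiebung (x * y) := by
  rw [← WittVector.verschiebung_mul_frobenius, WittVector.frobenius_verschiebung, ← mul_assoc,
    mul_comm (x * y) (p : WittVector p R), ← nsmul_eq_mul, map_nsmul, nsmul_eq_mul]

theorem ker_constantCoeff_pow_succ_le (p : ℕ) [Fact p.Prime] (R : Type u) [CommRing R] (k : ℕ) :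
    RingHom.ker (WittVector.constantCoeff : WittVector p R →+* R) ^ (k + 1) ≤
      Ideal.span {(p : WittVector p R)} ^ k *
        RingHom.ker (WittVector.constantCoeff : WittVector p R →+* R) := by
  have hIV : ∀ x ∈ RingHom.ker (WittVector.constantCoeff : WittVector p R →+* R),
      ∃ y : WittVector p R, x = WittVector.verschiebung y := by
    intro x hx
    rw [RingHom.mem_ker, WittVector.constantCoeff_apply] at hx
    refine ⟨x.shift 1, ?_⟩
    have h1 := WittVector.eq_iterate_verschiebung (x := x) (n := 1)
      (by intro i hi; interval_cases i; exact hx)
    simpa using h1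
  have hVI : ∀ y : WittVector p R,
      WittVector.verschiebung y ∈ RingHom.ker (WittVector.constantCoeff : WittVector p R →+* R) := by
    intro y
    rw [RingHom.mem_ker, WittVector.constantCoeff_apply, WittVector.verschiebung_coeff_zero]
  have hI2 : RingHom.ker (WittVector.constantCoeff : WittVector p R →+* R) *
      RingHom.ker (WittVector.constantCoeff : WittVector p R →+* R) ≤
      Ideal.span {(p : WittVector p R)} *
        RingHom.ker (WittVector.constantCoeff : WittVector p R →+* R) := by
    rw [Ideal.mul_le]
    intro a ha b hb
    obtain ⟨x, rfl⟩ := hIV a ha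
    obtain ⟨y, rfl⟩ := hIV b hb
    rw [verschiebung_mul_verschiebung]
    exact Ideal.mul_mem_mul (Ideal.mem_span_singleton_self _) (hVI _)
  induction k with
  | zero => simp
  | succ k ih =>
    calc RingHom.ker (WittVector.constantCoeff : WittVector p R →+* R) ^ (k + 1 + 1)
        = RingHom.ker (WittVector.constantCoeff : WittVector p R →+* R) ^ (k + 1) *
            RingHom.ker (WittVector.constantCoeff : WittVector p R →+* R) := pow_succ _ _
      _ ≤ (Ideal.span {(p : WittVector p R)} ^ k *
            RingHom.ker (WittVector.constantCoeff : WittVector p R →+* R)) *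
            RingHom.ker (WittVector.constantCoeff : WittVector p R →+* R) := Ideal.mul_mono_left ih
      _ = Ideal.span {(p : WittVector p R)} ^ k *
            (RingHom.ker (WittVector.constantCoeff : WittVector p R →+* R) *
            RingHom.ker (WittVector.constantCoeff : WittVector p R →+* R)) := mul_assoc _ _ _
      _ ≤ Ideal.span {(p : WittVector p R)} ^ k * (Ideal.span {(p : WittVector p R)} *
            RingHom.ker (WittVector.constantCoeff : WittVector p R →+* R)) :=
          Ideal.mul_mono_right hI2
      _ = Ideal.span {(p : WittVector p R)} ^ (k + 1) *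
            RingHom.ker (WittVector.constantCoeff : WittVector p R →+* R) := by
          rw [← mul_assoc, ← pow_succ]

end Groth.Agent.Helper8
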