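import Mathlib
import Groth.Agent.Lib.Helper8.WittSolve
import Groth.Agent.Lib.Helper8.WittV

set_option linter.style.haveILetI false
set_option linter.unusedSectionVars false
set_option linter.unusedVariables false

namespace Groth.Agent.Helper8.WittComplete

open Groth.Agent.Helper8.WittSolve

universe u

variable {p : ℕ} [hp : Fact p.Prime] {R : Type u} [CommRing R]

theorem iter_V_nsmul (k N : ℕ) (s : WittVector p R) :
    (⇑(WittVector.verschiebung (p := p) (R := R)))^[k] (N • s) =
      N • (⇑(WittVector.verschiebung (p := p) (R := R)))^[k] s := by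
  induction k with
  | zero => rfl
  | succ k ih =>
    rw [Function.iterate_succ_apply', Function.iterate_succ_apply', ih, map_nsmul]

theorem nilp {S : Type u} [CommRing S] (n : ℕ) (hS : (p : S) ^ n = 0) (k : ℕ) :
    ∀ y : WittVector p S, ∀ i < k, (((p : WittVector p S)) ^ (n * k) * y).coeff i = 0 := by
  induction k with
  | zero => intro y i hi; omega
  | succ k ih =>
    intro y i hi
    obtain ⟨w, hw⟩ : ∃ w : WittVector p S, w = (p : WittVector p S) ^ (n * k) * y := ⟨_, rfl⟩
    have hw0 : ∀ i < k, w.coeff i = 0 := by rw [hw]; exact ih y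
    have e1 : (p : WittVector p S) ^ (n * (k + 1)) * y = (p : WittVector p S) ^ n * w := by
      rw [hw]; ring
    have e2 : w = (⇑(WittVector.verschiebung (p := p) (R := S)))^[k] (w.shift k) :=
      WittVector.eq_iterate_verschiebung hw0
    have e3 : (p : WittVector p S) ^ n * w =
        (⇑(WittVector.verschiebung (p := p) (R := S)))^[k]
          ((p : WittVector p S) ^ n * w.shift k) := by
      conv_lhs => rw [e2]
      rw [← Nat.cast_pow, ← nsmul_eq_mul, ← nsmul_eq_mul, iter_V_nsmul]
    rw [e1, e3]
    rcases Nat.lt_succ_iff_lt_or_eq.1 hi with h | h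
    · exact WittVector.iterate_verschiebung_coeff_eq_zero _ h
    · rw [h]
      have h4 := WittVector.iterate_verschiebung_coeff
        ((p : WittVector p S) ^ n * w.shift k) k 0
      rw [zero_add] at h4
      rw [h4, ← WittVector.constantCoeff_apply, map_mul, map_pow, map_natCast, hS, zero_mul]

theorem rho_p_pow (n : ℕ) : rho p R n n ((p : WittVector p R) ^ (n * n)) = 0 := by
  have hS : ((p : ℕ) : R ⧸ Ideal.span {(p : R) ^ n}) ^ n = 0 := by
    rw [← map_natCast (Ideal.Quotient.mk (Ideal.span {(p : R) ^ n})), ← map_pow,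
      Ideal.Quotient.eq_zero_iff_mem]
    exact Ideal.mem_span_singleton_self _
  unfold rho
  rw [RingHom.comp_apply, map_pow, map_natCast, trunc_eq_zero_iff]
  intro i hi
  have h1 := nilp (p := p) n hS n 1 i hi
  rwa [mul_one] at h1

theorem rho_mono {a b : ℕ} (hab : a ≤ b) (y : WittVector p R) (h : rho p R b b y = 0) :
    rho p R a a y = 0 := by
  rw [rho_eq_zero_iff] at h ⊢
  intro i hi
  exact (pow_dvd_pow _ hab).trans (h i (lt_of_lt_of_le hi hab))

theorem rho_eq_of_dvd (n : ℕ) (x x' : WittVector p R)
    (h : (p : WittVector p R) ^ (n * n) ∣ x - x') : rho p R n n x = rho p R n n x' := by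
  obtain ⟨c, hc⟩ := h
  rw [← sub_eq_zero, ← map_sub, hc, map_mul, rho_p_pow, zero_mul]

/-- `x` is a limit of the sequence `y` for the topology given by the kernels of `rho n n`. -/
def TL (y : ℕ → WittVector p R) (x : WittVector p R) : Prop :=
  ∀ n, ∃ K0, ∀ K, K0 ≤ K → rho p R n n x = rho p R n n (y K)

theorem TL_sub {y y' : ℕ → WittVector p R} {x x' : WittVector p R} (h : TL y x) (h' : TL y' x') :
    TL (fun K => y K - y' K) (x - x') := by
  intro n
  obtain ⟨K0, hK0⟩ := h n
  obtain ⟨K1, hK1⟩ := h' n
  refine ⟨max K0 K1, fun K hK => ?_⟩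
  rw [map_sub, map_sub, hK0 K (le_trans (le_max_left _ _) hK),
    hK1 K (le_trans (le_max_right _ _) hK)]

theorem TL_const_mul (c : WittVector p R) {y : ℕ → WittVector p R} {x : WittVector p R}
    (h : TL y x) : TL (fun K => c * y K) (c * x) := by
  intro n
  obtain ⟨K0, hK0⟩ := h n
  exact ⟨K0, fun K hK => by rw [map_mul, map_mul, hK0 K hK]⟩

theorem TL_const (c : WittVector p R) : TL (fun _ => c) c := fun n => ⟨0, fun K _ => rfl⟩

theorem TL_shift (k : ℕ) {y : ℕ → WittVector p R} {x : WittVector p R} (h : TL y x) :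
    TL (fun K => y (k + K)) x := by
  intro n
  obtain ⟨K0, hK0⟩ := h n
  exact ⟨K0, fun K hK => hK0 (k + K) (by omega)⟩

theorem cauchy_le (y : ℕ → WittVector p R)
    (hy : ∀ k, (p : WittVector p R) ^ k ∣ y (k + 1) - y k) :
    ∀ a b, a ≤ b → (p : WittVector p R) ^ a ∣ y b - y a := by
  intro a b hab
  induction b, hab using Nat.le_induction with
  | base => simp
  | succ b hab ih =>
    have h1 : (p : WittVector p R) ^ a ∣ y (b + 1) - y b := (pow_dvd_pow _ hab).trans (hy b)
    have h2 := dvd_add h1 ih
    rwa [sub_add_sub_cancel] at h2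

/-- partial sums of the series `∑ p^j c_j`. -/
noncomputable def psum (c : ℕ → WittVector p R) (K : ℕ) : WittVector p R :=
  ∑ j ∈ Finset.range K, (p : WittVector p R) ^ j * c j

theorem psum_succ (c : ℕ → WittVector p R) (K : ℕ) :
    psum c (K + 1) - psum c K = (p : WittVector p R) ^ K * c K := by
  unfold psum
  rw [Finset.sum_range_succ, add_sub_cancel_left]

theorem psum_add (c : ℕ → WittVector p R) (k K : ℕ) :
    psum c (k + K) - psum c k = (p : WittVector p R) ^ k * psum (fun j => c (k + j)) K := by
  unfold psum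
  rw [Finset.sum_range_add, add_sub_cancel_left, Finset.mul_sum]
  refine Finset.sum_congr rfl fun j _ => ?_
  rw [pow_add, mul_assoc]

theorem eq_psum (y c : ℕ → WittVector p R)
    (hc : ∀ j, y (j + 1) - y j = (p : WittVector p R) ^ j * c j) :
    ∀ K, y K = y 0 + psum c K := by
  intro K
  induction K with
  | zero => simp [psum]
  | succ K ih =>
    have h1 := hc K
    have h2 := psum_succ c K
    linear_combination h1 + ih - h2

theorem psum_mem (I : Ideal (WittVector p R)) (c : ℕ → WittVector p R) (h : ∀ j, c j ∈ I)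
    (K : ℕ) : psum c K ∈ I :=
  Ideal.sum_mem _ fun j _ => Ideal.mul_mem_left _ _ (h j)

section complete

variable [hc : IsAdicComplete (Ideal.span {(p : R)}) R]

theorem T_sep (x : WittVector p R) (h : ∀ n, rho p R n n x = 0) : x = 0 := by
  ext i
  rw [WittVector.zero_coeff]
  refine eq_zero_of_forall_dvd (p := p) _ fun t => ?_
  have h1 := (rho_eq_zero_iff (t + i + 1) (t + i + 1) x).1 (h (t + i + 1)) i (by omega)
  exact (pow_dvd_pow _ (by omega)).trans h1

theorem TL_unique {y : ℕ → WittVector p R} {x x' : WittVector p R} (h : TL y x) (h' : TL y x') :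
    x = x' := by
  rw [← sub_eq_zero]
  apply T_sep
  intro n
  obtain ⟨K0, hK0⟩ := h n
  obtain ⟨K1, hK1⟩ := h' n
  rw [map_sub, hK0 (max K0 K1) (le_max_left _ _), hK1 (max K0 K1) (le_max_right _ _), sub_self]

theorem T_complete (z : ℕ → WittVector p R)
    (hz : ∀ n, rho p R n n (z (n + 1)) = rho p R n n (z n)) :
    ∃ x, ∀ n, rho p R n n x = rho p R n n (z n) := by
  have hz' : ∀ a b, a ≤ b → rho p R a a (z b) = rho p R a a (z a) := by
    intro a b hab
    induction b, hab using Nat.le_induction with
    | base => rfl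
    | succ b hab ih =>
      rw [← ih, ← sub_eq_zero, ← map_sub]
      apply rho_mono hab
      rw [map_sub, sub_eq_zero]
      exact hz b
  have hcoef : ∀ a b, a ≤ b → ∀ i < a, (p : R) ^ a ∣ (z b).coeff i - (z a).coeff i := by
    intro a b hab
    rw [← rho_eq_iff]
    exact hz' a b hab
  have hL : ∀ i : ℕ, ∃ L : R, ∀ t, (p : R) ^ t ∣ L - (z (t + i + 1)).coeff i := by
    intro i
    refine exists_lim (p := p) (fun t => (z (t + i + 1)).coeff i) (fun t t' htt' => ?_)
    exact (pow_dvd_pow _ (by omega)).trans
      (hcoef (t + i + 1) (t' + i + 1) (by omega) i (by omega))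
  choose L hL using hL
  refine ⟨WittVector.mk p L, fun n => ?_⟩
  rw [rho_eq_iff]
  intro i hi
  rw [WittVector.coeff_mk]
  have h1 := hL i n
  have h2 := hcoef n (n + i + 1) (by omega) i hi
  have h3 := dvd_add h1 h2
  rwa [sub_add_sub_cancel] at h3

theorem exists_TL (y : ℕ → WittVector p R)
    (hy : ∀ k, (p : WittVector p R) ^ k ∣ y (k + 1) - y k) : ∃ x, TL y x := by
  have hle := cauchy_le y hy
  obtain ⟨x, hx⟩ := T_complete (fun n => y (n * n)) (fun n => by
    apply rho_eq_of_dvd
    exact hle (n * n) ((n + 1) * (n + 1)) (Nat.mul_le_mul (Nat.le_succ n) (Nat.le_succ n)))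
  refine ⟨x, fun n => ⟨n * n, fun K hK => ?_⟩⟩
  rw [hx n]
  exact (rho_eq_of_dvd n _ _ (hle (n * n) K hK)).symm

theorem exists_lim_psum (c : ℕ → WittVector p R) : ∃ σ, TL (psum c) σ :=
  exists_TL (psum c) (fun k => by rw [psum_succ]; exact Dvd.intro _ rfl)

theorem lim_psum_sub (c : ℕ → WittVector p R) (σ : WittVector p R) (hσ : TL (psum c) σ) (k : ℕ)
    (σk : WittVector p R) (hσk : TL (psum (fun j => c (k + j))) σk) :
    σ - psum c k = (p : WittVector p R) ^ k * σk := by
  have h1 : TL (fun K => psum c (k + K) - psum c k) (σ - psum c k) :=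
    TL_sub (TL_shift k hσ) (TL_const _)
  have h2 : TL (fun K => (p : WittVector p R) ^ k * psum (fun j => c (k + j)) K)
      ((p : WittVector p R) ^ k * σk) := TL_const_mul _ hσk
  have e : (fun K => psum c (k + K) - psum c k) =
      (fun K => (p : WittVector p R) ^ k * psum (fun j => c (k + j)) K) :=
    funext fun K => psum_add c k K
  rw [e] at h1
  exact TL_unique h1 h2

theorem padic_precomplete (f : ℕ → WittVector p R)
    (hf : ∀ k, (p : WittVector p R) ^ k ∣ f (k + 1) - f k) :
    ∃ x, ∀ k, (p : WittVector p R) ^ k ∣ x - f k := by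
  have hf' : ∀ k, ∃ c, f (k + 1) - f k = (p : WittVector p R) ^ k * c := fun k => hf k
  choose c hc' using hf'
  obtain ⟨σ, hσ⟩ := exists_lim_psum c
  refine ⟨f 0 + σ, fun k => ?_⟩
  obtain ⟨σk, hσk⟩ := exists_lim_psum (fun j => c (k + j))
  have h1 := lim_psum_sub c σ hσ k σk hσk
  have h2 := eq_psum f c hc' k
  exact ⟨σk, by rw [← h1, h2]; ring⟩

theorem padic_sep (x : WittVector p R) (h : ∀ n, (p : WittVector p R) ^ n ∣ x) : x = 0 := by
  apply T_sep
  intro n
  have h1 := rho_eq_of_dvd n x 0 (by rw [sub_zero]; exact h (n * n))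
  rw [h1, map_zero]

theorem isAdicComplete_p :
    IsAdicComplete (Ideal.span {(p : WittVector p R)}) (WittVector p R) := by
  have hH : IsHausdorff (Ideal.span {(p : WittVector p R)}) (WittVector p R) := by
    refine ⟨fun x hx => padic_sep x fun n => ?_⟩
    have h1 := hx n
    rwa [SModEq.zero, smul_eq_mul, Ideal.mul_top, Ideal.span_singleton_pow,
      Ideal.mem_span_singleton] at h1
  have hP : IsPrecomplete (Ideal.span {(p : WittVector p R)}) (WittVector p R) := by
    refine ⟨fun f hf => ?_⟩
    obtain ⟨x, hx⟩ := padic_precomplete f (fun k => by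
      have h1 := hf (Nat.le_succ k)
      rw [SModEq.sub_mem, smul_eq_mul, Ideal.mul_top, Ideal.span_singleton_pow,
        Ideal.mem_span_singleton, ← neg_sub, dvd_neg] at h1
      exact h1)
    refine ⟨x, fun n => ?_⟩
    rw [SModEq.sub_mem, smul_eq_mul, Ideal.mul_top, Ideal.span_singleton_pow,
      Ideal.mem_span_singleton, ← neg_sub, dvd_neg]
    exact hx n
  exact { toIsHausdorff := hH, toIsPrecomplete := hP }

theorem mem_J_iff (x : WittVector p R) :
    x ∈ RingHom.ker (WittVector.constantCoeff : WittVector p R →+* R) ↔ x.coeff 0 = 0 := by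
  rw [RingHom.mem_ker, WittVector.constantCoeff_apply]

theorem p_mul_J_le :
    Ideal.span {(p : WittVector p R)} *
        RingHom.ker (WittVector.constantCoeff : WittVector p R →+* R) ≤
      RingHom.ker (WittVector.constantCoeff : WittVector p R →+* R) *
        RingHom.ker (WittVector.constantCoeff : WittVector p R →+* R) := by
  rw [Ideal.mul_le]
  intro a ha b hb
  obtain ⟨a', rfl⟩ := Ideal.mem_span_singleton'.1 ha
  have hb0 := (mem_J_iff b).1 hb
  have hbV : b = WittVector.verschiebung (b.shift 1) := by
    have h1 := WittVector.eq_iterate_verschiebung (x := b) (n := 1)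
      (by intro i hi; interval_cases i; exact hb0)
    simpa using h1
  have e : a' * (p : WittVector p R) * b =
      a' * (WittVector.verschiebung (1 : WittVector p R) *
        WittVector.verschiebung (b.shift 1)) := by
    rw [Groth.Agent.Helper8.verschiebung_mul_verschiebung, one_mul, ← hbV]; ring
  rw [e]
  apply Ideal.mul_mem_left
  exact Ideal.mul_mem_mul ((mem_J_iff _).2 (WittVector.verschiebung_coeff_zero _))
    ((mem_J_iff _).2 (WittVector.verschiebung_coeff_zero _))

theorem pJ_pow_le (n : ℕ) :
    Ideal.span {(p : WittVector p R)} ^ n *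
        RingHom.ker (WittVector.constantCoeff : WittVector p R →+* R) ≤
      RingHom.ker (WittVector.constantCoeff : WittVector p R →+* R) ^ (n + 1) := by
  induction n with
  | zero => simp
  | succ n ih =>
    calc Ideal.span {(p : WittVector p R)} ^ (n + 1) *
          RingHom.ker (WittVector.constantCoeff : WittVector p R →+* R)
        = Ideal.span {(p : WittVector p R)} ^ n * (Ideal.span {(p : WittVector p R)} *
          RingHom.ker (WittVector.constantCoeff : WittVector p R →+* R)) := by
          rw [pow_succ, mul_assoc]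
      _ ≤ Ideal.span {(p : WittVector p R)} ^ n *
          (RingHom.ker (WittVector.constantCoeff : WittVector p R →+* R) *
          RingHom.ker (WittVector.constantCoeff : WittVector p R →+* R)) :=
          Ideal.mul_mono_right p_mul_J_le
      _ = (Ideal.span {(p : WittVector p R)} ^ n *
          RingHom.ker (WittVector.constantCoeff : WittVector p R →+* R)) *
          RingHom.ker (WittVector.constantCoeff : WittVector p R →+* R) :=
          (mul_assoc _ _ _).symm
      _ ≤ RingHom.ker (WittVector.constantCoeff : WittVector p R →+* R) ^ (n + 1) *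
          RingHom.ker (WittVector.constantCoeff : WittVector p R →+* R) :=
          Ideal.mul_mono_left ih
      _ = RingHom.ker (WittVector.constantCoeff : WittVector p R →+* R) ^ (n + 1 + 1) :=
          (pow_succ _ _).symm

theorem TL_coeff_zero {s : ℕ → WittVector p R} {σ : WittVector p R} (h : TL s σ)
    (hs : ∀ K, (s K).coeff 0 = 0) : σ.coeff 0 = 0 := by
  refine eq_zero_of_forall_dvd (p := p) _ fun t => ?_
  obtain ⟨K0, hK0⟩ := h (t + 1)
  have h1 := (rho_eq_iff (t + 1) (t + 1) σ (s K0)).1 (hK0 K0 le_rfl) 0 (by omega)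
  rw [hs K0, sub_zero] at h1
  exact (pow_dvd_pow _ (by omega)).trans h1

theorem isAdicComplete_J :
    IsAdicComplete (RingHom.ker (WittVector.constantCoeff : WittVector p R →+* R))
      (WittVector p R) := by
  have hJp : ∀ n, RingHom.ker (WittVector.constantCoeff : WittVector p R →+* R) ^ (n + 1) ≤
      Ideal.span {(p : WittVector p R) ^ n} := by
    intro n
    refine (Groth.Agent.Helper8.ker_constantCoeff_pow_succ_le p R n).trans ?_
    rw [Ideal.span_singleton_pow]
    exact Ideal.mul_le.2 fun a ha b _ => Ideal.mul_mem_right _ _ ha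
  have hH : IsHausdorff (RingHom.ker (WittVector.constantCoeff : WittVector p R →+* R))
      (WittVector p R) := by
    refine ⟨fun x hx => padic_sep x fun n => ?_⟩
    have h1 := hx (n + 1)
    rw [SModEq.zero, smul_eq_mul, Ideal.mul_top] at h1
    exact Ideal.mem_span_singleton.1 (hJp n h1)
  have hP : IsPrecomplete (RingHom.ker (WittVector.constantCoeff : WittVector p R →+* R))
      (WittVector p R) := by
    refine ⟨fun f hf => ?_⟩
    have hg : ∀ k, ∃ c ∈ RingHom.ker (WittVector.constantCoeff : WittVector p R →+* R),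
        f (k + 1 + 1) - f (k + 1) = (p : WittVector p R) ^ k * c := by
      intro k
      have h1 := hf (Nat.le_succ (k + 1))
      rw [SModEq.sub_mem, smul_eq_mul, Ideal.mul_top, ← neg_sub, neg_mem_iff] at h1
      have h2 := Groth.Agent.Helper8.ker_constantCoeff_pow_succ_le p R k h1
      rw [Ideal.span_singleton_pow, Ideal.mem_span_singleton_mul] at h2
      obtain ⟨c, hc1, hc2⟩ := h2
      exact ⟨c, hc1, hc2.symm⟩
    choose c hcJ hc' using hg
    obtain ⟨σ, hσ⟩ := exists_lim_psum c
    refine ⟨f 1 + σ, fun n => ?_⟩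
    obtain ⟨σn, hσn⟩ := exists_lim_psum (fun j => c (n + j))
    have h1 := lim_psum_sub c σ hσ n σn hσn
    have h2 := eq_psum (fun k => f (k + 1)) c hc' n
    simp only [zero_add] at h2
    have hσnJ : σn ∈ RingHom.ker (WittVector.constantCoeff : WittVector p R →+* R) :=
      (mem_J_iff _).2 (TL_coeff_zero hσn fun K =>
        (mem_J_iff _).1 (psum_mem _ _ (fun j => hcJ (n + j)) K))
    have h3 : f 1 + σ - f (n + 1) ∈
        RingHom.ker (WittVector.constantCoeff : WittVector p R →+* R) ^ (n + 1) := by
      have e : f 1 + σ - f (n + 1) = (p : WittVector p R) ^ n * σn := by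
        rw [← h1, h2]; ring
      rw [e]
      apply pJ_pow_le n
      rw [Ideal.span_singleton_pow]
      exact Ideal.mul_mem_mul (Ideal.mem_span_singleton_self _) hσnJ
    have h4 : f (n + 1) - f n ∈
        RingHom.ker (WittVector.constantCoeff : WittVector p R →+* R) ^ n := by
      have h5 := hf (Nat.le_succ n)
      rw [SModEq.sub_mem, smul_eq_mul, Ideal.mul_top, ← neg_sub, neg_mem_iff] at h5
      exact h5
    rw [SModEq.sub_mem, smul_eq_mul, Ideal.mul_top, ← neg_sub, neg_mem_iff]
    have h5 : f 1 + σ - f n = (f 1 + σ - f (n + 1)) + (f (n + 1) - f n) := by ring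
    rw [h5]
    exact Ideal.add_mem _ (Ideal.pow_le_pow_right (Nat.le_succ n) h3) h4
  exact { toIsHausdorff := hH, toIsPrecomplete := hP }

end complete

end Groth.Agent.Helper8.WittComplete
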