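import Mathlib
import Groth.Prelude.Def_Disp2
import Groth.Agent.Lib.Helper8.WittComplete
import Groth.Agent.Lib.Helper8.WittSolve

set_option autoImplicit false
set_option linter.style.haveILetI false
set_option linter.unusedSectionVars false
set_option linter.unusedVariables false
set_option linter.unusedTactic false
set_option linter.unreachableTactic false

universe u v

noncomputable section

namespace Groth.Agent.Helper8.DispNil

open Dieu TensorProduct

section Generic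

variable {A : Type u} [CommRing A] {P : Type v} [AddCommGroup P] [Module A P]

/-- `Θ(ρ, φ) = c ∘ (ρ ⊗ φ)`. -/
def Th (τ ρ : A →+* A) (φ : P →ₗ[A] BC τ P) : BC ρ P →ₗ[A] BC (ρ.comp τ) P :=
  (BC.lift ρ (BC.push τ ρ)).comp (BC.map ρ φ)

lemma Th_tmul (τ ρ : A →+* A) (φ : P →ₗ[A] BC τ P) (u : A) (y : P) :
    Th τ ρ φ (BC.tmul ρ u y) = u • BC.push τ ρ (φ y) := by
  rw [Th, LinearMap.comp_apply, BC.map_tmul, BC.lift_tmul]

lemma push_push (τ ρ h : A →+* A) (e₃ : (h.comp ρ).comp τ = h.comp (ρ.comp τ)) (ξ : BC τ P) :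
    BC.push (ρ.comp τ) h (BC.push τ ρ ξ) = BC.castHom e₃ (BC.push τ (h.comp ρ) ξ) := by
  induction ξ using BC.induction_on τ with
  | zero => simp only [map_zero]
  | tmul v z =>
    rw [BC.push_tmul, BC.push_tmul, BC.push_tmul, BC.castHom_tmul]
    try rfl
  | add z₁ z₂ h₁ h₂ => simp only [map_add, h₁, h₂]

lemma push_Th (τ ρ h : A →+* A) (φ : P →ₗ[A] BC τ P)
    (e₃ : (h.comp ρ).comp τ = h.comp (ρ.comp τ)) (η : BC ρ P) :
    BC.push (ρ.comp τ) h (Th τ ρ φ η) = BC.castHom e₃ (Th τ (h.comp ρ) φ (BC.push ρ h η)) := by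
  induction η using BC.induction_on ρ with
  | zero => simp only [map_zero]
  | tmul u z =>
    simp only [Th_tmul, BC.push_tmul, map_smulₛₗ, map_smul, push_push τ ρ h e₃, RingHom.id_apply]
  | add z₁ z₂ h₁ h₂ => simp only [map_add, h₁, h₂]

lemma Th_Th (τ ρ h : A →+* A) (φ : P →ₗ[A] BC τ P) (ψ : P →ₗ[A] BC ρ P)
    (e₃ : (h.comp ρ).comp τ = h.comp (ρ.comp τ)) (ζ : BC h P) :
    Th (ρ.comp τ) h ((Th τ ρ φ).comp ψ) ζ =
      BC.castHom e₃ (Th τ (h.comp ρ) φ (Th ρ h ψ ζ)) := by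
  induction ζ using BC.induction_on h with
  | zero => simp only [map_zero]
  | tmul w y =>
    simp only [Th_tmul, LinearMap.comp_apply, map_smulₛₗ, map_smul, push_Th τ ρ h φ e₃, RingHom.id_apply]
  | add z₁ z₂ h₁ h₂ => simp only [map_add, h₁, h₂]

lemma Th_Th_cast (τ ρ h ρ' α β : A →+* A) (φ : P →ₗ[A] BC τ P) (ψ : P →ₗ[A] BC ρ P)
    (e₁ : ρ.comp τ = α) (hρ : h.comp ρ = ρ') (e₂ : h.comp α = β) (e₃' : ρ'.comp τ = β)
    (ζ : BC h P) :
    BC.castHom e₂ (Th α h ((BC.castHom e₁).comp ((Th τ ρ φ).comp ψ)) ζ) =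
      BC.castHom e₃' (Th τ ρ' φ (BC.castHom hρ (Th ρ h ψ ζ))) := by
  subst e₁; subst hρ; subst e₂
  exact Th_Th τ ρ h φ ψ e₃' ζ

lemma Th_cast (τ ρ ρ' β : A →+* A) (φ : P →ₗ[A] BC τ P) (h : ρ = ρ') (e : ρ.comp τ = β)
    (e' : ρ'.comp τ = β) (ζ : BC ρ P) :
    BC.castHom e' (Th τ ρ' φ (BC.castHom h ζ)) = BC.castHom e (Th τ ρ φ ζ) := by
  subst h; rfl

lemma hc (σ : A →+* A) (a b : ℕ) : (σ ^ (b + 1)).comp (σ ^ (a + 1)) = σ ^ (a + b + 1 + 1) := by
  show σ ^ (b + 1) * σ ^ (a + 1) = σ ^ (a + b + 1 + 1)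
  rw [← pow_add]; congr 1; omega

end Generic

section Main

variable {p : ℕ} [Fact p.Prime] {R : Type u} [CommRing R]
variable {P : Type v} [AddCommGroup P] [Module (WittVector p R) P]

/-- Frobenius of `W(T)` -/
abbrev sg (p : ℕ) [Fact p.Prime] (T : Type u) [CommRing T] : WittVector p T →+* WittVector p T :=
  WittVector.frobenius

lemma vSharpPow_succ' (Vs : P →ₗ[WittVector p R] BC (sg p R) P) (n : ℕ) (x : P) :
    vSharpPow Vs (n + 1) x =
      BC.castHom (comp_pow_eq_pow_succ (sg p R) (n + 1))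
        (Th ((sg p R) ^ (n + 1)) (sg p R) (vSharpPow Vs n) (Vs x)) := rfl

lemma comp_law (Vs : P →ₗ[WittVector p R] BC (sg p R) P) (a : ℕ) :
    ∀ (b : ℕ) (x : P), vSharpPow Vs (a + b + 1) x =
      BC.castHom (hc (sg p R) a b)
        (Th ((sg p R) ^ (a + 1)) ((sg p R) ^ (b + 1)) (vSharpPow Vs a) (vSharpPow Vs b x)) := by
  intro b
  induction b with
  | zero =>
    intro x
    show vSharpPow Vs (a + 1) x = _
    rw [vSharpPow_succ', vSharpPow_zero_apply]
    exact (Th_cast ((sg p R) ^ (a + 1)) (sg p R) ((sg p R) ^ (0 + 1)) _ (vSharpPow Vs a)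
      (pow_one (sg p R)).symm (comp_pow_eq_pow_succ (sg p R) (a + 1)) (hc (sg p R) a 0)
      (Vs x)).symm
  | succ b ih =>
    intro x
    show vSharpPow Vs ((a + b + 1) + 1) x = _
    have hfun : vSharpPow Vs (a + b + 1) =
        (BC.castHom (hc (sg p R) a b)).comp
          ((Th ((sg p R) ^ (a + 1)) ((sg p R) ^ (b + 1)) (vSharpPow Vs a)).comp
            (vSharpPow Vs b)) := LinearMap.ext ih
    rw [vSharpPow_succ' Vs (a + b + 1) x, vSharpPow_succ' Vs b x, hfun]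
    exact Th_Th_cast ((sg p R) ^ (a + 1)) ((sg p R) ^ (b + 1)) (sg p R) ((sg p R) ^ (b + 1 + 1))
      ((sg p R) ^ (a + b + 1 + 1)) _ (vSharpPow Vs a) (vSharpPow Vs b) (hc (sg p R) a b)
      (comp_pow_eq_pow_succ (sg p R) (b + 1)) (comp_pow_eq_pow_succ (sg p R) (a + b + 1 + 1))
      (hc (sg p R) a (b + 1)) (Vs x)

lemma frob_pow_mem (b : ℕ) :
    ∀ a ∈ W4c1extbt610.IV p R ⊔ Ideal.span {(p : WittVector p R)},
      ((sg p R) ^ (b + 1)) a ∈ Ideal.span {(p : WittVector p R)} := by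
  intro a ha
  have : W4c1extbt610.IV p R ⊔ Ideal.span {(p : WittVector p R)} ≤
      (Ideal.span {(p : WittVector p R)}).comap ((sg p R) ^ (b + 1)) := by
    refine sup_le ?_ ?_
    · rw [W4c1extbt610.IV, Ideal.span_le]
      rintro _ ⟨w, rfl⟩
      change ((sg p R) ^ (b + 1)) (WittVector.verschiebung w) ∈
        Ideal.span {(p : WittVector p R)}
      rw [pow_succ]
      show ((sg p R) ^ b) (WittVector.frobenius (WittVector.verschiebung w)) ∈ _
      rw [WittVector.frobenius_verschiebung, map_mul, map_natCast]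
      exact Ideal.mem_span_singleton'.mpr ⟨_, rfl⟩
    · rw [Ideal.span_le]
      rintro _ rfl
      change ((sg p R) ^ (b + 1)) (p : WittVector p R) ∈ Ideal.span {(p : WittVector p R)}
      rw [map_natCast]
      exact Ideal.mem_span_singleton_self _
  exact this ha

lemma Th_mem (a b : ℕ) (Vs : P →ₗ[WittVector p R] BC (sg p R) P)
    (hn : ∀ y : P, vSharpPow Vs a y ∈
      (W4c1extbt610.IV p R ⊔ Ideal.span {(p : WittVector p R)}) •
        (⊤ : Submodule (WittVector p R) (BC ((sg p R) ^ (a + 1)) P)))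
    (ζ : BC ((sg p R) ^ (b + 1)) P) :
    Th ((sg p R) ^ (a + 1)) ((sg p R) ^ (b + 1)) (vSharpPow Vs a) ζ ∈
      Ideal.span {(p : WittVector p R)} •
        (⊤ : Submodule (WittVector p R)
          (BC (((sg p R) ^ (b + 1)).comp ((sg p R) ^ (a + 1))) P)) := by
  induction ζ using BC.induction_on ((sg p R) ^ (b + 1)) with
  | zero => rw [map_zero]; exact zero_mem _
  | tmul u y =>
    rw [Th_tmul]
    refine Submodule.smul_mem _ _ ?_
    refine Submodule.smul_induction_on (hn y) ?_ ?_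
    · intro s hs ξ _
      rw [map_smulₛₗ]
      exact Submodule.smul_mem_smul (frob_pow_mem b s hs) Submodule.mem_top
    · intro x y hx hy
      rw [map_add]; exact add_mem hx hy
  | add z₁ z₂ h₁ h₂ => rw [map_add]; exact add_mem h₁ h₂

lemma step (Vs : P →ₗ[WittVector p R] BC (sg p R) P) (N₀ : ℕ)
    (hn : ∀ y : P, vSharpPow Vs N₀ y ∈
      (W4c1extbt610.IV p R ⊔ Ideal.span {(p : WittVector p R)}) •
        (⊤ : Submodule (WittVector p R) (BC ((sg p R) ^ (N₀ + 1)) P)))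
    (b k : ℕ) (hb : ∀ x, ∃ z, vSharpPow Vs b x = ((p : WittVector p R) ^ k) • z) :
    ∀ x, ∃ z, vSharpPow Vs (N₀ + b + 1) x = ((p : WittVector p R) ^ (k + 1)) • z := by
  intro x
  obtain ⟨z, hz⟩ := hb x
  have h1 := Th_mem N₀ b Vs hn z
  rw [Submodule.ideal_span_singleton_smul, Submodule.mem_smul_pointwise_iff_exists] at h1
  obtain ⟨z', -, hz'⟩ := h1
  refine ⟨BC.castHom (hc (sg p R) N₀ b) z', ?_⟩
  rw [comp_law, hz, map_smul, ← hz', map_smul, map_smul, smul_smul, ← pow_succ]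

theorem main (hp : IsNilpotent (p : R))
    (Vs : P →ₗ[WittVector p R] BC (WittVector.frobenius : WittVector p R →+* WittVector p R) P)
    (hnil : Dieu.IsVNilpotent Vs) (n : ℕ) :
    ∃ N : ℕ, ∀ x : P, Dieu.vSharpPow Vs N x ∈
      (RingHom.ker (WittVector.truncate (p := p) (R := R) n)) •
        (⊤ : Submodule (WittVector p R) (Dieu.BC ((WittVector.frobenius :
          WittVector p R →+* WittVector p R) ^ (N + 1)) P)) := by
  obtain ⟨N₀, hn⟩ := hnil
  obtain ⟨m, hm⟩ := hp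
  have hk : ∀ k : ℕ, ∃ N, ∀ x, ∃ z, vSharpPow Vs N x = ((p : WittVector p R) ^ k) • z := by
    intro k
    induction k with
    | zero => exact ⟨0, fun x => ⟨vSharpPow Vs 0 x, by rw [pow_zero, one_smul]⟩⟩
    | succ k ih =>
      obtain ⟨N, hN⟩ := ih
      exact ⟨N₀ + N + 1, step Vs N₀ hn N k hN⟩
  obtain ⟨N, hN⟩ := hk (m * n)
  refine ⟨N, fun x => ?_⟩
  obtain ⟨z, hz⟩ := hN x
  rw [hz]
  refine Submodule.smul_mem_smul ?_ Submodule.mem_top
  rw [RingHom.mem_ker, WittSolve.trunc_eq_zero_iff]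
  intro i hi
  have := WittComplete.nilp (p := p) m hm n 1 i hi
  rwa [mul_one] at this

end Main

end Groth.Agent.Helper8.DispNil
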