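import Mathlib
import Groth.Prelude.Def_Disp2
import Groth.Agent.Lib.Helper8.DispBC2
import Groth.Agent.Lib.Helper8.DispNil
import Groth.Agent.Lib.Helper8.WittSolve

set_option autoImplicit false
set_option linter.style.haveILetI false
set_option linter.unusedSectionVars false
set_option linter.unusedVariables false
set_option linter.unusedTactic false
set_option linter.unreachableTactic false

universe u v w

noncomputable section

namespace Groth.Agent.Helper8.DispMat

open Dieu TensorProduct Groth.Agent.Helper8.DispBC Groth.Agent.Helper8.DispBC2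

section Coord

variable {A : Type u} [CommRing A] (g : A →+* A)
variable {P : Type v} [AddCommGroup P] [Module A P] {ι : Type w} [Fintype ι] [DecidableEq ι]
  (e : Module.Basis ι A P)

/-- coordinates on the base change -/
def Yc (i : ι) : BC g P →ₗ[A] A := BC.lift g ((semilinearOfRingHom g).comp (e.coord i))

lemma Yc_tmul (i : ι) (w : A) (x : P) : Yc g e i (BC.tmul g w x) = w * g (e.coord i x) := by
  unfold Yc
  rw [BC.lift_tmul]
  rfl

lemma tmul_sum' {κ : Type*} (w : A) (s : Finset κ) (z : κ → P) :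
    BC.tmul g w (∑ j ∈ s, z j) = ∑ j ∈ s, BC.tmul g w (z j) := by
  rw [BC.tmul_eq_smul_tmul_one g w (∑ j ∈ s, z j), ← BC.ι_apply, map_sum, Finset.smul_sum]
  refine Finset.sum_congr rfl fun j _ => ?_
  rw [BC.ι_apply, ← BC.tmul_eq_smul_tmul_one]

lemma coord_sum (z : BC g P) : z = ∑ i, Yc g e i z • BC.tmul g 1 (e i) := by
  induction z using BC.induction_on g with
  | zero => simp
  | tmul w x =>
    have h3 : ∀ i, Yc g e i (BC.tmul g w x) • BC.tmul g 1 (e i) =
        BC.tmul g w (e.coord i x • e i) := by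
      intro i
      rw [Yc_tmul, BC.smul_tmul, mul_one, BC.tmul_mul_apply]
    rw [Finset.sum_congr rfl (fun i _ => h3 i), ← tmul_sum']
    congr 1
    exact (e.sum_repr x).symm
  | add y₁ y₂ h₁ h₂ =>
    have : ∑ i, Yc g e i (y₁ + y₂) • BC.tmul g 1 (e i) =
        ∑ i, Yc g e i y₁ • BC.tmul g 1 (e i) + ∑ i, Yc g e i y₂ • BC.tmul g 1 (e i) := by
      rw [← Finset.sum_add_distrib]
      refine Finset.sum_congr rfl fun i _ => ?_
      rw [map_add, add_smul]
    rw [this, ← h₁, ← h₂]

lemma Yc_basis (i j : ι) : Yc g e i (BC.tmul g 1 (e j)) = if i = j then 1 else 0 := by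
  rw [Yc_tmul, one_mul, Module.Basis.coord_apply, Module.Basis.repr_self]
  by_cases h : i = j
  · subst h; simp
  · simp [Finsupp.single_apply, h, Ne.symm h]

lemma Yc_push (h : A →+* A) (i : ι) (z : BC g P) :
    Yc (h.comp g) e i (BC.push g h z) = h (Yc g e i z) := by
  induction z using BC.induction_on g with
  | zero => simp only [map_zero]
  | tmul w x =>
    rw [BC.push_tmul, Yc_tmul, Yc_tmul, map_mul]
    rfl
  | add y₁ y₂ h₁ h₂ => simp only [map_add, h₁, h₂]

lemma Yc_cast {g' : A →+* A} (hg : g = g') (i : ι) (z : BC g P) :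
    Yc g' e i (BC.castHom hg z) = Yc g e i z := by
  subst hg; rfl

lemma mem_smul_top_iff (J : Ideal A) (z : BC g P) :
    z ∈ J • (⊤ : Submodule A (BC g P)) ↔ ∀ i, Yc g e i z ∈ J := by
  constructor
  · intro hz i
    refine Submodule.smul_induction_on hz ?_ ?_
    · intro r hr n _
      rw [map_smul, smul_eq_mul]
      exact Ideal.mul_mem_right _ _ hr
    · intro x y hx hy
      rw [map_add]; exact add_mem hx hy
  · intro h
    rw [coord_sum g e z]
    exact sum_mem fun i _ => Submodule.smul_mem_smul (h i) Submodule.mem_top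

lemma Yc_Th (τ ρ : A →+* A) (φ : P →ₗ[A] BC τ P) (m : ι) (ζ : BC ρ P) :
    Yc (ρ.comp τ) e m (DispNil.Th τ ρ φ ζ) = ∑ j, ρ (Yc τ e m (φ (e j))) * Yc ρ e j ζ := by
  induction ζ using BC.induction_on ρ with
  | zero => simp
  | tmul u y =>
    rw [DispNil.Th_tmul, map_smul, smul_eq_mul, Yc_push]
    have hy : φ y = ∑ j, e.coord j y • φ (e j) := by
      conv_lhs => rw [← e.sum_repr y]
      rw [map_sum]
      refine Finset.sum_congr rfl fun j _ => ?_
      rw [map_smul]
      rfl
    rw [hy, map_sum, map_sum, Finset.mul_sum]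
    refine Finset.sum_congr rfl fun j _ => ?_
    rw [map_smul, smul_eq_mul, map_mul, Yc_tmul]
    ring
  | add y₁ y₂ h₁ h₂ =>
    rw [map_add, map_add, h₁, h₂, ← Finset.sum_add_distrib]
    refine Finset.sum_congr rfl fun j _ => ?_
    rw [map_add, mul_add]

lemma sum_tmul {κ : Type*} (s : Finset κ) (c : κ → A) (x : P) :
    BC.tmul g (∑ i ∈ s, c i) x = ∑ i ∈ s, BC.tmul g (c i) x := by
  classical
  induction s using Finset.induction_on with
  | empty => simp
  | insert a s ha ih => rw [Finset.sum_insert ha, Finset.sum_insert ha, BC.add_tmul, ih]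

end Coord

section Red

variable {p : ℕ} [Fact p.Prime] {R : Type u} [CommRing R]

/-- reduction `W(R) → R/p` -/
def red : WittVector p R →+* (R ⧸ Ideal.span {(p : R)}) :=
  (Ideal.Quotient.mk (Ideal.span {(p : R)})).comp WittVector.constantCoeff

lemma red_apply (w : WittVector p R) :
    red w = Ideal.Quotient.mk (Ideal.span {(p : R)}) (WittVector.constantCoeff w) := rfl

lemma mk_p : Ideal.Quotient.mk (Ideal.span {(p : R)}) (p : R) = 0 :=
  Ideal.Quotient.eq_zero_iff_mem.2 (Ideal.mem_span_singleton_self _)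

lemma red_p : red (p : WittVector p R) = 0 := by
  rw [red_apply, map_natCast]
  exact mk_p

lemma red_V (u : WittVector p R) : red (WittVector.verschiebung u) = 0 := by
  rw [red_apply, cc_V, map_zero]

lemma red_of_mem (w : WittVector p R)
    (hw : w ∈ W4c1extbt610.IV p R ⊔ Ideal.span {(p : WittVector p R)}) : red w = 0 := by
  have : W4c1extbt610.IV p R ⊔ Ideal.span {(p : WittVector p R)} ≤
      RingHom.ker (red (p := p) (R := R)) := by
    refine sup_le ?_ ?_
    · intro a ha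
      obtain ⟨b, rfl⟩ := mem_IV a ha
      exact RingHom.mem_ker.2 (red_V b)
    · rw [Ideal.span_le]
      rintro _ rfl
      exact RingHom.mem_ker.2 red_p
  exact RingHom.mem_ker.1 (this hw)

lemma mem_of_red (w : WittVector p R) (hw : red w = 0) :
    w ∈ W4c1extbt610.IV p R ⊔ Ideal.span {(p : WittVector p R)} := by
  rw [red_apply, Ideal.Quotient.eq_zero_iff_mem, Ideal.mem_span_singleton'] at hw
  obtain ⟨r, hr⟩ := hw
  have h0 : WittVector.constantCoeff
      (w - WittVector.teichmuller p r * (p : WittVector p R)) = 0 := by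
    rw [map_sub, map_mul, map_natCast, ← hr]
    have : WittVector.constantCoeff (WittVector.teichmuller p r) = r :=
      WittVector.teichmuller_coeff_zero p r
    rw [this]; exact sub_self _
  obtain ⟨u, hu⟩ := ker_cc_le _ h0
  have : w = WittVector.verschiebung u + WittVector.teichmuller p r * (p : WittVector p R) := by
    rw [← hu]; abel
  rw [this]
  exact add_mem (Ideal.mem_sup_left (W4c1extbt610.verschiebung_mem_IV p R u))
    (Ideal.mem_sup_right (Ideal.mul_mem_left _ _ (Ideal.mem_span_singleton_self _)))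

lemma red_frob (w : WittVector p R) : red (WittVector.frobenius w) = red w ^ p := by
  rw [red_apply, red_apply]
  show Ideal.Quotient.mk _ ((WittVector.frobenius w).coeff 0) =
    (Ideal.Quotient.mk _ (w.coeff 0)) ^ p
  rw [WittVector.coeff_frobenius, WittVector.frobeniusPoly, map_add, map_mul, map_pow,
    MvPolynomial.aeval_X, MvPolynomial.aeval_C, map_add, map_mul, map_pow]
  have : Ideal.Quotient.mk (Ideal.span {(p : R)}) (algebraMap ℤ R (p : ℤ)) = 0 := by
    rw [map_natCast]; exact mk_p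
  rw [this, zero_mul, add_zero]

lemma red_frob_pow (k : ℕ) (w : WittVector p R) :
    red (((WittVector.frobenius : WittVector p R →+* WittVector p R) ^ k) w) = red w ^ p ^ k := by
  induction k with
  | zero => simp
  | succ k ih =>
    rw [pow_succ', RingHom.mul_def, RingHom.comp_apply, red_frob, ih, ← pow_mul, ← pow_succ]

end Red


section Disp

variable {p : ℕ} [Fact p.Prime] {R : Type u} [CommRing R]
variable {P : Type v} [AddCommGroup P] [Module (WittVector p R) P]
variable {D : W4c1extbt610.Display3n p R P} (E : Data D)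
variable {ιT ιL : Type w} [Fintype ιT] [Fintype ιL] [DecidableEq ιT] [DecidableEq ιL]
  (bT : Module.Basis ιT (WittVector p R) E.T) (bL : Module.Basis ιL (WittVector p R) E.L)

lemma hLL {l : P} (hl : l ∈ E.L) : πL E l = l :=
  Submodule.projection_apply_of_mem_left E.hLT hl

/-- adapted basis of `P` -/
def eB : Module.Basis (ιT ⊕ ιL) (WittVector p R) P :=
  (bT.prod bL).map (Submodule.prodEquivOfIsCompl E.T E.L E.hLT.symm)

lemma eB_inl (j : ιT) : eB E bT bL (Sum.inl j) = (bT j : P) := by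
  unfold eB
  rw [Module.Basis.map_apply, Submodule.coe_prodEquivOfIsCompl', Module.Basis.prod_apply_inl_fst,
    Module.Basis.prod_apply_inl_snd]
  simp

lemma eB_inr (k : ιL) : eB E bT bL (Sum.inr k) = (bL k : P) := by
  unfold eB
  rw [Module.Basis.map_apply, Submodule.coe_prodEquivOfIsCompl', Module.Basis.prod_apply_inr_fst,
    Module.Basis.prod_apply_inr_snd]
  simp

/-- `Φ = V⁻¹|_L ⊕ F|_T` -/
def Phi : P →ₛₗ[sg p R] P := VL E + D.F.comp (πT E)

lemma Phi_apply (x : P) : Phi E x = D.Vinv ⟨πL E x, hLQ E x⟩ + D.F (πT E x) := rfl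

lemma Phi_T {t : P} (ht : t ∈ E.T) : Phi E t = D.F t := by
  rw [Phi_apply]
  have h3 : (⟨πL E t, hLQ E t⟩ : D.Q) = 0 := Subtype.ext (hLT0 E ht)
  rw [h3, map_zero, zero_add, hTT E ht]

lemma Phi_L {l : P} (hl : l ∈ E.L) (h : l ∈ D.Q) : Phi E l = D.Vinv ⟨l, h⟩ := by
  rw [Phi_apply]
  have h3 : (⟨πL E l, hLQ E l⟩ : D.Q) = ⟨l, h⟩ := Subtype.ext (hLL E hl)
  rw [h3, hTL E hl, map_zero, add_zero]

/-- candidate inverse of `Φ^#` -/
def Psi0 (β : Matrix (ιT ⊕ ιL) (ιT ⊕ ιL) (WittVector p R)) :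
    P →ₗ[WittVector p R] BC (sg p R) P :=
  (eB E bT bL).constr ℕ fun i => ∑ m, BC.tmul (sg p R) (β m i) (eB E bT bL m)

lemma Psi0_basis (β : Matrix (ιT ⊕ ιL) (ιT ⊕ ιL) (WittVector p R)) (i : ιT ⊕ ιL) :
    Psi0 E bT bL β (eB E bT bL i) = ∑ m, BC.tmul (sg p R) (β m i) (eB E bT bL m) :=
  Module.Basis.constr_basis _ _ _ _

variable (α β : Matrix (ιT ⊕ ιL) (ιT ⊕ ιL) (WittVector p R))

lemma lift_Psi0 (hαβ : α * β = 1)
    (hΦ : ∀ m, Phi E (eB E bT bL m) = ∑ i, α i m • eB E bT bL i) (x : P) :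
    BC.lift (sg p R) (Phi E) (Psi0 E bT bL β x) = x := by
  have : (BC.lift (sg p R) (Phi E)).comp (Psi0 E bT bL β) = LinearMap.id := by
    refine (eB E bT bL).ext fun i => ?_
    rw [LinearMap.comp_apply, Psi0_basis, map_sum, LinearMap.id_apply]
    have h1 : ∀ m, BC.lift (sg p R) (Phi E) (BC.tmul (sg p R) (β m i) (eB E bT bL m)) =
        ∑ i', (α i' m * β m i) • eB E bT bL i' := by
      intro m
      rw [BC.lift_tmul, hΦ m, Finset.smul_sum]
      refine Finset.sum_congr rfl fun i' _ => ?_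
      rw [smul_smul, mul_comm]
    rw [Finset.sum_congr rfl (fun m _ => h1 m), Finset.sum_comm]
    have h2 : ∀ i', ∑ m, (α i' m * β m i) • eB E bT bL i' =
        ((1 : Matrix (ιT ⊕ ιL) (ιT ⊕ ιL) (WittVector p R)) i' i) • eB E bT bL i' := by
      intro i'
      rw [← Finset.sum_smul, ← hαβ, Matrix.mul_apply]
    rw [Finset.sum_congr rfl (fun i' _ => h2 i'), Finset.sum_eq_single i]
    · rw [Matrix.one_apply_eq, one_smul]
    · intro i' _ hne
      rw [Matrix.one_apply_ne hne, zero_smul]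
    · intro h; exact absurd (Finset.mem_univ i) h
  exact LinearMap.congr_fun this x

lemma Psi0_lift (hβα : β * α = 1)
    (hΦ : ∀ m, Phi E (eB E bT bL m) = ∑ i, α i m • eB E bT bL i) (z : BC (sg p R) P) :
    Psi0 E bT bL β (BC.lift (sg p R) (Phi E) z) = z := by
  have hs : (Psi0 E bT bL β).comp (Phi E) = BC.ι (sg p R) P := by
    refine (eB E bT bL).ext fun m => ?_
    rw [LinearMap.comp_apply, hΦ m, map_sum, BC.ι_apply]
    have h1 : ∀ i, Psi0 E bT bL β (α i m • eB E bT bL i) =
        ∑ m', BC.tmul (sg p R) (β m' i * α i m) (eB E bT bL m') := by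
      intro i
      rw [map_smul, Psi0_basis, Finset.smul_sum]
      refine Finset.sum_congr rfl fun m' _ => ?_
      rw [BC.smul_tmul, mul_comm]
    rw [Finset.sum_congr rfl (fun i _ => h1 i), Finset.sum_comm]
    have h2 : ∀ m', ∑ i, BC.tmul (sg p R) (β m' i * α i m) (eB E bT bL m') =
        BC.tmul (sg p R) ((1 : Matrix (ιT ⊕ ιL) (ιT ⊕ ιL) (WittVector p R)) m' m)
          (eB E bT bL m') := by
      intro m'
      rw [← hβα, Matrix.mul_apply, sum_tmul]
    rw [Finset.sum_congr rfl (fun m' _ => h2 m'), Finset.sum_eq_single m]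
    · rw [Matrix.one_apply_eq]
    · intro m' _ hne
      rw [Matrix.one_apply_ne hne, BC.zero_tmul]
    · intro h; exact absurd (Finset.mem_univ m) h
  have : (Psi0 E bT bL β).comp (BC.lift (sg p R) (Phi E)) = LinearMap.id := by
    apply BC.ext
    intro x
    rw [LinearMap.comp_apply, BC.lift_tmul, one_smul, LinearMap.id_apply]
    exact LinearMap.congr_fun hs x
  exact LinearMap.congr_fun this z

/-- `Δ = p` on the `T`-part, `1` on the `L`-part -/
def Del : BC (sg p R) P →ₗ[WittVector p R] BC (sg p R) P :=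
  BC.map (sg p R) ((p : WittVector p R) • πT E + πL E)

lemma Del_tmul (w : WittVector p R) (x : P) :
    Del E (BC.tmul (sg p R) w x) =
      (p : WittVector p R) • BC.tmul (sg p R) w (πT E x) + BC.tmul (sg p R) w (πL E x) := by
  unfold Del
  rw [BC.map_tmul, LinearMap.add_apply, LinearMap.smul_apply, BC.tmul_add,
    ← BC.tmul_mul_apply, BC.smul_tmul, map_natCast, mul_comm w]

lemma Vs_lift (Vs : P →ₗ[WittVector p R] BC (sg p R) P) (hVs : IsVSharp D Vs)
    (z : BC (sg p R) P) : Vs (BC.lift (sg p R) (Phi E) z) = Del E z := by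
  induction z using BC.induction_on (sg p R) with
  | zero => simp only [map_zero]
  | tmul w x =>
    rw [BC.lift_tmul, Phi_apply, smul_add, map_add, hVs.app_smul_Vinv, hVs.app_smul_F, Del_tmul,
      add_comm]
  | add z₁ z₂ h₁ h₂ => simp only [map_add, h₁, h₂]

lemma Vs_eq (hαβ : α * β = 1)
    (hΦ : ∀ m, Phi E (eB E bT bL m) = ∑ i, α i m • eB E bT bL i)
    (Vs : P →ₗ[WittVector p R] BC (sg p R) P) (hVs : IsVSharp D Vs) :
    Vs = (Del E).comp (Psi0 E bT bL β) := by
  apply LinearMap.ext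
  intro x
  rw [LinearMap.comp_apply, ← Vs_lift E Vs hVs, lift_Psi0 E bT bL α β hαβ hΦ]

end Disp


section Disp2

variable {p : ℕ} [hp : Fact p.Prime] {R : Type u} [CommRing R]
variable {P : Type v} [AddCommGroup P] [Module (WittVector p R) P]
variable {D : W4c1extbt610.Display3n p R P} (E : Data D)
variable {ιT ιL : Type w} [Fintype ιT] [Fintype ιL] [DecidableEq ιT] [DecidableEq ιL]
  (bT : Module.Basis ιT (WittVector p R) E.T) (bL : Module.Basis ιL (WittVector p R) E.L)
variable (α β : Matrix (ιT ⊕ ιL) (ιT ⊕ ιL) (WittVector p R))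

lemma coord_mem_IV (c : P →ₗ[WittVector p R] WittVector p R) (q : P) (hq : q ∈ D.Q) :
    c (πT E q) ∈ W4c1extbt610.IV p R := by
  have hT : πT E q ∈ W4c1extbt610.IV p R • E.T := by
    have hq' := hq
    rw [E.hQ] at hq'
    obtain ⟨l, hl, t, ht, e⟩ := Submodule.mem_sup.1 hq'
    have htT : t ∈ E.T := (Submodule.smul_le.2 (fun a _ t' ht' => E.T.smul_mem a ht')) ht
    rw [← e, map_add, hTL E hl, zero_add, hTT E htT]
    exact ht
  refine Submodule.smul_induction_on hT ?_ ?_
  · intro a ha t ht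
    rw [map_smul, smul_eq_mul]
    exact Ideal.mul_mem_right _ _ ha
  · intro x y hx hy
    rw [map_add]; exact add_mem hx hy

lemma piT_eq (x : P) :
    πT E x = ∑ j, (eB E bT bL).coord (Sum.inl j) x • (bT j : P) := by
  conv_lhs => rw [← (eB E bT bL).sum_repr x]
  rw [map_sum, Fintype.sum_sum_type]
  have h1 : ∀ j, πT E ((eB E bT bL).repr x (Sum.inl j) • eB E bT bL (Sum.inl j)) =
      (eB E bT bL).coord (Sum.inl j) x • (bT j : P) := by
    intro j
    rw [map_smul, eB_inl, hTT E (bT j).2]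
    rfl
  have h2 : ∀ k, πT E ((eB E bT bL).repr x (Sum.inr k) • eB E bT bL (Sum.inr k)) = 0 := by
    intro k
    rw [map_smul, eB_inr, hTL E (bL k).2, smul_zero]
  rw [Finset.sum_congr rfl (fun j _ => h1 j), Finset.sum_congr rfl (fun k _ => h2 k),
    Finset.sum_const_zero, add_zero]

lemma isVSharp0 (hβα : β * α = 1)
    (hΦ : ∀ m, Phi E (eB E bT bL m) = ∑ i, α i m • eB E bT bL i) :
    IsVSharp D ((Del E).comp (Psi0 E bT bL β)) where
  app_smul_F := by
    intro w x
    have a1 : πL E ((p : WittVector p R) • πL E x + πT E x) = (p : WittVector p R) • πL E x := by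
      rw [map_add, map_smul, hLL E (hLmem E x), hLT0 E (hTmem E x), add_zero]
    have a2 : πT E ((p : WittVector p R) • πL E x + πT E x) = πT E x := by
      rw [map_add, map_smul, hTL E (hLmem E x), smul_zero, zero_add, hTT E (hTmem E x)]
    have h1 : w • D.F x = BC.lift (sg p R) (Phi E)
        (BC.tmul (sg p R) w ((p : WittVector p R) • πL E x + πT E x)) := by
      rw [BC.lift_tmul, Phi_apply]
      have a3 : (⟨πL E ((p : WittVector p R) • πL E x + πT E x), hLQ E _⟩ : D.Q) =
          (p : WittVector p R) • ⟨πL E x, hLQ E x⟩ := Subtype.ext a1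
      rw [a3, map_smulₛₗ, map_natCast, a2, ← F_eq_p_Vinv (πL E x) (hLQ E x), ← map_add, hadd]
    rw [LinearMap.comp_apply, h1, Psi0_lift E bT bL α β hβα hΦ, Del_tmul, a1, a2,
      ← BC.tmul_mul_apply, map_natCast, mul_comm w, ← BC.smul_tmul, ← smul_add, ← BC.tmul_add,
      add_comm (πT E x), hadd]
  app_smul_Vinv := by
    intro w y
    obtain ⟨q, hq⟩ := y
    choose a ha using fun j : ιT =>
      mem_IV _ (coord_mem_IV E ((eB E bT bL).coord (Sum.inl j)) q hq)
    have hπ : πT E q = ∑ j, WittVector.verschiebung (a j) • (bT j : P) := by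
      have := piT_eq E bT bL (πT E q)
      rw [hTT E (hTmem E q)] at this
      rw [this]
      exact Finset.sum_congr rfl fun j _ => by rw [ha j]
    have hTq : πT E q ∈ D.Q := by
      have h0 := D.Q.sub_mem hq (hLQ E q)
      have e : q - πL E q = πT E q := by
        rw [sub_eq_iff_eq_add, add_comm, hadd]
      rwa [e] at h0
    have hsplit : D.Vinv ⟨q, hq⟩ = D.Vinv ⟨πL E q, hLQ E q⟩ + D.Vinv ⟨πT E q, hTq⟩ := by
      have : (⟨q, hq⟩ : D.Q) = ⟨πL E q, hLQ E q⟩ + ⟨πT E q, hTq⟩ := Subtype.ext (hadd E q).symm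
      rw [this, map_add]
    have hT2 : D.Vinv ⟨πT E q, hTq⟩ = ∑ j, a j • D.F (bT j : P) := by
      have key : ∀ (z : P) (hz : z ∈ D.Q),
          z = ∑ j, WittVector.verschiebung (a j) • (bT j : P) →
          D.Vinv ⟨z, hz⟩ = ∑ j, a j • D.F (bT j : P) := by
        intro z hz e
        subst e
        exact Vinv_sum D Finset.univ a (fun j => (bT j : P)) hz
      exact key _ hTq hπ
    have h1 : w • D.Vinv ⟨q, hq⟩ = BC.lift (sg p R) (Phi E)
        (BC.tmul (sg p R) w (πL E q) + ∑ j, BC.tmul (sg p R) (w * a j) (bT j : P)) := by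
      rw [map_add, map_sum, BC.lift_tmul, Phi_L E (hLmem E q) (hLQ E q), hsplit, hT2, smul_add,
        Finset.smul_sum]
      congr 1
      refine Finset.sum_congr rfl fun j _ => ?_
      rw [BC.lift_tmul, Phi_T E (bT j).2, mul_smul]
    show ((Del E).comp (Psi0 E bT bL β)) (w • D.Vinv ⟨q, hq⟩) = BC.tmul (sg p R) w q
    rw [LinearMap.comp_apply, h1, Psi0_lift E bT bL α β hβα hΦ, map_add, map_sum, Del_tmul,
      hTL E (hLmem E q), BC.tmul_zero, smul_zero, zero_add, hLL E (hLmem E q)]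
    have h2 : ∀ j, Del E (BC.tmul (sg p R) (w * a j) (bT j : P)) =
        BC.tmul (sg p R) w (WittVector.verschiebung (a j) • (bT j : P)) := by
      intro j
      rw [Del_tmul, hTT E (bT j).2, hLT0 E (bT j).2, BC.tmul_zero, add_zero, BC.smul_tmul,
        ← BC.tmul_mul_apply, WittVector.frobenius_verschiebung]
      congr 1
      ring
    rw [Finset.sum_congr rfl (fun j _ => h2 j), ← tmul_sum', ← hπ, ← BC.tmul_add, hadd]

lemma cT_inl (j : ιT) (x : P) :
    (eB E bT bL).coord (Sum.inl j) (πT E x) = (eB E bT bL).coord (Sum.inl j) x := by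
  have : ((eB E bT bL).coord (Sum.inl j)).comp (πT E) = (eB E bT bL).coord (Sum.inl j) := by
    refine (eB E bT bL).ext fun i => ?_
    rcases i with j' | k
    · rw [LinearMap.comp_apply, eB_inl, hTT E (bT j').2]
    · rw [LinearMap.comp_apply, eB_inr, hTL E (bL k).2, map_zero, ← eB_inr E bT bL k,
        Module.Basis.coord_apply, Module.Basis.repr_self]
      simp
  exact LinearMap.congr_fun this x

lemma cT_inr (k : ιL) (x : P) : (eB E bT bL).coord (Sum.inr k) (πT E x) = 0 := by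
  have : ((eB E bT bL).coord (Sum.inr k)).comp (πT E) = 0 := by
    refine (eB E bT bL).ext fun i => ?_
    rcases i with j' | k'
    · rw [LinearMap.comp_apply, eB_inl, hTT E (bT j').2, ← eB_inl E bT bL j',
        Module.Basis.coord_apply, Module.Basis.repr_self]
      simp
    · rw [LinearMap.comp_apply, eB_inr, hTL E (bL k').2, map_zero]
      rfl
  exact LinearMap.congr_fun this x

lemma Yc_Del_inl (j : ιT) (z : BC (sg p R) P) :
    Yc (sg p R) (eB E bT bL) (Sum.inl j) (Del E z) =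
      (p : WittVector p R) * Yc (sg p R) (eB E bT bL) (Sum.inl j) z := by
  induction z using BC.induction_on (sg p R) with
  | zero => simp only [map_zero, mul_zero]
  | tmul w x =>
    have hL : (eB E bT bL).coord (Sum.inl j) (πL E x) = 0 := by
      have := congrArg ((eB E bT bL).coord (Sum.inl j)) (hadd E x)
      rw [map_add, cT_inl] at this
      linear_combination this
    rw [Del_tmul, map_add, map_smul, smul_eq_mul, Yc_tmul, Yc_tmul, Yc_tmul, cT_inl, hL,
      map_zero, mul_zero, add_zero]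
  | add z₁ z₂ h₁ h₂ => simp only [map_add, mul_add, h₁, h₂]

lemma Yc_Del_inr (k : ιL) (z : BC (sg p R) P) :
    Yc (sg p R) (eB E bT bL) (Sum.inr k) (Del E z) =
      Yc (sg p R) (eB E bT bL) (Sum.inr k) z := by
  induction z using BC.induction_on (sg p R) with
  | zero => simp only [map_zero]
  | tmul w x =>
    have hL : (eB E bT bL).coord (Sum.inr k) (πL E x) = (eB E bT bL).coord (Sum.inr k) x := by
      have := congrArg ((eB E bT bL).coord (Sum.inr k)) (hadd E x)
      rw [map_add, cT_inr, add_zero] at this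
      exact this
    rw [Del_tmul, map_add, map_smul, smul_eq_mul, Yc_tmul, Yc_tmul, Yc_tmul, cT_inr, hL,
      map_zero, mul_zero, mul_zero, zero_add]
  | add z₁ z₂ h₁ h₂ => simp only [map_add, h₁, h₂]

lemma Yc_Psi0 (m i : ιT ⊕ ιL) :
    Yc (sg p R) (eB E bT bL) m (Psi0 E bT bL β (eB E bT bL i)) = β m i := by
  rw [Psi0_basis, map_sum]
  have h : ∀ m', Yc (sg p R) (eB E bT bL) m (BC.tmul (sg p R) (β m' i) (eB E bT bL m')) =
      if m = m' then β m' i else 0 := by
    intro m'
    rw [BC.tmul_eq_smul_tmul_one (sg p R) (β m' i), map_smul, Yc_basis, smul_eq_mul, mul_ite,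
      mul_one, mul_zero]
  rw [Finset.sum_congr rfl (fun m' _ => h m'), Finset.sum_ite_eq, if_pos (Finset.mem_univ m)]

/-- reduced coordinate matrix of `V^{(n+1)#}` -/
def Mm (Vs : P →ₗ[WittVector p R] BC (sg p R) P) (n : ℕ) (m i : ιT ⊕ ιL) :
    R ⧸ Ideal.span {(p : R)} :=
  red (Yc ((sg p R) ^ (n + 1)) (eB E bT bL) m (vSharpPow Vs n (eB E bT bL i)))

lemma Mm_rec (Vs : P →ₗ[WittVector p R] BC (sg p R) P) (a b : ℕ) (m i : ιT ⊕ ιL) :
    Mm E bT bL Vs (a + b + 1) m i =
      ∑ j, (Mm E bT bL Vs a m j) ^ p ^ (b + 1) * Mm E bT bL Vs b j i := by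
  unfold Mm
  rw [DispNil.comp_law Vs a b, Yc_cast, Yc_Th, map_sum]
  refine Finset.sum_congr rfl fun j _ => ?_
  rw [map_mul, red_frob_pow]

lemma Mm0 (Vs : P →ₗ[WittVector p R] BC (sg p R) P) (m i : ιT ⊕ ιL) :
    Mm E bT bL Vs 0 m i = red (Yc (sg p R) (eB E bT bL) m (Vs (eB E bT bL i))) := by
  unfold Mm
  rw [vSharpPow_zero_apply, Yc_cast]

lemma nil_iff (Vs : P →ₗ[WittVector p R] BC (sg p R) P) :
    IsVNilpotent Vs ↔ ∃ n, ∀ m i, Mm E bT bL Vs n m i = 0 := by
  constructor
  · rintro ⟨n, hn⟩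
    refine ⟨n, fun m i => ?_⟩
    exact red_of_mem _ ((mem_smul_top_iff _ (eB E bT bL) _ _).1 (hn (eB E bT bL i)) m)
  · rintro ⟨n, hn⟩
    refine ⟨n, fun x => ?_⟩
    rw [mem_smul_top_iff _ (eB E bT bL)]
    intro m
    apply mem_of_red
    conv_lhs => rw [← (eB E bT bL).sum_repr x]
    rw [map_sum, map_sum, map_sum]
    refine Finset.sum_eq_zero fun i _ => ?_
    rw [map_smul, map_smul, smul_eq_mul, map_mul]
    have := hn m i
    unfold Mm at this
    rw [this, mul_zero]

end Disp2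

section Disp3

variable {p : ℕ} [hp : Fact p.Prime] {R : Type u} [CommRing R]
variable {P : Type v} [AddCommGroup P] [Module (WittVector p R) P]
variable {D : W4c1extbt610.Display3n p R P} (E : Data D)
variable {ιT ιL : Type w} [Fintype ιT] [Fintype ιL] [DecidableEq ιT] [DecidableEq ιL]
  (bT : Module.Basis ιT (WittVector p R) E.T) (bL : Module.Basis ιL (WittVector p R) E.L)
variable (α β : Matrix (ιT ⊕ ιL) (ιT ⊕ ιL) (WittVector p R))

/-- the reduced `L`-block of `β` -/
def Bm : Matrix ιL ιL (R ⧸ Ideal.span {(p : R)}) :=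
  Matrix.of fun k l : ιL =>
    Ideal.Quotient.mk (Ideal.span {(p : R)}) (WittVector.constantCoeff (β (Sum.inr k) (Sum.inr l)))

/-- the twisted product `B^{(p^{N-1})} ⋯ B^{(p)} B` -/
def Pi (N : ℕ) : Matrix ιL ιL (R ⧸ Ideal.span {(p : R)}) :=
  ((List.range N).reverse.map fun i : ℕ =>
    (Bm β).map fun x : R ⧸ Ideal.span {(p : R)} => x ^ p ^ i).prod

lemma Pi_zero : Pi β 0 = 1 := by
  unfold Pi
  simp

lemma Pi_succ (N : ℕ) :
    Pi β (N + 1) = ((Bm β).map fun x : R ⧸ Ideal.span {(p : R)} => x ^ p ^ N) * Pi β N := by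
  unfold Pi
  rw [List.range_succ, List.reverse_append, List.reverse_singleton, List.singleton_append,
    List.map_cons, List.prod_cons]

/-- the candidate `V^#` -/
def Vs0 : P →ₗ[WittVector p R] BC (sg p R) P := (Del E).comp (Psi0 E bT bL β)

lemma M0_inl (j : ιT) (i : ιT ⊕ ιL) :
    Mm E bT bL (Vs0 E bT bL β) 0 (Sum.inl j) i = 0 := by
  rw [Mm0]
  unfold Vs0
  rw [LinearMap.comp_apply, Yc_Del_inl, map_mul, red_p, zero_mul]

lemma M0_inr (k : ιL) (i : ιT ⊕ ιL) :
    Mm E bT bL (Vs0 E bT bL β) 0 (Sum.inr k) i = red (β (Sum.inr k) i) := by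
  rw [Mm0]
  unfold Vs0
  rw [LinearMap.comp_apply, Yc_Del_inr, Yc_Psi0]

lemma Mn_inl (n : ℕ) (j : ιT) (i : ιT ⊕ ιL) :
    Mm E bT bL (Vs0 E bT bL β) n (Sum.inl j) i = 0 := by
  cases n with
  | zero => exact M0_inl E bT bL β j i
  | succ n =>
    have h := Mm_rec E bT bL (Vs0 E bT bL β) 0 n (Sum.inl j) i
    rw [zero_add] at h
    rw [h]
    refine Finset.sum_eq_zero fun j' _ => ?_
    rw [M0_inl, zero_pow (pow_ne_zero _ hp.out.ne_zero), zero_mul]

lemma Mn_inr (n : ℕ) : ∀ (k l : ιL),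
    Mm E bT bL (Vs0 E bT bL β) n (Sum.inr k) (Sum.inr l) = Pi β (n + 1) k l := by
  induction n with
  | zero =>
    intro k l
    rw [M0_inr, Pi_succ, Pi_zero, mul_one, Matrix.map_apply, pow_zero, pow_one]
    rfl
  | succ n ih =>
    intro k l
    have h := Mm_rec E bT bL (Vs0 E bT bL β) 0 n (Sum.inr k) (Sum.inr l)
    rw [zero_add] at h
    rw [h, Fintype.sum_sum_type, Pi_succ (β := β) (n + 1), Matrix.mul_apply]
    have h1 : ∑ j : ιT, (Mm E bT bL (Vs0 E bT bL β) 0 (Sum.inr k) (Sum.inl j)) ^ p ^ (n + 1) *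
        Mm E bT bL (Vs0 E bT bL β) n (Sum.inl j) (Sum.inr l) = 0 :=
      Finset.sum_eq_zero fun j _ => by rw [Mn_inl, mul_zero]
    rw [h1, zero_add]
    refine Finset.sum_congr rfl fun k' _ => ?_
    rw [ih, M0_inr]
    rfl

lemma M_zero_of_Pi (n : ℕ) (h : Pi β (n + 1) = 0) (m i : ιT ⊕ ιL) :
    Mm E bT bL (Vs0 E bT bL β) (n + 1) m i = 0 := by
  have h' := Mm_rec E bT bL (Vs0 E bT bL β) n 0 m i
  rw [add_zero] at h'
  rw [h']
  refine Finset.sum_eq_zero fun j _ => ?_
  rcases j with j | k'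
  · rw [M0_inl, mul_zero]
  · rcases m with j' | k
    · rw [Mn_inl, zero_pow (pow_ne_zero _ hp.out.ne_zero), zero_mul]
    · rw [Mn_inr, h, Matrix.zero_apply, zero_pow (pow_ne_zero _ hp.out.ne_zero), zero_mul]

theorem main (hαβ : α * β = 1) (hβα : β * α = 1)
    (hΦ : ∀ m, Phi E (eB E bT bL m) = ∑ i, α i m • eB E bT bL i) :
    IsDisplay D ↔ ∃ N : ℕ, 0 < N ∧ Pi β N = 0 := by
  constructor
  · rintro ⟨Vs, hVs, hnil⟩
    have hVs0 : Vs = Vs0 E bT bL β := Vs_eq E bT bL α β hαβ hΦ Vs hVs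
    rw [hVs0, nil_iff E bT bL] at hnil
    obtain ⟨n, hn⟩ := hnil
    refine ⟨n + 1, Nat.succ_pos n, ?_⟩
    ext k l
    rw [← Mn_inr E bT bL β n k l, hn, Matrix.zero_apply]
  · rintro ⟨N, hN, h⟩
    obtain ⟨n, rfl⟩ : ∃ n, N = n + 1 := ⟨N - 1, by omega⟩
    exact ⟨Vs0 E bT bL β, isVSharp0 E bT bL α β hβα hΦ,
      (nil_iff E bT bL _).2 ⟨n + 1, M_zero_of_Pi E bT bL β n h⟩⟩

end Disp3

end Groth.Agent.Helper8.DispMat
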