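import Mathlib
import Groth.Prelude.Def_Disp2

set_option autoImplicit false
set_option linter.style.haveILetI false
set_option linter.unusedSectionVars false
set_option linter.unusedVariables false

universe u v

noncomputable section

namespace Groth.Agent.Helper8.DispPerf

open Dieu TensorProduct

section Retract

variable {A : Type u} [CommRing A] (g : A →+* A)
variable (M : Type v) [AddCommGroup M] [Module A M]

/-- the bilinear map `(b, x) ↦ g⁻¹(b) • x`. -/
def psi (e : A ≃+* A) (he : ∀ a, e a = g a) : Res g →ₗ[A] M →ₗ[A] M :=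
  LinearMap.mk₂ A (fun t x => e.symm t.val • x)
    (fun s t x => by rw [Res.val_add, map_add, add_smul])
    (fun c t x => by
      rw [Res.val_smul, map_mul, ← he, RingEquiv.symm_apply_apply, mul_smul])
    (fun t x y => by rw [smul_add])
    (fun c t x => by rw [smul_comm])

lemma exists_retract (hg : Function.Bijective g) :
    ∃ Λ : BC g M →+ M, ∀ x : M, Λ (BC.tmul g 1 x) = x := by
  let e : A ≃+* A := RingEquiv.ofBijective g hg
  have he : ∀ a, e a = g a := fun a => rfl
  refine ⟨(TensorProduct.lift (psi g M e he)).toAddMonoidHom, fun x => ?_⟩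
  show TensorProduct.lift (psi g M e he) ((Res.mk g 1) ⊗ₜ[A] x) = x
  rw [TensorProduct.lift.tmul]
  show e.symm (1 : A) • x = x
  rw [map_one, one_smul]

variable {M}

lemma tmul_one_mem_iff (hg : Function.Bijective g) (n : ℕ) (y : M) :
    BC.tmul g 1 y ∈ Ideal.span {(n : A)} • (⊤ : Submodule A (BC g M)) ↔
      ∃ y' : M, (n : A) • y' = y := by
  constructor
  · intro h
    rw [Submodule.ideal_span_singleton_smul] at h
    obtain ⟨z, -, hz⟩ := (Submodule.mem_smul_pointwise_iff_exists _ _ _).mp h
    obtain ⟨Λ, hΛ⟩ := exists_retract g M hg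
    refine ⟨Λ z, ?_⟩
    calc (n : A) • Λ z = n • Λ z := Nat.cast_smul_eq_nsmul A n _
      _ = Λ (n • z) := (map_nsmul Λ n z).symm
      _ = Λ ((n : A) • z) := by rw [Nat.cast_smul_eq_nsmul A n z]
      _ = Λ (BC.tmul g 1 y) := by rw [hz]
      _ = y := hΛ y
  · rintro ⟨y', rfl⟩
    have h1 : BC.tmul g 1 ((n : A) • y') = (n : A) • BC.tmul g 1 y' := by
      rw [← BC.tmul_apply_eq, map_natCast, ← BC.tmul_eq_smul_tmul_one]
    rw [h1]
    exact Submodule.smul_mem_smul (Ideal.mem_span_singleton_self _) Submodule.mem_top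

end Retract

section Main

variable {p : ℕ} [Fact p.Prime] {k : Type u} [CommRing k]
variable {M : Type v} [AddCommGroup M] [Module (WittVector p k) M]

lemma vSharpPow_eq
    (Vs : M →ₗ[WittVector p k] BC (WittVector.frobenius : WittVector p k →+* WittVector p k) M)
    (V : M → M)
    (hVs : ∀ m, Vs m = BC.tmul (WittVector.frobenius : WittVector p k →+* WittVector p k) 1 (V m)) :
    ∀ (n : ℕ) (m : M), vSharpPow Vs n m =
      BC.tmul ((WittVector.frobenius : WittVector p k →+* WittVector p k) ^ (n + 1)) 1 (V^[n+1] m)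
  | 0, m => by
    rw [vSharpPow_zero_apply, hVs, BC.castHom_tmul]; rfl
  | n + 1, m => by
    have h2 : V^[n+1] (V m) = V^[n+1+1] m := (Function.iterate_succ_apply V (n+1) m).symm
    rw [vSharpPow_succ_apply, hVs, BC.map_tmul, vSharpPow_eq Vs V hVs n (V m), BC.lift_tmul, one_smul,
      BC.push_tmul, map_one, BC.castHom_tmul, h2]

variable [CharP k p] [PerfectRing k p]

lemma IV_le : W4c1extbt610.IV p k ≤ Ideal.span {(p : WittVector p k)} := by
  rw [W4c1extbt610.IV, Ideal.span_le]
  rintro _ ⟨w, rfl⟩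
  obtain ⟨w', rfl⟩ : ∃ w', w = WittVector.frobenius w' :=
    ⟨(WittVector.frobeniusEquiv p k).symm w, ((WittVector.frobeniusEquiv p k).apply_symm_apply w).symm⟩
  rw [WittVector.verschiebung_frobenius]
  exact Ideal.mem_span_singleton'.mpr ⟨_, rfl⟩

theorem main (Dm : Dieu.DieuMod p k M) (D : W4c1extbt610.Display3n p k M)
    (hF : D.F = Dm.F) (hQ : ∀ x : M, x ∈ D.Q ↔ x ∈ Set.range Dm.V)
    (hV : ∀ (m : M) (h : Dm.V m ∈ D.Q), D.Vinv ⟨Dm.V m, h⟩ = m) :
    Dieu.IsDisplay D ↔ Dm.VTopNilp := by
  have hbij : ∀ N : ℕ, Function.Bijective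
      ((WittVector.frobenius : WittVector p k →+* WittVector p k) ^ N) := by
    intro N
    rw [RingHom.coe_pow]
    exact (WittVector.frobenius_bijective p k).iterate N
  have hJ : W4c1extbt610.IV p k ⊔ Ideal.span {(p : WittVector p k)} =
      Ideal.span {(p : WittVector p k)} := sup_eq_right.mpr IV_le
  have hVp : ∀ (j : ℕ) (y : M), (⇑Dm.V)^[j] ((p : WittVector p k) • y) =
      (p : WittVector p k) • (⇑Dm.V)^[j] y := by
    intro j
    induction j with
    | zero => intro y; rfl
    | succ j ih =>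
      intro y
      rw [Function.iterate_succ_apply', Function.iterate_succ_apply', ih, map_smulₛₗ, map_natCast]
  have key : ∀ (Vs : M →ₗ[WittVector p k]
        BC (WittVector.frobenius : WittVector p k →+* WittVector p k) M),
      (∀ m, Vs m = BC.tmul (WittVector.frobenius : WittVector p k →+* WittVector p k) 1 (Dm.V m)) →
      (Dieu.IsVNilpotent Vs ↔
        ∃ n : ℕ, ∀ m : M, ∃ y : M, (p : WittVector p k) • y = (⇑Dm.V)^[n+1] m) := by
    intro Vs hVs
    unfold Dieu.IsVNilpotent
    refine exists_congr fun n => forall_congr' fun m => ?_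
    rw [vSharpPow_eq Vs (⇑Dm.V) hVs n m, hJ]
    exact tmul_one_mem_iff _ (hbij (n+1)) p _
  constructor
  · rintro ⟨Vs, hVs, hnil⟩
    have hVs' : ∀ m, Vs m =
        BC.tmul (WittVector.frobenius : WittVector p k →+* WittVector p k) 1 (Dm.V m) := by
      intro m
      have hm : Dm.V m ∈ D.Q := (hQ _).2 ⟨m, rfl⟩
      have := hVs.app_smul_Vinv 1 ⟨Dm.V m, hm⟩
      rw [one_smul, hV m hm] at this
      exact this
    obtain ⟨n, hn⟩ := (key Vs hVs').1 hnil
    intro e
    refine ⟨(n+1) * e, fun m => ?_⟩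
    rw [Ideal.span_singleton_pow, Submodule.ideal_span_singleton_smul,
      Submodule.mem_smul_pointwise_iff_exists]
    suffices h : ∀ e : ℕ, ∀ m : M, ∃ y : M,
        ((p : WittVector p k) ^ e) • y = (⇑Dm.V)^[(n+1) * e] m by
      obtain ⟨y, hy⟩ := h e m
      exact ⟨y, Submodule.mem_top, hy⟩
    intro e
    induction e with
    | zero => intro m; exact ⟨m, by simp⟩
    | succ e ih =>
      intro m
      obtain ⟨y₁, hy₁⟩ := hn m
      obtain ⟨y₂, hy₂⟩ := ih y₁
      refine ⟨y₂, ?_⟩
      rw [mul_add_one, Function.iterate_add_apply, ← hy₁, hVp, ← hy₂, pow_succ', mul_smul]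
  · intro h
    have hlin : ∀ (w : WittVector p k) (m : M),
        BC.tmul (WittVector.frobenius : WittVector p k →+* WittVector p k) 1 (Dm.V (w • m)) =
          w • BC.tmul (WittVector.frobenius : WittVector p k →+* WittVector p k) 1 (Dm.V m) := by
      intro w m
      have ha : (WittVector.frobenius : WittVector p k →+* WittVector p k)
          (((WittVector.frobeniusEquiv p k).symm : WittVector p k →+* WittVector p k) w) = w :=
        (WittVector.frobeniusEquiv p k).apply_symm_apply w
      rw [map_smulₛₗ, ← BC.tmul_apply_eq, ha, ← BC.tmul_eq_smul_tmul_one]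
    let Vs : M →ₗ[WittVector p k]
        BC (WittVector.frobenius : WittVector p k →+* WittVector p k) M :=
      { toFun := fun m =>
          BC.tmul (WittVector.frobenius : WittVector p k →+* WittVector p k) 1 (Dm.V m)
        map_add' := fun x y => by rw [map_add, BC.tmul_add]
        map_smul' := fun w m => by rw [RingHom.id_apply]; exact hlin w m }
    have hVs' : ∀ m, Vs m =
        BC.tmul (WittVector.frobenius : WittVector p k →+* WittVector p k) 1 (Dm.V m) :=
      fun m => rfl
    refine ⟨Vs, ⟨?_, ?_⟩, (key Vs hVs').2 ?_⟩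
    · intro w x
      rw [map_smul, hVs', hF, Dm.V_F, ← BC.tmul_apply_eq, map_natCast, BC.smul_tmul, BC.smul_tmul,
        mul_comm w]
    · rintro w ⟨y, hyQ⟩
      obtain ⟨m, rfl⟩ := (hQ y).1 hyQ
      rw [map_smul, hVs', hV m hyQ, BC.smul_tmul, mul_one]
    · obtain ⟨n, hn⟩ := h 1
      refine ⟨n, fun m => ?_⟩
      have := hn (Dm.V m)
      rw [pow_one, Submodule.ideal_span_singleton_smul,
        Submodule.mem_smul_pointwise_iff_exists] at this
      obtain ⟨y, -, hy⟩ := this
      exact ⟨y, by rw [hy, Function.iterate_succ_apply]⟩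

end Main

end Groth.Agent.Helper8.DispPerf
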