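import Mathlib

/-!
# A point in the fibre with small local dimension (helper8)
-/

set_option autoImplicit false
universe u

namespace Groth.Agent.Helper8.FibreDim

open AlgebraicGeometry Topology

theorem exists_prime_le_height_le {A B : Type*} [CommRing A] [CommRing B] [IsNoetherianRing A]
    [IsNoetherianRing B]
    (φ : A →+* B) (q : Ideal A) [q.IsPrime] (p₀ : Ideal B) [p₀.IsPrime]
    (h : p₀.comap φ = q) :
    ∃ P : Ideal B, P.IsPrime ∧ P ≤ p₀ ∧ P.comap φ = q ∧ P.height ≤ q.height := by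
  letI : Algebra A B := φ.toAlgebra
  have hle : q.map φ ≤ p₀ := by rw [Ideal.map_le_iff_le_comap, h]
  obtain ⟨P, hP, hPp₀⟩ := Ideal.exists_minimalPrimes_le hle
  have hPp : P.IsPrime := hP.1.1
  have hcomap : P.comap φ = q := by
    apply le_antisymm
    · rw [← h]; exact Ideal.comap_mono hPp₀
    · rw [← Ideal.map_le_iff_le_comap]; exact hP.1.2
  have hlo : P.LiesOver q := ⟨hcomap.symm⟩
  have h1 := Ideal.height_le_height_add_of_liesOver q P
  have h2 : (P.map (Ideal.Quotient.mk (q.map (algebraMap A B)))).height = 0 := by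
    have hmem : P ∈ (q.map (algebraMap A B)).minimalPrimes := hP
    rw [Ideal.minimalPrimes_eq_comap] at hmem
    obtain ⟨P', hP', hP'eq⟩ := hmem
    rw [← hP'eq, Ideal.map_comap_of_surjective _ Ideal.Quotient.mk_surjective]
    have := hP'.1.1
    exact Ideal.height_eq_zero_iff.mpr hP'
  rw [h2, add_zero] at h1
  exact ⟨P, hPp, hPp₀, hcomap, h1⟩

theorem ringKrullDim_stalk_eq_height {X : Scheme.{u}} {V : X.Opens} (hV : IsAffineOpen V)
    (x : X) (hx : x ∈ V) :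
    ringKrullDim (X.presheaf.stalk x) =
      ((hV.primeIdealOf ⟨x, hx⟩).asIdeal.height : WithBot ℕ∞) := by
  letI := TopCat.Presheaf.algebra_section_stalk X.presheaf (⟨x, hx⟩ : V)
  have := hV.isLocalization_stalk ⟨x, hx⟩
  exact IsLocalization.AtPrime.ringKrullDim_eq_height (hV.primeIdealOf ⟨x, hx⟩).asIdeal
    (X.presheaf.stalk x)

theorem exists_point_fibre_dim_le {X Y : Scheme.{u}} (f : X ⟶ Y) [IsLocallyNoetherian X]
    [IsLocallyNoetherian Y] (x₀ : X) :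
    ∃ x : X, f x = f x₀ ∧
      ringKrullDim (X.presheaf.stalk x) ≤ ringKrullDim (Y.presheaf.stalk (f x₀)) := by
  obtain ⟨U, hU, hyU, -⟩ := exists_isAffineOpen_mem_and_subset (x := f x₀) (U := ⊤) trivial
  have hx₀U : x₀ ∈ f ⁻¹ᵁ U := hyU
  obtain ⟨V, hV, hx₀V, hVU⟩ :=
    exists_isAffineOpen_mem_and_subset (x := x₀) (U := f ⁻¹ᵁ U) hx₀U
  have hVU' : V ≤ f ⁻¹ᵁ U := hVU
  have : IsNoetherianRing Γ(X, V) := IsLocallyNoetherian.component_noetherian ⟨V, hV⟩
  have : IsNoetherianRing Γ(Y, U) := IsLocallyNoetherian.component_noetherian ⟨U, hU⟩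
  have hcomap : (hV.primeIdealOf ⟨x₀, hx₀V⟩).asIdeal.comap (f.appLE U V hVU').hom =
      (hU.primeIdealOf ⟨f x₀, hyU⟩).asIdeal :=
    congrArg PrimeSpectrum.asIdeal
      (IsAffineOpen.comap_primeIdealOf_appLE (f := f) U hU V hV hVU' hx₀V)
  obtain ⟨P, hPp, hPle, hPq, hPh⟩ := exists_prime_le_height_le (f.appLE U V hVU').hom
    (hU.primeIdealOf ⟨f x₀, hyU⟩).asIdeal (hV.primeIdealOf ⟨x₀, hx₀V⟩).asIdeal hcomap
  let P' : PrimeSpectrum Γ(X, V) := ⟨P, hPp⟩
  have hxV : hV.fromSpec P' ∈ V := by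
    rw [← SetLike.mem_coe, ← hV.range_fromSpec]
    exact ⟨P', rfl⟩
  have hP'x : hV.primeIdealOf ⟨hV.fromSpec P', hxV⟩ = P' := by
    apply hV.fromSpec.isOpenEmbedding.injective
    rw [hV.fromSpec_primeIdealOf]
  have hfx : f (hV.fromSpec P') = f x₀ := by
    have h1 := IsAffineOpen.comap_primeIdealOf_appLE (f := f) U hU V hV hVU' hxV
    rw [hP'x] at h1
    have h2 : PrimeSpectrum.comap (f.appLE U V hVU').hom P' = hU.primeIdealOf ⟨f x₀, hyU⟩ :=
      PrimeSpectrum.ext hPq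
    have h3 : hU.primeIdealOf ⟨f (hV.fromSpec P'), hVU' hxV⟩ = hU.primeIdealOf ⟨f x₀, hyU⟩ :=
      h1.symm.trans h2
    have h4 : hU.fromSpec (hU.primeIdealOf ⟨f (hV.fromSpec P'), hVU' hxV⟩) =
        hU.fromSpec (hU.primeIdealOf ⟨f x₀, hyU⟩) := by rw [h3]
    rwa [hU.fromSpec_primeIdealOf, hU.fromSpec_primeIdealOf] at h4
  refine ⟨hV.fromSpec P', hfx, ?_⟩
  rw [ringKrullDim_stalk_eq_height hV _ hxV, ringKrullDim_stalk_eq_height hU (f x₀) hyU, hP'x]
  exact WithBot.coe_le_coe.mpr hPh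

end Groth.Agent.Helper8.FibreDim
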