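import Mathlib
import Groth.Agent.Lib.Helper8.AlgClosedRoot

/-!
Solvability conditions for the Frobenius of an algebraically closed field and its inverse
(helper8).
-/

namespace Groth.Agent.Helper8.FrobSolv

open Polynomial

universe u

/-- condition (i): twisted additive equations have nonzero solutions -/
def H2 (K : Type u) [Field K] (τ : K →+* K) : Prop :=
  ∀ (n : ℕ) (b : Fin (n + 1) → K), b ≠ 0 →
    ∃ x : K, x ≠ 0 ∧ x = ∑ i : Fin (n + 1), (⇑τ)^[i.val + 1] x * (⇑τ)^[i.val] (b (Fin.rev i))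

/-- condition (ii): Artin-Schreier type equations are solvable -/
def H3 (K : Type u) [Field K] (τ : K →+* K) : Prop := ∀ c : K, ∃ y : K, τ y - y + c = 0

theorem H2.transport {κ k : Type u} [Field κ] [Field k] (e : κ →+* k) (he : Function.Bijective e)
    (τ' : κ →+* κ) (τ : k →+* k) (hcomm : ∀ x, e (τ' x) = τ (e x)) (h : H2 k τ) : H2 κ τ' := by
  have hiter : ∀ (j : ℕ) (x : κ), e ((⇑τ')^[j] x) = (⇑τ)^[j] (e x) := by
    intro j
    induction j with
    | zero => intro x; rfl
    | succ j ih =>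
      intro x
      rw [Function.iterate_succ_apply', Function.iterate_succ_apply', hcomm, ih]
  intro n b hb
  have hb' : (fun i => e (b i)) ≠ 0 := by
    intro h0
    apply hb
    funext i
    apply he.1
    rw [Pi.zero_apply, map_zero]
    exact congrFun h0 i
  obtain ⟨x', hx'0, hx'⟩ := h n (fun i => e (b i)) hb'
  obtain ⟨x, rfl⟩ := he.2 x'
  refine ⟨x, fun h0 => hx'0 (by rw [h0, map_zero]), ?_⟩
  apply he.1
  rw [map_sum]
  refine hx'.trans ?_
  apply Finset.sum_congr rfl
  intro i _
  rw [map_mul, hiter, hiter]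

theorem H3.transport {κ k : Type u} [Field κ] [Field k] (e : κ →+* k) (he : Function.Bijective e)
    (τ' : κ →+* κ) (τ : k →+* k) (hcomm : ∀ x, e (τ' x) = τ (e x)) (h : H3 k τ) : H3 κ τ' := by
  intro c
  obtain ⟨y', hy'⟩ := h (e c)
  obtain ⟨y, rfl⟩ := he.2 y'
  refine ⟨y, he.1 ?_⟩
  rw [map_add, map_sub, hcomm, hy', map_zero]

variable (p : ℕ) [Fact p.Prime] (k : Type u) [Field k] [CharP k p] [IsAlgClosed k]

theorem h3_frobenius : H3 k (frobenius k p) := by
  intro c
  have hp1 : 1 < p := (Fact.out : p.Prime).one_lt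
  have hp0 : 0 < p := by omega
  have hdeg : (X ^ p - (X - C c) : k[X]).degree ≠ 0 := by
    have hlt : (X - C c : k[X]).degree < (X ^ p : k[X]).degree := by
      rw [degree_X_pow, degree_X_sub_C]
      exact_mod_cast hp1
    rw [degree_sub_eq_left_of_degree_lt hlt, degree_X_pow]
    exact_mod_cast hp0.ne'
  obtain ⟨z, hz⟩ := IsAlgClosed.exists_root _ hdeg
  refine ⟨z, ?_⟩
  rw [frobenius_def]
  simp only [IsRoot.def, eval_sub, eval_pow, eval_X, eval_C] at hz
  linear_combination hz

theorem h2_frobenius : H2 k (frobenius k p) := by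
  intro n b hb
  have hp1 : 1 < p := (Fact.out : p.Prime).one_lt
  have hp2 : 2 ≤ p := hp1
  let c : Fin (n + 1) → k := fun i => (⇑(frobenius k p))^[i.val] (b (Fin.rev i))
  have hc : ∀ i, c i = (⇑(frobenius k p))^[i.val] (b (Fin.rev i)) := fun i => rfl
  let S : k[X] := ∑ i : Fin (n + 1), C (c i) * X ^ (p ^ (i.val + 1))
  let P : k[X] := S - X
  have hpow1 : ∀ m : ℕ, 1 < p ^ (m + 1) := fun m => Nat.one_lt_pow (Nat.succ_ne_zero _) hp1
  obtain ⟨i0, hci0⟩ : ∃ i0, c i0 ≠ 0 := by
    obtain ⟨j, hj⟩ : ∃ j, b j ≠ 0 := by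
      by_contra hall
      push Not at hall
      exact hb (funext hall)
    refine ⟨Fin.rev j, ?_⟩
    intro h
    apply hj
    have hinj : Function.Injective ((⇑(frobenius k p))^[(Fin.rev j).val]) :=
      (frobenius_inj k p).iterate _
    apply hinj
    have h' : (⇑(frobenius k p))^[(Fin.rev j).val] (b (Fin.rev (Fin.rev j))) = 0 := h
    rw [Fin.rev_rev] at h'
    rw [h', iterate_map_zero]
  have hScoeff : S.coeff (p ^ (i0.val + 1)) = c i0 := by
    simp only [S]
    rw [finsetSum_coeff, Finset.sum_eq_single i0]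
    · rw [coeff_C_mul_X_pow, if_pos rfl]
    · intro i _ hi
      rw [coeff_C_mul_X_pow, if_neg]
      intro h
      have h' := Nat.pow_right_injective hp2 h
      apply hi
      ext
      omega
    · intro h
      exact absurd (Finset.mem_univ _) h
  have hS1 : S.coeff 1 = 0 := by
    simp only [S]
    rw [finsetSum_coeff]
    apply Finset.sum_eq_zero
    intro i _
    rw [coeff_C_mul_X_pow, if_neg]
    intro h
    have := hpow1 i.val
    omega
  have hP1 : P.coeff 1 = -1 := by
    simp only [P]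
    rw [coeff_sub, hS1, coeff_X_one, zero_sub]
  have hPi0 : P.coeff (p ^ (i0.val + 1)) = c i0 := by
    simp only [P]
    rw [coeff_sub, hScoeff, coeff_X, if_neg, sub_zero]
    intro h
    have := hpow1 i0.val
    omega
  have hdeg : 1 < P.natDegree := by
    have h1 : p ^ (i0.val + 1) ≤ P.natDegree :=
      le_natDegree_of_ne_zero (by rw [hPi0]; exact hci0)
    have := hpow1 i0.val
    omega
  obtain ⟨z, hz0, hz⟩ := exists_ne_zero_root_of_coeff_ne_zero P 1 hdeg (by rw [hP1]; simp)
  have heval : z = ∑ i : Fin (n + 1), c i * z ^ (p ^ (i.val + 1)) := by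
    simp only [P, S, eval_sub, eval_pow, eval_X, eval_finsetSum, eval_mul, eval_C] at hz
    exact (sub_eq_zero.mp hz).symm
  refine ⟨z, hz0, heval.trans ?_⟩
  apply Finset.sum_congr rfl
  intro i _
  rw [iterate_frobenius, hc, mul_comm]

theorem frobeniusEquiv_symm_pow (w : k) : (frobeniusEquiv k p).symm.toRingHom (w ^ p) = w := by
  show (frobeniusEquiv k p).symm (w ^ p) = w
  rw [← frobenius_def, frobeniusEquiv_symm_apply_frobenius]

theorem frobeniusEquiv_symm_iterate (j m : ℕ) (z : k) :
    (⇑(frobeniusEquiv k p).symm.toRingHom)^[j] (z ^ (p ^ (j + m))) = z ^ (p ^ m) := by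
  induction j generalizing m z with
  | zero => simp
  | succ j ih =>
    rw [Function.iterate_succ_apply, show j + 1 + m = (j + m) + 1 by ring, pow_succ p, pow_mul,
      frobeniusEquiv_symm_pow, ih]

theorem h3_frobeniusEquiv_symm : H3 k (frobeniusEquiv k p).symm.toRingHom := by
  intro c
  have hp1 : 1 < p := (Fact.out : p.Prime).one_lt
  have hp0 : 0 < p := by omega
  have hdeg : (X ^ p - (X + C c) : k[X]).degree ≠ 0 := by
    have hlt : (X + C c : k[X]).degree < (X ^ p : k[X]).degree := by
      rw [degree_X_pow, degree_X_add_C]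
      exact_mod_cast hp1
    rw [degree_sub_eq_left_of_degree_lt hlt, degree_X_pow]
    exact_mod_cast hp0.ne'
  obtain ⟨z, hz⟩ := IsAlgClosed.exists_root _ hdeg
  refine ⟨z ^ p, ?_⟩
  rw [frobeniusEquiv_symm_pow]
  simp only [IsRoot.def, eval_sub, eval_pow, eval_X, eval_add, eval_C] at hz
  linear_combination -hz

theorem h2_frobeniusEquiv_symm : H2 k (frobeniusEquiv k p).symm.toRingHom := by
  intro n b hb
  have hp1 : 1 < p := (Fact.out : p.Prime).one_lt
  have hp2 : 2 ≤ p := hp1
  have hp0 : 0 < p := by omega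
  have hσinj : Function.Injective (frobeniusEquiv k p).symm.toRingHom :=
    (frobeniusEquiv k p).symm.injective
  let c : Fin (n + 1) → k := fun i => (⇑(frobeniusEquiv k p).symm.toRingHom)^[i.val] (b (Fin.rev i))
  have hc : ∀ i, c i = (⇑(frobeniusEquiv k p).symm.toRingHom)^[i.val] (b (Fin.rev i)) := fun i => rfl
  let S : k[X] := ∑ i : Fin (n + 1), C (c i) * X ^ (p ^ (n - i.val))
  let P : k[X] := X ^ (p ^ (n + 1)) - S
  have hSdeg : S.natDegree ≤ p ^ n := by
    apply natDegree_sum_le_of_forall_le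
    intro i _
    refine (natDegree_C_mul_X_pow_le _ _).trans ?_
    exact Nat.pow_le_pow_right hp0 (Nat.sub_le _ _)
  have hlt : p ^ n < p ^ (n + 1) := Nat.pow_lt_pow_right hp1 (Nat.lt_succ_self n)
  have hPdeg : P.natDegree = p ^ (n + 1) := by
    have hlt' : S.natDegree < (X ^ (p ^ (n + 1)) : k[X]).natDegree := by
      rw [natDegree_X_pow]
      exact lt_of_le_of_lt hSdeg hlt
    simp only [P]
    rw [natDegree_sub_eq_left_of_natDegree_lt hlt', natDegree_X_pow]
  obtain ⟨i0, hci0⟩ : ∃ i0, c i0 ≠ 0 := by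
    obtain ⟨j, hj⟩ : ∃ j, b j ≠ 0 := by
      by_contra hall
      push Not at hall
      exact hb (funext hall)
    refine ⟨Fin.rev j, ?_⟩
    intro h
    apply hj
    have hinj : Function.Injective ((⇑(frobeniusEquiv k p).symm.toRingHom)^[(Fin.rev j).val]) :=
      hσinj.iterate _
    apply hinj
    have h' : (⇑(frobeniusEquiv k p).symm.toRingHom)^[(Fin.rev j).val] (b (Fin.rev (Fin.rev j))) = 0 := h
    rw [Fin.rev_rev] at h'
    rw [h', iterate_map_zero]
  have hcoeff : P.coeff (p ^ (n - i0.val)) = - c i0 := by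
    have h1 : (X ^ (p ^ (n + 1)) : k[X]).coeff (p ^ (n - i0.val)) = 0 := by
      rw [coeff_X_pow, if_neg]
      intro h
      have h' := Nat.pow_right_injective hp2 h
      omega
    have h2 : S.coeff (p ^ (n - i0.val)) = c i0 := by
      simp only [S]
      rw [finsetSum_coeff, Finset.sum_eq_single i0]
      · rw [coeff_C_mul_X_pow, if_pos rfl]
      · intro i _ hi
        rw [coeff_C_mul_X_pow, if_neg]
        intro h
        have h' := Nat.pow_right_injective hp2 h
        apply hi
        ext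
        have h1 := i.2
        have h2 := i0.2
        omega
      · intro h
        exact absurd (Finset.mem_univ _) h
    simp only [P]
    rw [coeff_sub, h1, h2, zero_sub]
  obtain ⟨z, hz0, hz⟩ := exists_ne_zero_root_of_coeff_ne_zero P (p ^ (n - i0.val))
    (by rw [hPdeg]; exact Nat.pow_lt_pow_right hp1 (by omega))
    (by rw [hcoeff]; exact neg_ne_zero.mpr hci0)
  have heval : z ^ (p ^ (n + 1)) = ∑ i : Fin (n + 1), c i * z ^ (p ^ (n - i.val)) := by
    simp only [P, S, eval_sub, eval_pow, eval_X, eval_finsetSum, eval_mul, eval_C] at hz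
    exact sub_eq_zero.mp hz
  refine ⟨z ^ (p ^ (n + 1)), pow_ne_zero _ hz0, heval.trans ?_⟩
  apply Finset.sum_congr rfl
  intro i _
  have hi := i.2
  have hexp : z ^ (p ^ (n + 1)) = z ^ (p ^ ((i.val + 1) + (n - i.val))) := by
    congr 2
    omega
  rw [hexp, frobeniusEquiv_symm_iterate, hc, mul_comm]

end Groth.Agent.Helper8.FrobSolv
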