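import Mathlib
import Groth.Prelude.Def_GrMap

set_option autoImplicit false
universe u v

namespace Groth.Agent.Helper8.GrBij

/-- Degreewise criterion for bijectivity of the induced map of associated graded rings. -/
theorem map_bijective_of {A : Type u} {B : Type v} [CommRing A] [CommRing B] {φ : A →+* B}
    {𝓕 : FiltBl.IdealFiltration A} {𝓖 : FiltBl.IdealFiltration B}
    (h : AssocGr.IsFiltHom φ 𝓕 𝓖)
    (hinj : ∀ (n : ℕ) (a : A), a ∈ 𝓕.F n → φ a ∈ 𝓖.F (n + 1) → a ∈ 𝓕.F (n + 1))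
    (hsurj : ∀ (n : ℕ) (y : B), y ∈ 𝓖.F n → ∃ a ∈ 𝓕.F n, y - φ a ∈ 𝓖.F (n + 1)) :
    Function.Bijective (AssocGr.map h) := by
  classical
  constructor
  · rw [injective_iff_map_eq_zero]
    intro x hx
    obtain ⟨f, rfl⟩ := AssocGr.mkG_surjective _ x
    rw [AssocGr.map_mkG, AssocGr.mkG_eq_zero_iff] at hx
    rw [AssocGr.mkG_eq_zero_iff]
    intro n
    have h1 := hx n
    rw [AssocGr.coe_reesMap, Polynomial.coeff_map] at h1
    exact hinj n _ (f.2 n) h1
  · intro y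
    obtain ⟨g, rfl⟩ := AssocGr.mkG_surjective _ y
    rw [← RingHom.mem_range, ← AssocGr.sum_term 𝓖 g, map_sum]
    refine Subring.sum_mem _ fun n _ => ?_
    rw [AssocGr.mkG_term]
    set x : B := (g : Polynomial B).coeff n with hxdef
    have hxmem : x ∈ 𝓖.F n := g.2 n
    obtain ⟨a, han, hdiff⟩ := hsurj n x hxmem
    have hιa : φ a ∈ 𝓖.F n := h.apply_mem han
    have heq : AssocGr.inDeg 𝓖 n ⟨x, hxmem⟩ = AssocGr.inDeg 𝓖 n ⟨φ a, hιa⟩ := by
      rw [← sub_eq_zero, ← map_sub, AssocGr.inDeg_eq_zero_iff]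
      exact hdiff
    have hmap := AssocGr.map_inDeg h n ⟨a, han⟩
    rw [RingHom.mem_range]
    refine ⟨_, hmap.trans ?_⟩
    rw [heq]

/-- Key algebraic fact: for `R → S` formally étale and `J ⊆ S` with `R → S/J` surjective,
`R/Iⁿ → S/Jⁿ` is an isomorphism, `I = J ∩ R`. -/
theorem formallyEtale_key (R S : Type u) [CommRing R] [CommRing S] [Algebra R S]
    [Algebra.FormallyEtale R S] (J : Ideal S)
    (hJ : Function.Surjective (algebraMap R (S ⧸ J))) (n : ℕ) :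
    (∀ r : R, algebraMap R S r ∈ J ^ n → r ∈ (J.comap (algebraMap R S)) ^ n) ∧
    (∀ y : S, ∃ r : R, y - algebraMap R S r ∈ J ^ n) := by
  classical
  set I : Ideal R := J.comap (algebraMap R S) with hIdef
  have hIJ : ∀ i ∈ I, algebraMap R S i ∈ J := fun i hi => hi
  have hIJn : ∀ i ∈ I ^ n, algebraMap R S i ∈ J ^ n := by
    intro i hi
    have h1 : (I ^ n).map (algebraMap R S) ≤ J ^ n := by
      rw [Ideal.map_pow]
      exact Ideal.pow_right_mono Ideal.map_comap_le n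
    exact h1 (Ideal.mem_map_of_mem _ hi)
  let K : Ideal (R ⧸ I ^ n) := I.map (Ideal.Quotient.mk (I ^ n))
  have hK : IsNilpotent K := ⟨n, by
    rw [Ideal.zero_eq_bot, ← Ideal.map_pow, Ideal.map_quotient_self]⟩
  let L : Ideal (S ⧸ J ^ n) := J.map (Ideal.Quotient.mk (J ^ n))
  have hL : IsNilpotent L := ⟨n, by
    rw [Ideal.zero_eq_bot, ← Ideal.map_pow, Ideal.map_quotient_self]⟩
  have hstep : ∀ y : S, ∃ r₀ : R, y - algebraMap R S r₀ ∈ J := by
    intro y
    obtain ⟨r₀, hr₀⟩ := hJ (Ideal.Quotient.mk J y)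
    refine ⟨r₀, ?_⟩
    rw [← Ideal.Quotient.eq, ← hr₀]
    rfl
  -- the map g
  let f₀ : R →ₐ[R] S ⧸ J := Algebra.ofId R (S ⧸ J)
  have hf₀ : Function.Surjective f₀ := hJ
  let e₁ : (R ⧸ RingHom.ker f₀) ≃ₐ[R] S ⧸ J := Ideal.quotientKerAlgEquivOfSurjective hf₀
  let lft : R ⧸ RingHom.ker f₀ →ₐ[R] (R ⧸ I ^ n) ⧸ K :=
    Ideal.Quotient.liftₐ (RingHom.ker f₀) (Algebra.ofId R ((R ⧸ I ^ n) ⧸ K)) (by
      intro a ha
      have ha' : a ∈ I := by
        rw [RingHom.mem_ker] at ha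
        have h2 : Ideal.Quotient.mk J (algebraMap R S a) = 0 := ha
        exact hIdef ▸ (Ideal.mem_comap.mpr (Ideal.Quotient.eq_zero_iff_mem.mp h2))
      have h3 : Ideal.Quotient.mk K (Ideal.Quotient.mk (I ^ n) a) = 0 :=
        Ideal.Quotient.eq_zero_iff_mem.mpr (Ideal.mem_map_of_mem _ ha')
      exact h3)
  let g : S →ₐ[R] (R ⧸ I ^ n) ⧸ K :=
    lft.comp (e₁.symm.toAlgHom.comp (Ideal.Quotient.mkₐ R J))
  have hg : ∀ j ∈ J, g j = 0 := by
    intro j hj
    have h0 : Ideal.Quotient.mkₐ R J j = 0 := Ideal.Quotient.eq_zero_iff_mem.mpr hj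
    simp only [g, AlgHom.comp_apply, h0, map_zero]
  let σ : S →ₐ[R] R ⧸ I ^ n := Algebra.FormallySmooth.lift K hK g
  have hσ : ∀ x, Ideal.Quotient.mk K (σ x) = g x := Algebra.FormallySmooth.mk_lift K hK g
  have claim1 : ∀ j ∈ J, σ j ∈ K := by
    intro j hj
    rw [← Ideal.Quotient.eq_zero_iff_mem, hσ, hg j hj]
  have claim2 : ∀ y ∈ J ^ n, σ y = 0 := by
    intro y hy
    have h1 : (J ^ n).map σ ≤ ⊥ := by
      rw [Ideal.map_pow]
      have h2 : J.map σ ≤ K := Ideal.map_le_iff_le_comap.mpr (fun j hj => claim1 j hj)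
      have h3 : K ^ n = ⊥ := by
        rw [← Ideal.map_pow, Ideal.map_quotient_self]
      exact (Ideal.pow_right_mono h2 n).trans h3.le
    have h4 := h1 (Ideal.mem_map_of_mem σ hy)
    exact (Submodule.mem_bot _).mp h4
  have hσalg : ∀ r : R, σ (algebraMap R S r) = Ideal.Quotient.mk (I ^ n) r := fun r => σ.commutes r
  have dec : ∀ y : S, ∃ r : R, σ y = Ideal.Quotient.mk (I ^ n) r ∧ y - algebraMap R S r ∈ J := by
    intro y
    obtain ⟨r₀, hr₀⟩ := hstep y
    have hk := claim1 _ hr₀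
    obtain ⟨i, hi, hik⟩ := (Ideal.mem_map_iff_of_surjective _ Ideal.Quotient.mk_surjective).mp hk
    refine ⟨r₀ + i, ?_, ?_⟩
    · rw [map_add, hik, map_sub, hσalg]
      ring
    · rw [map_add]
      have h5 : y - (algebraMap R S r₀ + algebraMap R S i) =
          (y - algebraMap R S r₀) - algebraMap R S i := by ring
      rw [h5]
      exact J.sub_mem hr₀ (hIJ i hi)
  refine ⟨?_, ?_⟩
  · intro r hr
    have h1 := claim2 _ hr
    rw [hσalg] at h1
    exact Ideal.Quotient.eq_zero_iff_mem.mp h1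
  · intro y
    let q : S →ₐ[R] S ⧸ J ^ n := Ideal.Quotient.mkₐ R (J ^ n)
    let ψ : R ⧸ I ^ n →ₐ[R] S ⧸ J ^ n :=
      Ideal.Quotient.liftₐ (I ^ n) (Algebra.ofId R (S ⧸ J ^ n)) (by
        intro a ha
        have h3 : Ideal.Quotient.mk (J ^ n) (algebraMap R S a) = 0 :=
          Ideal.Quotient.eq_zero_iff_mem.mpr (hIJn a ha)
        exact h3)
    have hψ : ∀ r : R, ψ (Ideal.Quotient.mk (I ^ n) r) =
        Ideal.Quotient.mk (J ^ n) (algebraMap R S r) := fun r => rfl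
    let τ : S →ₐ[R] S ⧸ J ^ n := ψ.comp σ
    have hqτ : q = τ := by
      apply Algebra.FormallyUnramified.ext L hL
      intro x
      obtain ⟨r, hr1, hr2⟩ := dec x
      have h6 : τ x = Ideal.Quotient.mk (J ^ n) (algebraMap R S r) := by
        simp only [τ, AlgHom.comp_apply, hr1, hψ]
      have h7 : q x = Ideal.Quotient.mk (J ^ n) x := rfl
      rw [h6, h7, Ideal.Quotient.eq, ← map_sub]
      exact Ideal.mem_map_of_mem _ hr2
    obtain ⟨r, hr1, hr2⟩ := dec y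
    refine ⟨r, ?_⟩
    have h8 : q y = τ y := by rw [hqτ]
    have h6 : τ y = Ideal.Quotient.mk (J ^ n) (algebraMap R S r) := by
      simp only [τ, AlgHom.comp_apply, hr1, hψ]
    have h7 : q y = Ideal.Quotient.mk (J ^ n) y := rfl
    rw [h6, h7] at h8
    exact Ideal.Quotient.eq.mp h8

end Groth.Agent.Helper8.GrBij
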