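import Mathlib

namespace Groth.Agent.Helper8.HopfEpi

open TensorProduct Coalgebra HopfAlgebra

variable (k : Type*) [Field k] (A B : Type*) [CommRing A] [HopfAlgebra k A] [CommRing B]
  [HopfAlgebra k B] [Algebra B A] [IsScalarTower k B A]

/-- `x ⊗ y ↦ S(x) ⊗_B y`. -/
noncomputable def Phi : A ⊗[k] A →ₗ[k] A ⊗[B] A :=
  (TensorProduct.mapOfCompatibleSMul B k k A A) ∘ₗ (antipode k).rTensor A

@[simp] theorem Phi_tmul (x y : A) : Phi k A B (x ⊗ₜ[k] y) = antipode k x ⊗ₜ[B] y := by
  simp [Phi]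

/-- `a ⊗ c ↦ S(a) c`. -/
noncomputable def sigma : A ⊗[k] A →ₗ[k] A :=
  LinearMap.mul' k A ∘ₗ (antipode k).rTensor A

@[simp] theorem sigma_tmul (a c : A) : sigma k A (a ⊗ₜ[k] c) = antipode k a * c := by
  simp [sigma]

theorem sigma_comul (b : A) : sigma k A (comul b) = algebraMap k A (counit b) := by
  simp [sigma]

variable (f : B →ₐc[k] A) (hf : ∀ b, algebraMap B A b = f b)

include hf in
theorem Phi_mul (X : A ⊗[k] A) (Y : B ⊗[k] B) :
    Phi k A B (X * TensorProduct.map (f : B →ₗ[k] A) (f : B →ₗ[k] A) Y) =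
      (sigma k A (TensorProduct.map (f : B →ₗ[k] A) (f : B →ₗ[k] A) Y) ⊗ₜ[B] (1 : A)) *
        Phi k A B X := by
  induction X using TensorProduct.induction_on with
  | zero => simp
  | add X₁ X₂ h₁ h₂ => simp only [add_mul, map_add, h₁, h₂, mul_add]
  | tmul x y =>
    induction Y using TensorProduct.induction_on with
    | zero => simp
    | add Y₁ Y₂ h₁ h₂ => simp only [mul_add, map_add, h₁, h₂, TensorProduct.add_tmul, add_mul]
    | tmul b b' =>
      simp only [TensorProduct.map_tmul, Algebra.TensorProduct.tmul_mul_tmul, Phi_tmul, sigma_tmul,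
        antipode_mul_distrib, one_mul]
      have e0 : ∀ c : B, ((f : B →ₗ[k] A) c) = f c := fun _ => rfl
      rw [e0, e0]
      have e1 : y * f b' = b' • y := by rw [Algebra.smul_def, hf, mul_comm]
      rw [e1, ← TensorProduct.smul_tmul, Algebra.smul_def, hf]
      congr 1
      ring


include hf in
theorem Phi_comul_mul_map (c : A) (i : B) (hi : counit (R := k) i = 0) :
    Phi k A B (comul (c * f i)) = 0 := by
  rw [Bialgebra.comul_mul, ← CoalgHomClass.map_comp_comul_apply, Phi_mul k A B f hf,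
    CoalgHomClass.map_comp_comul_apply, sigma_comul, CoalgHomClass.counit_comp_apply, hi, map_zero,
    TensorProduct.zero_tmul, zero_mul]

include hf in
theorem Phi_comul_of_mem (x : A)
    (hx : x ∈ Ideal.map f (RingHom.ker (Bialgebra.counitAlgHom k B))) :
    Phi k A B (comul x) = 0 := by
  suffices h : ∀ c : A, Phi k A B (comul (c * x)) = 0 by simpa using h 1
  refine Submodule.span_induction (p := fun x _ => ∀ c : A, Phi k A B (comul (c * x)) = 0)
    ?_ ?_ ?_ ?_ hx
  · rintro _ ⟨i, hi, rfl⟩ c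
    exact Phi_comul_mul_map k A B f hf c i hi
  · intro c
    simp
  · intro x y _ _ hx hy c
    rw [mul_add, map_add, map_add, hx, hy, add_zero]
  · intro c' x _ hx c
    rw [smul_eq_mul, ← mul_assoc]
    exact hx (c * c')

include hf in
theorem Phi_comul (hker : Ideal.map f (RingHom.ker (Bialgebra.counitAlgHom k B)) =
      RingHom.ker (Bialgebra.counitAlgHom k A)) (a : A) :
    Phi k A B (comul a) = (counit (R := k) a) • ((1 : A) ⊗ₜ[B] (1 : A)) := by
  have h1 : a - algebraMap k A (counit (R := k) a) ∈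
      Ideal.map f (RingHom.ker (Bialgebra.counitAlgHom k B)) := by
    rw [hker, RingHom.mem_ker, map_sub]
    simp
  have h2 := Phi_comul_of_mem k A B f hf _ h1
  rw [map_sub, map_sub, sub_eq_zero] at h2
  rw [h2, Algebra.algebraMap_eq_smul_one, map_smul, map_smul, Bialgebra.comul_one,
    Algebra.TensorProduct.one_def, Phi_tmul, antipode_one]


/-- scalar multiplication `A ⊗ (A ⊗_B A) → A ⊗_B A`. -/
noncomputable def muAB : A ⊗[k] (A ⊗[B] A) →ₗ[k] A ⊗[B] A :=
  TensorProduct.lift (Algebra.lsmul k k (A ⊗[B] A)).toLinearMap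

@[simp] theorem muAB_tmul (a : A) (z : A ⊗[B] A) : muAB k A B (a ⊗ₜ[k] z) = a • z := by
  simp [muAB]

/-- `x ⊗ t ↦ x • Φ t`. -/
noncomputable def Psi : A ⊗[k] (A ⊗[k] A) →ₗ[k] A ⊗[B] A :=
  muAB k A B ∘ₗ LinearMap.lTensor A (Phi k A B)

@[simp] theorem Psi_tmul (x : A) (t : A ⊗[k] A) : Psi k A B (x ⊗ₜ[k] t) = x • Phi k A B t := by
  simp [Psi]

/-- `a ⊗ c ↦ ε(c) a`. -/
noncomputable def rho : A ⊗[k] A →ₗ[k] A :=
  (TensorProduct.rid k A).toLinearMap ∘ₗ (counit (R := k) (A := A)).lTensor A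

@[simp] theorem rho_tmul (a c : A) : rho k A (a ⊗ₜ[k] c) = (counit (R := k) c) • a := by
  simp [rho]

theorem rho_comul (b : A) : rho k A (comul b) = b := by
  simp [rho]

/-- `a ⊗ c ↦ ε(a) c`. -/
noncomputable def lam : A ⊗[k] A →ₗ[k] A :=
  (TensorProduct.lid k A).toLinearMap ∘ₗ (counit (R := k) (A := A)).rTensor A

@[simp] theorem lam_tmul (a c : A) : lam k A (a ⊗ₜ[k] c) = (counit (R := k) a) • c := by
  simp [lam]

theorem lam_comul (b : A) : lam k A (comul b) = b := by
  simp [lam]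

/-- `a ⊗ c ↦ a S(c)`. -/
noncomputable def sigma' : A ⊗[k] A →ₗ[k] A :=
  LinearMap.mul' k A ∘ₗ (antipode k).lTensor A

@[simp] theorem sigma'_tmul (a c : A) : sigma' k A (a ⊗ₜ[k] c) = a * antipode k c := by
  simp [sigma']

theorem sigma'_comul (b : A) : sigma' k A (comul b) = algebraMap k A (counit b) := by
  simp [sigma']

include hf in
theorem Psi_lTensor (hker : Ideal.map f (RingHom.ker (Bialgebra.counitAlgHom k B)) =
      RingHom.ker (Bialgebra.counitAlgHom k A)) (t : A ⊗[k] A) :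
    Psi k A B (LinearMap.lTensor A comul t) = rho k A t ⊗ₜ[B] (1 : A) := by
  induction t using TensorProduct.induction_on with
  | zero => simp
  | add t₁ t₂ h₁ h₂ => simp only [map_add, h₁, h₂, TensorProduct.add_tmul]
  | tmul x y =>
    rw [LinearMap.lTensor_tmul, Psi_tmul, Phi_comul k A B f hf hker, rho_tmul, smul_comm,
      TensorProduct.smul_tmul', TensorProduct.smul_tmul', smul_eq_mul, mul_one]

theorem Psi_assoc (t : A ⊗[k] A) (e : A) :
    Psi k A B (TensorProduct.assoc k A A A (t ⊗ₜ[k] e)) = sigma' k A t ⊗ₜ[B] e := by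
  induction t using TensorProduct.induction_on with
  | zero => simp
  | add t₁ t₂ h₁ h₂ => simp only [TensorProduct.add_tmul, map_add, h₁, h₂]
  | tmul x y =>
    rw [TensorProduct.assoc_tmul, Psi_tmul, Phi_tmul, sigma'_tmul, TensorProduct.smul_tmul',
      smul_eq_mul]

theorem Psi_assoc_rTensor (w : A ⊗[k] A) :
    Psi k A B (TensorProduct.assoc k A A A (LinearMap.rTensor A comul w)) =
      (1 : A) ⊗ₜ[B] lam k A w := by
  induction w using TensorProduct.induction_on with
  | zero => simp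
  | add w₁ w₂ h₁ h₂ => simp only [map_add, h₁, h₂, TensorProduct.tmul_add]
  | tmul x e =>
    rw [LinearMap.rTensor_tmul, Psi_assoc, sigma'_comul, lam_tmul, Algebra.algebraMap_eq_smul_one,
      TensorProduct.tmul_smul, TensorProduct.smul_tmul']

include hf in
theorem tmul_one_eq (hker : Ideal.map f (RingHom.ker (Bialgebra.counitAlgHom k B)) =
      RingHom.ker (Bialgebra.counitAlgHom k A)) (a : A) :
    (1 : A) ⊗ₜ[B] a = a ⊗ₜ[B] (1 : A) := by
  have h1 := Psi_lTensor k A B f hf hker (comul a)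
  rw [← coassoc_apply, Psi_assoc_rTensor, lam_comul, rho_comul] at h1
  exact h1

include hf in
theorem surjective (hker : Ideal.map f (RingHom.ker (Bialgebra.counitAlgHom k B)) =
      RingHom.ker (Bialgebra.counitAlgHom k A)) [Module.Finite B A] :
    Function.Surjective f := by
  have h1 : Algebra.IsEpi B A :=
    (Algebra.isEpi_iff_forall_one_tmul_eq B A).mpr (tmul_one_eq k A B f hf hker)
  have h2 := Algebra.isEpi_iff_surjective_algebraMap_of_finite.mp h1
  intro a
  obtain ⟨b, hb⟩ := h2 a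
  exact ⟨b, by rw [← hf, hb]⟩

end Groth.Agent.Helper8.HopfEpi
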