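import Mathlib

/-!
# Hopf ideals of a finite flat Hopf algebra over a Dedekind domain and of its generic fibre (helper8)
-/

set_option autoImplicit false
universe u

namespace Groth.Agent.Helper8.HopfGeneric

open TensorProduct Coalgebra

section Frac

variable (R : Type u) [CommRing R] [IsDomain R]
    (K : Type u) [Field K] [Algebra R K] [IsFractionRing R K]
    (A : Type u) [CommRing A] [Algebra R A]

/-- every element of `K ⊗ A` is a fraction -/
lemma L0 (c : K ⊗[R] A) : ∃ (s : R) (a : A), s ≠ 0 ∧ s • c = (1 : K) ⊗ₜ[R] a := by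
  induction c using TensorProduct.induction_on with
  | zero => exact ⟨1, 0, one_ne_zero, by simp⟩
  | tmul k a =>
    obtain ⟨r, s, hs, rfl⟩ := IsFractionRing.div_surjective (A := R) k
    have hs0 : s ≠ 0 := nonZeroDivisors.ne_zero hs
    refine ⟨s, r • a, hs0, ?_⟩
    rw [TensorProduct.smul_tmul', TensorProduct.tmul_smul, TensorProduct.smul_tmul']
    congr 1
    have hsK : algebraMap R K s ≠ 0 :=
      (map_ne_zero_iff _ (IsFractionRing.injective R K)).mpr hs0
    rw [Algebra.smul_def, Algebra.smul_def, mul_one]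
    field_simp
  | add x y hx hy =>
    obtain ⟨s, a, hs, h1⟩ := hx
    obtain ⟨t, b, ht, h2⟩ := hy
    refine ⟨s * t, t • a + s • b, mul_ne_zero hs ht, ?_⟩
    rw [smul_add, TensorProduct.tmul_add, TensorProduct.tmul_smul, TensorProduct.tmul_smul, ← h1, ← h2]
    rw [mul_smul, mul_smul, smul_comm s t x]


variable {R K A}

/-- elements of the extended ideal are fractions of elements of the ideal -/
lemma L1 (J' : Ideal A) (x : K ⊗[R] A)
    (hx : x ∈ Ideal.map (Algebra.TensorProduct.includeRight : A →ₐ[R] K ⊗[R] A) J') :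
    ∃ (s : R) (j : A), s ≠ 0 ∧ j ∈ J' ∧ s • x = (1 : K) ⊗ₜ[R] j := by
  unfold Ideal.map at hx
  induction hx using Submodule.span_induction with
  | mem x hx =>
    obtain ⟨j, hj, rfl⟩ := hx
    exact ⟨1, j, one_ne_zero, hj, by simp⟩
  | zero => exact ⟨1, 0, one_ne_zero, J'.zero_mem, by simp⟩
  | add x y _ _ hx hy =>
    obtain ⟨s, a, hs, ha, h1⟩ := hx
    obtain ⟨t, b, ht, hb, h2⟩ := hy
    refine ⟨s * t, t • a + s • b, mul_ne_zero hs ht,
      J'.add_mem (Submodule.smul_of_tower_mem J' t ha) (Submodule.smul_of_tower_mem J' s hb), ?_⟩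
    rw [smul_add, TensorProduct.tmul_add, TensorProduct.tmul_smul, TensorProduct.tmul_smul,
      ← h1, ← h2]
    rw [mul_smul, mul_smul, smul_comm s t x]
  | smul c x _ hx =>
    obtain ⟨s, j, hs, hj, h1⟩ := hx
    obtain ⟨u, a, hu, h2⟩ := L0 R K A c
    refine ⟨u * s, a * j, mul_ne_zero hu hs, J'.mul_mem_left a hj, ?_⟩
    rw [smul_eq_mul, mul_smul]
    calc u • s • (c * x) = (u • c) * (s • x) := by
          rw [smul_mul_smul_comm, mul_smul, smul_comm]
      _ = 1 ⊗ₜ[R] (a * j) := by
          rw [h1, h2, Algebra.TensorProduct.tmul_mul_tmul, one_mul]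


end Frac

section Hopf

variable {R : Type u} [CommRing R] [IsDomain R]
    {K : Type u} [Field K] [Algebra R K] [IsFractionRing R K]
    {A : Type u} [CommRing A] [HopfAlgebra R A]

lemma counit_incl (a : A) : counit (R := K) ((1 : K) ⊗ₜ[R] a) = algebraMap R K (counit (R := R) a) := by
  rw [TensorProduct.counit_tmul]
  simp [Algebra.smul_def]

lemma antipode_incl (a : A) : HopfAlgebra.antipode K ((1 : K) ⊗ₜ[R] a) = (1 : K) ⊗ₜ[R] HopfAlgebra.antipode R a := by
  rw [TensorProduct.antipode_def]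
  simp

lemma comul_incl (a : A) : comul (R := K) ((1 : K) ⊗ₜ[R] a) =
    AlgebraTensorModule.tensorTensorTensorComm R K R K K K A A
      (((1 : K) ⊗ₜ[K] (1 : K)) ⊗ₜ[R] comul (R := R) a) := by
  rw [TensorProduct.comul_tmul]
  simp

variable (R K) in
abbrev inc : A →ₐ[R] K ⊗[R] A := Algebra.TensorProduct.includeRight

variable (J' : Ideal A) (J : Ideal (K ⊗[R] A)) (h : J' ≤ J.comap (inc R K))

/-- the induced map on quotients -/
noncomputable def ibar : (A ⧸ J'.restrictScalars R) →ₗ[R] ((K ⊗[R] A) ⧸ J.restrictScalars K) :=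
  Submodule.liftQ (J'.restrictScalars R)
    (((J.restrictScalars K).mkQ.restrictScalars R) ∘ₗ (inc R K).toLinearMap)
    (fun a ha => by
      rw [LinearMap.mem_ker, LinearMap.comp_apply, LinearMap.restrictScalars_apply,
        Submodule.mkQ_apply, Submodule.Quotient.mk_eq_zero]
      exact h ha)

lemma ibar_mk (a : A) : ibar J' J h ((J'.restrictScalars R).mkQ a) =
    (J.restrictScalars K).mkQ ((1 : K) ⊗ₜ[R] a) := rfl

lemma ibar_injective (hJ : J' = J.comap (inc R K)) : Function.Injective (ibar J' J h) := by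
  rw [injective_iff_map_eq_zero]
  intro x
  obtain ⟨a, rfl⟩ := (J'.restrictScalars R).mkQ_surjective x
  intro hx
  rw [ibar_mk, Submodule.mkQ_apply, Submodule.Quotient.mk_eq_zero] at hx
  rw [Submodule.mkQ_apply, Submodule.Quotient.mk_eq_zero]
  change a ∈ J'
  rw [hJ]
  exact hx

/-- the comparison map on tensor squares of the quotients -/
noncomputable def Theta : (A ⧸ J'.restrictScalars R) ⊗[R] (A ⧸ J'.restrictScalars R) →ₗ[R]
    ((K ⊗[R] A) ⧸ J.restrictScalars K) ⊗[K] ((K ⊗[R] A) ⧸ J.restrictScalars K) :=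
  ((IsLocalization.moduleTensorEquiv (nonZeroDivisors R) K
      ((K ⊗[R] A) ⧸ J.restrictScalars K) ((K ⊗[R] A) ⧸ J.restrictScalars K)).symm.restrictScalars R).toLinearMap
    ∘ₗ TensorProduct.map (ibar J' J h) (ibar J' J h)

lemma Theta_tmul (x y : A ⧸ J'.restrictScalars R) :
    Theta J' J h (x ⊗ₜ[R] y) = ibar J' J h x ⊗ₜ[K] ibar J' J h y := by
  rfl

lemma key' (z : A ⊗[R] A) :
    TensorProduct.map (J.restrictScalars K).mkQ (J.restrictScalars K).mkQ
      (AlgebraTensorModule.tensorTensorTensorComm R K R K K K A A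
        (((1 : K) ⊗ₜ[K] (1 : K)) ⊗ₜ[R] z)) =
    Theta J' J h (TensorProduct.map (J'.restrictScalars R).mkQ (J'.restrictScalars R).mkQ z) := by
  induction z using TensorProduct.induction_on with
  | zero => simp
  | tmul a b =>
    rw [AlgebraTensorModule.tensorTensorTensorComm_tmul, TensorProduct.map_tmul,
      TensorProduct.map_tmul, Theta_tmul, ibar_mk, ibar_mk]
  | add x y hx hy =>
    rw [TensorProduct.tmul_add, map_add, map_add, map_add, map_add, hx, hy]

lemma key (a : A) :
    TensorProduct.map (J.restrictScalars K).mkQ (J.restrictScalars K).mkQ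
      (comul (R := K) ((1 : K) ⊗ₜ[R] a)) =
    Theta J' J h (TensorProduct.map (J'.restrictScalars R).mkQ (J'.restrictScalars R).mkQ
      (comul (R := R) a)) := by
  rw [← key', TensorProduct.comul_tmul]
  simp

instance flatBK : Module.Flat R ((K ⊗[R] A) ⧸ J.restrictScalars K) := by
  have : Module.Flat R K := IsLocalization.flat K (nonZeroDivisors R)
  exact Module.Flat.trans R K _

lemma Theta_injective (hJ : J' = J.comap (inc R K)) [Module.Flat R (A ⧸ J'.restrictScalars R)] :
    Function.Injective (Theta J' J h) := by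
  unfold Theta
  rw [LinearMap.coe_comp]
  refine Function.Injective.comp ?_ ?_
  · exact (LinearEquiv.injective _)
  · exact TensorProduct.map_injective_of_flat_flat _ _ (ibar_injective J' J h hJ)
      (ibar_injective J' J h hJ)

end Hopf

section Main

variable {R : Type u} [CommRing R] [IsDedekindDomain R]
    {K : Type u} [Field K] [Algebra R K] [IsFractionRing R K]
    {A : Type u} [CommRing A] [HopfAlgebra R A]

/-- scalars from `K` act on ideals of `K ⊗ A` -/
lemma smul_mem_ideal (J : Ideal (K ⊗[R] A)) (c : K) {x : K ⊗[R] A} (hx : x ∈ J) : c • x ∈ J := by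
  rw [Algebra.smul_def]
  exact J.mul_mem_left _ hx

/-- recover `x` from `s • x` -/
lemma eq_inv_smul (s : R) (hs : s ≠ 0) (x y : K ⊗[R] A) (h : s • x = y) :
    x = (algebraMap R K s)⁻¹ • y := by
  have hsK : algebraMap R K s ≠ 0 :=
    (map_ne_zero_iff _ (IsFractionRing.injective R K)).mpr hs
  rw [← h, ← algebraMap_smul K s x, smul_smul, inv_mul_cancel₀ hsK, one_smul]

lemma mem_of_smul_mem (J : Ideal (K ⊗[R] A)) (s : R) (hs : s ≠ 0) (x : K ⊗[R] A)
    (h : s • x ∈ J) : x ∈ J := by
  rw [eq_inv_smul s hs x _ rfl]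
  exact smul_mem_ideal J _ h

theorem mapsTo (J' : Ideal A) (hH : J'.IsHopfIdeal R) :
    (Ideal.map (inc R K) J').IsHopfIdeal K := by
  have h : J' ≤ (Ideal.map (inc R K) J').comap (inc R K) := Ideal.le_comap_map
  have hco := hH.toIsCoideal
  rw [Ideal.isHopfIdeal_iff, Submodule.isCoideal_iff]
  refine ⟨⟨?_, ?_⟩, ?_⟩
  · intro x hx
    obtain ⟨s, j, hs, hj, hsx⟩ := L1 J' x hx
    rw [eq_inv_smul s hs x _ hsx, map_smul, counit_incl]
    have : counit (R := R) j = 0 := hco.counit_eq_zero hj
    rw [this, map_zero, smul_zero]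
  · intro x hx
    obtain ⟨s, j, hs, hj, hsx⟩ := L1 J' x hx
    rw [eq_inv_smul s hs x _ hsx, map_smul, map_smul, key J' _ h]
    have : TensorProduct.map (J'.restrictScalars R).mkQ (J'.restrictScalars R).mkQ
        (comul (R := R) j) = 0 := hco.map_mkQ_comul_eq_zero hj
    rw [this, map_zero, smul_zero]
  · intro x hx
    obtain ⟨s, j, hs, hj, hsx⟩ := L1 J' x hx
    rw [eq_inv_smul s hs x _ hsx, map_smul, antipode_incl]
    apply smul_mem_ideal
    exact Ideal.mem_map_of_mem (inc R K) (hH.antipode_mem hj)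

variable [Module.Flat R A]

lemma inc_injective : Function.Injective (inc R K : A →ₐ[R] K ⊗[R] A) :=
  Algebra.TensorProduct.includeRight_injective (IsFractionRing.injective R K)

theorem comap_map (J' : Ideal A) [Module.Flat R (A ⧸ J')] :
    (Ideal.map (inc R K) J').comap (inc R K) = J' := by
  apply le_antisymm
  · intro a ha
    rw [Ideal.mem_comap] at ha
    obtain ⟨s, j, hs, hj, hsx⟩ := L1 J' _ ha
    have h1 : (inc R K) (s • a) = (inc R K) j := by
      rw [map_smul]
      exact hsx
    have h2 : s • a = j := inc_injective h1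
    have h3 : s • (Ideal.Quotient.mk J' a) = 0 := by
      rw [← Ideal.Quotient.eq_zero_iff_mem] at hj
      rw [← hj, ← h2]
      rfl
    rcases smul_eq_zero.mp h3 with h4 | h4
    · exact absurd h4 hs
    · exact Ideal.Quotient.eq_zero_iff_mem.mp h4
  · exact Ideal.le_comap_map

theorem isTorsionFree_quot (J : Ideal (K ⊗[R] A)) :
    Module.IsTorsionFree R (A ⧸ (J.comap (inc R K)).restrictScalars R) := by
  constructor
  intro r hr
  rw [isSMulRegular_iff_right_eq_zero_of_smul]
  intro x hx
  obtain ⟨a, rfl⟩ := ((J.comap (inc R K)).restrictScalars R).mkQ_surjective x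
  rw [← map_smul, Submodule.mkQ_apply, Submodule.Quotient.mk_eq_zero] at hx
  rw [Submodule.mkQ_apply, Submodule.Quotient.mk_eq_zero]
  change (inc R K) a ∈ J
  have h1 : (inc R K) (r • a) ∈ J := hx
  rw [map_smul] at h1
  exact mem_of_smul_mem J r hr.ne_zero _ h1

theorem surjOn (J : Ideal (K ⊗[R] A)) (hJ : J.IsHopfIdeal K) :
    ((J.comap (inc R K)).IsHopfIdeal R ∧ Module.Flat R (A ⧸ J.comap (inc R K))) ∧
      Ideal.map (inc R K) (J.comap (inc R K)) = J := by
  have hco := hJ.toIsCoideal
  have htf := isTorsionFree_quot (R := R) (K := K) (A := A) J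
  have hflat : Module.Flat R (A ⧸ (J.comap (inc R K)).restrictScalars R) := inferInstance
  refine ⟨⟨?_, ?_⟩, ?_⟩
  · rw [Ideal.isHopfIdeal_iff, Submodule.isCoideal_iff]
    refine ⟨⟨?_, ?_⟩, ?_⟩
    · intro j hj
      have h1 : counit (R := K) ((1 : K) ⊗ₜ[R] j) = 0 := hco.counit_eq_zero hj
      rw [counit_incl] at h1
      exact (map_eq_zero_iff _ (IsFractionRing.injective R K)).mp h1
    · intro j hj
      apply Theta_injective (J.comap (inc R K)) J le_rfl rfl
      rw [← key, map_zero]
      exact hco.map_mkQ_comul_eq_zero hj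
    · intro j hj
      change (inc R K) (HopfAlgebra.antipode R j) ∈ J
      have h1 : HopfAlgebra.antipode K ((1 : K) ⊗ₜ[R] j) ∈ J := hJ.antipode_mem hj
      rw [antipode_incl] at h1
      exact h1
  · exact Module.Flat.of_linearEquiv
      (Submodule.Quotient.restrictScalarsEquiv R (J.comap (inc R K))).symm
  · apply le_antisymm
    · exact Ideal.map_comap_le
    · intro x hx
      obtain ⟨s, a, hs, hsx⟩ := L0 R K A x
      have ha : a ∈ J.comap (inc R K) := by
        change (inc R K) a ∈ J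
        change (1 : K) ⊗ₜ[R] a ∈ J
        rw [← hsx, ← algebraMap_smul K s x]
        exact smul_mem_ideal J _ hx
      rw [eq_inv_smul s hs x _ hsx]
      apply smul_mem_ideal
      exact Ideal.mem_map_of_mem (inc R K) ha

theorem main :
    Set.BijOn (fun J' : Ideal A => Ideal.map (inc R K) J')
      {J' : Ideal A | J'.IsHopfIdeal R ∧ Module.Flat R (A ⧸ J')}
      {J : Ideal (K ⊗[R] A) | J.IsHopfIdeal K} := by
  refine ⟨?_, ?_, ?_⟩
  · rintro J' ⟨hH, -⟩
    exact mapsTo J' hH
  · rintro J₁ ⟨-, hf₁⟩ J₂ ⟨-, hf₂⟩ h12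
    have h12' : Ideal.map (inc R K) J₁ = Ideal.map (inc R K) J₂ := h12
    rw [← comap_map (R := R) (K := K) J₁, ← comap_map (R := R) (K := K) J₂, h12']
  · intro J hJ
    obtain ⟨h1, h2⟩ := surjOn J hJ
    exact ⟨J.comap (inc R K), h1, h2⟩

end Main

end Groth.Agent.Helper8.HopfGeneric
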