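import Mathlib

namespace Groth.Agent.Helper8.HopfKaehler

open TensorProduct Coalgebra HopfAlgebra

variable (K : Type*) [Field K] (B : Type*) [CommRing B] [HopfAlgebra K B]

/-- augmentation ideal. -/
abbrev augIdeal : Ideal B := RingHom.ker (Bialgebra.counitAlgHom K B)

/-- cotangent space at the unit section: `Ω / I Ω`. -/
abbrev Cot : Type _ := Ω[B⁄K] ⧸ (augIdeal K B • (⊤ : Submodule B Ω[B⁄K]))

/-- the quotient map. -/
noncomputable abbrev q : Ω[B⁄K] →ₗ[B] Cot K B := Submodule.mkQ _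

theorem q_smul (a : B) (η : Ω[B⁄K]) : q K B (a • η) = (counit (R := K) a) • q K B η := by
  have h1 : a - algebraMap K B (counit (R := K) a) ∈ augIdeal K B := by
    rw [RingHom.mem_ker, map_sub]
    simp
  have h2 : (a - algebraMap K B (counit (R := K) a)) • η ∈
      augIdeal K B • (⊤ : Submodule B Ω[B⁄K]) := Submodule.smul_mem_smul h1 Submodule.mem_top
  have h3 : q K B ((a - algebraMap K B (counit (R := K) a)) • η) = 0 := by
    rw [Submodule.mkQ_apply, Submodule.Quotient.mk_eq_zero]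
    exact h2
  rw [sub_smul, map_sub, sub_eq_zero, algebraMap_smul] at h3
  rw [h3]
  rfl

/-- `a ⊗ c ↦ ε(c) a`. -/
noncomputable def rho : B ⊗[K] B →ₗ[K] B :=
  (TensorProduct.rid K B).toLinearMap ∘ₗ (counit (R := K) (A := B)).lTensor B

@[simp] theorem rho_tmul (a c : B) : rho K B (a ⊗ₜ[K] c) = (counit (R := K) c) • a := by
  simp [rho]

theorem rho_comul (b : B) : rho K B (comul b) = b := by
  simp [rho]

/-- `a ⊗ c ↦ a ⊗ [dc]`. -/
noncomputable def G : B ⊗[K] B →ₗ[K] B ⊗[K] Cot K B :=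
  LinearMap.lTensor B (((q K B).restrictScalars K) ∘ₗ (KaehlerDifferential.D K B).toLinearMap)

@[simp] theorem G_tmul (a c : B) :
    G K B (a ⊗ₜ[K] c) = a ⊗ₜ[K] q K B (KaehlerDifferential.D K B c) := by
  simp [G]

theorem G_mul (X Y : B ⊗[K] B) :
    G K B (X * Y) = rho K B X • G K B Y + rho K B Y • G K B X := by
  induction X using TensorProduct.induction_on with
  | zero => simp
  | add X₁ X₂ h₁ h₂ => simp only [add_mul, map_add, h₁, h₂, add_smul, smul_add]; abel
  | tmul a c =>
    induction Y using TensorProduct.induction_on with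
    | zero => simp
    | add Y₁ Y₂ h₁ h₂ => simp only [mul_add, map_add, h₁, h₂, add_smul, smul_add]; abel
    | tmul a' c' =>
      simp only [Algebra.TensorProduct.tmul_mul_tmul, G_tmul, rho_tmul, Derivation.leibniz,
        map_add, q_smul, TensorProduct.tmul_add, TensorProduct.smul_tmul', TensorProduct.tmul_smul,
        smul_eq_mul]
      rw [smul_mul_assoc, smul_mul_assoc, mul_comm a' a]


/-- the derivation `b ↦ ∑ b₁ ⊗ [d b₂]`. -/
noncomputable def Dder : Derivation K B (B ⊗[K] Cot K B) :=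
  Derivation.mk' (G K B ∘ₗ comul) (by
    intro a b
    simp only [LinearMap.comp_apply, Bialgebra.comul_mul, G_mul, rho_comul])

theorem Dder_apply (b : B) : Dder K B b = G K B (comul b) := rfl

/-- `α : Ω → B ⊗ Cot`. -/
noncomputable def alpha : Ω[B⁄K] →ₗ[B] B ⊗[K] Cot K B := (Dder K B).liftKaehlerDifferential

theorem alpha_D (b : B) : alpha K B (KaehlerDifferential.D K B b) = G K B (comul b) := by
  rw [alpha, Derivation.liftKaehlerDifferential_comp_D, Dder_apply]

/-- `Ω` with `B` acting through the counit. -/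
structure Oe where
  /-- underlying differential form. -/
  val : Ω[B⁄K]

/-- the underlying equivalence. -/
def Oe.equiv : Oe K B ≃ Ω[B⁄K] where
  toFun := Oe.val
  invFun := Oe.mk
  left_inv _ := rfl
  right_inv _ := rfl

noncomputable instance : AddCommGroup (Oe K B) := (Oe.equiv K B).addCommGroup
noncomputable instance : Module K (Oe K B) := (Oe.equiv K B).module K
noncomputable instance : Module B (Oe K B) :=
  Module.compHom (Oe K B) (Bialgebra.counitAlgHom K B : B →+* K)

theorem Oe_smul (b : B) (x : Oe K B) : b • x = (counit (R := K) b) • x := rfl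

instance : IsScalarTower K B (Oe K B) := ⟨fun r b x => by
  rw [Oe_smul, Oe_smul, map_smul, smul_eq_mul, mul_smul]⟩

/-- the identity `Oe → Ω`. -/
noncomputable def toO : Oe K B →ₗ[K] Ω[B⁄K] := (Equiv.linearEquiv K (Oe.equiv K B)).toLinearMap

/-- the identity `Ω → Oe`. -/
noncomputable def ofO : Ω[B⁄K] →ₗ[K] Oe K B :=
  (Equiv.linearEquiv K (Oe.equiv K B)).symm.toLinearMap

@[simp] theorem toO_ofO (η : Ω[B⁄K]) : toO K B (ofO K B η) = η := rfl

/-- scalar multiplication `B ⊗ Ω → Ω`. -/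
noncomputable def muO : B ⊗[K] Ω[B⁄K] →ₗ[K] Ω[B⁄K] :=
  TensorProduct.lift (Algebra.lsmul K K Ω[B⁄K]).toLinearMap

@[simp] theorem muO_tmul (b : B) (η : Ω[B⁄K]) : muO K B (b ⊗ₜ[K] η) = b • η := by
  simp [muO]

/-- `a ⊗ c ↦ S(a) dc`. -/
noncomputable def H : B ⊗[K] B →ₗ[K] Ω[B⁄K] :=
  muO K B ∘ₗ TensorProduct.map (antipode K) (KaehlerDifferential.D K B).toLinearMap

@[simp] theorem H_tmul (a c : B) :
    H K B (a ⊗ₜ[K] c) = antipode K a • KaehlerDifferential.D K B c := by
  simp [H]

/-- `a ⊗ c ↦ S(a) c`. -/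
noncomputable def sigma : B ⊗[K] B →ₗ[K] B :=
  LinearMap.mul' K B ∘ₗ (antipode K).rTensor B

@[simp] theorem sigma_tmul (a c : B) : sigma K B (a ⊗ₜ[K] c) = antipode K a * c := by
  simp [sigma]

theorem sigma_comul (b : B) : sigma K B (comul b) = algebraMap K B (counit b) := by
  simp [sigma]

theorem H_mul (X Y : B ⊗[K] B) :
    H K B (X * Y) = sigma K B X • H K B Y + sigma K B Y • H K B X := by
  induction X using TensorProduct.induction_on with
  | zero => simp
  | add X₁ X₂ h₁ h₂ => simp only [add_mul, map_add, h₁, h₂, add_smul, smul_add]; abel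
  | tmul a c =>
    induction Y using TensorProduct.induction_on with
    | zero => simp
    | add Y₁ Y₂ h₁ h₂ => simp only [mul_add, map_add, h₁, h₂, add_smul, smul_add]; abel
    | tmul a' c' =>
      simp only [Algebra.TensorProduct.tmul_mul_tmul, H_tmul, sigma_tmul, Derivation.leibniz,
        antipode_mul_distrib]
      module


/-- the derivation `b ↦ ∑ S(b₁) d b₂` into `Oe`. -/
noncomputable def delta : Derivation K B (Oe K B) :=
  Derivation.mk' (ofO K B ∘ₗ H K B ∘ₗ comul) (by
    intro a b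
    simp only [LinearMap.comp_apply, Bialgebra.comul_mul, H_mul, sigma_comul, map_add,
      algebraMap_smul, Oe_smul]
    rfl)

theorem delta_apply (b : B) : toO K B (delta K B b) = H K B (comul b) := rfl

/-- `Ω → Oe`, `a db ↦ ε(a) ∑ S(b₁) d b₂`. -/
noncomputable def Ttilde : Ω[B⁄K] →ₗ[B] Oe K B := (delta K B).liftKaehlerDifferential

theorem Ttilde_D (b : B) : toO K B (Ttilde K B (KaehlerDifferential.D K B b)) = H K B (comul b) := by
  rw [Ttilde, Derivation.liftKaehlerDifferential_comp_D, delta_apply]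

theorem Ttilde_smul (a : B) (η : Ω[B⁄K]) :
    toO K B (Ttilde K B (a • η)) = (counit (R := K) a) • toO K B (Ttilde K B η) := by
  rw [map_smul, Oe_smul, map_smul]

theorem le_ker_Ttilde :
    augIdeal K B • (⊤ : Submodule B Ω[B⁄K]) ≤ LinearMap.ker (Ttilde K B) := by
  rw [Submodule.smul_le]
  intro i hi η _
  rw [LinearMap.mem_ker, map_smul, Oe_smul]
  have : counit (R := K) i = 0 := hi
  rw [this, zero_smul]

/-- `T : Cot → Ω`. -/
noncomputable def T : Cot K B →ₗ[K] Ω[B⁄K] :=
  toO K B ∘ₗ ((Submodule.liftQ _ (Ttilde K B) (le_ker_Ttilde K B)).restrictScalars K)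

theorem T_q (η : Ω[B⁄K]) : T K B (q K B η) = toO K B (Ttilde K B η) := by
  simp [T]

/-- `β : B ⊗ Cot → Ω`, `b ⊗ w ↦ b • T w`. -/
noncomputable def beta : B ⊗[K] Cot K B →ₗ[B] Ω[B⁄K] :=
  TensorProduct.AlgebraTensorModule.lift
    ((LinearMap.lsmul B (Cot K B →ₗ[K] Ω[B⁄K])).flip (T K B))

@[simp] theorem beta_tmul (b : B) (w : Cot K B) : beta K B (b ⊗ₜ[K] w) = b • T K B w := by
  simp [beta]


/-- `a ⊗ t ↦ a • H t`. -/
noncomputable def Theta : B ⊗[K] (B ⊗[K] B) →ₗ[K] Ω[B⁄K] :=
  muO K B ∘ₗ LinearMap.lTensor B (H K B)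

@[simp] theorem Theta_tmul (a : B) (t : B ⊗[K] B) : Theta K B (a ⊗ₜ[K] t) = a • H K B t := by
  simp [Theta]

/-- `a ⊗ c ↦ a S(c)`. -/
noncomputable def sigma' : B ⊗[K] B →ₗ[K] B :=
  LinearMap.mul' K B ∘ₗ (antipode K).lTensor B

@[simp] theorem sigma'_tmul (a c : B) : sigma' K B (a ⊗ₜ[K] c) = a * antipode K c := by
  simp [sigma']

theorem sigma'_comul (b : B) : sigma' K B (comul b) = algebraMap K B (counit b) := by
  simp [sigma']

theorem beta_G (t : B ⊗[K] B) :
    beta K B (G K B t) = Theta K B (LinearMap.lTensor B comul t) := by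
  induction t using TensorProduct.induction_on with
  | zero => simp
  | add t₁ t₂ h₁ h₂ => simp only [map_add, h₁, h₂]
  | tmul a c =>
    rw [G_tmul, beta_tmul, T_q, Ttilde_D, LinearMap.lTensor_tmul, Theta_tmul]

theorem Theta_assoc (t : B ⊗[K] B) (e : B) :
    Theta K B (TensorProduct.assoc K B B B (t ⊗ₜ[K] e)) =
      sigma' K B t • KaehlerDifferential.D K B e := by
  induction t using TensorProduct.induction_on with
  | zero => simp
  | add t₁ t₂ h₁ h₂ => simp only [TensorProduct.add_tmul, map_add, h₁, h₂, add_smul]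
  | tmul a c =>
    rw [TensorProduct.assoc_tmul, Theta_tmul, H_tmul, sigma'_tmul, smul_smul]

/-- `x ⊗ e ↦ ε(x) de`. -/
noncomputable def Xi : B ⊗[K] B →ₗ[K] Ω[B⁄K] :=
  (KaehlerDifferential.D K B).toLinearMap ∘ₗ (TensorProduct.lid K B).toLinearMap ∘ₗ
    (counit (R := K) (A := B)).rTensor B

@[simp] theorem Xi_tmul (x e : B) :
    Xi K B (x ⊗ₜ[K] e) = (counit (R := K) x) • KaehlerDifferential.D K B e := by
  simp [Xi]

theorem Xi_comul (b : B) : Xi K B (comul b) = KaehlerDifferential.D K B b := by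
  simp [Xi]

theorem Theta_assoc_rTensor (w : B ⊗[K] B) :
    Theta K B (TensorProduct.assoc K B B B (LinearMap.rTensor B comul w)) = Xi K B w := by
  induction w using TensorProduct.induction_on with
  | zero => simp
  | add w₁ w₂ h₁ h₂ => simp only [map_add, h₁, h₂]
  | tmul x e =>
    rw [LinearMap.rTensor_tmul, Theta_assoc, sigma'_comul, Xi_tmul, algebraMap_smul]

theorem beta_alpha_D (b : B) :
    beta K B (alpha K B (KaehlerDifferential.D K B b)) = KaehlerDifferential.D K B b := by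
  rw [alpha_D, beta_G, ← coassoc_apply, Theta_assoc_rTensor, Xi_comul]

theorem beta_comp_alpha : beta K B ∘ₗ alpha K B = LinearMap.id := by
  refine Derivation.liftKaehlerDifferential_unique _ _ ?_
  ext b
  simp only [Derivation.coe_comp, LinearMap.coe_comp, LinearMap.coe_restrictScalars,
    Function.comp_apply, Derivation.coeFn_coe, LinearMap.id_apply, beta_alpha_D]


/-- scalar multiplication `B ⊗ (B ⊗ Cot) → B ⊗ Cot`. -/
noncomputable def muBC : B ⊗[K] (B ⊗[K] Cot K B) →ₗ[K] B ⊗[K] Cot K B :=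
  TensorProduct.lift (Algebra.lsmul K K (B ⊗[K] Cot K B)).toLinearMap

@[simp] theorem muBC_tmul (b : B) (z : B ⊗[K] Cot K B) : muBC K B (b ⊗ₜ[K] z) = b • z := by
  simp [muBC]

/-- `a ⊗ t ↦ S(a) • G t`. -/
noncomputable def Theta2 : B ⊗[K] (B ⊗[K] B) →ₗ[K] B ⊗[K] Cot K B :=
  muBC K B ∘ₗ TensorProduct.map (antipode K) (G K B)

@[simp] theorem Theta2_tmul (a : B) (t : B ⊗[K] B) :
    Theta2 K B (a ⊗ₜ[K] t) = antipode K a • G K B t := by
  simp [Theta2]

theorem alpha_H (t : B ⊗[K] B) :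
    alpha K B (H K B t) = Theta2 K B (LinearMap.lTensor B comul t) := by
  induction t using TensorProduct.induction_on with
  | zero => simp
  | add t₁ t₂ h₁ h₂ => simp only [map_add, h₁, h₂]
  | tmul a c =>
    rw [H_tmul, map_smul, alpha_D, LinearMap.lTensor_tmul, Theta2_tmul]

theorem Theta2_assoc (t : B ⊗[K] B) (e : B) :
    Theta2 K B (TensorProduct.assoc K B B B (t ⊗ₜ[K] e)) =
      sigma K B t • ((1 : B) ⊗ₜ[K] q K B (KaehlerDifferential.D K B e)) := by
  induction t using TensorProduct.induction_on with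
  | zero => simp
  | add t₁ t₂ h₁ h₂ => simp only [TensorProduct.add_tmul, map_add, h₁, h₂, add_smul]
  | tmul a c =>
    rw [TensorProduct.assoc_tmul, Theta2_tmul, G_tmul, sigma_tmul, TensorProduct.smul_tmul',
      TensorProduct.smul_tmul', smul_eq_mul, smul_eq_mul, mul_one]

theorem Theta2_assoc_rTensor (w : B ⊗[K] B) :
    Theta2 K B (TensorProduct.assoc K B B B (LinearMap.rTensor B comul w)) =
      (1 : B) ⊗ₜ[K] q K B (Xi K B w) := by
  induction w using TensorProduct.induction_on with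
  | zero => simp
  | add w₁ w₂ h₁ h₂ => simp only [map_add, h₁, h₂, TensorProduct.tmul_add]
  | tmul x e =>
    rw [LinearMap.rTensor_tmul, Theta2_assoc, sigma_comul, Xi_tmul, algebraMap_smul,
      LinearMap.map_smul_of_tower, TensorProduct.tmul_smul]

theorem alpha_Ttilde_D (b : B) :
    alpha K B (toO K B (Ttilde K B (KaehlerDifferential.D K B b))) =
      (1 : B) ⊗ₜ[K] q K B (KaehlerDifferential.D K B b) := by
  rw [Ttilde_D, alpha_H, ← coassoc_apply, Theta2_assoc_rTensor, Xi_comul]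

theorem alpha_Ttilde (η : Ω[B⁄K]) :
    alpha K B (toO K B (Ttilde K B η)) = (1 : B) ⊗ₜ[K] q K B η := by
  have hη : η ∈ Submodule.span B (Set.range (KaehlerDifferential.D K B)) := by
    rw [KaehlerDifferential.span_range_derivation]
    exact Submodule.mem_top
  refine Submodule.span_induction (p := fun η _ =>
    alpha K B (toO K B (Ttilde K B η)) = (1 : B) ⊗ₜ[K] q K B η) ?_ ?_ ?_ ?_ hη
  · rintro _ ⟨b, rfl⟩
    exact alpha_Ttilde_D K B b
  · simp
  · intro x y _ _ hx hy
    simp only [map_add, hx, hy, TensorProduct.tmul_add]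
  · intro a x _ hx
    rw [Ttilde_smul, LinearMap.map_smul_of_tower, hx, q_smul, TensorProduct.tmul_smul]

theorem alpha_comp_beta : alpha K B ∘ₗ beta K B = LinearMap.id := by
  refine TensorProduct.AlgebraTensorModule.ext fun b w => ?_
  obtain ⟨η, rfl⟩ := Submodule.mkQ_surjective _ w
  rw [LinearMap.comp_apply, beta_tmul, map_smul, T_q, alpha_Ttilde, LinearMap.id_apply,
    TensorProduct.smul_tmul', smul_eq_mul, mul_one]

/-- `Ω ≃ B ⊗ Cot`. -/
noncomputable def equiv : Ω[B⁄K] ≃ₗ[B] B ⊗[K] Cot K B :=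
  LinearEquiv.ofLinearMap (alpha K B) (beta K B) (alpha_comp_beta K B) (beta_comp_alpha K B)

theorem free : Module.Free B Ω[B⁄K] :=
  Module.Free.of_equiv (equiv K B).symm

end Groth.Agent.Helper8.HopfKaehler
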