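import Mathlib

set_option linter.style.haveILetI false
set_option linter.unusedSectionVars false
set_option linter.unusedVariables false

namespace Groth.Agent.Helper8.KillingOrtho

universe u v

/-- If `U` is a Lie subalgebra of ad-nilpotent elements and `H` normalizes `U`, then `H` and `U`
are orthogonal for the Killing form. -/
theorem killing_ortho {k : Type u} {L : Type v} [Field k] [LieRing L] [LieAlgebra k L]
    [Module.Finite k L] (U H : LieSubalgebra k L) (hH : H = U.normalizer)
    (hnil : ∀ u ∈ U, IsNilpotent (LieAlgebra.ad k L u)) :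
    ∀ h ∈ H, ∀ u ∈ U, killingForm k L h u = 0 := by
  classical
  have hnilp : LieModule.IsNilpotent ↥U L := by
    rw [LieModule.isNilpotent_iff_forall' (R := k)]
    rintro ⟨x, hx⟩
    rw [LieSubalgebra.toEnd_mk]
    exact hnil x hx
  obtain ⟨n, hn⟩ := (LieModule.isNilpotent_iff k ↥U L).1 hnilp
  have F1 : ∀ j (u : L) (hu : u ∈ U) (m : L), m ∈ LieModule.lowerCentralSeries k ↥U L j →
      ⁅u, m⁆ ∈ LieModule.lowerCentralSeries k ↥U L (j + 1) := by
    intro j u hu m hm
    rw [LieModule.lowerCentralSeries_succ]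
    exact LieSubmodule.lie_mem_lie (x := (⟨u, hu⟩ : ↥U)) (LieSubmodule.mem_top _) hm
  have F2 : ∀ j (h : L), h ∈ H → ∀ m : L, m ∈ LieModule.lowerCentralSeries k ↥U L j →
      ⁅h, m⁆ ∈ LieModule.lowerCentralSeries k ↥U L j := by
    intro j
    induction j with
    | zero =>
      intro h _ m _
      rw [LieModule.lowerCentralSeries_zero]; exact LieSubmodule.mem_top _
    | succ j ih =>
      intro h hh m hm
      rw [LieModule.lowerCentralSeries_succ, ← LieSubmodule.mem_toSubmodule,
        LieSubmodule.lieIdeal_oper_eq_linear_span] at hm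
      induction hm using Submodule.span_induction with
      | mem y hy =>
        obtain ⟨x, n', rfl⟩ := hy
        change ⁅h, ⁅((x : ↥U) : L), (n' : L)⁆⁆ ∈ _
        rw [leibniz_lie]
        have hxU : ⁅h, ((x : ↥U) : L)⁆ ∈ U :=
          (LieSubalgebra.mem_normalizer_iff _ h).1 (hH ▸ hh) _ (x : ↥U).2
        exact add_mem (F1 j _ hxU _ n'.2) (F1 j _ (x : ↥U).2 _ (ih h hh _ n'.2))
      | zero => rw [lie_zero]; exact zero_mem _
      | add a b _ _ ha hb => rw [lie_add]; exact add_mem ha hb
      | smul c a _ ha => rw [lie_smul]; exact SMulMemClass.smul_mem c ha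
  intro h hh u hu
  have F3 : ∀ j (m : L), ((LieAlgebra.ad k L h ∘ₗ LieAlgebra.ad k L u) ^ j) m ∈
      LieModule.lowerCentralSeries k ↥U L j := by
    intro j
    induction j with
    | zero => intro m; rw [LieModule.lowerCentralSeries_zero]; exact LieSubmodule.mem_top _
    | succ j ih =>
      intro m
      rw [pow_succ', Module.End.mul_apply, LinearMap.comp_apply, LieAlgebra.ad_apply,
        LieAlgebra.ad_apply]
      exact F2 (j + 1) h hh _ (F1 j u hu _ (ih m))
  have hT : IsNilpotent (LieAlgebra.ad k L h ∘ₗ LieAlgebra.ad k L u) := by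
    refine ⟨n, LinearMap.ext fun m => ?_⟩
    have h1 := F3 n m
    rw [hn] at h1
    rw [LinearMap.zero_apply]
    exact (LieSubmodule.mem_bot _).1 h1
  rw [killingForm_apply_apply]
  exact (LinearMap.isNilpotent_trace_of_isNilpotent hT).eq_zero

end Groth.Agent.Helper8.KillingOrtho
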