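import Mathlib
import Groth.Prelude.Def_W4c4lgringredgrpLG

set_option autoImplicit false
universe u v w

namespace Groth.Agent.Helper8.LGIso

open LGRing

variable {R : Type u} [CommRing R]

/-- LG property for arbitrary finite variable types. -/
theorem lg_fintype (hR : IsLGRing R) {σ : Type} [Fintype σ] (f : MvPolynomial σ R)
    (h : ∀ (m : Ideal R) [m.IsMaximal], ∃ s : σ → R ⧸ m, IsUnit (MvPolynomial.aeval s f)) :
    ∃ s : σ → R, IsUnit (MvPolynomial.aeval s f) := by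
  classical
  let e := Fintype.equivFin σ
  have h1 := hR (Fintype.card σ) (MvPolynomial.rename e f) (by
    intro m hm
    obtain ⟨s, hs⟩ := h m
    refine ⟨s ∘ e.symm, ?_⟩
    rw [MvPolynomial.aeval_rename]
    have h2 : (s ∘ e.symm) ∘ e = s := by ext x; simp
    rw [h2]; exact hs)
  obtain ⟨s, hs⟩ := h1
  refine ⟨s ∘ e, ?_⟩
  rw [MvPolynomial.aeval_rename] at hs
  exact hs

section Mat
variable {k l : ℕ}

/-- the polynomial matrix `X_A * E₁ * X_B + 1 - E₂`, entrywise. -/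
noncomputable def polyMat (E₁ : Matrix (Fin k) (Fin k) R) (E₂ : Matrix (Fin l) (Fin l) R) :
    Matrix (Fin l) (Fin l) (MvPolynomial ((Fin l × Fin k) ⊕ (Fin k × Fin l)) R) :=
  Matrix.of fun i j =>
    (∑ b, (∑ a, MvPolynomial.X (Sum.inl (i, a)) * MvPolynomial.C (E₁ a b)) *
      MvPolynomial.X (Sum.inr (b, j))) + (if i = j then 1 else 0) - MvPolynomial.C (E₂ i j)

/-- the evaluated matrix. -/
def evalMat {S : Type*} [CommRing S] [Algebra R S]
    (E₁ : Matrix (Fin k) (Fin k) R) (E₂ : Matrix (Fin l) (Fin l) R)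
    (s : (Fin l × Fin k) ⊕ (Fin k × Fin l) → S) : Matrix (Fin l) (Fin l) S :=
  Matrix.of fun i j =>
    (∑ b, (∑ a, s (Sum.inl (i, a)) * algebraMap R S (E₁ a b)) * s (Sum.inr (b, j))) +
      (if i = j then 1 else 0) - algebraMap R S (E₂ i j)

theorem aeval_det_polyMat {S : Type*} [CommRing S] [Algebra R S]
    (E₁ : Matrix (Fin k) (Fin k) R) (E₂ : Matrix (Fin l) (Fin l) R)
    (s : (Fin l × Fin k) ⊕ (Fin k × Fin l) → S) :
    MvPolynomial.aeval s (polyMat E₁ E₂).det = (evalMat E₁ E₂ s).det := by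
  rw [AlgHom.map_det]
  congr 1
  ext i j
  simp only [polyMat, evalMat, AlgHom.mapMatrix_apply, Matrix.map_apply, Matrix.of_apply,
    map_sub, map_add, map_sum, map_mul, MvPolynomial.aeval_X, MvPolynomial.aeval_C]
  congr 2
  split_ifs <;> simp

theorem evalMat_self (E₁ : Matrix (Fin k) (Fin k) R) (E₂ : Matrix (Fin l) (Fin l) R)
    (s : (Fin l × Fin k) ⊕ (Fin k × Fin l) → R) :
    evalMat E₁ E₂ s = (Matrix.of fun i j => s (Sum.inl (i, j)) : Matrix (Fin l) (Fin k) R) * E₁ *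
      (Matrix.of fun j i => s (Sum.inr (j, i)) : Matrix (Fin k) (Fin l) R) + 1 - E₂ := by
  ext i j
  simp only [evalMat, Matrix.of_apply, Matrix.sub_apply, Matrix.add_apply, Matrix.mul_apply,
    Matrix.one_apply, Algebra.algebraMap_self, RingHom.id_apply]

theorem surj_of_isUnit_det {M₁ : Type v} {M₂ : Type w} [AddCommGroup M₁] [Module R M₁]
    [AddCommGroup M₂] [Module R M₂]
    (p₁ : (Fin k → R) →ₗ[R] M₁) (g₁ : M₁ →ₗ[R] (Fin k → R))
    (p₂ : (Fin l → R) →ₗ[R] M₂) (g₂ : M₂ →ₗ[R] (Fin l → R)) (h₂ : p₂ ∘ₗ g₂ = LinearMap.id)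
    (A : Matrix (Fin l) (Fin k) R) (B : Matrix (Fin k) (Fin l) R)
    (hu : IsUnit (A * LinearMap.toMatrix' (g₁ ∘ₗ p₁) * B + 1 -
      LinearMap.toMatrix' (g₂ ∘ₗ p₂)).det) :
    Function.Surjective (p₂ ∘ₗ Matrix.toLin' A ∘ₗ g₁) := by
  intro y
  set C := A * LinearMap.toMatrix' (g₁ ∘ₗ p₁) * B + 1 - LinearMap.toMatrix' (g₂ ∘ₗ p₂) with hC
  have hinv : C * C⁻¹ = 1 := Matrix.mul_nonsing_inv C hu
  let z := Matrix.mulVec C⁻¹ (g₂ y)
  have hz : Matrix.mulVec C z = g₂ y := by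
    simp only [z, Matrix.mulVec_mulVec, hinv, Matrix.one_mulVec]
  refine ⟨p₁ (Matrix.mulVec B z), ?_⟩
  have h1 : p₂ (Matrix.mulVec C z) = y := by rw [hz]; exact LinearMap.congr_fun h₂ y
  have h3 : p₂ (g₂ (p₂ z)) = p₂ z := LinearMap.congr_fun h₂ (p₂ z)
  rw [← h1, hC]
  simp only [Matrix.sub_mulVec, Matrix.add_mulVec, Matrix.one_mulVec, ← Matrix.mulVec_mulVec,
    LinearMap.toMatrix'_mulVec, map_sub, map_add, LinearMap.comp_apply, Matrix.toLin'_apply, h3]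
  abel

theorem local_unit {M₁ : Type v} {M₂ : Type w} [AddCommGroup M₁] [Module R M₁]
    [AddCommGroup M₂] [Module R M₂]
    (p₁ : (Fin k → R) →ₗ[R] M₁) (g₁ : M₁ →ₗ[R] (Fin k → R)) (h₁ : p₁ ∘ₗ g₁ = LinearMap.id)
    (p₂ : (Fin l → R) →ₗ[R] M₂) (g₂ : M₂ →ₗ[R] (Fin l → R)) (h₂ : p₂ ∘ₗ g₂ = LinearMap.id)
    (φ : M₁ →ₗ[R] M₂) (ψ : M₂ →ₗ[R] M₁) (s : R) (hφψ : φ ∘ₗ ψ = s • LinearMap.id)
    (m : Ideal R) [hm : m.IsMaximal] (hs : s ∉ m) :
    IsUnit (Ideal.Quotient.mk m (LinearMap.toMatrix' (g₂ ∘ₗ φ ∘ₗ p₁) *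
      LinearMap.toMatrix' (g₁ ∘ₗ p₁) * LinearMap.toMatrix' (g₁ ∘ₗ ψ ∘ₗ p₂) + 1 -
      LinearMap.toMatrix' (g₂ ∘ₗ p₂)).det) := by
  classical
  set E := LinearMap.toMatrix' (g₂ ∘ₗ p₂) with hE
  have e1 : ∀ x, p₁ (g₁ x) = x := fun x => LinearMap.congr_fun h₁ x
  have e2 : ∀ x, p₂ (g₂ x) = x := fun x => LinearMap.congr_fun h₂ x
  have e3 : ∀ x, φ (ψ x) = s • x := fun x => LinearMap.congr_fun hφψ x
  have hprod : LinearMap.toMatrix' (g₂ ∘ₗ φ ∘ₗ p₁) *
      LinearMap.toMatrix' (g₁ ∘ₗ p₁) * LinearMap.toMatrix' (g₁ ∘ₗ ψ ∘ₗ p₂) = s • E := by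
    rw [← LinearMap.toMatrix'_comp, ← LinearMap.toMatrix'_comp, hE, ← map_smul]
    congr 1
    apply LinearMap.ext
    intro v
    simp only [LinearMap.comp_apply, e1, e3, map_smul, LinearMap.smul_apply]
  have hEE : E * E = E := by
    rw [hE, ← LinearMap.toMatrix'_comp]
    congr 1
    apply LinearMap.ext
    intro v
    simp only [LinearMap.comp_apply, e2]
  rw [hprod]
  have hne : Ideal.Quotient.mk m s ≠ 0 := by
    rw [Ne, Ideal.Quotient.eq_zero_iff_mem]; exact hs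
  obtain ⟨b, hb⟩ := Ideal.Quotient.exists_inv hne
  obtain ⟨s', rfl⟩ := Ideal.Quotient.mk_surjective b
  have hN1 : E * (1 - E) = 0 := by rw [mul_sub, mul_one, hEE, sub_self]
  have hN2 : (1 - E) * E = 0 := by rw [sub_mul, one_mul, hEE, sub_self]
  have hN3 : (1 - E) * (1 - E) = 1 - E := by
    rw [mul_sub, mul_one, hN2, sub_zero]
  have hCD : (s • E + 1 - E) * (s' • E + 1 - E) = (s * s') • E + (1 - E) := by
    rw [add_sub_assoc, add_sub_assoc, add_mul, mul_add, mul_add, smul_mul_assoc, mul_smul_comm,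
      smul_mul_assoc, mul_smul_comm, hEE, hN1, hN2, hN3, smul_smul, smul_zero, smul_zero,
      add_zero, zero_add]
  have hmap : (Ideal.Quotient.mk m).mapMatrix ((s * s') • E + (1 - E)) = 1 := by
    ext i j
    have hq : Ideal.Quotient.mk m (s * s') = 1 := by rw [map_mul]; exact hb
    simp only [RingHom.mapMatrix_apply, Matrix.map_apply, Matrix.add_apply, Matrix.sub_apply,
      Matrix.smul_apply, smul_eq_mul, map_add, map_sub]
    rw [map_mul (Ideal.Quotient.mk m) (s * s'), hq, Matrix.one_apply, Matrix.one_apply]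
    split_ifs <;> simp
  have hdet : Ideal.Quotient.mk m (s • E + 1 - E).det *
      Ideal.Quotient.mk m (s' • E + 1 - E).det = 1 := by
    rw [← map_mul, ← Matrix.det_mul, hCD, RingHom.map_det, hmap, Matrix.det_one]
  exact IsUnit.of_mul_eq_one _ hdet

end Mat

theorem exists_local_pair (M₁ : Type v) (M₂ : Type w) [AddCommGroup M₁] [Module R M₁]
    [Module.Finite R M₁] [Module.Projective R M₁]
    [AddCommGroup M₂] [Module R M₂] [Module.Finite R M₂] [Module.Projective R M₂]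
    (m : Ideal R) [hm : m.IsMaximal]
    (h : Module.rankAtStalk M₁ ⟨m, inferInstance⟩ = Module.rankAtStalk M₂ ⟨m, inferInstance⟩) :
    ∃ (φ : M₁ →ₗ[R] M₂) (ψ : M₂ →ₗ[R] M₁) (s : R), s ∉ m ∧ φ ∘ₗ ψ = s • LinearMap.id := by
  classical
  have := Module.finitePresentation_of_projective R M₁
  have := Module.finitePresentation_of_projective R M₂
  let S := m.primeCompl
  let f₁ := LocalizedModule.mkLinearMap S M₁
  let f₂ := LocalizedModule.mkLinearMap S M₂
  have : Module.Free (Localization.AtPrime m) (LocalizedModule S M₁) :=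
    Module.free_of_flat_of_isLocalRing
  have : Module.Free (Localization.AtPrime m) (LocalizedModule S M₂) :=
    Module.free_of_flat_of_isLocalRing
  obtain ⟨e⟩ : Nonempty (LocalizedModule S M₁ ≃ₗ[Localization.AtPrime m] LocalizedModule S M₂) :=
    FiniteDimensional.nonempty_linearEquiv_of_finrank_eq h
  let eR : LocalizedModule S M₁ ≃ₗ[R] LocalizedModule S M₂ := e.restrictScalars R
  obtain ⟨k₁, s₁, hh₁⟩ := Module.FinitePresentation.exists_lift_of_isLocalizedModule S f₂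
    (eR.toLinearMap ∘ₗ f₁)
  obtain ⟨k₂, s₂, hh₂⟩ := Module.FinitePresentation.exists_lift_of_isLocalizedModule S f₁
    (eR.symm.toLinearMap ∘ₗ f₂)
  have key : f₂ ∘ₗ (k₁ ∘ₗ k₂) = f₂ ∘ₗ ((s₁ * s₂ : S) • LinearMap.id) := by
    apply LinearMap.ext
    intro x
    have a1 : f₂ (k₁ (k₂ x)) = (s₁ : R) • eR (f₁ (k₂ x)) := LinearMap.congr_fun hh₁ (k₂ x)
    have a2 : f₁ (k₂ x) = (s₂ : R) • eR.symm (f₂ x) := LinearMap.congr_fun hh₂ x
    simp only [LinearMap.comp_apply, LinearMap.smul_apply, LinearMap.id_apply,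
      Submonoid.smul_def, Submonoid.coe_mul]
    rw [a1, a2, map_smul, eR.apply_symm_apply, smul_smul, map_smul]
  obtain ⟨t, ht⟩ := Module.Finite.exists_smul_of_comp_eq_of_isLocalizedModule S f₂ _ _ key
  refine ⟨(t : R) • k₁, k₂, (t : R) * ((s₁ : R) * (s₂ : R)), ?_, ?_⟩
  · exact (t * (s₁ * s₂)).2
  · apply LinearMap.ext
    intro x
    have := LinearMap.congr_fun ht x
    simp only [LinearMap.smul_apply, LinearMap.comp_apply, LinearMap.id_apply,
      Submonoid.smul_def, Submonoid.coe_mul] at this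
    simp only [LinearMap.smul_apply, LinearMap.comp_apply, LinearMap.id_apply]
    rw [this, smul_smul]

/-- Main lemma: over an LG-ring, finite projective modules with the same rank at all maximal
ideals are isomorphic. -/
theorem nonempty_linearEquiv_of_rankAtStalk_eq (hR : IsLGRing R)
    (M₁ : Type v) (M₂ : Type w) [AddCommGroup M₁] [Module R M₁] [Module.Finite R M₁]
    [Module.Projective R M₁]
    [AddCommGroup M₂] [Module R M₂] [Module.Finite R M₂] [Module.Projective R M₂]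
    (hrk : ∀ (m : Ideal R) [m.IsMaximal], Module.rankAtStalk M₁ ⟨m, inferInstance⟩ =
      Module.rankAtStalk M₂ ⟨m, inferInstance⟩) :
    Nonempty (M₁ ≃ₗ[R] M₂) := by
  classical
  obtain ⟨k, p₁, hp₁⟩ := Module.Finite.exists_fin' R M₁
  obtain ⟨g₁, hg₁⟩ := Module.projective_lifting_property p₁ LinearMap.id hp₁
  obtain ⟨l, p₂, hp₂⟩ := Module.Finite.exists_fin' R M₂
  obtain ⟨g₂, hg₂⟩ := Module.projective_lifting_property p₂ LinearMap.id hp₂
  have hloc : ∀ (m : Ideal R) [m.IsMaximal],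
      ∃ s : (Fin l × Fin k) ⊕ (Fin k × Fin l) → R ⧸ m, IsUnit (MvPolynomial.aeval s
        (polyMat (LinearMap.toMatrix' (g₁ ∘ₗ p₁)) (LinearMap.toMatrix' (g₂ ∘ₗ p₂))).det) := by
    intro m hm
    obtain ⟨φ, ψ, s, hs, hφψ⟩ := exists_local_pair M₁ M₂ m (hrk m)
    let x : (Fin l × Fin k) ⊕ (Fin k × Fin l) → R :=
      Sum.elim (fun ij => LinearMap.toMatrix' (g₂ ∘ₗ φ ∘ₗ p₁) ij.1 ij.2)
        (fun ji => LinearMap.toMatrix' (g₁ ∘ₗ ψ ∘ₗ p₂) ji.1 ji.2)
    refine ⟨algebraMap R (R ⧸ m) ∘ x, ?_⟩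
    rw [MvPolynomial.aeval_algebraMap_apply, aeval_det_polyMat, evalMat_self]
    have := local_unit p₁ g₁ hg₁ p₂ g₂ hg₂ φ ψ s hφψ m hs
    exact this
  obtain ⟨s, hs⟩ := lg_fintype hR _ hloc
  rw [aeval_det_polyMat, evalMat_self] at hs
  have hsurj := surj_of_isUnit_det p₁ g₁ p₂ g₂ hg₂ (Matrix.of fun i j => s (Sum.inl (i, j)))
    (Matrix.of fun j i => s (Sum.inr (j, i))) hs
  have hbij := Module.bijective_of_surjective_of_rankAtStalk_eq hsurj hrk
  exact ⟨LinearEquiv.ofBijective _ hbij⟩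

end Groth.Agent.Helper8.LGIso
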