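import Mathlib

/-! Helper lemmas (helper8): a summed form of the generalised Laplace expansion. -/

namespace Groth.Agent.Helper8

open Equiv Finset Matrix

variable {k : Type*} [CommRing k]

/-- The block permutation of `Fin (p + r)` built from `σ` and `τ`. -/
def blockPerm {p r : ℕ} (σ : Perm (Fin p)) (τ : Perm (Fin r)) : Perm (Fin (p + r)) :=
  finSumFinEquiv.permCongr (Perm.sumCongr σ τ)

theorem blockPerm_castAdd {p r : ℕ} (σ : Perm (Fin p)) (τ : Perm (Fin r)) (a : Fin p) :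
    blockPerm σ τ (Fin.castAdd r a) = Fin.castAdd r (σ a) := by
  simp [blockPerm, Equiv.permCongr_apply]

theorem blockPerm_natAdd {p r : ℕ} (σ : Perm (Fin p)) (τ : Perm (Fin r)) (b : Fin r) :
    blockPerm σ τ (Fin.natAdd p b) = Fin.natAdd p (τ b) := by
  simp [blockPerm, Equiv.permCongr_apply]

theorem sign_blockPerm {p r : ℕ} (σ : Perm (Fin p)) (τ : Perm (Fin r)) :
    Perm.sign (blockPerm σ τ) = Perm.sign σ * Perm.sign τ := by
  rw [blockPerm, Perm.sign_permCongr, Perm.sign_sumCongr]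

theorem sum_sign_mul_prod (p r : ℕ) (N : Matrix (Fin (p + r)) (Fin (p + r)) k)
    (ω : Perm (Fin (p + r))) :
    ∑ π : Perm (Fin (p + r)), (((Perm.sign π : ℤˣ) : ℤ) : k) * (((Perm.sign ω : ℤˣ) : ℤ) : k) *
      ∏ l, N (ω l) (π l) = N.det := by
  rw [← det_transpose, det_apply']
  rw [← Equiv.sum_comp (Equiv.mulRight ω)]
  refine Finset.sum_congr rfl fun π _ => ?_
  rw [Equiv.coe_mulRight, Perm.sign_mul]
  have h1 : ∏ l, N (ω l) ((π * ω) l) = ∏ l, Nᵀ (π l) l := by
    rw [← Equiv.prod_comp ω (fun l => Nᵀ (π l) l)]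
    rfl
  rw [h1]
  have h2 : (((Perm.sign ω : ℤˣ) : ℤ) : k) * (((Perm.sign ω : ℤˣ) : ℤ) : k) = 1 := by
    rw [← Int.cast_mul, ← Units.val_mul, Int.units_mul_self]
    simp
  push_cast
  linear_combination ((((Perm.sign π : ℤˣ) : ℤ) : k) * ∏ l, Nᵀ (π l) l) * h2

/-- Summed generalised Laplace expansion along the first `p` and last `r` rows. -/
theorem laplace_sum (p r : ℕ) (N : Matrix (Fin (p + r)) (Fin (p + r)) k) :
    ∑ π : Perm (Fin (p + r)), (((Perm.sign π : ℤˣ) : ℤ) : k) *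
      (Matrix.of fun a c : Fin p => N (Fin.castAdd r a) (π (Fin.castAdd r c))).det *
      (Matrix.of fun b d : Fin r => N (Fin.natAdd p b) (π (Fin.natAdd p d))).det =
    ((p.factorial * r.factorial : ℕ) : k) * N.det := by
  have h1 : ∀ π : Perm (Fin (p + r)), (((Perm.sign π : ℤˣ) : ℤ) : k) *
      (Matrix.of fun a c : Fin p => N (Fin.castAdd r a) (π (Fin.castAdd r c))).det *
      (Matrix.of fun b d : Fin r => N (Fin.natAdd p b) (π (Fin.natAdd p d))).det =
      ∑ σ : Perm (Fin p), ∑ τ : Perm (Fin r),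
        (((Perm.sign π : ℤˣ) : ℤ) : k) * (((Perm.sign (blockPerm σ τ) : ℤˣ) : ℤ) : k) *
          ∏ l, N (blockPerm σ τ l) (π l) := by
    intro π
    rw [det_apply', det_apply', mul_assoc, Finset.sum_mul_sum, Finset.mul_sum]
    refine Finset.sum_congr rfl fun σ _ => ?_
    rw [Finset.mul_sum]
    refine Finset.sum_congr rfl fun τ _ => ?_
    rw [Fin.prod_univ_add, sign_blockPerm]
    simp only [blockPerm_castAdd, blockPerm_natAdd, Matrix.of_apply]
    push_cast
    ring
  rw [Finset.sum_congr rfl (fun π _ => h1 π), Finset.sum_comm]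
  have h2 : ∀ σ : Perm (Fin p), ∑ π : Perm (Fin (p + r)), ∑ τ : Perm (Fin r),
        (((Perm.sign π : ℤˣ) : ℤ) : k) * (((Perm.sign (blockPerm σ τ) : ℤˣ) : ℤ) : k) *
          ∏ l, N (blockPerm σ τ l) (π l) = (r.factorial : k) * N.det := by
    intro σ
    rw [Finset.sum_comm]
    rw [Finset.sum_congr rfl (fun τ _ => sum_sign_mul_prod p r N (blockPerm σ τ))]
    rw [Finset.sum_const, Finset.card_univ, Fintype.card_perm, Fintype.card_fin, nsmul_eq_mul]
  rw [Finset.sum_congr rfl (fun σ _ => h2 σ)]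
  rw [Finset.sum_const, Finset.card_univ, Fintype.card_perm, Fintype.card_fin, nsmul_eq_mul]
  push_cast
  ring

end Groth.Agent.Helper8
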