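import Mathlib
import Groth.Prelude.Def_Tame

set_option linter.style.haveILetI false
set_option linter.unusedSectionVars false
set_option linter.unusedVariables false

namespace Groth.Agent.Helper8.LatDist

section qlen

variable {A : Type*} [CommRing A] {V : Type*} [AddCommGroup V] [Module A V]

/-- the length of `M / (L ∩ M)` -/
noncomputable def qlen (L M : Submodule A V) : ℕ∞ :=
  Module.length A (↥M ⧸ L.submoduleOf M)

theorem qlen_chain {L M' M : Submodule A V} (h1 : L ≤ M') (h2 : M' ≤ M) :
    qlen L M = qlen L M' + qlen M' M := by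
  have hle : L.submoduleOf M' ≤ Submodule.comap (Submodule.inclusion h2) (L.submoduleOf M) :=
    fun x hx => hx
  have hle2 : L.submoduleOf M ≤ M'.submoduleOf M := fun x hx => h1 hx
  have hf : Function.Injective
      (Submodule.mapQ (L.submoduleOf M') (L.submoduleOf M) (Submodule.inclusion h2) hle) := by
    rw [injective_iff_map_eq_zero]
    intro x hx
    obtain ⟨x, rfl⟩ := Submodule.Quotient.mk_surjective _ x
    rw [Submodule.mapQ_apply, Submodule.Quotient.mk_eq_zero] at hx
    rw [Submodule.Quotient.mk_eq_zero]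
    exact hx
  have hg : Function.Surjective (Submodule.factor hle2) := Submodule.factor_surjective hle2
  have hex : Function.Exact
      (Submodule.mapQ (L.submoduleOf M') (L.submoduleOf M) (Submodule.inclusion h2) hle)
      (Submodule.factor hle2) := by
    intro y
    obtain ⟨m, rfl⟩ := Submodule.Quotient.mk_surjective _ y
    constructor
    · intro hy
      have hy' : (Submodule.Quotient.mk m : ↥M ⧸ M'.submoduleOf M) = 0 := hy
      have hm : (m : V) ∈ M' := (Submodule.Quotient.mk_eq_zero (M'.submoduleOf M)).1 hy'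
      refine ⟨Submodule.Quotient.mk ⟨(m : V), hm⟩, ?_⟩
      rw [Submodule.mapQ_apply]
      rfl
    · rintro ⟨x, hx⟩
      obtain ⟨m', rfl⟩ := Submodule.Quotient.mk_surjective _ x
      rw [← hx, Submodule.mapQ_apply]
      change (Submodule.Quotient.mk (Submodule.inclusion h2 m') : ↥M ⧸ M'.submoduleOf M) = 0
      rw [Submodule.Quotient.mk_eq_zero]
      exact m'.2
  exact Module.length_eq_add_of_exact _ _ hf hg hex

theorem qlen_map {V' : Type*} [AddCommGroup V'] [Module A V'] (f : V →ₗ[A] V')
    (hf : Function.Injective f) (L M : Submodule A V) :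
    qlen (L.map f) (M.map f) = qlen L M := by
  unfold qlen
  refine (LinearEquiv.length_eq (Submodule.Quotient.equiv (L.submoduleOf M)
    ((L.map f).submoduleOf (M.map f)) (Submodule.equivMapOfInjective f hf M) ?_)).symm
  ext y
  constructor
  · rintro ⟨x, hx, hxy⟩
    have h1 : f (x : V) = (y : V') := by
      rw [← hxy]; exact (Submodule.coe_equivMapOfInjective_apply f hf M x).symm
    change (y : V') ∈ L.map f
    exact ⟨x, hx, h1⟩
  · intro hy'
    have hy'' : (y : V') ∈ L.map f := hy'
    obtain ⟨x, hxL, hxy⟩ := hy''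
    obtain ⟨x', hx'M, hx'⟩ := y.2
    have hxx : x' = x := hf (hx'.trans hxy.symm)
    subst hxx
    refine ⟨⟨x', hx'M⟩, hxL, ?_⟩
    apply Subtype.ext
    rw [← hxy]
    exact Submodule.coe_equivMapOfInjective_apply f hf M ⟨x', hx'M⟩

theorem qlen_self (M : Submodule A V) : qlen M M = 0 := by
  unfold qlen
  rw [Module.length_eq_zero_iff, Submodule.Quotient.subsingleton_iff]
  exact Submodule.submoduleOf_self M

theorem qlen_top {W : Type*} [AddCommGroup W] [Module A W] (S : Submodule A W) :
    qlen S ⊤ = Module.length A (W ⧸ S) := by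
  unfold qlen
  refine LinearEquiv.length_eq (Submodule.Quotient.equiv (S.submoduleOf ⊤) S
    (Submodule.topEquiv : (↥(⊤ : Submodule A W)) ≃ₗ[A] W) ?_)
  ext x
  constructor
  · rintro ⟨y, hy, rfl⟩
    exact hy
  · intro hx
    exact ⟨⟨x, trivial⟩, hx, rfl⟩

end qlen

section finiteness

variable {A : Type*} [CommRing A] [IsNoetherianRing A] [Ring.KrullDimLE 1 A]

theorem finiteLength_of_smul_eq_zero
    {X : Type*} [AddCommGroup X] [Module A X] [Module.Finite A X] (a : A)
    (ha : a ∈ nonZeroDivisors A) (hX : ∀ x : X, a • x = 0) : IsFiniteLength A X := by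
  classical
  obtain ⟨n, f, hf⟩ := Module.Finite.exists_fin' A X
  have hQ : IsFiniteLength A (A ⧸ Ideal.span {a}) := isFiniteLength_quotient_span_singleton A ha
  rw [isFiniteLength_iff_isNoetherian_isArtinian] at hQ
  obtain ⟨hQ1, hQ2⟩ := hQ
  have hpi : IsFiniteLength A (Fin n → A ⧸ Ideal.span {a}) := by
    rw [isFiniteLength_iff_isNoetherian_isArtinian]
    exact ⟨inferInstance, inferInstance⟩
  have hker : ∀ i : Fin n, (Ideal.span {a} : Submodule A A) ≤
      LinearMap.ker ((LinearMap.id : A →ₗ[A] A).smulRight (f fun j => if i = j then 1 else 0)) := by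
    intro i
    refine Submodule.span_le.2 (Set.singleton_subset_iff.2 ?_)
    change ((LinearMap.id : A →ₗ[A] A).smulRight (f fun j => if i = j then 1 else 0)) a = 0
    rw [LinearMap.smulRight_apply, LinearMap.id_apply]
    exact hX _
  let g : (Fin n → A ⧸ Ideal.span {a}) →ₗ[A] X :=
    ∑ i : Fin n, (Submodule.liftQ (Ideal.span {a} : Submodule A A)
      ((LinearMap.id : A →ₗ[A] A).smulRight (f fun j => if i = j then 1 else 0)) (hker i)).comp
      (LinearMap.proj i)
  have hg : Function.Surjective g := by
    intro y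
    obtain ⟨c, rfl⟩ := hf y
    refine ⟨fun i => (Submodule.Quotient.mk (c i) : A ⧸ Ideal.span {a}), ?_⟩
    rw [LinearMap.pi_apply_eq_sum_univ f c]
    change (∑ i : Fin n, (Submodule.liftQ (Ideal.span {a} : Submodule A A)
      ((LinearMap.id : A →ₗ[A] A).smulRight (f fun j => if i = j then 1 else 0)) (hker i)).comp
      (LinearMap.proj i)) (fun i => (Submodule.Quotient.mk (c i) : A ⧸ Ideal.span {a})) = _
    rw [LinearMap.sum_apply]
    refine Finset.sum_congr rfl (fun i _ => ?_)
    rw [LinearMap.comp_apply, LinearMap.proj_apply, Submodule.liftQ_apply,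
      LinearMap.smulRight_apply, LinearMap.id_apply]
  exact IsFiniteLength.of_surjective hpi hg

end finiteness

section lattice

variable {A : Type*} [CommRing A] [IsDomain A] [IsNoetherianRing A] [Ring.KrullDimLE 1 A]
  (K : Type*) [Field K] [Algebra A K] [IsFractionRing A K]
  {V : Type*} [AddCommGroup V] [Module K V] [Module A V] [IsScalarTower A K V]

/-- unbundled lattice predicate -/
def Lat (M : Submodule A V) : Prop := M.FG ∧ Submodule.span K (M : Set V) = ⊤

theorem exists_smul_mem (L : Submodule A V) (hL : Submodule.span K (L : Set V) = ⊤) (v : V) :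
    ∃ a : A, a ≠ 0 ∧ a • v ∈ L := by
  have hv : v ∈ Submodule.span K (L : Set V) := by rw [hL]; trivial
  induction hv using Submodule.span_induction with
  | mem x hx => exact ⟨1, one_ne_zero, by rwa [one_smul]⟩
  | zero => exact ⟨1, one_ne_zero, by rw [smul_zero]; exact L.zero_mem⟩
  | add x y _ _ hx hy =>
    obtain ⟨a, ha, hax⟩ := hx
    obtain ⟨b, hb, hby⟩ := hy
    refine ⟨a * b, mul_ne_zero ha hb, ?_⟩
    rw [smul_add]
    refine L.add_mem ?_ ?_
    · rw [mul_comm, mul_smul]; exact L.smul_mem b hax
    · rw [mul_smul]; exact L.smul_mem a hby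
  | smul k x _ hx =>
    obtain ⟨a, ha, hax⟩ := hx
    obtain ⟨⟨r, s⟩, hrs⟩ := IsLocalization.surj (nonZeroDivisors A) k
    refine ⟨(s : A) * a, mul_ne_zero (nonZeroDivisors.ne_zero s.2) ha, ?_⟩
    have e1 : ((s : A) * a) • (k • x) = (algebraMap A K ((s : A) * a) * k) • x := by
      rw [← algebraMap_smul K ((s : A) * a) (k • x), smul_smul]
    have e2 : r • (a • x) = (algebraMap A K r * algebraMap A K a) • x := by
      rw [← algebraMap_smul K r (a • x), ← algebraMap_smul K a x, smul_smul]
    have e3 : algebraMap A K ((s : A) * a) * k = algebraMap A K r * algebraMap A K a := by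
      have hrs' : k * algebraMap A K (s : A) = algebraMap A K r := hrs
      rw [map_mul, ← hrs']; ring
    rw [e1, e3, ← e2]
    exact L.smul_mem r hax

theorem exists_smul_le (L M : Submodule A V) (hL : Submodule.span K (L : Set V) = ⊤)
    (hM : M.FG) : ∃ a : A, a ≠ 0 ∧ ∀ m ∈ M, a • m ∈ L := by
  classical
  obtain ⟨S, rfl⟩ := hM
  choose f hf0 hfL using fun v : V => exists_smul_mem K L hL v
  refine ⟨∏ s ∈ S, f s, Finset.prod_ne_zero_iff.2 (fun s _ => hf0 s), ?_⟩
  intro m hm
  induction hm using Submodule.span_induction with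
  | mem x hx =>
    obtain ⟨c, hc⟩ := Finset.dvd_prod_of_mem f (Finset.mem_coe.1 hx)
    rw [hc, mul_comm, mul_smul]
    exact L.smul_mem c (hfL x)
  | zero => rw [smul_zero]; exact L.zero_mem
  | add x y _ _ hx hy => rw [smul_add]; exact L.add_mem hx hy
  | smul c x _ hx => rw [smul_comm]; exact L.smul_mem c hx

theorem qlen_lt_top {L M : Submodule A V} (hL : Submodule.span K (L : Set V) = ⊤)
    (hM : M.FG) : qlen L M < ⊤ := by
  obtain ⟨a, ha0, ha⟩ := exists_smul_le K L M hL hM
  have : Module.Finite A ↥M := Module.Finite.iff_fg.2 hM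
  have hfl : IsFiniteLength A (↥M ⧸ L.submoduleOf M) := by
    refine finiteLength_of_smul_eq_zero a (mem_nonZeroDivisors_of_ne_zero ha0) ?_
    intro x
    obtain ⟨m, rfl⟩ := Submodule.Quotient.mk_surjective _ x
    rw [← Submodule.Quotient.mk_smul, Submodule.Quotient.mk_eq_zero]
    exact ha m m.2
  exact (Module.length_ne_top_iff.2 hfl).lt_top

theorem span_inf_eq_top {M N : Submodule A V} (hM : Submodule.span K (M : Set V) = ⊤)
    (hN : Submodule.span K (N : Set V) = ⊤) :
    Submodule.span K ((M ⊓ N : Submodule A V) : Set V) = ⊤ := by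
  rw [eq_top_iff]
  intro v _
  obtain ⟨a, ha, hav⟩ := exists_smul_mem K M hM v
  obtain ⟨b, hb, hbv⟩ := exists_smul_mem K N hN v
  have hmem : (a * b) • v ∈ M ⊓ N :=
    ⟨by rw [mul_comm, mul_smul]; exact M.smul_mem b hav, by rw [mul_smul]; exact N.smul_mem a hbv⟩
  have hne : algebraMap A K (a * b) ≠ 0 := by
    rw [Ne, map_eq_zero_iff _ (IsFractionRing.injective A K)]; exact mul_ne_zero ha hb
  have hv : v = (algebraMap A K (a * b))⁻¹ • ((a * b) • v) := by
    rw [← algebraMap_smul K (a * b) v, smul_smul, inv_mul_cancel₀ hne, one_smul]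
  rw [hv]
  exact Submodule.smul_mem _ _ (Submodule.subset_span hmem)

variable {K}

theorem lat_inf {M N : Submodule A V} (hM : Lat K M) (hN : Lat K N) : Lat K (M ⊓ N) :=
  ⟨Submodule.FG.of_le hM.1 inf_le_left, span_inf_eq_top K hM.2 hN.2⟩

theorem lat_map {V' : Type*} [AddCommGroup V'] [Module K V'] [Module A V'] [IsScalarTower A K V']
    {M : Submodule A V} (hM : Lat K M) (g : V →ₗ[K] V') (hg : Function.Surjective g) :
    Lat K (M.map (g.restrictScalars A)) := by
  refine ⟨hM.1.map _, ?_⟩
  have h1 : ((M.map (g.restrictScalars A) : Submodule A V') : Set V') = g '' (M : Set V) := rfl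
  rw [h1, Submodule.span_image, hM.2, Submodule.map_top, LinearMap.range_eq_top]
  exact hg

/-- the distance between two lattices -/
noncomputable def dist (M N : Submodule A V) : ℤ :=
  ((qlen (M ⊓ N) M).toNat : ℤ) - ((qlen (M ⊓ N) N).toNat : ℤ)

theorem dist_eq_of_le {L M N : Submodule A V} (hL : Lat K L) (hM : Lat K M) (hN : Lat K N)
    (hLM : L ≤ M) (hLN : L ≤ N) :
    dist M N = ((qlen L M).toNat : ℤ) - ((qlen L N).toNat : ℤ) := by
  have hI : Lat K (M ⊓ N) := lat_inf hM hN
  have c1 := qlen_chain (le_inf hLM hLN) (inf_le_left : M ⊓ N ≤ M)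
  have c2 := qlen_chain (le_inf hLM hLN) (inf_le_right : M ⊓ N ≤ N)
  have f0 := (qlen_lt_top K (L := L) (M := M ⊓ N) hL.2 hI.1).ne
  have f1 := (qlen_lt_top K (L := M ⊓ N) (M := M) hI.2 hM.1).ne
  have f2 := (qlen_lt_top K (L := M ⊓ N) (M := N) hI.2 hN.1).ne
  unfold dist
  rw [c1, c2, ENat.toNat_add f0 f1, ENat.toNat_add f0 f2]
  push_cast; ring

theorem dist_self (M : Submodule A V) : dist M M = 0 := by
  unfold dist; exact sub_self _

theorem dist_triangle {M N P : Submodule A V} (hM : Lat K M) (hN : Lat K N) (hP : Lat K P) :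
    dist M N + dist N P = dist M P := by
  have hL : Lat K (M ⊓ N ⊓ P) := lat_inf (lat_inf hM hN) hP
  have h1 : M ⊓ N ⊓ P ≤ M := inf_le_left.trans inf_le_left
  have h2 : M ⊓ N ⊓ P ≤ N := inf_le_left.trans inf_le_right
  have h3 : M ⊓ N ⊓ P ≤ P := inf_le_right
  rw [dist_eq_of_le hL hM hN h1 h2, dist_eq_of_le hL hN hP h2 h3, dist_eq_of_le hL hM hP h1 h3]
  ring

theorem dist_map {V' : Type*} [AddCommGroup V'] [Module A V'] (f : V →ₗ[A] V')
    (hf : Function.Injective f) (M N : Submodule A V) :
    dist (M.map f) (N.map f) = dist M N := by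
  unfold dist
  rw [← Submodule.map_inf f hf, qlen_map f hf, qlen_map f hf]

theorem dist_of_le {M N : Submodule A V} (h : N ≤ M) : dist M N = ((qlen N M).toNat : ℤ) := by
  unfold dist
  rw [inf_eq_right.2 h, qlen_self]
  simp

theorem dist_symm' {M N : Submodule A V} (hM : Lat K M) (hN : Lat K N) :
    dist M N + dist N M = 0 := by
  rw [dist_triangle hM hN hM, dist_self]

/-- the index of a `K`-linear automorphism with respect to a lattice -/
noncomputable def chi (M : Submodule A V) (g : V →ₗ[K] V) : ℤ :=
  dist M (M.map (g.restrictScalars A))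

theorem chi_indep {M M' : Submodule A V} (hM : Lat K M) (hM' : Lat K M') (g : V →ₗ[K] V)
    (hg : Function.Bijective g) : chi M' g = chi M g := by
  unfold chi
  have l1 := lat_map hM g hg.2
  have l2 := lat_map hM' g hg.2
  have t1 := dist_triangle hM' hM l2
  have t2 := dist_triangle hM l1 l2
  have t3 := dist_map (g.restrictScalars A) hg.1 M M'
  have t4 := dist_symm' hM' hM
  linarith

theorem chi_comp {M : Submodule A V} (hM : Lat K M) (g h : V →ₗ[K] V)
    (hg : Function.Bijective g) (hh : Function.Bijective h) :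
    chi M (g ∘ₗ h) = chi M g + chi M h := by
  unfold chi
  have e : M.map ((g ∘ₗ h).restrictScalars A) =
      (M.map (h.restrictScalars A)).map (g.restrictScalars A) := by
    rw [← Submodule.map_comp]; rfl
  have l1 := lat_map hM g hg.2
  have l2 := lat_map hM h hh.2
  have l3 := lat_map l2 g hg.2
  rw [e, ← dist_triangle hM l1 l3, dist_map (g.restrictScalars A) hg.1]

theorem chi_id (M : Submodule A V) : chi M (LinearMap.id : V →ₗ[K] V) = 0 := by
  unfold chi
  have : M.map ((LinearMap.id : V →ₗ[K] V).restrictScalars A) = M := Submodule.map_id M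
  rw [this, dist_self]

end lattice

section ordfrac

variable (A : Type*) [CommRing A] [IsDomain A] [IsNoetherianRing A] [Ring.KrullDimLE 1 A]
  (K : Type*) [Field K] [Algebra A K] [IsFractionRing A K]

theorem ordFrac_unfold (f : K) : CycAlg.ordFrac A K f = WithZero.log (Ring.ordFrac A f) := by
  unfold CycAlg.ordFrac
  rw [dif_pos ⟨inferInstance, inferInstance, inferInstance, inferInstance⟩]
  rfl

theorem ordFrac_mul {x y : K} (hx : x ≠ 0) (hy : y ≠ 0) :
    CycAlg.ordFrac A K (x * y) = CycAlg.ordFrac A K x + CycAlg.ordFrac A K y := by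
  rw [ordFrac_unfold, ordFrac_unfold, ordFrac_unfold, map_mul]
  exact WithZero.log_mul ((map_ne_zero _).2 hx) ((map_ne_zero _).2 hy)

theorem ordFrac_one : CycAlg.ordFrac A K (1 : K) = 0 := by
  rw [ordFrac_unfold, map_one]; rfl

theorem ordFrac_algebraMap {a : A} (ha : a ≠ 0) :
    CycAlg.ordFrac A K (algebraMap A K a) =
      ((Module.length A (A ⧸ Ideal.span {a})).toNat : ℤ) := by
  have hnz : a ∈ nonZeroDivisors A := mem_nonZeroDivisors_of_ne_zero ha
  have hfin : Ring.ord A a ≠ ⊤ := Ring.ord_ne_top hnz
  obtain ⟨m, hm⟩ := ENat.ne_top_iff_exists.1 hfin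
  rw [ordFrac_unfold, Ring.ordFrac_eq_ord A ha, Ring.ordMonoidWithZeroHom_eq_coe A hnz hm.symm]
  have h2 : Module.length A (A ⧸ Ideal.span {a}) = m := hm.symm
  rw [h2]
  rfl

end ordfrac

section matrix

variable {A : Type*} [CommRing A] [IsDomain A] [IsNoetherianRing A] [Ring.KrullDimLE 1 A]
  {K : Type*} [Field K] [Algebra A K] [IsFractionRing A K] {n : ℕ}

/-- the inclusion `Aⁿ → Kⁿ` -/
noncomputable def iota (A K : Type*) [CommRing A] [Field K] [Algebra A K] (n : ℕ) :
    (Fin n → A) →ₗ[A] (Fin n → K) := (Algebra.linearMap A K).compLeft (Fin n)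

omit [IsDomain A] [IsNoetherianRing A] [Ring.KrullDimLE 1 A] [IsFractionRing A K] in
theorem iota_apply (x : Fin n → A) (i : Fin n) : iota A K n x i = algebraMap A K (x i) := rfl

theorem iota_injective : Function.Injective (iota A K n) := by
  intro x y h
  funext i
  exact IsFractionRing.injective A K (congrFun h i)

/-- the standard lattice -/
noncomputable def M0 (A K : Type*) [CommRing A] [Field K] [Algebra A K] (n : ℕ) :
    Submodule A (Fin n → K) := LinearMap.range (iota A K n)

theorem lat_M0 : Lat K (M0 A K n) := by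
  constructor
  · unfold M0; rw [LinearMap.range_eq_map]; exact Module.Finite.fg_top.map _
  · rw [eq_top_iff, ← (Pi.basisFun K (Fin n)).span_eq]
    apply Submodule.span_mono
    rintro _ ⟨k, rfl⟩
    refine ⟨Pi.single k 1, ?_⟩
    funext j
    rw [iota_apply, Pi.basisFun_apply]
    by_cases h : j = k
    · subst h; simp
    · simp [Pi.single_eq_of_ne h]

omit [IsDomain A] [IsNoetherianRing A] [Ring.KrullDimLE 1 A] [Algebra A K] [IsFractionRing A K] in
theorem toLin'_bijective (N : Matrix (Fin n) (Fin n) K) (h : N.det ≠ 0) :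
    Function.Bijective (Matrix.toLin' N) := by
  have hu : IsUnit N.det := isUnit_iff_ne_zero.2 h
  rw [Function.bijective_iff_has_inverse]
  refine ⟨Matrix.toLin' N⁻¹, ?_, ?_⟩
  · intro x
    rw [← LinearMap.comp_apply, ← Matrix.toLin'_mul, Matrix.nonsing_inv_mul _ hu,
      Matrix.toLin'_one]; rfl
  · intro x
    rw [← LinearMap.comp_apply, ← Matrix.toLin'_mul, Matrix.mul_nonsing_inv _ hu,
      Matrix.toLin'_one]; rfl

/-- index of a matrix with respect to the standard lattice -/
noncomputable def chiM (A : Type*) {K : Type*} [CommRing A] [Field K] [Algebra A K] {n : ℕ}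
    (N : Matrix (Fin n) (Fin n) K) : ℤ := chi (M0 A K n) (Matrix.toLin' N)

theorem chiM_mul (N₁ N₂ : Matrix (Fin n) (Fin n) K) (h₁ : N₁.det ≠ 0) (h₂ : N₂.det ≠ 0) :
    chiM A (N₁ * N₂) = chiM A N₁ + chiM A N₂ := by
  unfold chiM
  rw [Matrix.toLin'_mul]
  exact chi_comp lat_M0 _ _ (toLin'_bijective N₁ h₁) (toLin'_bijective N₂ h₂)

theorem chiM_one : chiM A (1 : Matrix (Fin n) (Fin n) K) = 0 := by
  unfold chiM; rw [Matrix.toLin'_one]; exact chi_id _

theorem chiM_transvection (i j : Fin n) (hij : i ≠ j) (c : K) :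
    chiM A (Matrix.transvection i j c) = 0 := by
  classical
  obtain ⟨D, hD⟩ : ∃ D : Matrix (Fin n) (Fin n) K,
      D = Matrix.diagonal (fun k => if k = i then (-1 : K) else 1) := ⟨_, rfl⟩
  have hDD : D * D = 1 := by
    rw [hD, Matrix.diagonal_mul_diagonal, ← Matrix.diagonal_one]
    congr 1; funext k; split_ifs <;> simp
  have hDdet : D.det ≠ 0 := by
    intro h0
    have h1 := congrArg Matrix.det hDD
    rw [Matrix.det_mul, h0, Matrix.det_one, zero_mul] at h1
    exact zero_ne_one h1
  have hT : (Matrix.transvection i j c).det ≠ 0 := by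
    rw [Matrix.det_transvection_of_ne i j hij c]; exact one_ne_zero
  have hT' : (Matrix.transvection i j (-c)).det ≠ 0 := by
    rw [Matrix.det_transvection_of_ne i j hij (-c)]; exact one_ne_zero
  have hconj : D * Matrix.transvection i j c * D = Matrix.transvection i j (-c) := by
    ext a b
    rw [hD, Matrix.mul_diagonal, Matrix.diagonal_mul]
    simp only [Matrix.transvection, Matrix.add_apply, Matrix.one_apply, Matrix.single_apply]
    by_cases h1 : i = a ∧ j = b
    · obtain ⟨rfl, rfl⟩ := h1
      simp [hij, hij.symm]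
    · rw [if_neg h1, if_neg h1]
      by_cases hab : a = b
      · subst hab
        split_ifs <;> simp
      · simp [hab]
  have hDT : (D * Matrix.transvection i j c).det ≠ 0 := by
    rw [Matrix.det_mul]; exact mul_ne_zero hDdet hT
  have e1 : chiM A (D * Matrix.transvection i j c * D) =
      chiM A D + chiM A (Matrix.transvection i j c) + chiM A D := by
    rw [chiM_mul _ _ hDT hDdet, chiM_mul _ _ hDdet hT]
  have e2 : chiM A D + chiM A D = 0 := by
    rw [← chiM_mul _ _ hDdet hDdet, hDD, chiM_one]
  have e3 : chiM A (Matrix.transvection i j c) + chiM A (Matrix.transvection i j (-c)) = 0 := by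
    rw [← chiM_mul _ _ hT hT', Matrix.transvection_mul_transvection_same i j hij, add_neg_cancel,
      Matrix.transvection_zero, chiM_one]
  rw [hconj] at e1
  omega

theorem det_E_ne_zero (k : Fin n) (d : K) (hd : d ≠ 0) :
    (Matrix.diagonal (Function.update (1 : Fin n → K) k d)).det ≠ 0 := by
  rw [Matrix.det_diagonal, Finset.prod_ne_zero_iff]
  intro i _
  by_cases h : i = k
  · subst h; simpa using hd
  · simp [Function.update_of_ne h]

theorem chiM_E_int (k : Fin n) (a : A) (ha : a ≠ 0) :
    chiM A (Matrix.diagonal (Function.update (1 : Fin n → K) k (algebraMap A K a))) =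
      ((Module.length A (A ⧸ Ideal.span {a})).toNat : ℤ) := by
  classical
  obtain ⟨π, hπdef⟩ : ∃ π : (Fin n → A) →ₗ[A] A ⧸ Ideal.span {a},
      π = (Submodule.mkQ (Ideal.span {a} : Submodule A A)).comp (LinearMap.proj k) := ⟨_, rfl⟩
  have hπ_apply : ∀ y : Fin n → A, π y = (Submodule.Quotient.mk (y k) : A ⧸ Ideal.span {a}) := by
    intro y; rw [hπdef]; rfl
  have hπ : Function.Surjective π := by
    intro q
    obtain ⟨c, rfl⟩ := Submodule.Quotient.mk_surjective _ q
    exact ⟨fun _ => c, hπ_apply _⟩
  have hE : ∀ (w : Fin n → K) (i : Fin n),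
      Matrix.toLin' (Matrix.diagonal (Function.update (1 : Fin n → K) k (algebraMap A K a))) w i =
        Function.update (1 : Fin n → K) k (algebraMap A K a) i * w i := by
    intro w i
    rw [Matrix.toLin'_apply, Matrix.mulVec_diagonal]
  have key : (M0 A K n).map ((Matrix.toLin' (Matrix.diagonal
      (Function.update (1 : Fin n → K) k (algebraMap A K a)))).restrictScalars A) =
      (LinearMap.ker π).map (iota A K n) := by
    ext v
    constructor
    · rintro ⟨w, ⟨y, rfl⟩, rfl⟩
      refine ⟨fun i => Function.update (1 : Fin n → A) k a i * y i, ?_, ?_⟩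
      · rw [SetLike.mem_coe, LinearMap.mem_ker, hπ_apply, Function.update_self,
          Submodule.Quotient.mk_eq_zero]
        exact Ideal.mem_span_singleton'.2 ⟨y k, mul_comm _ _⟩
      · funext i
        change algebraMap A K (Function.update (1 : Fin n → A) k a i * y i) =
          Matrix.toLin' (Matrix.diagonal (Function.update (1 : Fin n → K) k (algebraMap A K a)))
            (iota A K n y) i
        rw [hE, iota_apply, map_mul]
        by_cases h : i = k
        · subst h; simp
        · simp [Function.update_of_ne h]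
    · rintro ⟨y, hy, rfl⟩
      rw [SetLike.mem_coe, LinearMap.mem_ker, hπ_apply, Submodule.Quotient.mk_eq_zero] at hy
      obtain ⟨c, hc⟩ := Ideal.mem_span_singleton'.1 hy
      refine ⟨iota A K n (Function.update y k c), ⟨_, rfl⟩, ?_⟩
      funext i
      change Matrix.toLin' (Matrix.diagonal (Function.update (1 : Fin n → K) k (algebraMap A K a)))
            (iota A K n (Function.update y k c)) i = iota A K n y i
      rw [hE, iota_apply, iota_apply]
      by_cases h : i = k
      · subst h
        rw [Function.update_self, Function.update_self, ← map_mul, mul_comm, hc]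
      · rw [Function.update_of_ne h, Function.update_of_ne h, Pi.one_apply, one_mul]
  unfold chiM chi
  have hle : (LinearMap.ker π).map (iota A K n) ≤ M0 A K n := LinearMap.map_le_range
  rw [key, dist_of_le hle]
  have h2 : qlen ((LinearMap.ker π).map (iota A K n)) (M0 A K n) =
      Module.length A (A ⧸ Ideal.span {a}) := by
    unfold M0
    rw [LinearMap.range_eq_map, qlen_map (iota A K n) iota_injective, qlen_top]
    exact (π.quotKerEquivOfSurjective hπ).length_eq
  rw [h2]

theorem chiM_E (k : Fin n) (d : K) (hd : d ≠ 0) :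
    chiM A (Matrix.diagonal (Function.update (1 : Fin n → K) k d)) = CycAlg.ordFrac A K d := by
  classical
  obtain ⟨⟨x, s⟩, hxs⟩ := IsLocalization.surj (nonZeroDivisors A) d
  have hxs' : d * algebraMap A K (s : A) = algebraMap A K x := hxs
  have hs : (s : A) ≠ 0 := nonZeroDivisors.ne_zero s.2
  have hsK : algebraMap A K (s : A) ≠ 0 := by
    rw [Ne, map_eq_zero_iff _ (IsFractionRing.injective A K)]; exact hs
  have hx : x ≠ 0 := by
    rintro rfl
    rw [map_zero] at hxs'
    exact (mul_ne_zero hd hsK) hxs'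
  have hxK : algebraMap A K x ≠ 0 := by
    rw [Ne, map_eq_zero_iff _ (IsFractionRing.injective A K)]; exact hx
  have hmul : Matrix.diagonal (Function.update (1 : Fin n → K) k d) *
      Matrix.diagonal (Function.update (1 : Fin n → K) k (algebraMap A K (s : A))) =
      Matrix.diagonal (Function.update (1 : Fin n → K) k (algebraMap A K x)) := by
    rw [Matrix.diagonal_mul_diagonal]
    congr 1
    funext i
    by_cases h : i = k
    · subst h; simp [hxs']
    · simp [Function.update_of_ne h]
  have e1 := chiM_mul (A := A) _ _ (det_E_ne_zero k d hd) (det_E_ne_zero k _ hsK)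
  rw [hmul, chiM_E_int k x hx, chiM_E_int k (s : A) hs, ← ordFrac_algebraMap A K hx,
    ← ordFrac_algebraMap A K hs, ← hxs', ordFrac_mul A K hd hsK] at e1
  linarith

theorem chiM_diagonal (D : Fin n → K) (hD : ∀ k, D k ≠ 0) :
    chiM A (Matrix.diagonal D) = CycAlg.ordFrac A K (∏ k, D k) := by
  classical
  have key : ∀ s : Finset (Fin n),
      chiM A (Matrix.diagonal (fun k => if k ∈ s then D k else 1)) =
        CycAlg.ordFrac A K (∏ k ∈ s, D k) := by
    intro s
    induction s using Finset.induction_on with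
    | empty =>
      have : (fun k : Fin n => if k ∈ (∅ : Finset (Fin n)) then D k else (1 : K)) = fun _ => 1 := by
        funext k; simp
      rw [this, Matrix.diagonal_one, chiM_one, Finset.prod_empty, ordFrac_one]
    | insert k s hk ih =>
      have hmul : Matrix.diagonal (fun i => if i ∈ insert k s then D i else 1) =
          Matrix.diagonal (Function.update (1 : Fin n → K) k (D k)) *
            Matrix.diagonal (fun i => if i ∈ s then D i else 1) := by
        rw [Matrix.diagonal_mul_diagonal]
        congr 1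
        funext i
        by_cases h : i = k
        · subst h; simp [hk]
        · simp [Finset.mem_insert, h]
      have hdet : (Matrix.diagonal (fun i => if i ∈ s then D i else 1)).det ≠ 0 := by
        rw [Matrix.det_diagonal, Finset.prod_ne_zero_iff]
        intro i _
        split_ifs
        · exact hD i
        · exact one_ne_zero
      have hprod : ∏ i ∈ s, D i ≠ 0 := Finset.prod_ne_zero_iff.2 (fun i _ => hD i)
      rw [hmul, chiM_mul _ _ (det_E_ne_zero k (D k) (hD k)) hdet, chiM_E k (D k) (hD k), ih,
        Finset.prod_insert hk, ordFrac_mul A K (hD k) hprod]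
  have h := key Finset.univ
  simpa using h

theorem chiM_eq (N : Matrix (Fin n) (Fin n) K) (hN : N.det ≠ 0) :
    chiM A N = CycAlg.ordFrac A K N.det := by
  classical
  refine Matrix.diagonal_transvection_induction_of_det_ne_zero
    (fun N => chiM A N = CycAlg.ordFrac A K N.det) N hN ?_ ?_ ?_
  · intro D hD
    have hD' : ∀ k, D k ≠ 0 := by
      rw [Matrix.det_diagonal, Finset.prod_ne_zero_iff] at hD
      exact fun k => hD k (Finset.mem_univ k)
    change chiM A (Matrix.diagonal D) = CycAlg.ordFrac A K (Matrix.diagonal D).det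
    rw [Matrix.det_diagonal]; exact chiM_diagonal D hD'
  · intro t
    rw [Matrix.TransvectionStruct.det, ordFrac_one]
    exact chiM_transvection t.i t.j t.hij t.c
  · intro N₁ N₂ h₁ h₂ e₁ e₂
    rw [chiM_mul N₁ N₂ h₁ h₂, Matrix.det_mul, ordFrac_mul A K h₁ h₂, e₁, e₂]

theorem dist_eq_ordFrac_det {V : Type*} [AddCommGroup V] [Module K V] [Module A V]
    [IsScalarTower A K V] [FiniteDimensional K V] (M : Submodule A V) (hM : Lat K M)
    (φ : V ≃ₗ[K] V) :
    dist M (M.map (φ.toLinearMap.restrictScalars A)) =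
      CycAlg.ordFrac A K (LinearMap.det φ.toLinearMap) := by
  classical
  obtain ⟨e⟩ : Nonempty (V ≃ₗ[K] (Fin (Module.finrank K V) → K)) :=
    ⟨(Module.finBasis K V).equivFun⟩
  obtain ⟨ψ, hψdef⟩ : ∃ ψ : (Fin (Module.finrank K V) → K) →ₗ[K] (Fin (Module.finrank K V) → K),
      ψ = e.toLinearMap ∘ₗ φ.toLinearMap ∘ₗ e.symm.toLinearMap := ⟨_, rfl⟩
  have hψ : Function.Bijective ψ := by
    rw [hψdef]
    exact e.bijective.comp (φ.bijective.comp e.symm.bijective)
  have hdet : LinearMap.det ψ = LinearMap.det φ.toLinearMap := by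
    rw [hψdef]; exact LinearMap.det_conj φ.toLinearMap e
  have hM' : Lat K (M.map (e.toLinearMap.restrictScalars A)) :=
    lat_map hM e.toLinearMap e.surjective
  have h1 : dist M (M.map (φ.toLinearMap.restrictScalars A)) =
      dist (M.map (e.toLinearMap.restrictScalars A))
        ((M.map (e.toLinearMap.restrictScalars A)).map (ψ.restrictScalars A)) := by
    rw [← dist_map (e.toLinearMap.restrictScalars A) e.injective M
      (M.map (φ.toLinearMap.restrictScalars A))]
    congr 1
    rw [← Submodule.map_comp, ← Submodule.map_comp]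
    congr 1
    apply LinearMap.ext
    intro x
    rw [hψdef]
    simp
  rw [h1]
  change chi (M.map (e.toLinearMap.restrictScalars A)) ψ = _
  rw [chi_indep lat_M0 hM' ψ hψ, ← hdet, ← LinearMap.det_toMatrix' ψ]
  have hdet' : (LinearMap.toMatrix' ψ).det ≠ 0 := by
    rw [LinearMap.det_toMatrix', hdet]; exact (LinearEquiv.isUnit_det' φ).ne_zero
  have h3 := chiM_eq (A := A) (LinearMap.toMatrix' ψ) hdet'
  unfold chiM at h3
  rw [Matrix.toLin'_toMatrix'] at h3
  exact h3

end matrix

end Groth.Agent.Helper8.LatDist
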