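import Mathlib
import Groth.Agent.Lib.Helper8.LatDist

set_option linter.style.haveILetI false
set_option linter.unusedSectionVars false
set_option linter.unusedVariables false

namespace Groth.Agent.Helper8.LatDist

section norm

/-- `B → L` as an `A`-linear map -/
noncomputable def jA (A B L : Type*) [CommRing A] [CommRing B] [Field L] [Algebra A B]
    [Algebra B L] [Algebra A L] [IsScalarTower A B L] : B →ₗ[A] L :=
  (IsScalarTower.toAlgHom A B L).toLinearMap

variable {A : Type*} [CommRing A] [IsDomain A] [IsNoetherianRing A] [Ring.KrullDimLE 1 A]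
  {B : Type*} [CommRing B] [IsDomain B] [Algebra A B] [Module.Finite A B]
  {K L : Type*} [Field K] [Field L] [Algebra A K] [IsFractionRing A K] [Algebra B L]
  [IsFractionRing B L] [Algebra K L] [Algebra A L] [IsScalarTower A B L] [IsScalarTower A K L]
  [FiniteDimensional K L]

theorem jA_apply (b : B) : jA A B L b = algebraMap B L b := rfl

theorem jA_injective : Function.Injective (jA A B L) := IsFractionRing.injective B L

theorem lat_range : Lat K (LinearMap.range (jA A B L)) := by
  constructor
  · rw [LinearMap.range_eq_map]; exact Module.Finite.fg_top.map _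
  · obtain ⟨S, hS⟩ : ∃ S : Submodule K L, S = Submodule.span K
        ((LinearMap.range (jA A B L) : Submodule A L) : Set L) := ⟨_, rfl⟩
    rw [← hS]
    have hmem : ∀ b : B, algebraMap B L b ∈ S := fun b => hS ▸ Submodule.subset_span ⟨b, rfl⟩
    have hmul : ∀ (b : B) (x : L), x ∈ S → algebraMap B L b * x ∈ S := by
      intro b x hx
      rw [hS] at hx ⊢
      induction hx using Submodule.span_induction with
      | mem y hy =>
        obtain ⟨b', rfl⟩ := hy
        refine Submodule.subset_span ⟨b * b', ?_⟩
        rw [jA_apply, jA_apply, map_mul]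
      | zero => rw [mul_zero]; exact Submodule.zero_mem _
      | add y z _ _ hy hz => rw [mul_add]; exact Submodule.add_mem _ hy hz
      | smul k y _ hy => rw [mul_smul_comm]; exact Submodule.smul_mem _ k hy
    have hinv : ∀ s : B, s ≠ 0 → (algebraMap B L s)⁻¹ ∈ S := by
      intro s hs
      have hsL : algebraMap B L s ≠ 0 := by
        rw [Ne, map_eq_zero_iff _ (IsFractionRing.injective B L)]; exact hs
      obtain ⟨f, hfdef⟩ : ∃ f : ↥S →ₗ[K] ↥S, f = (LinearMap.mulLeft K (algebraMap B L s)).restrict
          (fun x hx => hmul s x hx) := ⟨_, rfl⟩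
      have hf_apply : ∀ x : ↥S, ((f x : ↥S) : L) = algebraMap B L s * (x : L) := by
        intro x; rw [hfdef]; rfl
      have hf : Function.Injective f := by
        intro x y hxy
        have h1 : algebraMap B L s * (x : L) = algebraMap B L s * (y : L) := by
          rw [← hf_apply, ← hf_apply, hxy]
        exact Subtype.ext (mul_left_cancel₀ hsL h1)
      have h1S : (1 : L) ∈ S := by simpa using hmem 1
      obtain ⟨x, hx⟩ := (LinearMap.injective_iff_surjective.1 hf) ⟨1, h1S⟩
      have h2 : algebraMap B L s * (x : L) = 1 := by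
        rw [← hf_apply, hx]
      have h3 : (x : L) = (algebraMap B L s)⁻¹ := by
        rw [← mul_right_inj' hsL, h2, mul_inv_cancel₀ hsL]
      rw [← h3]; exact x.2
    rw [eq_top_iff]
    intro l _
    obtain ⟨b, s, hs, rfl⟩ := IsFractionRing.div_surjective (A := B) l
    rw [div_eq_mul_inv]
    exact hmul b _ (hinv s (nonZeroDivisors.ne_zero hs))

theorem length_quot_eq_ordFrac_norm (r : B) (hr : r ≠ 0) :
    Module.length A (B ⧸ Ideal.span {r}) < ⊤ ∧
      ((Module.length A (B ⧸ Ideal.span {r})).toNat : ℤ) =
        CycAlg.ordFrac A K (Algebra.norm K (algebraMap B L r)) := by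
  have hρ : algebraMap B L r ≠ 0 := by
    rw [Ne, map_eq_zero_iff _ (IsFractionRing.injective B L)]; exact hr
  obtain ⟨φ, hφ⟩ : ∃ φ : L ≃ₗ[K] L, φ.toLinearMap = Algebra.lmul K L (algebraMap B L r) := by
    refine ⟨LinearEquiv.ofLinearMap (Algebra.lmul K L (algebraMap B L r))
      (Algebra.lmul K L (algebraMap B L r)⁻¹) ?_ ?_, rfl⟩
    · apply LinearMap.ext; intro x
      change algebraMap B L r * ((algebraMap B L r)⁻¹ * x) = x
      rw [← mul_assoc, mul_inv_cancel₀ hρ, one_mul]
    · apply LinearMap.ext; intro x
      change (algebraMap B L r)⁻¹ * (algebraMap B L r * x) = x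
      rw [← mul_assoc, inv_mul_cancel₀ hρ, one_mul]
  have hφ_apply : ∀ x : L, φ x = algebraMap B L r * x := by
    intro x
    change φ.toLinearMap x = _
    rw [hφ]; rfl
  have hM : Lat K (LinearMap.range (jA A B L)) := lat_range
  have hφM := lat_map hM φ.toLinearMap φ.surjective
  have key : (LinearMap.range (jA A B L)).map (φ.toLinearMap.restrictScalars A) =
      ((Ideal.span {r} : Submodule B B).restrictScalars A).map (jA A B L) := by
    ext v
    constructor
    · rintro ⟨w, ⟨b, rfl⟩, rfl⟩
      refine ⟨r * b, ?_, ?_⟩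
      · change r * b ∈ Ideal.span {r}
        exact Ideal.mul_mem_right _ _ (Ideal.mem_span_singleton_self r)
      · change algebraMap B L (r * b) = φ (algebraMap B L b)
        rw [hφ_apply, map_mul]
    · rintro ⟨c, hc, rfl⟩
      have hc' : c ∈ Ideal.span {r} := hc
      obtain ⟨b, rfl⟩ := Ideal.mem_span_singleton'.1 hc'
      refine ⟨jA A B L b, ⟨b, rfl⟩, ?_⟩
      change φ (algebraMap B L b) = algebraMap B L (b * r)
      rw [hφ_apply, map_mul, mul_comm]
  have hle : ((Ideal.span {r} : Submodule B B).restrictScalars A).map (jA A B L) ≤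
      LinearMap.range (jA A B L) := LinearMap.map_le_range
  have hq : qlen (((Ideal.span {r} : Submodule B B).restrictScalars A).map (jA A B L))
      (LinearMap.range (jA A B L)) = Module.length A (B ⧸ Ideal.span {r}) := by
    rw [LinearMap.range_eq_map, qlen_map (jA A B L) jA_injective, qlen_top]
    exact (Submodule.Quotient.restrictScalarsEquiv A (Ideal.span {r} : Submodule B B)).length_eq
  have hd := dist_eq_ordFrac_det (LinearMap.range (jA A B L)) hM φ
  rw [key, dist_of_le hle, hq, hφ, ← Algebra.norm_apply] at hd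
  refine ⟨?_, hd⟩
  rw [← hq, ← key]
  exact qlen_lt_top K hφM.2 hM.1

end norm

end Groth.Agent.Helper8.LatDist
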