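import Mathlib

/-!
Helper lemmas on nilpotent ideals of finite-dimensional Lie algebras (helper8).
-/

namespace Groth.Agent.Helper8

universe u v

/-- `ad` on an ideal is the restriction of `ad` on the ambient Lie algebra. -/
theorem ad_ideal_pow_coe (k : Type u) [CommRing k] (L : Type v) [LieRing L] [LieAlgebra k L]
    (I : LieIdeal k L) (x : L) (hx : x ∈ I) (m : ℕ) (y : I) :
    (((LieAlgebra.ad k I ⟨x, hx⟩) ^ m) y : L) = (LieAlgebra.ad k L x ^ m) (y : L) := by
  induction m generalizing y with
  | zero => simp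
  | succ m ih =>
    rw [pow_succ', pow_succ', Module.End.mul_apply, Module.End.mul_apply, LieAlgebra.ad_apply,
      LieAlgebra.ad_apply, ← ih]
    rfl

/-- An element of an ideal which is nilpotent as a Lie ring acts nilpotently on the whole Lie algebra. -/
theorem ad_isNilpotent_of_mem_nilpotent_ideal (k : Type u) [Field k] (L : Type v) [LieRing L]
    [LieAlgebra k L] [Module.Finite k L] (N : LieIdeal k L) (hN : LieRing.IsNilpotent N)
    (x : L) (hx : x ∈ N) : IsNilpotent (LieAlgebra.ad k L x) := by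
  obtain ⟨m, hm⟩ := (LieAlgebra.isNilpotent_iff_forall (R := k)).mp hN ⟨x, hx⟩
  refine ⟨m + 1, ?_⟩
  ext y
  rw [pow_succ, Module.End.mul_apply, LieAlgebra.ad_apply]
  have hmem : ⁅x, y⁆ ∈ N := lie_mem_left k L N _ _ hx
  have h := ad_ideal_pow_coe k L N x hx m ⟨⁅x, y⁆, hmem⟩
  rw [hm] at h
  simpa using h.symm

/-- If every element of an ideal acts nilpotently on the ambient Lie algebra then the ideal is
nilpotent as a Lie ring (Engel). -/
theorem isNilpotent_ideal_of_forall_ad (k : Type u) [Field k] (L : Type v) [LieRing L]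
    [LieAlgebra k L] [Module.Finite k L] (K : LieIdeal k L)
    (h : ∀ z ∈ K, IsNilpotent (LieAlgebra.ad k L z)) : LieRing.IsNilpotent K := by
  rw [LieAlgebra.isNilpotent_iff_forall (R := k)]
  rintro ⟨z, hz⟩
  obtain ⟨m, hm⟩ := h z hz
  refine ⟨m, ?_⟩
  ext y
  rw [ad_ideal_pow_coe, hm]
  simp

end Groth.Agent.Helper8
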