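import Mathlib

/-!
# Points with locally closed singleton in locally Noetherian schemes (helper8)
-/

set_option autoImplicit false
universe u

namespace Groth.Agent.Helper8.LocClosedPoint

open AlgebraicGeometry Topology

theorem enat_eq_zero_of_add_one_le_one (a : ℕ∞) (h : a + 1 ≤ 1) : a = 0 := by
  induction a with
  | top => simp at h
  | coe n =>
    norm_cast at h ⊢
    omega

/-- In a Noetherian domain in which all nonzero primes contain a fixed nonzero element,
there is no chain `⊥ < Q < W` of primes. -/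
theorem eq_of_le_of_forall_prime_mem {D : Type*} [CommRing D] [IsDomain D] [IsNoetherianRing D]
    (g : D) (hg : g ≠ 0) (hall : ∀ P : Ideal D, P.IsPrime → P ≠ ⊥ → g ∈ P)
    (Q W : Ideal D) [hQ : Q.IsPrime] [hW : W.IsPrime] (hQ0 : Q ≠ ⊥) (hQW : Q ≤ W) : Q = W := by
  by_contra hne
  have hlt : Q < W := lt_of_le_of_ne hQW hne
  have hfin : (Ideal.span {g}).minimalPrimes.Finite :=
    Ideal.finite_minimalPrimes_of_isNoetherianRing D _
  have hPIT : ∀ (t : D) (P : Ideal D), P ∈ (Ideal.span {t}).minimalPrimes → P.height ≤ 1 :=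
    fun t P hP => Ideal.height_le_one_of_isPrincipal_of_mem_minimalPrimes (Ideal.span {t}) P hP
  have hbot : ∀ (P P' : Ideal D), P.IsPrime → P'.IsPrime → P < P' → P'.height ≤ 1 →
      P = ⊥ := by
    intro P P' hP hP' hlt' h1
    have h2 := Ideal.height_add_one_le_of_lt_of_isPrime hlt'
    exact Ideal.height_eq_zero_iff_eq_bot.mp (enat_eq_zero_of_add_one_le_one _ (h2.trans h1))
  -- W is not contained in the union of the minimal primes over g
  have hnot : ¬ ((W : Set D) ⊆ ⋃ P ∈ (hfin.toFinset : Set (Ideal D)), (P : Set D)) := by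
    intro hsub
    rw [Ideal.subset_union_prime (f := fun P : Ideal D => P) ⊥ ⊥
      (fun P hP _ _ => ((hfin.mem_toFinset).mp hP).1.1)] at hsub
    obtain ⟨P, hP, hWP⟩ := hsub
    have hP' := (hfin.mem_toFinset).mp hP
    have := hP'.1.1
    have h1 : W.height ≤ 1 := (Ideal.height_mono hWP).trans (hPIT g P hP')
    exact hQ0 (hbot Q W hQ hW hlt h1)
  rw [Set.not_subset] at hnot
  obtain ⟨t, htW, htn⟩ := hnot
  have htn' : ∀ P ∈ (Ideal.span {g}).minimalPrimes, t ∉ P := by
    intro P hP htP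
    apply htn
    simp only [Set.mem_iUnion]
    exact ⟨P, by simpa using hP, htP⟩
  -- t ≠ 0
  have hgQ : Ideal.span {g} ≤ Q := by
    rw [Ideal.span_singleton_le_iff_mem]; exact hall Q hQ hQ0
  obtain ⟨P₀, hP₀, -⟩ := Ideal.exists_minimalPrimes_le hgQ
  have ht0 : t ≠ 0 := fun h => htn' P₀ hP₀ (h ▸ P₀.zero_mem)
  have htW' : Ideal.span {t} ≤ W := by
    rw [Ideal.span_singleton_le_iff_mem]; exact htW
  obtain ⟨Q₁, hQ₁, -⟩ := Ideal.exists_minimalPrimes_le htW'
  have hQ₁p : Q₁.IsPrime := hQ₁.1.1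
  have htQ₁ : t ∈ Q₁ := hQ₁.1.2 (Ideal.mem_span_singleton_self t)
  have hQ₁0 : Q₁ ≠ ⊥ := fun h => ht0 (by rw [h] at htQ₁; exact htQ₁)
  have hgQ₁ : Ideal.span {g} ≤ Q₁ := by
    rw [Ideal.span_singleton_le_iff_mem]; exact hall Q₁ hQ₁p hQ₁0
  obtain ⟨P₁, hP₁, hP₁Q₁⟩ := Ideal.exists_minimalPrimes_le hgQ₁
  have hP₁p : P₁.IsPrime := hP₁.1.1
  have hgP₁ : g ∈ P₁ := hP₁.1.2 (Ideal.mem_span_singleton_self g)
  have hP₁0 : P₁ ≠ ⊥ := fun h => hg (by rw [h] at hgP₁; exact hgP₁)
  have heq : P₁ = Q₁ := by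
    by_contra hne'
    exact hP₁0 (hbot P₁ Q₁ hP₁p hQ₁p (lt_of_le_of_ne hP₁Q₁ hne') (hPIT t Q₁ hQ₁))
  exact htn' P₁ hP₁ (heq ▸ htQ₁)

theorem primeSpectrum_eq_of_isLocallyClosed_singleton {B : Type*} [CommRing B]
    [IsNoetherianRing B] (p q w : PrimeSpectrum B)
    (hp : IsLocallyClosed ({p} : Set (PrimeSpectrum B))) (hpq : p < q) (hqw : q ≤ w) :
    q = w := by
  obtain ⟨U, Z, hU, hZ, hUZ⟩ := hp
  have hpUZ : p ∈ U ∩ Z := hUZ ▸ Set.mem_singleton p
  obtain ⟨_, ⟨f, rfl⟩, hpf, hfU⟩ :=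
    PrimeSpectrum.isTopologicalBasis_basic_opens.exists_subset_of_mem_open hpUZ.1 hU
  have hfp : f ∉ p.asIdeal := hpf
  have hstar : ∀ q' : PrimeSpectrum B, p < q' → f ∈ q'.asIdeal := by
    intro q' hq'
    by_contra hf
    have h1 : q' ∈ U := hfU hf
    have h2 : q' ∈ Z :=
      ((PrimeSpectrum.le_iff_specializes p q').mp hq'.le).mem_closed hZ hpUZ.2
    have h3 : q' ∈ ({p} : Set (PrimeSpectrum B)) := hUZ ▸ ⟨h1, h2⟩
    exact hq'.ne' (Set.mem_singleton_iff.mp h3)
  let π : B →+* B ⧸ p.asIdeal := Ideal.Quotient.mk p.asIdeal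
  have hπ : Function.Surjective π := Ideal.Quotient.mk_surjective
  have hker : RingHom.ker π = p.asIdeal := Ideal.mk_ker
  have hg : π f ≠ 0 := fun h => hfp (Ideal.Quotient.eq_zero_iff_mem.mp h)
  have hall : ∀ P : Ideal (B ⧸ p.asIdeal), P.IsPrime → P ≠ ⊥ → π f ∈ P := by
    intro P hP hP0
    let q' : PrimeSpectrum B := ⟨P.comap π, inferInstance⟩
    have hlt : p < q' := by
      refine lt_of_le_of_ne ?_ ?_
      · show p.asIdeal ≤ P.comap π
        intro b hb
        show π b ∈ P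
        rw [Ideal.Quotient.eq_zero_iff_mem.mpr hb]
        exact P.zero_mem
      · intro heq
        apply hP0
        have h1 : P.comap π = p.asIdeal := (congrArg PrimeSpectrum.asIdeal heq).symm
        rw [← Ideal.map_comap_of_surjective π hπ P, h1]
        exact Ideal.map_quotient_self _
    exact hstar q' hlt
  have hpq' : p.asIdeal ≤ q.asIdeal := hpq.le
  have hqw' : q.asIdeal ≤ w.asIdeal := hqw
  have hpw' : p.asIdeal ≤ w.asIdeal := hpq'.trans hqw'
  have hQ : (q.asIdeal.map π).IsPrime :=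
    Ideal.map_isPrime_of_surjective hπ (by rw [hker]; exact hpq')
  have hW : (w.asIdeal.map π).IsPrime :=
    Ideal.map_isPrime_of_surjective hπ (by rw [hker]; exact hpw')
  have hQ0 : q.asIdeal.map π ≠ ⊥ := by
    intro h
    rw [Ideal.map_eq_bot_iff_le_ker, hker] at h
    exact hpq.ne' (PrimeSpectrum.ext (le_antisymm h hpq'))
  have hQW := eq_of_le_of_forall_prime_mem (π f) hg hall _ _ hQ0 (Ideal.map_mono hqw')
  have hcomap : ∀ r : PrimeSpectrum B, p.asIdeal ≤ r.asIdeal →
      (r.asIdeal.map π).comap π = r.asIdeal := by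
    intro r hr
    rw [Ideal.comap_map_of_surjective π hπ, ← RingHom.ker_eq_comap_bot, hker,
      sup_eq_left.mpr hr]
  apply PrimeSpectrum.ext
  rw [← hcomap q hpq', ← hcomap w hpw', hQW]

theorem eq_of_specializes_of_isLocallyClosed_singleton (X : Scheme.{u}) [IsLocallyNoetherian X]
    (x y w : X) (hx : IsLocallyClosed ({x} : Set X)) (hxy : x ⤳ y) (hne : x ≠ y)
    (hyw : y ⤳ w) : y = w := by
  obtain ⟨V, hV, hwV, -⟩ := exists_isAffineOpen_mem_and_subset (x := w) (U := ⊤) trivial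
  have hyV : y ∈ V := hyw.mem_open V.isOpen hwV
  have hxV : x ∈ V := hxy.mem_open V.isOpen hyV
  have : IsNoetherianRing Γ(X, V) := IsLocallyNoetherian.component_noetherian ⟨V, hV⟩
  have hemb : IsOpenEmbedding hV.fromSpec := hV.fromSpec.isOpenEmbedding
  let a := hV.primeIdealOf ⟨x, hxV⟩
  let b := hV.primeIdealOf ⟨y, hyV⟩
  let c := hV.primeIdealOf ⟨w, hwV⟩
  have ha : hV.fromSpec a = x := hV.fromSpec_primeIdealOf ⟨x, hxV⟩
  have hb : hV.fromSpec b = y := hV.fromSpec_primeIdealOf ⟨y, hyV⟩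
  have hc : hV.fromSpec c = w := hV.fromSpec_primeIdealOf ⟨w, hwV⟩
  have hab : a ≤ b := by
    rw [PrimeSpectrum.le_iff_specializes]
    refine (hemb.isInducing.specializes_iff (x := a) (y := b)).mp ?_
    rw [ha, hb]
    exact hxy
  have hbc : b ≤ c := by
    rw [PrimeSpectrum.le_iff_specializes]
    refine (hemb.isInducing.specializes_iff (x := b) (y := c)).mp ?_
    rw [hb, hc]
    exact hyw
  have hab' : a < b := lt_of_le_of_ne hab (fun h => hne (by rw [← ha, ← hb, h]))
  have hloc : IsLocallyClosed ({a} : Set (PrimeSpectrum Γ(X, V))) := by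
    have h1 : IsLocallyClosed (hV.fromSpec ⁻¹' {x}) := hx.preimage hV.fromSpec.continuous
    have h3 : (hV.fromSpec ⁻¹' {x} : Set (Spec Γ(X, V))) = {a} := by
      ext t
      simp only [Set.mem_singleton_iff, Set.mem_preimage]
      constructor
      · intro h
        exact hemb.injective (h.trans ha.symm)
      · rintro rfl
        exact ha
    rw [h3] at h1
    exact h1
  have h2 := primeSpectrum_eq_of_isLocallyClosed_singleton a b c hloc hab' hbc
  rw [← hb, ← hc, h2]

theorem isClosed_singleton_of_mem_closure (X : Scheme.{u}) [IsLocallyNoetherian X] (x : X)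
    (hx : IsLocallyClosed ({x} : Set X)) (y : X) (hy : y ∈ closure ({x} : Set X))
    (hne : y ≠ x) : IsClosed ({y} : Set X) := by
  rw [← closure_eq_iff_isClosed]
  apply Set.Subset.antisymm _ subset_closure
  intro w hw
  have hyw : y ⤳ w := specializes_iff_mem_closure.mpr hw
  have hxy : x ⤳ y := specializes_iff_mem_closure.mpr hy
  exact (eq_of_specializes_of_isLocallyClosed_singleton X x y w hx hxy hne.symm hyw).symm

end Groth.Agent.Helper8.LocClosedPoint
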