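import Mathlib

/-! Helper lemmas (helper8): element-level criteria for a chain map of complexes of modules to be
injective / surjective on homology. -/

namespace Groth.Agent.Helper8

open CategoryTheory HomologicalComplex

universe v u

variable {R : Type u} [Ring R] {ι : Type*} {c : ComplexShape ι}
  {K L : HomologicalComplex (ModuleCat.{v} R) c} (φ : K ⟶ L)

theorem mono_homologyMap_iff_elements (i j k : ι) (hi : c.prev j = i) (hk : c.next j = k) :
    Mono (homologyMap φ j) ↔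
      ∀ x : K.X j, (K.d j k).hom x = 0 → (∃ y : L.X i, (φ.f j).hom x = (L.d i j).hom y) →
        ∃ z : K.X i, (K.d i j).hom z = x := by
  rw [mono_homologyMap_iff_up_to_refinements φ i j k hi hk]
  constructor
  · intro h x hx ⟨y, hy⟩
    let F1 : (K.X j × L.X i) →ₗ[R] L.X j :=
      (φ.f j).hom ∘ₗ LinearMap.fst R _ _ - (L.d i j).hom ∘ₗ LinearMap.snd R _ _
    let P : Submodule R (K.X j × L.X i) :=
      LinearMap.ker ((K.d j k).hom ∘ₗ LinearMap.fst R _ _) ⊓ LinearMap.ker F1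
    let x₂ : ModuleCat.of R P ⟶ K.X j := ModuleCat.ofHom (LinearMap.fst R _ _ ∘ₗ P.subtype)
    let y₁ : ModuleCat.of R P ⟶ L.X i := ModuleCat.ofHom (LinearMap.snd R _ _ ∘ₗ P.subtype)
    have h1 : x₂ ≫ K.d j k = 0 := by
      ext ⟨p, hp⟩
      exact hp.1
    have h2 : x₂ ≫ φ.f j = y₁ ≫ L.d i j := by
      ext ⟨p, hp⟩
      have h3 : F1 p = 0 := hp.2
      rw [LinearMap.sub_apply, sub_eq_zero] at h3
      exact h3
    obtain ⟨A', π, hπ, x₁, hx₁⟩ := h x₂ h1 y₁ h2
    have hsurj := (ModuleCat.epi_iff_surjective π).mp hπ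
    have hmem : ((x, y) : K.X j × L.X i) ∈ P := by
      refine ⟨?_, ?_⟩
      · exact hx
      · change F1 ((x, y) : K.X j × L.X i) = 0
        rw [LinearMap.sub_apply, sub_eq_zero]
        exact hy
    obtain ⟨a', ha'⟩ := hsurj ⟨(x, y), hmem⟩
    refine ⟨x₁.hom a', ?_⟩
    have h3 := LinearMap.congr_fun (congrArg ModuleCat.Hom.hom hx₁) a'
    change x₂.hom (π.hom a') = (K.d i j).hom (x₁.hom a') at h3
    rw [← h3]
    change x₂.hom (π a') = x
    rw [ha']
    rfl
  · intro h A x₂ hx₂ y₁ fac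
    let P' : Submodule R (A × K.X i) :=
      LinearMap.ker (x₂.hom ∘ₗ LinearMap.fst R _ _ - (K.d i j).hom ∘ₗ LinearMap.snd R _ _)
    let π : ModuleCat.of R P' ⟶ A := ModuleCat.ofHom (LinearMap.fst R _ _ ∘ₗ P'.subtype)
    let x₁ : ModuleCat.of R P' ⟶ K.X i := ModuleCat.ofHom (LinearMap.snd R _ _ ∘ₗ P'.subtype)
    have hπ : Epi π := by
      rw [ModuleCat.epi_iff_surjective]
      intro a
      have hc : (K.d j k).hom (x₂.hom a) = 0 :=
        LinearMap.congr_fun (congrArg ModuleCat.Hom.hom hx₂) a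
      have hf : (φ.f j).hom (x₂.hom a) = (L.d i j).hom (y₁.hom a) :=
        LinearMap.congr_fun (congrArg ModuleCat.Hom.hom fac) a
      obtain ⟨z, hz⟩ := h (x₂.hom a) hc ⟨y₁.hom a, hf⟩
      have hmem : ((a, z) : A × K.X i) ∈ P' := by
        simp only [P', LinearMap.mem_ker, LinearMap.sub_apply, LinearMap.comp_apply, sub_eq_zero]
        exact hz.symm
      exact ⟨⟨(a, z), hmem⟩, rfl⟩
    refine ⟨ModuleCat.of R P', π, hπ, x₁, ?_⟩
    ext ⟨p, hp⟩
    have := hp
    simp only [P', LinearMap.mem_ker, LinearMap.sub_apply, LinearMap.comp_apply, sub_eq_zero] at this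
    exact this

theorem epi_homologyMap_iff_elements (i j k : ι) (hi : c.prev j = i) (hk : c.next j = k) :
    Epi (homologyMap φ j) ↔
      ∀ y : L.X j, (L.d j k).hom y = 0 →
        ∃ x : K.X j, (K.d j k).hom x = 0 ∧ ∃ w : L.X i, y = (φ.f j).hom x + (L.d i j).hom w := by
  rw [epi_homologyMap_iff_up_to_refinements φ i j k hi hk]
  constructor
  · intro h y hy
    let P : Submodule R (L.X j) := LinearMap.ker (L.d j k).hom
    let y₂ : ModuleCat.of R P ⟶ L.X j := ModuleCat.ofHom P.subtype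
    have h1 : y₂ ≫ L.d j k = 0 := by
      ext ⟨p, hp⟩
      exact hp
    obtain ⟨A', π, hπ, x₂, hx₂, y₁, hfac⟩ := h y₂ h1
    have hsurj := (ModuleCat.epi_iff_surjective π).mp hπ
    obtain ⟨a', ha'⟩ := hsurj ⟨y, hy⟩
    refine ⟨x₂.hom a', LinearMap.congr_fun (congrArg ModuleCat.Hom.hom hx₂) a', y₁.hom a', ?_⟩
    have h3 := LinearMap.congr_fun (congrArg ModuleCat.Hom.hom hfac) a'
    change y₂.hom (π a') = (φ.f j).hom (x₂.hom a') + (L.d i j).hom (y₁.hom a') at h3
    rw [← h3, ha']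
    rfl
  · intro h A y₂ hy₂
    let F2 : (A × (K.X j × L.X i)) →ₗ[R] L.X j :=
      y₂.hom ∘ₗ LinearMap.fst R _ _ -
          ((φ.f j).hom ∘ₗ LinearMap.fst R _ _ ∘ₗ LinearMap.snd R _ _ +
            (L.d i j).hom ∘ₗ LinearMap.snd R _ _ ∘ₗ LinearMap.snd R _ _)
    let P' : Submodule R (A × (K.X j × L.X i)) :=
      LinearMap.ker ((K.d j k).hom ∘ₗ LinearMap.fst R _ _ ∘ₗ LinearMap.snd R _ _) ⊓
        LinearMap.ker F2
    let π : ModuleCat.of R P' ⟶ A := ModuleCat.ofHom (LinearMap.fst R _ _ ∘ₗ P'.subtype)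
    let x₂ : ModuleCat.of R P' ⟶ K.X j :=
      ModuleCat.ofHom (LinearMap.fst R _ _ ∘ₗ LinearMap.snd R _ _ ∘ₗ P'.subtype)
    let y₁ : ModuleCat.of R P' ⟶ L.X i :=
      ModuleCat.ofHom (LinearMap.snd R _ _ ∘ₗ LinearMap.snd R _ _ ∘ₗ P'.subtype)
    have hπ : Epi π := by
      rw [ModuleCat.epi_iff_surjective]
      intro a
      have hc : (L.d j k).hom (y₂.hom a) = 0 :=
        LinearMap.congr_fun (congrArg ModuleCat.Hom.hom hy₂) a
      obtain ⟨x, hx, w, hw⟩ := h (y₂.hom a) hc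
      have hmem : ((a, (x, w)) : A × (K.X j × L.X i)) ∈ P' := by
        refine ⟨?_, ?_⟩
        · exact hx
        · change F2 ((a, (x, w)) : A × (K.X j × L.X i)) = 0
          rw [LinearMap.sub_apply, LinearMap.add_apply, sub_eq_zero]
          exact hw
      exact ⟨⟨(a, (x, w)), hmem⟩, rfl⟩
    refine ⟨ModuleCat.of R P', π, hπ, x₂, ?_, y₁, ?_⟩
    · ext ⟨p, hp⟩
      exact hp.1
    · ext ⟨p, hp⟩
      have h3 : F2 p = 0 := hp.2
      rw [LinearMap.sub_apply, LinearMap.add_apply, sub_eq_zero] at h3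
      exact h3

end Groth.Agent.Helper8
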