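import Mathlib

/-! Helper lemmas (helper8): Nakayama for nilpotent ideals. -/

namespace Groth.Agent.Helper8

open Submodule in
/-- Nakayama for a nilpotent ideal: if `N ⊔ I • ⊤ = ⊤` and `I` is nilpotent then `N = ⊤`.
No finiteness hypothesis. -/
theorem eq_top_of_sup_smul_top_eq_top_of_isNilpotent {R M : Type*} [CommRing R] [AddCommGroup M]
    [Module R M] (I : Ideal R) (hI : IsNilpotent I) (N : Submodule R M)
    (h : N ⊔ I • (⊤ : Submodule R M) = ⊤) : N = ⊤ := by
  obtain ⟨n, hn⟩ := hI
  have key : ∀ m : ℕ, N ⊔ (I ^ m) • (⊤ : Submodule R M) = ⊤ := by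
    intro m
    induction m with
    | zero => simp
    | succ m ih =>
      rw [eq_top_iff]
      calc (⊤ : Submodule R M) = N ⊔ I • (⊤ : Submodule R M) := h.symm
        _ = N ⊔ I • (N ⊔ (I ^ m) • (⊤ : Submodule R M)) := by rw [ih]
        _ = N ⊔ (I • N ⊔ I • ((I ^ m) • (⊤ : Submodule R M))) := by rw [Submodule.smul_sup]
        _ ≤ N ⊔ (I ^ (m + 1)) • (⊤ : Submodule R M) := by
          rw [← sup_assoc]
          apply sup_le_sup
          · exact sup_le le_rfl Submodule.smul_le_right
          · rw [← Submodule.mul_smul, pow_succ']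
  have := key n
  rw [hn] at this
  simpa using this

/-- If `I` is nilpotent and `M = I • M` then `M` is trivial. -/
theorem subsingleton_of_smul_top_eq_top_of_isNilpotent {R M : Type*} [CommRing R] [AddCommGroup M]
    [Module R M] (I : Ideal R) (hI : IsNilpotent I)
    (h : I • (⊤ : Submodule R M) = ⊤) : Subsingleton M := by
  have := eq_top_of_sup_smul_top_eq_top_of_isNilpotent I hI (⊥ : Submodule R M) (by simpa using h)
  exact (Submodule.subsingleton_iff R).mp (subsingleton_of_bot_eq_top this)

end Groth.Agent.Helper8
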