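import Mathlib

/-!
# Kähler differentials of the node `k[X,Y]/(XY)`: Euler derivations
-/

set_option autoImplicit false

universe u

namespace Groth.Agent.Helper8.NodeKaehler

open MvPolynomial

variable (k : Type u) [Field k]

/-- The ideal `(XY)`. -/
noncomputable abbrev J : Ideal (MvPolynomial (Fin 2) k) :=
  Ideal.span {(MvPolynomial.X 0 * MvPolynomial.X 1 : MvPolynomial (Fin 2) k)}

variable {k}

lemma E_monomial (i : Fin 2) (s : Fin 2 →₀ ℕ) (a : k) :
    (X i : MvPolynomial (Fin 2) k) * pderiv i (monomial s a) = monomial s (a * (s i : k)) := by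
  rw [pderiv_monomial]
  by_cases h : s i = 0
  · simp [h]
  · have hs : Finsupp.single i 1 + (s - Finsupp.single i 1) = s := by
      ext j
      simp only [Finsupp.coe_add, Finsupp.coe_tsub, Pi.add_apply, Pi.sub_apply,
        Finsupp.single_apply]
      split_ifs with hj
      · subst hj; omega
      · omega
    show monomial (Finsupp.single i 1) 1 * _ = _
    rw [monomial_mul, hs, one_mul]

lemma coeff_E (i : Fin 2) (p : MvPolynomial (Fin 2) k) (m : Fin 2 →₀ ℕ) :
    coeff m ((X i : MvPolynomial (Fin 2) k) * pderiv i p) = coeff m p * (m i : k) := by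
  classical
  refine MvPolynomial.induction_on' p ?_ ?_
  · intro s a
    rw [E_monomial, coeff_monomial, coeff_monomial]
    split_ifs with h
    · subst h; rfl
    · simp
  · intro p q hp hq
    simp only [map_add, mul_add, coeff_add, hp, hq, add_mul]

lemma mem_J_iff (p : MvPolynomial (Fin 2) k) :
    p ∈ J k ↔ ∀ m ∈ p.support, 1 ≤ m 0 ∧ 1 ≤ m 1 := by
  have hJ : J k = Ideal.span ((fun s => monomial s (1 : k)) ''
      {Finsupp.single 0 1 + Finsupp.single 1 1}) := by
    have hXY : (X 0 * X 1 : MvPolynomial (Fin 2) k) =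
        monomial (Finsupp.single 0 1 + Finsupp.single 1 1) 1 := by
      show monomial (Finsupp.single 0 1) 1 * monomial (Finsupp.single 1 1) 1 = _
      rw [monomial_mul, one_mul]
    rw [Set.image_singleton]
    show Ideal.span {(X 0 * X 1 : MvPolynomial (Fin 2) k)} = _
    rw [hXY]
  rw [hJ, mem_ideal_span_monomial_image]
  constructor
  · intro h m hm
    obtain ⟨si, hsi, hle⟩ := h m hm
    rw [Set.mem_singleton_iff] at hsi
    subst hsi
    have h0 := Finsupp.le_def.mp hle 0
    have h1 := Finsupp.le_def.mp hle 1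
    simp at h0 h1
    exact ⟨h0, h1⟩
  · intro h m hm
    refine ⟨_, rfl, ?_⟩
    rw [Finsupp.le_def]
    intro j
    fin_cases j
    · simpa using (h m hm).1
    · simpa using (h m hm).2

lemma E_mem_J (i : Fin 2) (p : MvPolynomial (Fin 2) k) (hp : p ∈ J k) :
    (X i : MvPolynomial (Fin 2) k) * pderiv i p ∈ J k := by
  rw [mem_J_iff] at hp ⊢
  intro m hm
  apply hp
  rw [mem_support_iff] at hm ⊢
  intro h0
  apply hm
  rw [coeff_E, h0, zero_mul]

/-- The Euler derivation `X_i ∂/∂X_i` on the polynomial ring. -/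
noncomputable def E (i : Fin 2) : Derivation k (MvPolynomial (Fin 2) k) (MvPolynomial (Fin 2) k) :=
  (X i : MvPolynomial (Fin 2) k) • pderiv i

lemma E_apply (i : Fin 2) (p : MvPolynomial (Fin 2) k) :
    E i p = (X i : MvPolynomial (Fin 2) k) * pderiv i p := rfl

lemma E_ker (i : Fin 2) (x : MvPolynomial (Fin 2) k)
    (hx : Ideal.Quotient.mkₐ k (J k) x = 0) : Ideal.Quotient.mkₐ k (J k) (E i x) = 0 := by
  have hx' : x ∈ J k := Ideal.Quotient.eq_zero_iff_mem.mp hx
  exact Ideal.Quotient.eq_zero_iff_mem.mpr (E_mem_J i x hx')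

/-- The Euler derivations on the node. -/
noncomputable def δ (i : Fin 2) :
    Derivation k (MvPolynomial (Fin 2) k ⧸ J k) (MvPolynomial (Fin 2) k ⧸ J k) :=
  Derivation.liftOfSurjective (f := Ideal.Quotient.mkₐ k (J k))
    (Ideal.Quotient.mkₐ_surjective k (J k)) (d := E i) (E_ker i)

lemma δ_mk (i : Fin 2) (p : MvPolynomial (Fin 2) k) :
    δ i (Ideal.Quotient.mk (J k) p) = Ideal.Quotient.mk (J k) (E i p) := by
  have h := Derivation.liftOfSurjective_apply (f := Ideal.Quotient.mkₐ k (J k))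
    (Ideal.Quotient.mkₐ_surjective k (J k)) (d := E i) (E_ker i) p
  exact h

/-- In characteristic zero, a polynomial killed modulo `(XY)` by both Euler derivations is
constant modulo `(XY)`. -/
lemma const_of_E [CharZero k] (p : MvPolynomial (Fin 2) k)
    (h0 : E 0 p ∈ J k) (h1 : E 1 p ∈ J k) : p - C (coeff 0 p) ∈ J k := by
  classical
  rw [mem_J_iff] at h0 h1 ⊢
  intro m hm
  rw [mem_support_iff, coeff_sub, coeff_C] at hm
  have hm0 : m ≠ 0 := by
    intro h
    subst h
    simp at hm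
  have hcm : coeff m p ≠ 0 := by
    intro h
    rw [if_neg (Ne.symm hm0), h, sub_zero] at hm
    exact hm rfl
  have key : ∀ i : Fin 2, m i ≠ 0 → 1 ≤ m 0 ∧ 1 ≤ m 1 := by
    intro i hi
    have hmem : m ∈ (E i p).support := by
      rw [mem_support_iff, E_apply, coeff_E]
      exact mul_ne_zero hcm (Nat.cast_ne_zero.mpr hi)
    fin_cases i
    · exact h0 m hmem
    · exact h1 m hmem
  by_cases hm00 : m 0 = 0
  · have hm1 : m 1 ≠ 0 := by
      intro h
      apply hm0
      ext j
      fin_cases j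
      · simpa using hm00
      · simpa using h
    exact key 1 hm1
  · exact key 0 hm00

/-- An element killed by both Euler derivations is constant (characteristic zero). -/
theorem const_of_δ [CharZero k] (P : MvPolynomial (Fin 2) k ⧸ J k)
    (hδ : ∀ i : Fin 2, δ i P = 0) :
    P ∈ Set.range (algebraMap k (MvPolynomial (Fin 2) k ⧸ J k)) := by
  obtain ⟨p, rfl⟩ := Ideal.Quotient.mk_surjective P
  have h0 : E 0 p ∈ J k := by
    have := hδ 0
    rw [δ_mk] at this
    exact Ideal.Quotient.eq_zero_iff_mem.mp this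
  have h1 : E 1 p ∈ J k := by
    have := hδ 1
    rw [δ_mk] at this
    exact Ideal.Quotient.eq_zero_iff_mem.mp this
  have hc := const_of_E p h0 h1
  refine ⟨coeff 0 p, ?_⟩
  have : Ideal.Quotient.mk (J k) (p - C (coeff 0 p)) = 0 := Ideal.Quotient.eq_zero_iff_mem.mpr hc
  rw [map_sub, sub_eq_zero] at this
  rw [this]
  rfl

/-- `D P = 0` forces `P` constant on the node in characteristic zero. -/
theorem const_of_D_eq_zero [CharZero k] (P : MvPolynomial (Fin 2) k ⧸ J k)
    (hP : KaehlerDifferential.D k (MvPolynomial (Fin 2) k ⧸ J k) P = 0) :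
    P ∈ Set.range (algebraMap k (MvPolynomial (Fin 2) k ⧸ J k)) := by
  apply const_of_δ
  intro i
  rw [← Derivation.liftKaehlerDifferential_comp_D (δ (k := k) i), hP, map_zero]

/-! ## The form `x dy` is not exact -/

variable (k) in
/-- The ideal `(x - y)` of the node. -/
noncomputable abbrev K2 : Ideal (MvPolynomial (Fin 2) k ⧸ J k) :=
  Ideal.span {Ideal.Quotient.mk (J k) (X 0) - Ideal.Quotient.mk (J k) (X 1)}

/-- The polynomial-level derivation into `A/(x-y)` with `X₀ ↦ -1`, `X₁ ↦ 1`. -/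
noncomputable def δB : Derivation k (MvPolynomial (Fin 2) k)
    ((MvPolynomial (Fin 2) k ⧸ J k) ⧸ K2 k) :=
  mkDerivation k (fun i => if i = 0 then -1 else 1)

lemma smul_N (p : MvPolynomial (Fin 2) k) (n : (MvPolynomial (Fin 2) k ⧸ J k) ⧸ K2 k) :
    p • n = Ideal.Quotient.mk (K2 k) (Ideal.Quotient.mk (J k) p) * n :=
  Algebra.smul_def p n

lemma δB_ker (x : MvPolynomial (Fin 2) k) (hx : x ∈ J k) : δB x = 0 := by
  obtain ⟨q, rfl⟩ := Ideal.mem_span_singleton'.mp hx
  rw [Derivation.leibniz, Derivation.leibniz]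
  have h1 : δB (k := k) (X 0) = -1 := by
    unfold δB; rw [mkDerivation_X]; simp
  have h2 : δB (k := k) (X 1) = 1 := by
    unfold δB; rw [mkDerivation_X]; simp
  rw [h1, h2, smul_N, smul_N, smul_N, smul_N]
  have e1 : Ideal.Quotient.mk (K2 k) (Ideal.Quotient.mk (J k) (X 0 * X 1)) = 0 := by
    rw [Ideal.Quotient.eq_zero_iff_mem.mpr (Ideal.subset_span rfl : (X 0 * X 1 : MvPolynomial (Fin 2) k) ∈ J k),
      map_zero]
  have e2 : Ideal.Quotient.mk (K2 k) (Ideal.Quotient.mk (J k) (X 0)) =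
      Ideal.Quotient.mk (K2 k) (Ideal.Quotient.mk (J k) (X 1)) := by
    rw [Ideal.Quotient.eq]
    exact Ideal.subset_span rfl
  rw [e1, e2]
  ring

/-- The `k`-linear map underlying the derivation on the node. -/
noncomputable def Lδ : (MvPolynomial (Fin 2) k ⧸ J k) →ₗ[k]
    ((MvPolynomial (Fin 2) k ⧸ J k) ⧸ K2 k) :=
  (Submodule.liftQ ((J k).restrictScalars k) (δB (k := k)).toLinearMap
    (fun x hx => LinearMap.mem_ker.mpr (δB_ker x hx))) ∘ₗ
    (Submodule.Quotient.restrictScalarsEquiv k (J k)).symm.toLinearMap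

lemma Lδ_mk (p : MvPolynomial (Fin 2) k) : Lδ (Ideal.Quotient.mk (J k) p) = δB p := rfl

/-- The derivation of the node into `A/(x-y)` with `x ↦ -1`, `y ↦ 1`. -/
noncomputable def δ' : Derivation k (MvPolynomial (Fin 2) k ⧸ J k)
    ((MvPolynomial (Fin 2) k ⧸ J k) ⧸ K2 k) :=
  Derivation.mk' Lδ (by
    intro a b
    obtain ⟨p, rfl⟩ := Ideal.Quotient.mk_surjective a
    obtain ⟨q, rfl⟩ := Ideal.Quotient.mk_surjective b
    rw [← map_mul, Lδ_mk, Lδ_mk, Lδ_mk, Derivation.leibniz, smul_N, smul_N]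
    rfl)

lemma δ'_mk (p : MvPolynomial (Fin 2) k) : δ' (Ideal.Quotient.mk (J k) p) = δB p := rfl

/-- `x ∉ (x - y)` in the node. -/
lemma x_notMem : Ideal.Quotient.mk (J k) (X 0) ∉ K2 k := by
  intro h
  obtain ⟨a, ha⟩ := Ideal.mem_span_singleton'.mp h
  let φ0 : MvPolynomial (Fin 2) k →ₐ[k] DualNumber k := aeval (fun _ => DualNumber.eps)
  have hφ0 : ∀ a ∈ J k, φ0 a = 0 := by
    intro a ha
    obtain ⟨q, rfl⟩ := Ideal.mem_span_singleton'.mp ha
    simp [φ0]
  let φ : (MvPolynomial (Fin 2) k ⧸ J k) →ₐ[k] DualNumber k := Ideal.Quotient.liftₐ (J k) φ0 hφ0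
  have hφ : ∀ p, φ (Ideal.Quotient.mk (J k) p) = φ0 p := fun p => rfl
  have h1 := congrArg φ ha
  rw [map_mul, map_sub, hφ, hφ] at h1
  have h2 : φ0 (X 0) = DualNumber.eps := by simp [φ0]
  have h3 : φ0 (X 1) = DualNumber.eps := by simp [φ0]
  rw [h2, h3, sub_self, mul_zero] at h1
  have h4 : (DualNumber.eps : DualNumber k) ≠ 0 := by
    intro h0
    have := congrArg TrivSqZeroExt.snd h0
    simp at this
  exact h4 h1.symm

/-- The differential on the node is not surjective in characteristic zero. -/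
theorem D_not_surjective [CharZero k] :
    ¬ Function.Surjective (KaehlerDifferential.D k (MvPolynomial (Fin 2) k ⧸ J k)) := by
  intro hsurj
  obtain ⟨P, hP⟩ := hsurj ((Ideal.Quotient.mk (J k) (X 0)) •
    KaehlerDifferential.D k (MvPolynomial (Fin 2) k ⧸ J k) (Ideal.Quotient.mk (J k) (X 1)))
  have hδ : ∀ i : Fin 2, δ i P = 0 := by
    intro i
    rw [← Derivation.liftKaehlerDifferential_comp_D (δ (k := k) i), hP, map_smul,
      Derivation.liftKaehlerDifferential_comp_D, δ_mk, E_apply, smul_eq_mul, ← map_mul]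
    rw [Ideal.Quotient.eq_zero_iff_mem]
    fin_cases i
    · simp [pderiv_X]
    · have : (X 0 * (X 1 * pderiv 1 (X 1 : MvPolynomial (Fin 2) k)) : MvPolynomial (Fin 2) k) =
          X 0 * X 1 := by simp [pderiv_X]
      simp only [Fin.mk_one, Fin.isValue] at this ⊢
      rw [this]
      exact Ideal.subset_span rfl
  obtain ⟨c, rfl⟩ := const_of_δ P hδ
  rw [Derivation.map_algebraMap] at hP
  have h1 := congrArg (δ' (k := k)).liftKaehlerDifferential hP
  rw [map_zero, map_smul, Derivation.liftKaehlerDifferential_comp_D, δ'_mk] at h1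
  have h2 : δB (k := k) (X 1) = 1 := by
    unfold δB; rw [mkDerivation_X]; simp
  rw [h2] at h1
  have h3 : (Ideal.Quotient.mk (J k) (X 0)) • (1 : (MvPolynomial (Fin 2) k ⧸ J k) ⧸ K2 k) =
      Ideal.Quotient.mk (K2 k) (Ideal.Quotient.mk (J k) (X 0)) := by
    have e := Algebra.smul_def (Ideal.Quotient.mk (J k) (X 0))
      (1 : (MvPolynomial (Fin 2) k ⧸ J k) ⧸ K2 k)
    rw [e]
    exact mul_one (Ideal.Quotient.mk (K2 k) (Ideal.Quotient.mk (J k) (X 0)))
  rw [h3] at h1
  exact x_notMem (Ideal.Quotient.eq_zero_iff_mem.mp h1.symm)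

end Groth.Agent.Helper8.NodeKaehler
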