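import Mathlib

set_option linter.style.haveILetI false
set_option linter.unusedSectionVars false
set_option linter.unusedVariables false

namespace Groth.Agent.Helper8.NormalDecomp

universe u v

open Polynomial

section poly

variable (W : Type u) [CommRing W]

/-- Newton iteration polynomials for lifting idempotents. -/
noncomputable def q : ℕ → Polynomial W
  | 0 => X
  | n + 1 => 3 * (q n) ^ 2 - 2 * (q n) ^ 3

theorem q_zero : q W 0 = X := rfl

theorem q_succ (n : ℕ) : q W (n + 1) = 3 * (q W n) ^ 2 - 2 * (q W n) ^ 3 := rfl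

theorem q_succ_sub (n : ℕ) :
    q W (n + 1) - q W n = ((q W n) ^ 2 - q W n) * (1 - 2 * q W n) := by
  rw [q_succ]; ring

theorem d_succ (n : ℕ) : (q W (n + 1)) ^ 2 - q W (n + 1) =
    ((q W n) ^ 2 - q W n) ^ 2 * (4 * (q W n) ^ 2 - 4 * q W n - 3) := by
  rw [q_succ]; ring

theorem d_dvd (n : ℕ) : ((X : Polynomial W) ^ 2 - X) ^ (n + 1) ∣ (q W n) ^ 2 - q W n := by
  induction n with
  | zero => rw [q_zero, zero_add, pow_one]
  | succ n ih =>
    obtain ⟨r, hr⟩ := ih
    rw [d_succ, hr]
    exact ⟨((X : Polynomial W) ^ 2 - X) ^ n * r ^ 2 * (4 * (q W n) ^ 2 - 4 * q W n - 3), by ring⟩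

end poly

section modules

variable {W : Type u} [CommRing W] (I : Ideal W)
variable {M : Type*} [AddCommGroup M] [Module W M] {N : Type*} [AddCommGroup N] [Module W N]

theorem map_mem_smul_top (f : M →ₗ[W] N) {x : M} (hx : x ∈ I • (⊤ : Submodule W M)) :
    f x ∈ I • (⊤ : Submodule W N) := by
  refine Submodule.smul_induction_on hx (fun r hr n _ => ?_) (fun a b ha hb => ?_)
  · rw [map_smul]; exact Submodule.smul_mem_smul hr Submodule.mem_top
  · rw [map_add]; exact Submodule.add_mem _ ha hb

theorem map_mem_pow_succ (φ : M →ₗ[W] M) (hφ : ∀ y, φ y ∈ I • (⊤ : Submodule W M)) (m : ℕ)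
    {x : M} (hx : x ∈ I ^ m • (⊤ : Submodule W M)) :
    φ x ∈ I ^ (m + 1) • (⊤ : Submodule W M) := by
  rw [pow_succ, Submodule.mul_smul]
  refine Submodule.smul_induction_on hx (fun r hr n _ => ?_) (fun a b ha hb => ?_)
  · rw [map_smul]; exact Submodule.smul_mem_smul hr (hφ n)
  · rw [map_add]; exact Submodule.add_mem _ ha hb

theorem pow_range (δ : Module.End W M) (hδ : ∀ y, δ y ∈ I • (⊤ : Submodule W M)) (m : ℕ)
    (x : M) : (δ ^ m) x ∈ I ^ m • (⊤ : Submodule W M) := by
  induction m with
  | zero => simp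
  | succ m ih =>
    rw [pow_succ' δ m, Module.End.mul_apply]
    exact map_mem_pow_succ I δ hδ m ih

theorem coord_mem {k : ℕ} (v : Fin k → W) (hv : v ∈ I • (⊤ : Submodule W (Fin k → W)))
    (j : Fin k) : v j ∈ I := by
  refine Submodule.smul_induction_on hv (fun r hr n _ => ?_) (fun a b ha hb => ?_)
  · rw [Pi.smul_apply, smul_eq_mul]; exact I.mul_mem_right _ hr
  · rw [Pi.add_apply]; exact I.add_mem ha hb

theorem mem_of_coord {k : ℕ} (v : Fin k → W) (hv : ∀ j, v j ∈ I) :
    v ∈ I • (⊤ : Submodule W (Fin k → W)) := by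
  rw [pi_eq_sum_univ v]
  exact Submodule.sum_mem _ fun j _ => Submodule.smul_mem_smul (hv j) Submodule.mem_top

theorem vec_limit [hc : IsAdicComplete I W] {k : ℕ} (v : ℕ → (Fin k → W))
    (hv : ∀ m n, m ≤ n → ∀ j, v n j - v m j ∈ I ^ m) :
    ∃ u : Fin k → W, ∀ n j, u j - v n j ∈ I ^ n := by
  have h : ∀ j, ∃ L : W, ∀ n, L - v n j ∈ I ^ n := by
    intro j
    obtain ⟨L, hL⟩ := IsPrecomplete.prec hc.toIsPrecomplete (f := fun n => v n j) (by
      intro a b hab
      rw [SModEq.sub_mem, smul_eq_mul, Ideal.mul_top, ← neg_sub, neg_mem_iff]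
      exact hv a b hab j)
    refine ⟨L, fun n => ?_⟩
    have h1 := hL n
    rw [SModEq.sub_mem, smul_eq_mul, Ideal.mul_top, ← neg_sub, neg_mem_iff] at h1
    exact h1
  choose u hu using h
  exact ⟨u, fun n j => hu j n⟩

end modules

/-- standard basis vectors of `Fin k → W` in the form used by `LinearMap.pi_apply_eq_sum_univ` -/
def std (W : Type u) [CommRing W] (k : ℕ) (b : Fin k) : Fin k → W :=
  fun j => if b = j then 1 else 0

theorem normal_decomp {W : Type u} [CommRing W] (I : Ideal W) [hc : IsAdicComplete I W]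
    {P : Type v} [AddCommGroup P] [Module W P] [Module.Finite W P] [Module.Projective W P]
    (Q C : Submodule W P) (hQC : Q ⊔ C = ⊤) (hQC' : Q ⊓ C = I • (⊤ : Submodule W P)) :
    ∃ L T : Submodule W P, IsCompl L T ∧ Q = L ⊔ I • T := by
  classical
  -- Step 0: a first approximation
  have hsurj : Function.Surjective (Q.subtype.coprod C.subtype) := by
    rw [← LinearMap.range_eq_top, ← Submodule.sup_eq_range, hQC]
  obtain ⟨s, hs⟩ := Module.projective_lifting_property (Q.subtype.coprod C.subtype)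
    LinearMap.id hsurj
  obtain ⟨e0, he0⟩ : ∃ e0 : Module.End W P,
      e0 = Q.subtype ∘ₗ (LinearMap.fst W Q C) ∘ₗ s := ⟨_, rfl⟩
  have he0x : ∀ x, e0 x = ((s x).1 : P) := by
    intro x; rw [he0]; rfl
  have he0Q : ∀ x, e0 x ∈ Q := by
    intro x; rw [he0x]; exact (s x).1.2
  have he0C : ∀ x, x - e0 x ∈ C := by
    intro x
    have h1 := LinearMap.congr_fun hs x
    rw [LinearMap.comp_apply, LinearMap.coprod_apply, LinearMap.id_apply] at h1
    simp only [Submodule.subtype_apply] at h1
    have h2 : x - e0 x = ((s x).2 : P) := by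
      rw [he0x, sub_eq_iff_eq_add']; exact h1.symm
    rw [h2]; exact (s x).2.2
  -- Step 1
  have hδ : ∀ y, (e0 ^ 2 - e0) y ∈ I • (⊤ : Submodule W P) := by
    intro y
    rw [← hQC', LinearMap.sub_apply, pow_two, Module.End.mul_apply]
    have h1 := he0C (e0 y)
    have h2 : e0 y - e0 (e0 y) ∈ Q := Q.sub_mem (he0Q y) (he0Q _)
    have h3 : e0 (e0 y) - e0 y = -(e0 y - e0 (e0 y)) := by abel
    rw [h3]
    exact Submodule.neg_mem _ (Submodule.mem_inf.2 ⟨h2, h1⟩)
  -- Step 2: Newton iteration
  obtain ⟨e, he⟩ : ∃ e : ℕ → Module.End W P, ∀ n, e n = Polynomial.aeval e0 (q W n) :=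
    ⟨fun n => Polynomial.aeval e0 (q W n), fun n => rfl⟩
  have he_zero : e 0 = e0 := by rw [he 0, q_zero, Polynomial.aeval_X]
  have hd : ∀ n x, (Polynomial.aeval e0 ((q W n) ^ 2 - q W n)) x ∈
      I ^ (n + 1) • (⊤ : Submodule W P) := by
    intro n x
    obtain ⟨r, hr⟩ := d_dvd W n
    rw [hr, map_mul, map_pow, map_sub, map_pow, Polynomial.aeval_X, Module.End.mul_apply]
    exact pow_range I _ hδ (n + 1) _
  have hstep : ∀ n x, (e (n + 1) - e n) x ∈ I ^ (n + 1) • (⊤ : Submodule W P) := by
    intro n x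
    have h1 : e (n + 1) - e n = Polynomial.aeval e0 ((q W n) ^ 2 - q W n) *
        Polynomial.aeval e0 (1 - 2 * q W n) := by
      rw [he (n + 1), he n, ← map_sub, q_succ_sub, map_mul]
    rw [h1, Module.End.mul_apply]
    exact hd n _
  have hidem : ∀ n x, e n (e n x) - e n x ∈ I ^ (n + 1) • (⊤ : Submodule W P) := by
    intro n x
    have h1 : e n (e n x) - e n x = (Polynomial.aeval e0 ((q W n) ^ 2 - q W n)) x := by
      rw [he n]
      simp only [map_sub, map_pow, map_mul, LinearMap.sub_apply, pow_two, Module.End.mul_apply]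
    rw [h1]; exact hd n x
  have hle : ∀ m n, m ≤ n → ∀ x, (e n - e m) x ∈ I ^ (m + 1) • (⊤ : Submodule W P) := by
    intro m n hmn
    induction n, hmn using Nat.le_induction with
    | base => intro x; simp
    | succ n hmn ih =>
      intro x
      have h1 : (e (n + 1) - e m) x = (e (n + 1) - e n) x + (e n - e m) x := by
        simp only [LinearMap.sub_apply]; abel
      rw [h1]
      exact Submodule.add_mem _
        (Submodule.smul_mono_left (Ideal.pow_le_pow_right (by omega)) (hstep n x)) (ih x)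
  -- Step 3: the limit
  obtain ⟨k, r, i, hr_surj, hi_inj, hri⟩ := Module.Finite.exists_comp_eq_id_of_projective W P
  have hri' : ∀ x, r (i x) = x := fun x => LinearMap.congr_fun hri x
  have hcauchy : ∀ b m n, m ≤ n → ∀ j,
      (i (e n (r (std W k b)))) j - (i (e m (r (std W k b)))) j ∈ I ^ m := by
    intro b m n hmn j
    have h1 : i (e n (r (std W k b))) - i (e m (r (std W k b))) =
        i ((e n - e m) (r (std W k b))) := by
      rw [LinearMap.sub_apply, map_sub]
    have h2 : i ((e n - e m) (r (std W k b))) ∈ I ^ (m + 1) • (⊤ : Submodule W (Fin k → W)) :=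
      map_mem_smul_top (I ^ (m + 1)) i (hle m n hmn _)
    have h3 := coord_mem (I ^ (m + 1)) _ h2 j
    rw [← h1, Pi.sub_apply] at h3
    exact Ideal.pow_le_pow_right (Nat.le_succ m) h3
  have hu : ∀ b, ∃ u : Fin k → W, ∀ n j, u j - (i (e n (r (std W k b)))) j ∈ I ^ n :=
    fun b => vec_limit I (fun n => i (e n (r (std W k b))))
      (fun m n hmn j => hcauchy b m n hmn j)
  choose u hu using hu
  obtain ⟨M, hM⟩ : ∃ M : (Fin k → W) →ₗ[W] (Fin k → W), ∀ v, M v = ∑ b, v b • u b :=
    ⟨∑ b, (LinearMap.proj b : (Fin k → W) →ₗ[W] W).smulRight (u b), fun v => by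
      simp [LinearMap.sum_apply, LinearMap.smulRight_apply]⟩
  obtain ⟨elim, helim⟩ : ∃ elim : Module.End W P, ∀ x, elim x = r (M (i x)) :=
    ⟨r ∘ₗ M ∘ₗ i, fun x => rfl⟩
  have hlim : ∀ n x, elim x - e n x ∈ I ^ n • (⊤ : Submodule W P) := by
    intro n x
    have h1 : M (i x) - i (e n x) ∈ I ^ n • (⊤ : Submodule W (Fin k → W)) := by
      have h2 : i (e n x) = ∑ b, (i x) b • i (e n (r (std W k b))) := by
        have h3 := LinearMap.pi_apply_eq_sum_univ (i ∘ₗ e n ∘ₗ r) (i x)
        simp only [LinearMap.comp_apply, hri'] at h3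
        rw [h3]; rfl
      rw [hM, h2, ← Finset.sum_sub_distrib]
      refine Submodule.sum_mem _ fun b _ => ?_
      rw [← smul_sub]
      refine Submodule.smul_mem _ _ (mem_of_coord (I ^ n) _ fun j => ?_)
      rw [Pi.sub_apply]
      exact hu b n j
    have h4 : elim x - e n x = r (M (i x) - i (e n x)) := by
      rw [map_sub, hri', helim]
    rw [h4]
    exact map_mem_smul_top (I ^ n) r h1
  -- Step 4: separatedness of P
  have hsep : ∀ x : P, (∀ n, x ∈ I ^ n • (⊤ : Submodule W P)) → x = 0 := by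
    intro x hx
    apply hi_inj
    rw [map_zero]
    funext j
    change i x j = 0
    refine IsHausdorff.haus hc.toIsHausdorff _ fun n => ?_
    rw [SModEq.zero, smul_eq_mul, Ideal.mul_top]
    exact coord_mem (I ^ n) _ (map_mem_smul_top (I ^ n) i (hx n)) j
  -- Step 5: idempotent
  have hid : IsIdempotentElem elim := by
    change elim * elim = elim
    refine LinearMap.ext fun x => ?_
    rw [Module.End.mul_apply, ← sub_eq_zero]
    apply hsep
    intro n
    have h1 : elim (elim x) - elim x = (elim (elim x) - e n (elim x)) + e n (elim x - e n x) +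
        (e n (e n x) - e n x) - (elim x - e n x) := by
      rw [map_sub]; abel
    rw [h1]
    refine Submodule.sub_mem _ (Submodule.add_mem _ (Submodule.add_mem _ (hlim n _)
      (map_mem_smul_top (I ^ n) (e n) (hlim n x))) ?_) (hlim n x)
    exact Submodule.smul_mono_left (Ideal.pow_le_pow_right (Nat.le_succ n)) (hidem n x)
  -- Step 6
  have hcong : ∀ x, elim x - e0 x ∈ I • (⊤ : Submodule W P) := by
    intro x
    have h1 := hlim 1 x
    have h2 := hstep 0 x
    rw [pow_one] at h1
    rw [zero_add, pow_one, LinearMap.sub_apply, he_zero] at h2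
    have h3 : elim x - e0 x = (elim x - e 1 x) + (e 1 x - e0 x) := by abel
    rw [h3]; exact Submodule.add_mem _ h1 h2
  -- Step 7
  have hcompl := LinearMap.IsIdempotentElem.isCompl hid
  refine ⟨LinearMap.range elim, LinearMap.ker elim, hcompl, ?_⟩
  have hIP : I • (⊤ : Submodule W P) ≤ LinearMap.range elim ⊔ I • LinearMap.ker elim := by
    rw [← hcompl.sup_eq_top, Submodule.smul_sup]
    exact sup_le_sup_right Submodule.smul_le_right _
  apply le_antisymm
  · intro x hx
    have h1 : x - elim x ∈ I • (⊤ : Submodule W P) := by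
      have h2 : x - e0 x ∈ Q ⊓ C := Submodule.mem_inf.2 ⟨Q.sub_mem hx (he0Q x), he0C x⟩
      rw [hQC'] at h2
      have h3 : x - elim x = (x - e0 x) - (elim x - e0 x) := by abel
      rw [h3]; exact Submodule.sub_mem _ h2 (hcong x)
    have h4 : x = elim x + (x - elim x) := by abel
    rw [h4]
    exact Submodule.add_mem _ (Submodule.mem_sup_left (LinearMap.mem_range_self elim x))
      (hIP h1)
  · refine sup_le ?_ ?_
    · rintro _ ⟨x, rfl⟩
      have h1 : elim x = e0 x + (elim x - e0 x) := by abel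
      rw [h1]
      refine Q.add_mem (he0Q x) ?_
      have h2 := hcong x
      rw [← hQC'] at h2
      exact (Submodule.mem_inf.1 h2).1
    · refine (Submodule.smul_mono le_rfl (le_top : LinearMap.ker elim ≤ ⊤)).trans ?_
      rw [← hQC']; exact inf_le_left

end Groth.Agent.Helper8.NormalDecomp
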