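import Mathlib

namespace Groth.Agent.Helper8.PiTensorSwap

open PiTensorProduct
open scoped TensorProduct

variable (k : Type*) [CommRing k] (A : Type*) [CommRing A] [Algebra k A] (n : ℕ)

/-- permutation of the tensor factors as an algebra homomorphism. -/
noncomputable def reindexAlgHom (σ : Equiv.Perm (Fin n)) :
    (⨂[k] _ : Fin n, A) →ₐ[k] (⨂[k] _ : Fin n, A) :=
  AlgHom.ofLinearMap (PiTensorProduct.reindex k (fun _ : Fin n => A) σ).toLinearMap
    (by
      change PiTensorProduct.reindex k (fun _ : Fin n => A) σ (PiTensorProduct.tprod k 1) = PiTensorProduct.tprod k 1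
      rw [PiTensorProduct.reindex_tprod]
      rfl)
    (by
      intro x y
      induction x using PiTensorProduct.induction_on with
      | smul_tprod r f =>
        induction y using PiTensorProduct.induction_on with
        | smul_tprod s g =>
          simp only [LinearEquiv.coe_coe, smul_tprod_mul_smul_tprod, map_smul,
            PiTensorProduct.reindex_tprod]
          rfl
        | add y₁ y₂ h₁ h₂ =>
          rw [mul_add, map_add, h₁, h₂, map_add, mul_add]
      | add x₁ x₂ h₁ h₂ =>
        rw [add_mul, map_add, h₁, h₂, map_add, add_mul])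

@[simp] theorem reindexAlgHom_apply (σ : Equiv.Perm (Fin n)) (x : ⨂[k] _ : Fin n, A) :
    reindexAlgHom k A n σ x = PiTensorProduct.reindex k (fun _ : Fin n => A) σ x := rfl

theorem reindex_single (σ : Equiv.Perm (Fin n)) (l : Fin n) (a : A) :
    PiTensorProduct.reindex k (fun _ : Fin n => A) σ
      (PiTensorProduct.singleAlgHom (R := k) (A := fun _ : Fin n => A) l a) =
      PiTensorProduct.singleAlgHom (R := k) (A := fun _ : Fin n => A) (σ l) a := by
  simp only [singleAlgHom_apply, PiTensorProduct.reindex_tprod]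
  congr 1
  funext m
  simp only [MonoidHom.mulSingle_apply]
  by_cases h : m = σ l
  · subst h
    simp
  · rw [Pi.mulSingle_eq_of_ne h, Pi.mulSingle_eq_of_ne]
    intro h'
    exact h (by rw [← h', Equiv.apply_symm_apply])


/-- the ideal of the diagonal of the factors `i` and `j`. -/
noncomputable def diagIdeal (i j : Fin n) : Ideal (⨂[k] _ : Fin n, A) :=
  Ideal.span (Set.range fun a : A =>
    PiTensorProduct.singleAlgHom (R := k) (A := fun _ : Fin n => A) i a -
    PiTensorProduct.singleAlgHom (R := k) (A := fun _ : Fin n => A) j a)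

theorem gen_mem (i j : Fin n) (a : A) :
    PiTensorProduct.singleAlgHom (R := k) (A := fun _ : Fin n => A) i a -
    PiTensorProduct.singleAlgHom (R := k) (A := fun _ : Fin n => A) j a ∈ diagIdeal k A n i j :=
  Ideal.subset_span ⟨a, rfl⟩

/-- the swap of the factors `i`, `j` is the identity modulo the ideal of their diagonal. -/
theorem swap_sub_mem (i j : Fin n) (y : ⨂[k] _ : Fin n, A) :
    reindexAlgHom k A n (Equiv.swap i j) y - y ∈ diagIdeal k A n i j := by
  have h : (Ideal.Quotient.mkₐ k (diagIdeal k A n i j)).comp (reindexAlgHom k A n (Equiv.swap i j)) =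
      Ideal.Quotient.mkₐ k (diagIdeal k A n i j) := by
    refine PiTensorProduct.algHom_ext fun l => ?_
    ext a
    simp only [AlgHom.comp_apply, reindexAlgHom_apply, reindex_single, Ideal.Quotient.mkₐ_eq_mk]
    rw [Ideal.Quotient.eq]
    by_cases hi : l = i
    · subst hi
      rw [Equiv.swap_apply_left, ← neg_sub]
      exact neg_mem (gen_mem k A n l j a)
    · by_cases hj : l = j
      · subst hj
        rw [Equiv.swap_apply_right]
        exact gen_mem k A n i l a
      · rw [Equiv.swap_apply_of_ne_of_ne hi hj, sub_self]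
        exact zero_mem _
  have h2 := AlgHom.congr_fun h y
  simp only [AlgHom.comp_apply, Ideal.Quotient.mkₐ_eq_mk] at h2
  rwa [Ideal.Quotient.eq] at h2

theorem swap_add_mem_sq (i j : Fin n) (g : ⨂[k] _ : Fin n, A) (hg : g ∈ diagIdeal k A n i j) :
    reindexAlgHom k A n (Equiv.swap i j) g + g ∈ diagIdeal k A n i j ^ 2 ∧
      reindexAlgHom k A n (Equiv.swap i j) g ∈ diagIdeal k A n i j := by
  suffices h : reindexAlgHom k A n (Equiv.swap i j) g + g ∈ diagIdeal k A n i j ^ 2 by
    refine ⟨h, ?_⟩
    have h2 : reindexAlgHom k A n (Equiv.swap i j) g + g ∈ diagIdeal k A n i j :=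
      Ideal.pow_le_self two_ne_zero h
    have := sub_mem h2 hg
    rwa [add_sub_cancel_right] at this
  refine Submodule.span_induction (p := fun g _ =>
    reindexAlgHom k A n (Equiv.swap i j) g + g ∈ diagIdeal k A n i j ^ 2) ?_ ?_ ?_ ?_ hg
  · rintro _ ⟨a, rfl⟩
    simp only [map_sub, reindexAlgHom_apply, reindex_single, Equiv.swap_apply_left,
      Equiv.swap_apply_right]
    rw [show ∀ u v : (⨂[k] _ : Fin n, A), v - u + (u - v) = 0 by intro u v; ring]
    exact zero_mem _
  · simp
  · intro x y _ _ hx hy
    rw [map_add, show ∀ a b c d : (⨂[k] _ : Fin n, A), a + b + (c + d) = (a + c) + (b + d) by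
      intro a b c d; ring]
    exact add_mem hx hy
  · intro c x hxI hx
    rw [smul_eq_mul, map_mul]
    have h1 : reindexAlgHom k A n (Equiv.swap i j) c - c ∈ diagIdeal k A n i j :=
      swap_sub_mem k A n i j c
    have h2 : reindexAlgHom k A n (Equiv.swap i j) x ∈ diagIdeal k A n i j := by
      have h3 : reindexAlgHom k A n (Equiv.swap i j) x + x ∈ diagIdeal k A n i j :=
        Ideal.pow_le_self two_ne_zero hx
      have := sub_mem h3 hxI
      rwa [add_sub_cancel_right] at this
    have e : reindexAlgHom k A n (Equiv.swap i j) c * reindexAlgHom k A n (Equiv.swap i j) x + c * x =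
        (reindexAlgHom k A n (Equiv.swap i j) c - c) * reindexAlgHom k A n (Equiv.swap i j) x +
          c * (reindexAlgHom k A n (Equiv.swap i j) x + x) := by ring
    rw [e, pow_two]
    refine add_mem (Ideal.mul_mem_mul h1 h2) ?_
    rw [← pow_two]
    exact Ideal.mul_mem_left _ _ hx

theorem swap_sub_pow_mem (i j : Fin n) (s : ℕ) (y : ⨂[k] _ : Fin n, A)
    (hy : y ∈ diagIdeal k A n i j ^ s) :
    reindexAlgHom k A n (Equiv.swap i j) y - (-1) ^ s * y ∈ diagIdeal k A n i j ^ (s + 1) := by
  induction s generalizing y with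
  | zero =>
    rw [pow_zero, one_mul, zero_add, pow_one]
    exact swap_sub_mem k A n i j y
  | succ s ih =>
    rw [pow_succ] at hy
    refine Submodule.mul_induction_on (C := fun y =>
      reindexAlgHom k A n (Equiv.swap i j) y - (-1) ^ (s + 1) * y ∈
        diagIdeal k A n i j ^ (s + 1 + 1)) hy ?_ ?_
    · intro u hu g hg
      obtain ⟨hg2, hgI⟩ := swap_add_mem_sq k A n i j g hg
      have e : reindexAlgHom k A n (Equiv.swap i j) (u * g) - (-1) ^ (s + 1) * (u * g) =
          (reindexAlgHom k A n (Equiv.swap i j) u - (-1) ^ s * u) *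
            reindexAlgHom k A n (Equiv.swap i j) g +
          (-1) ^ s * (u * (reindexAlgHom k A n (Equiv.swap i j) g + g)) := by
        rw [map_mul, pow_succ]
        ring
      rw [e]
      refine add_mem ?_ (Ideal.mul_mem_left _ _ ?_)
      · rw [pow_succ _ (s + 1)]
        exact Ideal.mul_mem_mul (ih u hu) hgI
      · rw [show s + 1 + 1 = s + 2 by ring, pow_add]
        exact Ideal.mul_mem_mul hu hg2
    · intro x y hx hy
      rw [map_add, mul_add, add_sub_add_comm]
      exact add_mem hx hy

end Groth.Agent.Helper8.PiTensorSwap
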