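import Mathlib
import Groth.Prelude.Def_W4c1imperftorsorsPerf

set_option linter.style.haveILetI false
set_option linter.unusedSectionVars false
set_option linter.unusedVariables false

open TensorProduct Polynomial

namespace Groth.Agent.Helper8.PrePerfNode

open W4c1imperftorsors

universe u w

section general

variable (p : ℕ) [Fact p.Prime] {R : Type u} [CommRing R] [CharP R p]
  {A : Type w} [CommRing A] [Algebra R A]

/-- pure tensor in the `j`-th Frobenius twist -/
noncomputable def tw (j : ℕ) (r : R) (b : A) : Twist p R A j :=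
  r ⊗ₜ[Src p R j] ((aEquiv p R A j).symm b)

theorem tw_add_left (j : ℕ) (r r' : R) (b : A) :
    tw p j (r + r') b = tw p j r b + tw p j r' b :=
  TensorProduct.add_tmul _ _ _

theorem tw_add_right (j : ℕ) (r : R) (b b' : A) :
    tw p j r (b + b') = tw p j r b + tw p j r b' := by
  unfold tw; rw [map_add, TensorProduct.tmul_add]

theorem tw_zero_left (j : ℕ) (b : A) : tw p j (0 : R) b = 0 := TensorProduct.zero_tmul _ _

theorem tw_zero_right (j : ℕ) (r : R) : tw p j r (0 : A) = 0 := by
  unfold tw; rw [map_zero, TensorProduct.tmul_zero]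

theorem tw_bal (j : ℕ) (s r : R) (b : A) :
    tw p j (s ^ (p ^ j) * r) b = tw p j r (algebraMap R A s * b) := by
  have h := TensorProduct.smul_tmul (R := Src p R j) (R' := Src p R j)
    ((srcEquiv p R j).symm s) r ((aEquiv p R A j).symm b)
  rw [Algebra.smul_def, Algebra.smul_def, algebraMap_src, algebraMap_aSrc,
    RingEquiv.apply_symm_apply, ← map_mul] at h
  exact h

theorem relFrob_tw [CharP A p] (j : ℕ) (r : R) (b : A) :
    relFrob p R A j (tw p (j + 1) r b) = tw p j r (b ^ p) := by
  change relFrobAux p R A j (r ⊗ₜ[Src p R (j + 1)] ((aEquiv p R A (j + 1)).symm b)) = _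
  rw [relFrobAux, Algebra.TensorProduct.lift_tmul]
  change (algebraMap R (Twist p R A j) r) * ((1 : R) ⊗ₜ[Src p R j]
    ((aEquiv p R A j).symm ((aEquiv p R A (j + 1) ((aEquiv p R A (j + 1)).symm b)) ^ p))) = _
  rw [Algebra.TensorProduct.algebraMap_apply, Algebra.algebraMap_self, RingHom.id_apply,
    Algebra.TensorProduct.tmul_mul_tmul, mul_one, one_mul, RingEquiv.apply_symm_apply]
  rfl

theorem algebraMap_twist (j : ℕ) (r : R) : algebraMap R (Twist p R A j) r = tw p j r 1 := by
  rw [Algebra.TensorProduct.algebraMap_apply, Algebra.algebraMap_self, RingHom.id_apply]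
  unfold tw; rw [map_one]

theorem twist_span (al : A)
    (hspan : ∀ b : A, ∃ a c : R, b = algebraMap R A a + algebraMap R A c * al)
    (j : ℕ) (x : Twist p R A j) : ∃ r s : R, x = tw p j r 1 + tw p j s al := by
  induction x using TensorProduct.induction_on with
  | zero => exact ⟨0, 0, by rw [tw_zero_left, tw_zero_left, add_zero]⟩
  | tmul r b =>
    obtain ⟨a, c, hb⟩ := hspan (aEquiv p R A j b)
    refine ⟨a ^ (p ^ j) * r, c ^ (p ^ j) * r, ?_⟩
    rw [tw_bal, tw_bal, mul_one, ← tw_add_right, ← hb]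
    unfold tw; rw [RingEquiv.symm_apply_apply]
  | add x y hx hy =>
    obtain ⟨r, s, rfl⟩ := hx
    obtain ⟨r', s', rfl⟩ := hy
    exact ⟨r + r', s + s', by rw [tw_add_left, tw_add_left]; abel⟩

theorem al_pow_p (hp : p ≠ 2) (v : R) (al : A) (hsq : al ^ 2 = algebraMap R A (v ^ 2)) :
    al ^ p = algebraMap R A (v ^ (p - 1)) * al := by
  obtain ⟨m, hm⟩ : ∃ m, p = 2 * m + 1 := by
    rcases (Fact.out : p.Prime).eq_two_or_odd' with h | h
    · exact absurd h hp
    · obtain ⟨m, hm⟩ := h; exact ⟨m, hm⟩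
  have h1 : p - 1 = 2 * m := by omega
  rw [h1]
  conv_lhs => rw [hm]
  rw [pow_succ, pow_mul, hsq, ← map_pow, ← pow_mul]

theorem tw_al_zero (u : R) (al : A) (hu : algebraMap R A u * al = 0) (j : ℕ) (s : R)
    (hs : s ∈ Ideal.span {u ^ (p ^ j)}) : tw p j s al = 0 := by
  obtain ⟨t, rfl⟩ := Ideal.mem_span_singleton'.1 hs
  rw [mul_comm, tw_bal, hu, tw_zero_right]

/-- the bi-additive map underlying `lin` -/
noncomputable def linAux {T : Type*} [CommRing T] (φ : R →+* T) (g : A →+ T) (j : ℕ) :
    R →+ ASrc p R A j →+ T where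
  toFun r :=
    { toFun := fun b => φ r * g (aEquiv p R A j b)
      map_zero' := by rw [map_zero, map_zero, mul_zero]
      map_add' := fun b b' => by rw [map_add, map_add, mul_add] }
  map_zero' := by
    ext b
    change φ 0 * g (aEquiv p R A j b) = 0
    rw [map_zero, zero_mul]
  map_add' r r' := by
    ext b
    change φ (r + r') * g (aEquiv p R A j b) =
      φ r * g (aEquiv p R A j b) + φ r' * g (aEquiv p R A j b)
    rw [map_add, add_mul]

/-- additive maps out of the twist -/
noncomputable def lin {T : Type*} [CommRing T] (φ : R →+* T) (g : A →+ T) (j : ℕ)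
    (hg : ∀ (s : R) (b : A), g (algebraMap R A s * b) = φ (s ^ (p ^ j)) * g b) :
    Twist p R A j →+ T :=
  TensorProduct.liftAddHom (linAux p φ g j)
    (by
      intro s r b
      have e : ∀ (r : R) (b : ASrc p R A j),
          linAux p φ g j r b = φ r * g (aEquiv p R A j b) := fun _ _ => rfl
      rw [e, e, Algebra.smul_def, Algebra.smul_def, algebraMap_src, algebraMap_aSrc,
        map_mul (aEquiv p R A j), RingEquiv.apply_symm_apply, hg, map_mul φ]
      ring)

theorem lin_tw {T : Type*} [CommRing T] (φ : R →+* T) (g : A →+ T) (j : ℕ)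
    (hg : ∀ (s : R) (b : A), g (algebraMap R A s * b) = φ (s ^ (p ^ j)) * g b)
    (r : R) (b : A) : lin p φ g j hg (tw p j r b) = φ r * g b := by
  unfold lin tw
  rw [TensorProduct.liftAddHom_tmul]
  change φ r * g (aEquiv p R A j ((aEquiv p R A j).symm b)) = _
  rw [RingEquiv.apply_symm_apply]

theorem exists_rho (ev : A →+* R) (hev : ∀ s, ev (algebraMap R A s) = s) (j : ℕ) :
    ∃ ρ : Twist p R A j →+ R, ∀ r, ρ (tw p j r 1) = r := by
  have hg : ∀ (s : R) (b : A), ((iterateFrobenius R p j).comp ev).toAddMonoidHom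
      (algebraMap R A s * b) = (RingHom.id R) (s ^ (p ^ j)) *
        ((iterateFrobenius R p j).comp ev).toAddMonoidHom b := by
    intro s b
    change iterateFrobenius R p j (ev (algebraMap R A s * b)) =
      s ^ (p ^ j) * iterateFrobenius R p j (ev b)
    rw [map_mul ev, hev, map_mul, iterateFrobenius_def]
  refine ⟨lin p (RingHom.id R) ((iterateFrobenius R p j).comp ev).toAddMonoidHom j hg, ?_⟩
  intro r
  refine (lin_tw p _ _ j hg r 1).trans ?_
  change r * iterateFrobenius R p j (ev 1) = r
  rw [map_one, map_one, mul_one]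

/-- Frobenius-semilinear transition `R/(u) → R/(u^(p^j))`. -/
noncomputable def theta (u : R) (j : ℕ) :
    R ⧸ Ideal.span {u} →+* R ⧸ Ideal.span {u ^ (p ^ j)} :=
  Ideal.Quotient.lift (Ideal.span {u})
    ((Ideal.Quotient.mk (Ideal.span {u ^ (p ^ j)})).comp (iterateFrobenius R p j))
    (by
      intro a ha
      obtain ⟨t, rfl⟩ := Ideal.mem_span_singleton'.1 ha
      rw [RingHom.comp_apply, iterateFrobenius_def, mul_pow, Ideal.Quotient.eq_zero_iff_mem]
      exact Ideal.mul_mem_left _ _ (Ideal.mem_span_singleton_self _))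

theorem theta_mk (u : R) (j : ℕ) (a : R) :
    theta p u j (Ideal.Quotient.mk (Ideal.span {u}) a) =
      Ideal.Quotient.mk (Ideal.span {u ^ (p ^ j)}) (a ^ (p ^ j)) := by
  unfold theta; rw [Ideal.Quotient.lift_mk]; rfl

theorem exists_kappa (u : R) (coef : A →+ R ⧸ Ideal.span {u})
    (hcs : ∀ s b, coef (algebraMap R A s * b) = Ideal.Quotient.mk (Ideal.span {u}) s * coef b)
    (j : ℕ) :
    ∃ κ : Twist p R A j →+ R ⧸ Ideal.span {u ^ (p ^ j)},
      ∀ r b, κ (tw p j r b) =
        Ideal.Quotient.mk (Ideal.span {u ^ (p ^ j)}) r * theta p u j (coef b) := by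
  have hg : ∀ (s : R) (b : A), ((theta p u j).toAddMonoidHom.comp coef) (algebraMap R A s * b) =
      (Ideal.Quotient.mk (Ideal.span {u ^ (p ^ j)})) (s ^ (p ^ j)) *
        ((theta p u j).toAddMonoidHom.comp coef) b := by
    intro s b
    change theta p u j (coef (algebraMap R A s * b)) = _ * theta p u j (coef b)
    rw [hcs, map_mul, theta_mk]
  refine ⟨lin p (Ideal.Quotient.mk (Ideal.span {u ^ (p ^ j)}))
    ((theta p u j).toAddMonoidHom.comp coef) j hg, ?_⟩
  intro r b
  exact lin_tw p _ _ j hg r b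

theorem main (hp : p ≠ 2) (u v : R) (huv : u * v = 0)
    (hsep : ∀ N : ℕ, 1 ≤ N → ∀ g : R,
      (∀ n : ℕ, g ∈ Ideal.span {v ^ n} ⊔ Ideal.span {u ^ N}) → g ∈ Ideal.span {u ^ N})
    [CharP A p] (al : A)
    (hspan : ∀ b : A, ∃ a c : R, b = algebraMap R A a + algebraMap R A c * al)
    (hsq : al ^ 2 = algebraMap R A (v ^ 2))
    (hu : algebraMap R A u * al = 0)
    (ev : A →+* R) (hev : ∀ s, ev (algebraMap R A s) = s)
    (coef : A →+ R ⧸ Ideal.span {u}) (hc1 : coef 1 = 0) (hcal : coef al = 1)
    (hcs : ∀ s b, coef (algebraMap R A s * b) = Ideal.Quotient.mk (Ideal.span {u}) s * coef b) :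
    Function.Bijective (algebraMap R ↥(prePerf p R A)) := by
  classical
  have hp2 : 2 ≤ p := (Fact.out : p.Prime).two_le
  have hp3 : 3 ≤ p := by omega
  have hp0 : 0 < p := by omega
  have halp := al_pow_p p hp v al hsq
  have hw : ∀ j : ℕ, ∃ w' : R, (v ^ (p - 1)) ^ (p ^ j) = w' * v := by
    intro j
    obtain ⟨e, he⟩ : ∃ e, (p - 1) * p ^ j = e + 1 := by
      have h1 : 0 < (p - 1) * p ^ j := Nat.mul_pos (by omega) (pow_pos hp0 j)
      exact ⟨(p - 1) * p ^ j - 1, by omega⟩
    exact ⟨v ^ e, by rw [← pow_mul, he, pow_succ]⟩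
  have key : ∀ x : (Π j : ℕ, Twist p R A j), x ∈ prePerf p R A →
      ∃ r : R, ∀ j, x j = tw p j r 1 := by
    intro x hx
    have hcomp : ∀ j, relFrob p R A j (x (j + 1)) = x j := by
      intro j
      rw [prePerf, Algebra.mem_iInf] at hx
      exact (AlgHom.mem_equalizer _ _ _).1 (hx j)
    choose r s hrs using fun j => twist_span p al hspan j (x j)
    have hcomp' : ∀ j, tw p j (r j) 1 + tw p j (s j) al =
        tw p j (r (j + 1)) 1 + tw p j ((v ^ (p - 1)) ^ (p ^ j) * s (j + 1)) al := by
      intro j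
      have h := hcomp j
      rw [hrs (j + 1), hrs j, map_add, relFrob_tw, relFrob_tw, one_pow, halp, ← tw_bal] at h
      exact h.symm
    have hs_rel : ∀ j, s j - (v ^ (p - 1)) ^ (p ^ j) * s (j + 1) ∈
        Ideal.span {u ^ (p ^ j)} := by
      intro j
      obtain ⟨κ, hκ⟩ := exists_kappa p u coef hcs j
      have h := congrArg κ (hcomp' j)
      simp only [map_add, hκ, hc1, hcal, map_zero, map_one, mul_zero, mul_one, zero_add] at h
      exact Ideal.Quotient.eq.1 h
    have hclaim : ∀ k j, s j ∈ Ideal.span {v ^ k} ⊔ Ideal.span {u ^ (p ^ j)} := by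
      intro k
      induction k with
      | zero =>
        intro j
        rw [pow_zero, Ideal.span_singleton_one]
        exact Submodule.mem_sup_left Submodule.mem_top
      | succ k ih =>
        intro j
        obtain ⟨y, hy, z, hz, hyz⟩ := Submodule.mem_sup.1 (ih (j + 1))
        obtain ⟨a, rfl⟩ := Ideal.mem_span_singleton'.1 hy
        obtain ⟨b, rfl⟩ := Ideal.mem_span_singleton'.1 hz
        obtain ⟨w', hw'⟩ := hw j
        have h1 : (v ^ (p - 1)) ^ (p ^ j) * s (j + 1) = (w' * a) * v ^ (k + 1) := by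
          rw [← hyz, mul_add, hw']
          have hz0 : w' * v * (b * u ^ (p ^ (j + 1))) = 0 := by
            obtain ⟨e, he⟩ : ∃ e, p ^ (j + 1) = e + 1 :=
              ⟨p ^ (j + 1) - 1, by have := pow_pos hp0 (j + 1); omega⟩
            rw [he, pow_succ]
            calc w' * v * (b * (u ^ e * u)) = w' * b * u ^ e * (u * v) := by ring
              _ = 0 := by rw [huv, mul_zero]
          rw [hz0, add_zero, pow_succ]; ring
        have h2 : s j = (s j - (v ^ (p - 1)) ^ (p ^ j) * s (j + 1)) + (w' * a) * v ^ (k + 1) := by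
          rw [← h1]; ring
        rw [h2]
        exact Submodule.add_mem _ (Submodule.mem_sup_right (hs_rel j))
          (Submodule.mem_sup_left (Ideal.mem_span_singleton'.2 ⟨_, rfl⟩))
    have hs_mem : ∀ j, s j ∈ Ideal.span {u ^ (p ^ j)} := fun j =>
      hsep (p ^ j) (Nat.one_le_pow _ _ hp0) (s j) (fun n => hclaim n j)
    have hx1 : ∀ j, x j = tw p j (r j) 1 := by
      intro j; rw [hrs j, tw_al_zero p u al hu j (s j) (hs_mem j), add_zero]
    have hr : ∀ j, r j = r (j + 1) := by
      intro j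
      obtain ⟨ρ, hρ⟩ := exists_rho p ev hev j
      have h := hcomp j
      rw [hx1 (j + 1), hx1 j, relFrob_tw, one_pow] at h
      have h' := congrArg ρ h
      rw [hρ, hρ] at h'
      exact h'.symm
    have hr0 : ∀ j, r j = r 0 := by
      intro j
      induction j with
      | zero => rfl
      | succ j ih => rw [← hr j, ih]
    exact ⟨r 0, fun j => by rw [hx1 j, hr0 j]⟩
  constructor
  · intro a b hab
    obtain ⟨ρ, hρ⟩ := exists_rho p ev hev 0
    have h0 : algebraMap R (Twist p R A 0) a = algebraMap R (Twist p R A 0) b := by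
      have := congrArg (fun y : ↥(prePerf p R A) => (y : Π j, Twist p R A j) 0) hab
      exact this
    rw [algebraMap_twist, algebraMap_twist] at h0
    have h' := congrArg ρ h0
    rw [hρ, hρ] at h'
    exact h'
  · intro x
    obtain ⟨r, hr⟩ := key x.1 x.2
    refine ⟨r, Subtype.ext (funext fun j => ?_)⟩
    rw [hr j, ← algebraMap_twist]
    rfl

end general

section concrete

variable {R : Type u} [CommRing R] (u v : R)

/-- the ideal `(uX, X² − v²)` -/
noncomputable abbrev II : Ideal R[X] := Ideal.span {(C u * X : R[X]), X ^ 2 - C (v ^ 2)}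

/-- the algebra `R[X]/(uX, X² − v²)` -/
abbrev BB : Type u := R[X] ⧸ II u v

theorem algebraMap_eq_mk_C (r : R) :
    algebraMap R (BB u v) r = Ideal.Quotient.mk (II u v) (C r) := rfl

theorem al_sq : (Ideal.Quotient.mk (II u v) X) ^ 2 = algebraMap R (BB u v) (v ^ 2) := by
  rw [algebraMap_eq_mk_C, ← map_pow, Ideal.Quotient.eq]
  exact Ideal.subset_span (Set.mem_insert_of_mem _ (Set.mem_singleton _))

theorem u_al : algebraMap R (BB u v) u * Ideal.Quotient.mk (II u v) X = 0 := by
  rw [algebraMap_eq_mk_C, ← map_mul, Ideal.Quotient.eq_zero_iff_mem]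
  exact Ideal.subset_span (Set.mem_insert _ _)

theorem bb_span (b : BB u v) : ∃ a c : R,
    b = algebraMap R (BB u v) a + algebraMap R (BB u v) c * Ideal.Quotient.mk (II u v) X := by
  obtain ⟨f, rfl⟩ := Ideal.Quotient.mk_surjective b
  induction f using Polynomial.induction_on with
  | C a => exact ⟨a, 0, by rw [map_zero, zero_mul, add_zero]; rfl⟩
  | add f g hf hg =>
    obtain ⟨a, c, h1⟩ := hf
    obtain ⟨a', c', h2⟩ := hg
    exact ⟨a + a', c + c', by rw [map_add, h1, h2, map_add, map_add]; ring⟩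
  | monomial n a h =>
    obtain ⟨a', c', h1⟩ := h
    refine ⟨c' * v ^ 2, a', ?_⟩
    have e1 : Ideal.Quotient.mk (II u v) (C a * X ^ (n + 1)) =
        Ideal.Quotient.mk (II u v) (C a * X ^ n) * Ideal.Quotient.mk (II u v) X := by
      rw [← map_mul, pow_succ, mul_assoc]
    rw [e1, h1, add_mul, mul_assoc, ← pow_two, al_sq, map_mul (algebraMap R (BB u v))]
    ring

/-- evaluation at `X = v` -/
noncomputable def ev (huv : u * v = 0) : BB u v →+* R :=
  Ideal.Quotient.lift (II u v) (Polynomial.evalRingHom v) (by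
    intro a ha
    have hle : II u v ≤ RingHom.ker (Polynomial.evalRingHom v) := by
      rw [Ideal.span_le]
      intro f hf
      simp only [Set.mem_insert_iff, Set.mem_singleton_iff] at hf
      rcases hf with rfl | rfl
      · simp [RingHom.mem_ker, huv]
      · simp [RingHom.mem_ker]
    exact RingHom.mem_ker.1 (hle ha))

theorem ev_algebraMap (huv : u * v = 0) (s : R) :
    ev u v huv (algebraMap R (BB u v) s) = s := by
  rw [algebraMap_eq_mk_C]; unfold ev; rw [Ideal.Quotient.lift_mk]; simp

/-- the regular-representation matrix of `X` modulo `u` -/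
noncomputable def MM : Matrix (Fin 2) (Fin 2) (R ⧸ Ideal.span {u}) :=
  !![0, Ideal.Quotient.mk _ (v ^ 2); 1, 0]

theorem MM_sq : MM u v ^ 2 =
    algebraMap R (Matrix (Fin 2) (Fin 2) (R ⧸ Ideal.span {u})) (v ^ 2) := by
  ext i j
  fin_cases i <;> fin_cases j <;>
    simp [MM, pow_two, Matrix.mul_apply, Fin.sum_univ_two, Matrix.algebraMap_matrix_apply]

/-- regular representation modulo `u` -/
noncomputable def Phi : BB u v →+* Matrix (Fin 2) (Fin 2) (R ⧸ Ideal.span {u}) :=
  Ideal.Quotient.lift (II u v) ((Polynomial.aeval (MM u v)).toRingHom) (by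
    intro a ha
    have hle : II u v ≤ RingHom.ker ((Polynomial.aeval (MM u v)).toRingHom :
        R[X] →+* Matrix (Fin 2) (Fin 2) (R ⧸ Ideal.span {u})) := by
      rw [Ideal.span_le]
      intro f hf
      simp only [Set.mem_insert_iff, Set.mem_singleton_iff] at hf
      rcases hf with rfl | rfl
      · rw [SetLike.mem_coe, RingHom.mem_ker]
        change Polynomial.aeval (MM u v) (C u * X) = 0
        rw [map_mul, Polynomial.aeval_C, Polynomial.aeval_X]
        have h0 : algebraMap R (Matrix (Fin 2) (Fin 2) (R ⧸ Ideal.span {u})) u = 0 := by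
          have h00 : algebraMap R (R ⧸ Ideal.span {u}) u = 0 :=
            Ideal.Quotient.eq_zero_iff_mem.2 (Ideal.mem_span_singleton_self u)
          ext i j
          rw [Matrix.algebraMap_matrix_apply, h00]
          simp
        rw [h0, zero_mul]
      · rw [SetLike.mem_coe, RingHom.mem_ker]
        change Polynomial.aeval (MM u v) (X ^ 2 - C (v ^ 2)) = 0
        rw [map_sub, map_pow, Polynomial.aeval_X, Polynomial.aeval_C, MM_sq, sub_self]
    exact RingHom.mem_ker.1 (hle ha))

theorem Phi_mk (f : R[X]) : Phi u v (Ideal.Quotient.mk (II u v) f) = Polynomial.aeval (MM u v) f := by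
  unfold Phi; rw [Ideal.Quotient.lift_mk]; rfl

/-- coefficient of `α` modulo `u` -/
noncomputable def coef : BB u v →+ R ⧸ Ideal.span {u} :=
  (Matrix.entryAddMonoidHom (R ⧸ Ideal.span {u}) (1 : Fin 2) (0 : Fin 2)).comp
    (Phi u v).toAddMonoidHom

theorem coef_apply (b : BB u v) : coef u v b = (Phi u v b) 1 0 := rfl

theorem coef_one : coef u v 1 = 0 := by
  rw [coef_apply, map_one]; simp

theorem coef_al : coef u v (Ideal.Quotient.mk (II u v) X) = 1 := by
  rw [coef_apply, Phi_mk, Polynomial.aeval_X]; simp [MM]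

theorem coef_smul (s : R) (b : BB u v) :
    coef u v (algebraMap R (BB u v) s * b) =
      Ideal.Quotient.mk (Ideal.span {u}) s * coef u v b := by
  have h1 : Phi u v (algebraMap R (BB u v) s) = algebraMap R _ s := by
    rw [algebraMap_eq_mk_C, Phi_mk, Polynomial.aeval_C]
  rw [coef_apply, coef_apply, map_mul, h1, Algebra.algebraMap_eq_smul_one, smul_mul_assoc,
    one_mul, Matrix.smul_apply, Algebra.smul_def]
  rfl

end concrete

theorem prePerf_node (p : ℕ) [Fact p.Prime] (hp : p ≠ 2) (R : Type u) [CommRing R] [CharP R p]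
    (u v : R) (huv : u * v = 0)
    (hsep : ∀ N : ℕ, 1 ≤ N → ∀ g : R,
      (∀ n : ℕ, g ∈ Ideal.span {v ^ n} ⊔ Ideal.span {u ^ N}) → g ∈ Ideal.span {u ^ N})
    [CharP (BB u v) p] :
    Function.Bijective (algebraMap R ↥(W4c1imperftorsors.prePerf p R (BB u v))) :=
  main p hp u v huv hsep (Ideal.Quotient.mk (II u v) X) (bb_span u v) (al_sq u v) (u_al u v)
    (ev u v huv) (ev_algebraMap u v huv) (coef u v) (coef_one u v) (coef_al u v) (coef_smul u v)

end Groth.Agent.Helper8.PrePerfNode
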