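import Mathlib

/-!
# Frobenius-semilinear endomorphisms over a separably closed field

Fixed vectors of `q`-linear maps (`q = p^r`) on finite-dimensional vector spaces over a separably
closed field of characteristic `p`: existence of fixed vectors, spanning by fixed vectors in the
"semisimple" case, surjectivity of `1 - Φ`.
-/

set_option autoImplicit false

universe u v

namespace Groth.Agent.Helper8.QLinear

open Polynomial

section Root

variable {k : Type u} [Field k]

/-- polynomials of the recursion `X₀ = c₀ Y`, `X_{i+1} = X_i^q + c_{i+1} Y`. -/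
noncomputable def Xp (q : ℕ) (c : ℕ → k) : ℕ → k[X]
  | 0 => C (c 0) * X
  | (i + 1) => (Xp q c i) ^ q + C (c (i + 1)) * X

lemma Xp_eval_zero (q : ℕ) (hq : 0 < q) (c : ℕ → k) (i : ℕ) : (Xp q c i).eval 0 = 0 := by
  induction i with
  | zero => simp [Xp]
  | succ i ih => simp [Xp, ih, hq.ne']

lemma Xp_invariant (q : ℕ) (hq : 2 ≤ q) (c : ℕ → k) (i : ℕ) :
    ((∀ j ≤ i, c j = 0) ∧ Xp q c i = 0) ∨ 1 ≤ (Xp q c i).natDegree := by
  induction i with
  | zero =>
    by_cases h : c 0 = 0
    · left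
      exact ⟨fun j hj => by rw [Nat.le_zero.mp hj]; exact h, by simp [Xp, h]⟩
    · right
      simp [Xp, natDegree_C_mul_X _ h]
  | succ i ih =>
    rcases ih with ⟨hall, hz⟩ | hdeg
    · by_cases h : c (i + 1) = 0
      · left
        refine ⟨fun j hj => ?_, by
          simp only [Xp, hz, h]
          rw [zero_pow (by omega)]
          simp⟩
        rcases Nat.of_le_succ hj with hj | rfl
        · exact hall j hj
        · exact h
      · right
        simp only [Xp, hz]
        rw [zero_pow (by omega), zero_add, natDegree_C_mul_X _ h]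
    · right
      have h1 : ((Xp q c i) ^ q).natDegree = q * (Xp q c i).natDegree := natDegree_pow _ _
      have h2 : (C (c (i + 1)) * X).natDegree ≤ 1 :=
        (natDegree_C_mul_le _ _).trans natDegree_X_le
      have h3 : (C (c (i + 1)) * X).natDegree < ((Xp q c i) ^ q).natDegree := by
        rw [h1]; nlinarith
      show 1 ≤ ((Xp q c i) ^ q + C (c (i + 1)) * X).natDegree
      rw [natDegree_add_eq_left_of_natDegree_lt h3, h1]
      nlinarith

variable [IsSepClosed k] (p : ℕ) [Fact p.Prime] [CharP k p]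

theorem exists_root_recursion (r : ℕ) (hr : 0 < r) (c : ℕ → k) (n : ℕ)
    (hc : ∃ j ≤ n, c j ≠ 0) :
    ∃ y : k, y ≠ 0 ∧ ∃ x : ℕ → k, x 0 = c 0 * y ∧
      (∀ i, x (i + 1) = (x i) ^ (p ^ r) + c (i + 1) * y) ∧ (x n) ^ (p ^ r) = y := by
  have hp := (Fact.out : p.Prime)
  obtain ⟨q, hq⟩ : ∃ q, q = p ^ r := ⟨_, rfl⟩
  rw [← hq]
  have hq2 : 2 ≤ q := by
    calc 2 ≤ p := hp.two_le
      _ = p ^ 1 := (pow_one p).symm
      _ ≤ p ^ r := Nat.pow_le_pow_right hp.pos hr
      _ = q := hq.symm
  have hqk : (q : k) = 0 := by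
    rw [hq]; push_cast; rw [CharP.cast_eq_zero k p, zero_pow hr.ne']
  have hdeg1 : 1 ≤ (Xp q c n).natDegree := by
    rcases Xp_invariant q hq2 c n with ⟨hall, _⟩ | h
    · obtain ⟨j, hj, hcj⟩ := hc
      exact absurd (hall j hj) hcj
    · exact h
  obtain ⟨P, hP⟩ : ∃ P : k[X], P = (Xp q c n) ^ q - X := ⟨_, rfl⟩
  have hPdeg : P.natDegree = q * (Xp q c n).natDegree := by
    have h1 : ((Xp q c n) ^ q).natDegree = q * (Xp q c n).natDegree := natDegree_pow _ _
    have h3 : (X : k[X]).natDegree < ((Xp q c n) ^ q).natDegree := by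
      rw [h1, natDegree_X]; nlinarith
    rw [hP, natDegree_sub_eq_left_of_natDegree_lt h3, h1]
  have hPder : derivative P = -1 := by
    rw [hP, derivative_sub, derivative_pow, derivative_X, hqk]
    simp
  have hPsep : P.Separable := by
    rw [separable_def, hPder]
    exact isCoprime_one_right.neg_right
  have hP0 : P.eval 0 = 0 := by
    rw [hP, eval_sub, eval_pow, Xp_eval_zero q (by omega) c n, zero_pow (by omega), eval_X,
      sub_zero]
  obtain ⟨Q, hQ⟩ : X ∣ P := by
    rw [X_dvd_iff, coeff_zero_eq_eval_zero]; exact hP0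
  have hQsep : Q.Separable := by
    rw [hQ] at hPsep; exact hPsep.of_mul_right
  have hQdeg : Q.degree ≠ 0 := by
    intro h0
    have hPne : P ≠ 0 := hPsep.ne_zero
    have hQne : Q ≠ 0 := by
      rintro rfl
      rw [mul_zero] at hQ; exact hPne hQ
    have h1 : P.natDegree = 1 + Q.natDegree := by
      rw [hQ, natDegree_mul X_ne_zero hQne, natDegree_X]
    have hQ0 : Q.natDegree = 0 := natDegree_eq_zero_iff_degree_le_zero.mpr h0.le
    rw [hPdeg, hQ0] at h1
    nlinarith
  obtain ⟨y, hy⟩ := IsSepClosed.exists_root Q hQdeg hQsep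
  have hy0 : y ≠ 0 := by
    rintro rfl
    have h1 : (derivative P).eval 0 = Q.eval 0 := by
      rw [hQ, derivative_mul, derivative_X]; simp
    rw [hPder, hy] at h1
    simp at h1
  refine ⟨y, hy0, fun i => (Xp q c i).eval y, ?_, ?_, ?_⟩
  · simp [Xp]
  · intro i; simp [Xp]
  · have h1 : P.eval y = 0 := by rw [hQ, eval_mul, hy, mul_zero]
    rw [hP] at h1
    simpa [sub_eq_zero] using h1

end Root

section Semilinear

variable {k : Type u} [Field k] (p : ℕ) [Fact p.Prime] [CharP k p] (r : ℕ)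
  {V : Type v} [AddCommGroup V] [Module k V]

lemma q_two_le (hr : 0 < r) : 2 ≤ p ^ r := by
  have hp := (Fact.out : p.Prime)
  calc 2 ≤ p := hp.two_le
    _ = p ^ 1 := (pow_one p).symm
    _ ≤ p ^ r := Nat.pow_le_pow_right hp.pos hr

lemma map_smul_pow (Φ : V →ₛₗ[iterateFrobenius k p r] V) (c : k) (v : V) :
    Φ (c • v) = c ^ (p ^ r) • Φ v := by
  rw [map_smulₛₗ, iterateFrobenius_def]

/-- Artin–Schreier roots. -/
lemma exists_as_root [IsSepClosed k] (hr : 0 < r) (a : k) :
    ∃ t : k, t ^ (p ^ r) - t + a = 0 := by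
  obtain ⟨t, ht⟩ := IsSepClosed.exists_root_C_mul_X_pow_add_C_mul_X_add_C' p (p ^ r) (1 : k) (-1) a
    (dvd_pow_self p hr.ne') (q_two_le p r hr) (by simp)
  exact ⟨t, by rw [← ht]; ring⟩

theorem exists_fixed [IsSepClosed k] [FiniteDimensional k V] (hr : 0 < r)
    (Φ : V →ₛₗ[iterateFrobenius k p r] V) (v : V) (hv : ∀ n, (⇑Φ)^[n] v ≠ 0) :
    ∃ w : V, w ≠ 0 ∧ Φ w = w := by
  classical
  have hex : ∃ m, ¬ LinearIndependent k (fun i : Fin (m + 1) => (⇑Φ)^[(i : ℕ)] v) := by
    refine ⟨Module.finrank k V, fun hli => ?_⟩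
    have := hli.fintype_card_le_finrank
    simp at this
  obtain ⟨m, hm, hmin⟩ : ∃ m, ¬ LinearIndependent k (fun i : Fin (m + 1) => (⇑Φ)^[(i : ℕ)] v) ∧
      ∀ j < m, LinearIndependent k (fun i : Fin (j + 1) => (⇑Φ)^[(i : ℕ)] v) :=
    ⟨Nat.find hex, Nat.find_spec hex, fun j hj => not_not.mp (Nat.find_min hex hj)⟩
  cases m with
  | zero =>
    exfalso
    apply hm
    change LinearIndependent k (fun i : Fin 1 => (⇑Φ)^[(i : ℕ)] v)
    rw [linearIndependent_unique_iff]
    simpa using hv 0
  | succ n =>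
    have hli := hmin n (Nat.lt_succ_self n)
    have hsnoc : (fun i : Fin (n + 1 + 1) => (⇑Φ)^[(i : ℕ)] v) =
        Fin.snoc (fun i : Fin (n + 1) => (⇑Φ)^[(i : ℕ)] v) ((⇑Φ)^[n + 1] v) := by
      ext i
      refine Fin.lastCases ?_ (fun j => ?_) i
      · simp
      · simp
    rw [hsnoc, linearIndependent_finSnoc] at hm
    have hmem : (⇑Φ)^[n + 1] v ∈
        Submodule.span k (Set.range (fun i : Fin (n + 1) => (⇑Φ)^[(i : ℕ)] v)) := by
      by_contra hnot
      exact hm ⟨hli, hnot⟩
    obtain ⟨c', hc'⟩ := (Submodule.mem_span_range_iff_exists_fun k).mp hmem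
    let c : ℕ → k := fun j => if h : j < n + 1 then c' ⟨j, h⟩ else 0
    have hcsum : (⇑Φ)^[n + 1] v = ∑ i ∈ Finset.range (n + 1), c i • (⇑Φ)^[i] v := by
      rw [← hc', ← Fin.sum_univ_eq_sum_range (fun i => c i • (⇑Φ)^[i] v) (n + 1)]
      refine Finset.sum_congr rfl (fun i _ => ?_)
      show c' i • _ = (if h : (i : ℕ) < n + 1 then c' ⟨i, h⟩ else 0) • _
      rw [dif_pos i.2]
    have hc : ∃ j ≤ n, c j ≠ 0 := by
      by_contra hall
      push Not at hall
      apply hv (n + 1)
      rw [hcsum]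
      refine Finset.sum_eq_zero (fun i hi => ?_)
      rw [hall i (by have := Finset.mem_range.mp hi; omega), zero_smul]
    obtain ⟨y, hy0, x, hx0, hxs, hxn⟩ := exists_root_recursion p r hr c n hc
    have hΦa : ∀ i, Φ ((⇑Φ)^[i] v) = (⇑Φ)^[i + 1] v := fun i =>
      (Function.iterate_succ_apply' _ _ _).symm
    refine ⟨∑ i ∈ Finset.range (n + 1), x i • (⇑Φ)^[i] v, ?_, ?_⟩
    · intro h0
      rw [← Fin.sum_univ_eq_sum_range (fun i => x i • (⇑Φ)^[i] v) (n + 1)] at h0
      have hz := Fintype.linearIndependent_iff.mp hli (fun i => x i) h0 (Fin.last n)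
      simp only [Fin.val_last] at hz
      rw [hz, zero_pow (by have := q_two_le p r hr; omega)] at hxn
      exact hy0 hxn.symm
    · rw [map_sum]
      simp only [map_smul_pow, hΦa]
      rw [Finset.sum_range_succ, hxn, hcsum,
        Finset.sum_range_succ' (fun i => c i • (⇑Φ)^[i] v),
        Finset.sum_range_succ' (fun i => x i • (⇑Φ)^[i] v)]
      simp only [hx0, hxs, add_smul, Finset.sum_add_distrib, smul_add, Finset.smul_sum, smul_smul,
        mul_comm y]
      abel

theorem injective_of_span_range_eq_top [FiniteDimensional k V]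
    (Φ : V →ₛₗ[iterateFrobenius k p r] V) (h : Submodule.span k (Set.range Φ) = ⊤) :
    Function.Injective Φ := by
  classical
  have hp := (Fact.out : p.Prime)
  let b := Module.finBasis k V
  have hspan : ⊤ ≤ Submodule.span k (Set.range (fun i => Φ (b i))) := by
    rw [← h, Submodule.span_le]
    rintro _ ⟨v, rfl⟩
    have hv : Φ v = Φ (∑ i, b.repr v i • b i) := by rw [b.sum_repr]
    rw [SetLike.mem_coe, hv, map_sum]
    refine Submodule.sum_mem _ (fun i _ => ?_)
    rw [map_smulₛₗ]
    exact Submodule.smul_mem _ _ (Submodule.subset_span ⟨i, rfl⟩)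
  have hli : LinearIndependent k (fun i => Φ (b i)) :=
    linearIndependent_of_top_le_span_of_card_eq_finrank hspan (by simp)
  rw [injective_iff_map_eq_zero]
  intro v hv
  have hv' : Φ (∑ i, b.repr v i • b i) = 0 := by rw [b.sum_repr]; exact hv
  rw [map_sum] at hv'
  simp only [map_smulₛₗ] at hv'
  have hz := Fintype.linearIndependent_iff.mp hli _ hv'
  have hz' : ∀ i, b.repr v i = 0 := fun i => by
    have := hz i
    rw [iterateFrobenius_def] at this
    exact (pow_eq_zero_iff (pow_ne_zero r hp.ne_zero)).mp this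
  rw [← b.sum_repr v]
  simp [hz']

lemma iterate_ne_zero_of_injective (Φ : V →ₛₗ[iterateFrobenius k p r] V)
    (hinj : Function.Injective Φ) (v : V) (hv : v ≠ 0) (n : ℕ) : (⇑Φ)^[n] v ≠ 0 := by
  induction n with
  | zero => simpa using hv
  | succ n ih =>
    rw [Function.iterate_succ_apply']
    intro h0
    exact ih (hinj (by rw [h0, map_zero]))

theorem span_fixed_eq_top [IsSepClosed k] [FiniteDimensional k V] (hr : 0 < r)
    (Φ : V →ₛₗ[iterateFrobenius k p r] V) (h : Submodule.span k (Set.range Φ) = ⊤) :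
    Submodule.span k {w : V | Φ w = w} = ⊤ := by
  classical
  by_contra hne
  obtain ⟨U, hU⟩ : ∃ U : Submodule k V, U = Submodule.span k {w : V | Φ w = w} := ⟨_, rfl⟩
  rw [← hU] at hne
  have hFU : ∀ w : V, Φ w = w → w ∈ U := fun w hw => by
    rw [hU]; exact Submodule.subset_span hw
  have hUstable : U ≤ U.comap Φ := by
    rw [hU, Submodule.span_le]
    intro w hw
    rw [SetLike.mem_coe, Submodule.mem_comap, Set.mem_ofPred_eq.mp hw]
    exact Submodule.subset_span hw
  let Ψ : (V ⧸ U) →ₛₗ[iterateFrobenius k p r] (V ⧸ U) := U.mapQ U Φ hUstable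
  have hΨ : ∀ v, Ψ (U.mkQ v) = U.mkQ (Φ v) := fun v => rfl
  have hΨspan : Submodule.span k (Set.range Ψ) = ⊤ := by
    have h1 : Submodule.map U.mkQ (Submodule.span k (Set.range Φ)) ≤
        Submodule.span k (Set.range Ψ) := by
      rw [Submodule.map_span]
      apply Submodule.span_mono
      rintro _ ⟨_, ⟨v, rfl⟩, rfl⟩
      exact ⟨U.mkQ v, hΨ v⟩
    rw [h, Submodule.map_top, Submodule.range_mkQ] at h1
    exact top_le_iff.mp h1
  have : Nontrivial (V ⧸ U) := Submodule.Quotient.nontrivial_iff.mpr hne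
  obtain ⟨x0, hx0⟩ := exists_ne (0 : V ⧸ U)
  have hinj := injective_of_span_range_eq_top p r Ψ hΨspan
  obtain ⟨wbar, hwbar0, hwbar⟩ := exists_fixed p r hr Ψ x0
    (iterate_ne_zero_of_injective p r Ψ hinj x0 hx0)
  obtain ⟨w, rfl⟩ := U.mkQ_surjective wbar
  have hwU : w ∉ U := by
    intro hw
    apply hwbar0
    exact (Submodule.Quotient.mk_eq_zero U).mpr hw
  have hdiff : Φ w - w ∈ U := by
    rw [hΨ] at hwbar
    exact (Submodule.Quotient.eq U).mp hwbar
  rw [hU] at hdiff
  obtain ⟨c, hc, hsum⟩ := Submodule.mem_span_set.mp hdiff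
  choose t ht using exists_as_root (k := k) p r hr
  have hfixsupp : ∀ u ∈ c.support, Φ u = u := fun u hu => hc (Finset.mem_coe.mpr hu)
  have hw' : Φ (w + ∑ u ∈ c.support, t (c u) • u) = w + ∑ u ∈ c.support, t (c u) • u := by
    rw [map_add, map_sum]
    have h1 : ∑ u ∈ c.support, Φ (t (c u) • u) = ∑ u ∈ c.support, (t (c u)) ^ (p ^ r) • u :=
      Finset.sum_congr rfl (fun u hu => by rw [map_smul_pow, hfixsupp u hu])
    rw [h1]
    have h2 : Φ w = w + ∑ u ∈ c.support, c u • u := by
      have : (c.sum fun mi r => r • mi) = ∑ u ∈ c.support, c u • u := rfl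
      rw [← this, hsum]; abel
    rw [h2, add_assoc, ← Finset.sum_add_distrib]
    congr 1
    refine Finset.sum_congr rfl (fun u _ => ?_)
    rw [← add_smul]
    congr 1
    have := ht (c u)
    linear_combination this
  apply hwU
  have h3 : w = (w + ∑ u ∈ c.support, t (c u) • u) - ∑ u ∈ c.support, t (c u) • u := by abel
  rw [h3]
  refine U.sub_mem (hFU _ hw') (U.sum_mem (fun u hu => U.smul_mem _ (hFU u (hfixsupp u hu))))

theorem exists_fixed_basis [IsSepClosed k] [FiniteDimensional k V] (hr : 0 < r)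
    (Φ : V →ₛₗ[iterateFrobenius k p r] V) (h : Submodule.span k (Set.range Φ) = ⊤) :
    ∃ b : Module.Basis (Fin (Module.finrank k V)) k V, ∀ i, Φ (b i) = b i := by
  classical
  have hfix := span_fixed_eq_top p r hr Φ h
  obtain ⟨s, hsF, hspan, hli⟩ := exists_linearIndependent k {w : V | Φ w = w}
  have hs_top : ⊤ ≤ Submodule.span k (Set.range (Subtype.val : s → V)) := by
    rw [Subtype.range_coe, hspan, hfix]
  let b0 : Module.Basis s k V := Module.Basis.mk hli hs_top
  have : Fintype s := FiniteDimensional.fintypeBasisIndex b0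
  have hcard : Fintype.card s = Module.finrank k V := (Module.finrank_eq_card_basis b0).symm
  let e : s ≃ Fin (Module.finrank k V) := Fintype.equivFinOfCardEq hcard
  refine ⟨b0.reindex e, fun i => ?_⟩
  rw [Module.Basis.reindex_apply, Module.Basis.mk_apply]
  exact hsF (e.symm i).2

theorem repr_pow_of_fixed {ι : Type*} [Fintype ι] (Φ : V →ₛₗ[iterateFrobenius k p r] V)
    (b : Module.Basis ι k V) (hb : ∀ i, Φ (b i) = b i) (v : V) (hv : Φ v = v) (i : ι) :
    (b.repr v i) ^ (p ^ r) = b.repr v i := by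
  classical
  have h1 : Φ v = ∑ j, (b.repr v j) ^ (p ^ r) • b j := by
    conv_lhs => rw [← b.sum_repr v]
    rw [map_sum]
    refine Finset.sum_congr rfl (fun j _ => ?_)
    rw [map_smul_pow, hb]
  rw [hv] at h1
  have h2 := congrArg (fun u => b.repr u i) h1
  simp only [Module.Basis.repr_sum_self] at h2
  exact h2.symm

theorem sub_surjective [IsSepClosed k] (hr : 0 < r) :
    ∀ (n : ℕ) (V : Type v) [AddCommGroup V] [Module k V] [FiniteDimensional k V]
      (Φ : V →ₛₗ[iterateFrobenius k p r] V), Module.finrank k V = n →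
      Function.Surjective (fun v : V => v - Φ v) := by
  intro n
  induction n using Nat.strong_induction_on with
  | _ n ih =>
    intro V _ _ _ Φ hn b
    by_cases hW : Submodule.span k (Set.range Φ) = ⊤
    · have hfix := span_fixed_eq_top p r hr Φ hW
      have hb : b ∈ Submodule.span k {w : V | Φ w = w} := by rw [hfix]; trivial
      obtain ⟨c, hc, hsum⟩ := Submodule.mem_span_set.mp hb
      choose t ht using exists_as_root (k := k) p r hr
      have hfixsupp : ∀ u ∈ c.support, Φ u = u := fun u hu => hc (Finset.mem_coe.mpr hu)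
      refine ⟨∑ u ∈ c.support, t (c u) • u, ?_⟩
      show (∑ u ∈ c.support, t (c u) • u) - Φ (∑ u ∈ c.support, t (c u) • u) = b
      rw [map_sum]
      have h1 : ∑ u ∈ c.support, Φ (t (c u) • u) =
          ∑ u ∈ c.support, (t (c u)) ^ (p ^ r) • u :=
        Finset.sum_congr rfl (fun u hu => by rw [map_smul_pow, hfixsupp u hu])
      rw [h1, ← Finset.sum_sub_distrib, ← hsum]
      show _ = ∑ u ∈ c.support, c u • u
      refine Finset.sum_congr rfl (fun u _ => ?_)
      rw [← sub_smul]
      congr 1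
      have := ht (c u)
      linear_combination (-1 : k) * this
    · have hlt : Module.finrank k (Submodule.span k (Set.range Φ)) < n :=
        hn ▸ Submodule.finrank_lt hW
      let W := Submodule.span k (Set.range Φ)
      let ΦW : W →ₛₗ[iterateFrobenius k p r] W :=
        (Φ.domRestrict W).codRestrict W (fun x => Submodule.subset_span ⟨x, rfl⟩)
      obtain ⟨u', hu'⟩ := ih _ hlt W ΦW rfl ⟨Φ b, Submodule.subset_span ⟨b, rfl⟩⟩
      refine ⟨b + u', ?_⟩
      have h1 : (u' : V) - Φ u' = Φ b := congrArg Subtype.val hu'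
      show b + u' - Φ (b + u') = b
      rw [map_add, ← h1]
      abel

lemma iterate_sum_smul {ι : Type*} (Φ : V →ₛₗ[iterateFrobenius k p r] V) (n : ℕ)
    (s : Finset ι) (c : ι → k) (w : ι → V) :
    (⇑Φ)^[n] (∑ i ∈ s, c i • w i) = ∑ i ∈ s, (c i) ^ ((p ^ r) ^ n) • (⇑Φ)^[n] (w i) := by
  induction n with
  | zero => simp
  | succ n ih =>
    rw [Function.iterate_succ_apply', ih, map_sum]
    refine Finset.sum_congr rfl (fun i _ => ?_)
    rw [map_smul_pow, ← pow_mul, ← pow_succ, Function.iterate_succ_apply']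

end Semilinear

end Groth.Agent.Helper8.QLinear
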