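import Mathlib
import Groth.Agent.Lib.Helper8.TwoIdealComplete

/-!
# Quotients of precomplete modules are precomplete; quotients of complete Noetherian rings
-/

set_option autoImplicit false

universe u v w

namespace Groth.Agent.Helper8.QuotComplete

open Groth.Agent.Helper8.TwoIdealComplete

/-- The image of a precomplete module under a surjective linear map is precomplete. -/
theorem precomplete_image {A : Type u} [CommRing A] (J : Ideal A) {M : Type v} {P : Type w}
    [AddCommGroup M] [Module A M] [AddCommGroup P] [Module A P] (g : M →ₗ[A] P)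
    (hg : Function.Surjective g) [IsPrecomplete J M] : IsPrecomplete J P := by
  apply precomplete_of_succ
  intro f hf
  have hδ : ∀ n, ∃ δ : M, δ ∈ (J ^ n • ⊤ : Submodule A M) ∧ g δ = f (n + 1) - f n := by
    intro n
    have h1 := hf n
    have h2 : (J ^ n • ⊤ : Submodule A P) = Submodule.map g (J ^ n • ⊤ : Submodule A M) := by
      rw [Submodule.map_smul'', Submodule.map_top, LinearMap.range_eq_top.mpr hg]
    rw [h2] at h1
    obtain ⟨δ, hδ, hδe⟩ := h1
    exact ⟨δ, hδ, hδe⟩
  choose δ hδ1 hδ2 using hδ
  obtain ⟨m0, hm0⟩ := hg (f 0)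
  let F : ℕ → M := fun n => m0 + ∑ i ∈ Finset.range n, δ i
  have hF : ∀ n, g (F n) = f n := by
    intro n
    simp only [F, map_add, map_sum, hδ2, hm0]
    rw [Finset.sum_range_sub]; abel
  have hF2 : ∀ n, F (n + 1) - F n ∈ (J ^ n • ⊤ : Submodule A M) := by
    intro n
    have : F (n + 1) - F n = δ n := by
      simp only [F, Finset.sum_range_succ]; abel
    rw [this]; exact hδ1 n
  obtain ⟨L, hL⟩ := exists_limit J F hF2
  refine ⟨g L, fun n => ?_⟩
  rw [← hF n, ← map_sub]
  exact map_mem_pow_smul_top J g n (hL n)

/-- A quotient of a Noetherian adically complete ring is adically complete (as a module). -/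
theorem isAdicComplete_quotient {B : Type v} [CommRing B] [IsNoetherianRing B] (K : Ideal B)
    [IsAdicComplete K B] (J : Ideal B) : IsAdicComplete K (B ⧸ J) := by
  haveI : IsHausdorff K (B ⧸ J) :=
    IsHausdorff.of_le_jacobson K (B ⧸ J) (IsAdicComplete.le_jacobson_bot K)
  haveI : IsPrecomplete K (B ⧸ J) :=
    precomplete_image K (Ideal.Quotient.mkₐ B J).toLinearMap Ideal.Quotient.mk_surjective
  exact {}

end Groth.Agent.Helper8.QuotComplete
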