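import Mathlib

set_option linter.style.haveILetI false

/-!
# Relative finite presentation: change of presentation and base change (helper8)
-/

namespace Groth.Agent.Helper8.RelFP

open TensorProduct

universe u

theorem fp_restrict {S T : Type*} [CommRing S] [CommRing T] (φ : S →+* T)
    (hφ : Function.Surjective φ) (N : Type*) [AddCommGroup N] [Module S N] [Module T N]
    (hc : ∀ (s : S) (n : N), s • n = φ s • n) (hK : (RingHom.ker φ).FG)
    [Module.FinitePresentation T N] : Module.FinitePresentation S N := by
  letI : Algebra S T := φ.toAlgebra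
  haveI : IsScalarTower S T N := IsScalarTower.of_algebraMap_smul (fun r x => (hc r x).symm)
  haveI : Module.FinitePresentation S T := by
    refine Module.finitePresentation_of_surjective (Algebra.linearMap S T) hφ ?_
    have h : LinearMap.ker (Algebra.linearMap S T) = RingHom.ker φ := by
      ext x
      simp only [LinearMap.mem_ker, Algebra.linearMap_apply, RingHom.mem_ker]
      exact Iff.rfl
    rw [h]
    exact hK
  exact Module.FinitePresentation.trans S N T

theorem fp_descend {S T : Type*} [CommRing S] [CommRing T] (φ : S →+* T)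
    (hφ : Function.Surjective φ) (N : Type*) [AddCommGroup N] [Module S N] [Module T N]
    (hc : ∀ (s : S) (n : N), s • n = φ s • n)
    [Module.FinitePresentation S N] : Module.FinitePresentation T N := by
  letI : Algebra S T := φ.toAlgebra
  haveI : IsScalarTower S T N := IsScalarTower.of_algebraMap_smul (fun r x => (hc r x).symm)
  have h : IsBaseChange T (LinearMap.id : N →ₗ[S] N) := by
    apply IsBaseChange.of_lift_unique
    intro Q _ _ _ _ g
    refine ⟨{ toFun := g, map_add' := g.map_add, map_smul' := ?_ }, ?_, ?_⟩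
    · intro t n
      obtain ⟨s, rfl⟩ := hφ t
      simp only [RingHom.id_apply]
      rw [← hc s n, g.map_smul]
      exact (algebraMap_smul T s (g n)).symm
    · ext n; rfl
    · intro g' hg'
      ext n
      exact LinearMap.congr_fun hg' n
  exact FinitePresentation.of_isBaseChange _ h

theorem fp_change_pres {B T : Type*} [CommRing B] [CommRing T] [Algebra B T] {n k : ℕ}
    (a : MvPolynomial (Fin n) B →ₐ[B] T) (ha : Function.Surjective a)
    (b : MvPolynomial (Fin k) B →ₐ[B] T) (hb : Function.Surjective b)
    (N : Type*) [AddCommGroup N] [Module T N] [Module (MvPolynomial (Fin n) B) N]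
    (hc : ∀ (s : MvPolynomial (Fin n) B) (x : N), s • x = a s • x)
    [Module.FinitePresentation (MvPolynomial (Fin n) B) N] :
    @Module.FinitePresentation (MvPolynomial (Fin k) B) N _ _ (Module.compHom N b.toRingHom) := by
  choose g hg using fun j : Fin k => ha (b (MvPolynomial.X j))
  choose h hh using fun i : Fin n => hb (a (MvPolynomial.X i))
  let p₁ : MvPolynomial (Fin n ⊕ Fin k) B →ₐ[B] MvPolynomial (Fin n) B :=
    MvPolynomial.aeval (Sum.elim MvPolynomial.X g)
  let p₂ : MvPolynomial (Fin n ⊕ Fin k) B →ₐ[B] MvPolynomial (Fin k) B :=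
    MvPolynomial.aeval (Sum.elim h MvPolynomial.X)
  have hp₁ : Function.Surjective p₁ := by
    intro q
    refine ⟨MvPolynomial.rename Sum.inl q, ?_⟩
    simp only [p₁, MvPolynomial.aeval_rename, Sum.elim_comp_inl, MvPolynomial.aeval_X_left_apply]
  have hp₂ : Function.Surjective p₂ := by
    intro q
    refine ⟨MvPolynomial.rename Sum.inr q, ?_⟩
    simp only [p₂, MvPolynomial.aeval_rename, Sum.elim_comp_inr, MvPolynomial.aeval_X_left_apply]
  have hcomp : a.comp p₁ = b.comp p₂ := by
    apply MvPolynomial.algHom_ext
    rintro (i | j)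
    · simp [p₁, p₂, hh]
    · simp [p₁, p₂, hg]
  have hK : (RingHom.ker p₁.toRingHom).FG :=
    Algebra.FinitePresentation.ker_fG_of_surjective p₁ hp₁
  letI m3 : Module (MvPolynomial (Fin n ⊕ Fin k) B) N :=
    Module.compHom N (a.comp p₁).toRingHom
  haveI : Module.FinitePresentation (MvPolynomial (Fin n ⊕ Fin k) B) N :=
    fp_restrict p₁.toRingHom hp₁ N (fun s x => (hc (p₁ s) x).symm) hK
  letI m2 : Module (MvPolynomial (Fin k) B) N := Module.compHom N b.toRingHom
  exact fp_descend p₂.toRingHom hp₂ N (fun s x => by
    show (a.comp p₁) s • x = (b.comp p₂) s • x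
    rw [hcomp])

attribute [local instance] MvPolynomial.algebraMvPolynomial

theorem main {R A R' A' : Type u} [CommRing R] [CommRing A] [CommRing R'] [CommRing A']
    [Algebra R A] [Algebra R R'] [Algebra A A'] [Algebra R' A'] [Algebra R A']
    [IsScalarTower R A A'] [IsScalarTower R R' A']
    [Algebra.IsPushout R A R' A'] (M : Type u) [AddCommGroup M] [Module A M] {n k : ℕ}
    (α : MvPolynomial (Fin n) R →ₐ[R] A) (hα : Function.Surjective α)
    (hM : @Module.FinitePresentation (MvPolynomial (Fin n) R) M _ _
      (Module.compHom M α.toRingHom))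
    (γ : MvPolynomial (Fin k) R' →ₐ[R'] A') (hγ : Function.Surjective γ) :
    @Module.FinitePresentation (MvPolynomial (Fin k) R') (TensorProduct A A' M) _ _
      (Module.compHom (TensorProduct A A' M) γ.toRingHom) := by
  let α' : MvPolynomial (Fin n) R' →ₐ[R'] A' :=
    MvPolynomial.aeval (fun i => algebraMap A A' (α (MvPolynomial.X i)))
  have hαα' : ∀ q : MvPolynomial (Fin n) R,
      α' (MvPolynomial.map (algebraMap R R') q) = algebraMap A A' (α q) := by
    intro q
    show MvPolynomial.aeval _ (MvPolynomial.map (algebraMap R R') q) = _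
    rw [MvPolynomial.aeval_map_algebraMap]
    have h1 := MvPolynomial.aeval_unique ((IsScalarTower.toAlgHom R A A').comp α)
    have h2 : algebraMap A A' (α q) = ((IsScalarTower.toAlgHom R A A').comp α) q := rfl
    rw [h2, h1]
    rfl
  have hα' : Function.Surjective α' := by
    intro y
    have hpo : IsBaseChange R' (IsScalarTower.toAlgHom R A A').toLinearMap :=
      (Algebra.IsPushout.symm (inferInstance : Algebra.IsPushout R A R' A')).out
    refine hpo.inductionOn y (fun y => y ∈ Set.range α') ⟨0, map_zero _⟩ ?_ ?_ ?_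
    · intro a
      obtain ⟨q, rfl⟩ := hα a
      exact ⟨MvPolynomial.map (algebraMap R R') q, hαα' q⟩
    · rintro s _ ⟨q, rfl⟩
      exact ⟨s • q, map_smul α' s q⟩
    · rintro _ _ ⟨q₁, rfl⟩ ⟨q₂, rfl⟩
      exact ⟨q₁ + q₂, map_add α' q₁ q₂⟩
  letI iPA : Algebra (MvPolynomial (Fin n) R) A := α.toRingHom.toAlgebra
  letI iP''A' : Algebra (MvPolynomial (Fin n) R') A' := α'.toRingHom.toAlgebra
  letI iPA' : Algebra (MvPolynomial (Fin n) R) A' :=
    ((algebraMap A A').comp α.toRingHom).toAlgebra
  haveI t1 : IsScalarTower R (MvPolynomial (Fin n) R) A :=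
    IsScalarTower.of_algebraMap_eq (fun r => (α.commutes r).symm)
  haveI t2 : IsScalarTower (MvPolynomial (Fin n) R) A A' :=
    IsScalarTower.of_algebraMap_eq (fun x => rfl)
  haveI t3 : IsScalarTower (MvPolynomial (Fin n) R) (MvPolynomial (Fin n) R') A' :=
    IsScalarTower.of_algebraMap_eq (fun q => (hαα' q).symm)
  haveI t4 : IsScalarTower R' (MvPolynomial (Fin n) R') A' :=
    IsScalarTower.of_algebraMap_eq (fun r => (α'.commutes r).symm)
  haveI t5 : IsScalarTower R (MvPolynomial (Fin n) R') A' :=
    IsScalarTower.of_algebraMap_eq (fun r => by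
      rw [IsScalarTower.algebraMap_apply R R' A',
        IsScalarTower.algebraMap_apply R R' (MvPolynomial (Fin n) R')]
      exact (α'.commutes _).symm)
  haveI po : Algebra.IsPushout (MvPolynomial (Fin n) R) A (MvPolynomial (Fin n) R') A' :=
    (Algebra.IsPushout.comp_iff R (MvPolynomial (Fin n) R) R' (MvPolynomial (Fin n) R')).mp inferInstance
  haveI po' : Algebra.IsPushout (MvPolynomial (Fin n) R) (MvPolynomial (Fin n) R') A A' :=
    po.symm
  letI mP : Module (MvPolynomial (Fin n) R) M := Module.compHom M α.toRingHom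
  haveI t6 : IsScalarTower (MvPolynomial (Fin n) R) A M :=
    ⟨fun p a m => by
      show (α p * a) • m = α p • (a • m)
      exact mul_smul _ _ _⟩
  haveI : Module.FinitePresentation (MvPolynomial (Fin n) R) M := hM
  let e := Algebra.IsPushout.cancelBaseChange (MvPolynomial (Fin n) R)
    (MvPolynomial (Fin n) R') A A' M
  haveI : Module.FinitePresentation (MvPolynomial (Fin n) R') (A' ⊗[A] M) :=
    Module.FinitePresentation.of_equiv e.symm
  have hc : ∀ (s : MvPolynomial (Fin n) R') (x : A' ⊗[A] M), s • x = α' s • x := by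
    intro s x
    induction x using TensorProduct.induction_on with
    | zero => rw [smul_zero, smul_zero]
    | tmul a' m =>
      rw [TensorProduct.smul_tmul', TensorProduct.smul_tmul']
      rfl
    | add x y hx hy => rw [smul_add, smul_add, hx, hy]
  exact fp_change_pres α' hα' γ hγ (A' ⊗[A] M) hc

end Groth.Agent.Helper8.RelFP
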