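import Mathlib
import Groth.Agent.Lib.Helper8.LatDist

set_option linter.style.haveILetI false
set_option linter.unusedSectionVars false
set_option linter.unusedVariables false

namespace Groth.Agent.Helper8.SemiDet

open Groth.Agent.Helper8.LatDist

section L

variable {B : Type*} [CommRing B] [IsDomain B] [IsDiscreteValuationRing B]

theorem length_top : Module.length B B = ⊤ := by
  have h := Ring.ord_eq_addVal (0 : B)
  rw [Ring.ord_zero, AddValuation.map_zero] at h
  exact h

theorem length_quot_of_det_eq_zero {r : ℕ} (A : Matrix (Fin r) (Fin r) B) (h : A.det = 0) :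
    Module.length B ((Fin r → B) ⧸ LinearMap.range (Matrix.toLin' A)) = ⊤ := by
  classical
  obtain ⟨w, hw, hwA⟩ := Matrix.exists_vecMul_eq_zero_iff.2 h
  obtain ⟨j, hj⟩ : ∃ j, w j ≠ 0 := by
    by_contra hcon
    push Not at hcon
    exact hw (funext hcon)
  obtain ⟨g, hgdef⟩ : ∃ g : B →ₗ[B] ((Fin r → B) ⧸ LinearMap.range (Matrix.toLin' A)),
      g = (LinearMap.range (Matrix.toLin' A)).mkQ ∘ₗ (LinearMap.single B (fun _ => B) j) :=
    ⟨_, rfl⟩
  have hg : Function.Injective g := by
    rw [← LinearMap.ker_eq_bot, LinearMap.ker_eq_bot']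
    intro b hb
    have hb' : (Pi.single j b : Fin r → B) ∈ LinearMap.range (Matrix.toLin' A) := by
      have h0 : (LinearMap.range (Matrix.toLin' A)).mkQ (Pi.single j b) = 0 := by
        rw [hgdef] at hb; exact hb
      rwa [Submodule.mkQ_apply, Submodule.Quotient.mk_eq_zero] at h0
    obtain ⟨x, hx⟩ := hb'
    have h1 : w ⬝ᵥ (Pi.single j b) = 0 := by
      rw [← hx, Matrix.toLin'_apply, Matrix.dotProduct_mulVec, hwA, zero_dotProduct]
    have h2 : w j * b = 0 := by
      rw [← h1]; simp [dotProduct, Pi.single_apply]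
    exact (mul_eq_zero.1 h2).resolve_left hj
  have h3 := Module.length_le_of_injective g hg
  rw [length_top] at h3
  exact top_le_iff.1 h3

theorem length_quot_of_det_ne_zero {r : ℕ} (A : Matrix (Fin r) (Fin r) B) (h : A.det ≠ 0) :
    Module.length B ((Fin r → B) ⧸ LinearMap.range (Matrix.toLin' A)) = Ring.ord B A.det := by
  classical
  obtain ⟨N, hN⟩ : ∃ N : Matrix (Fin r) (Fin r) (FractionRing B),
      N = A.map (algebraMap B (FractionRing B)) := ⟨_, rfl⟩
  have hdetN : N.det = algebraMap B (FractionRing B) A.det := by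
    rw [hN]; exact ((algebraMap B (FractionRing B)).map_det A).symm
  have hdet : N.det ≠ 0 := by
    rw [hdetN, Ne, map_eq_zero_iff _ (IsFractionRing.injective B (FractionRing B))]; exact h
  have h3 := chiM_eq (A := B) N hdet
  unfold chiM chi at h3
  have hcomm : ∀ x : Fin r → B, Matrix.toLin' N (iota B (FractionRing B) r x) =
      iota B (FractionRing B) r (Matrix.toLin' A x) := by
    intro x
    funext a
    rw [Matrix.toLin'_apply, iota_apply, Matrix.toLin'_apply, hN]
    simp [Matrix.mulVec, dotProduct, iota_apply, map_sum, map_mul]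
  have key : (M0 B (FractionRing B) r).map ((Matrix.toLin' N).restrictScalars B) =
      (LinearMap.range (Matrix.toLin' A)).map (iota B (FractionRing B) r) := by
    ext v
    constructor
    · rintro ⟨_, ⟨x, rfl⟩, rfl⟩
      exact ⟨Matrix.toLin' A x, ⟨x, rfl⟩, (hcomm x).symm⟩
    · rintro ⟨_, ⟨x, rfl⟩, rfl⟩
      exact ⟨iota B (FractionRing B) r x, ⟨x, rfl⟩, hcomm x⟩
  have hle : (LinearMap.range (Matrix.toLin' A)).map (iota B (FractionRing B) r) ≤
      M0 B (FractionRing B) r := LinearMap.map_le_range
  have hq : qlen ((LinearMap.range (Matrix.toLin' A)).map (iota B (FractionRing B) r))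
      (M0 B (FractionRing B) r) =
      Module.length B ((Fin r → B) ⧸ LinearMap.range (Matrix.toLin' A)) := by
    have e0 : M0 B (FractionRing B) r =
        (⊤ : Submodule B (Fin r → B)).map (iota B (FractionRing B) r) := by
      unfold M0; exact LinearMap.range_eq_map _
    rw [e0, qlen_map (iota B (FractionRing B) r) iota_injective, qlen_top]
  have hfin : Module.length B ((Fin r → B) ⧸ LinearMap.range (Matrix.toLin' A)) ≠ ⊤ := by
    rw [← hq, ← key]
    exact (qlen_lt_top (FractionRing B)
      (lat_map lat_M0 (Matrix.toLin' N) (toLin'_bijective N hdet).2).2 lat_M0.1).ne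
  rw [key, dist_of_le hle, hq, hdetN, ordFrac_algebraMap B (FractionRing B) h] at h3
  have hnz : A.det ∈ nonZeroDivisors B := mem_nonZeroDivisors_of_ne_zero h
  have hfin2 : Ring.ord B A.det ≠ ⊤ := Ring.ord_ne_top hnz
  have h4 : Ring.ord B A.det = Module.length B (B ⧸ Ideal.span {A.det}) := rfl
  rw [← ENat.natCast_toNat hfin, ← ENat.natCast_toNat hfin2, h4]
  congr 1
  exact_mod_cast h3

theorem length_quot_toLin' {r : ℕ} (A : Matrix (Fin r) (Fin r) B) :
    Module.length B ((Fin r → B) ⧸ LinearMap.range (Matrix.toLin' A)) =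
      IsDiscreteValuationRing.addVal B A.det := by
  by_cases h : A.det = 0
  · rw [length_quot_of_det_eq_zero A h, h, AddValuation.map_zero]
  · rw [length_quot_of_det_ne_zero A h, Ring.ord_eq_addVal]

theorem addVal_prod {ι : Type*} (s : Finset ι) (f : ι → B) :
    IsDiscreteValuationRing.addVal B (∏ i ∈ s, f i) =
      ∑ i ∈ s, IsDiscreteValuationRing.addVal B (f i) := by
  classical
  induction s using Finset.induction_on with
  | empty => simp
  | insert a s ha ih => rw [Finset.prod_insert ha, Finset.sum_insert ha, AddValuation.map_mul, ih]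

end L

section block

variable {B : Type*} [CommRing B] [IsDomain B] [IsDiscreteValuationRing B] (ω : B ≃+* B) {r : ℕ}
  {M N : Type*} [AddCommGroup M] [Module B M] [AddCommGroup N] [Module B N]
  (bM : Module.Basis (Fin r) B M) (bN : Module.Basis (Fin r) B N)
  (χ : M →+ N) (hχ : ∀ (b : B) (x : M), χ (b • x) = ω b • χ x)

include hχ in
theorem chi_expand (m : M) : χ m = ∑ c, ω (bM.repr m c) • χ (bM c) := by
  conv_lhs => rw [← bM.sum_repr m]
  rw [map_sum]
  exact Finset.sum_congr rfl fun c _ => hχ _ _

include hχ in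
theorem map_span_eq :
    (Submodule.span B (Set.range χ)).map (bN.equivFun : N →ₗ[B] (Fin r → B)) =
      LinearMap.range (Matrix.toLin' (Matrix.of fun (a c : Fin r) => bN.repr (χ (bM c)) a)) := by
  apply le_antisymm
  · rw [Submodule.map_le_iff_le_comap, Submodule.span_le]
    rintro _ ⟨m, rfl⟩
    refine ⟨fun c => ω (bM.repr m c), ?_⟩
    funext a
    rw [Matrix.toLin'_apply]
    change _ = bN.equivFun (χ m) a
    rw [chi_expand ω bM χ hχ m, map_sum, Finset.sum_apply]
    simp only [map_smul, Pi.smul_apply, smul_eq_mul, Module.Basis.equivFun_apply, Matrix.mulVec,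
      dotProduct, Matrix.of_apply]
    exact Finset.sum_congr rfl fun c _ => mul_comm _ _
  · rintro _ ⟨y, rfl⟩
    refine ⟨∑ c, y c • χ (bM c), ?_, ?_⟩
    · exact Submodule.sum_mem _ fun c _ =>
        Submodule.smul_mem _ _ (Submodule.subset_span ⟨_, rfl⟩)
    · funext a
      rw [Matrix.toLin'_apply]
      change bN.equivFun (∑ c, y c • χ (bM c)) a = _
      rw [map_sum, Finset.sum_apply]
      simp only [map_smul, Pi.smul_apply, smul_eq_mul, Module.Basis.equivFun_apply, Matrix.mulVec,
        dotProduct, Matrix.of_apply]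
      exact Finset.sum_congr rfl fun c _ => mul_comm _ _

include hχ in
theorem block_length :
    Module.length B (N ⧸ Submodule.span B (Set.range χ)) =
      IsDiscreteValuationRing.addVal B
        (Matrix.det (Matrix.of fun (a c : Fin r) => bN.repr (χ (bM c)) a)) := by
  rw [← length_quot_toLin', ← map_span_eq ω bM bN χ hχ]
  exact (Submodule.Quotient.equiv (Submodule.span B (Set.range χ)) _ bN.equivFun rfl).length_eq

end block

section main

universe u v

theorem main {B : Type u} [CommRing B] [IsDomain B]
    [IsDiscreteValuationRing B] (ω : B ≃+* B) {n : ℕ} (r : Fin n → ℕ)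
    (M N : Fin n → Type v) [∀ i, AddCommGroup (M i)] [∀ i, Module B (M i)]
    [∀ i, AddCommGroup (N i)] [∀ i, Module B (N i)]
    (bM : ∀ i, Module.Basis (Fin (r i)) B (M i)) (bN : ∀ i, Module.Basis (Fin (r i)) B (N i))
    (χ : ∀ i, M i →+ N i) (hχ : ∀ i (b : B) (x : M i), χ i (b • x) = ω b • χ i x) :
    Module.length B ((∀ i, N i) ⧸ Submodule.span B
      (Set.range (fun (x : ∀ i, M i) (i : Fin n) => χ i (x i)))) =
      IsDiscreteValuationRing.addVal B (∏ i, Matrix.det
        (Matrix.of fun (a c : Fin (r i)) => (bN i).repr (χ i (bM i c)) a)) := by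
  classical
  have hS : Submodule.span B (Set.range (fun (x : ∀ i, M i) (i : Fin n) => χ i (x i))) =
      Submodule.pi Set.univ (fun i => Submodule.span B (Set.range (χ i))) := by
    apply le_antisymm
    · rw [Submodule.span_le]
      rintro _ ⟨x, rfl⟩
      rw [SetLike.mem_coe, Submodule.mem_pi]
      intro i _
      exact Submodule.subset_span ⟨x i, rfl⟩
    · intro y hy
      rw [Submodule.mem_pi] at hy
      have hy' : y = ∑ i, Pi.single i (y i) := by
        funext j
        rw [Finset.sum_apply]
        simp
      rw [hy']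
      refine Submodule.sum_mem _ fun i _ => ?_
      have hi := hy i (Set.mem_univ i)
      have hle : Submodule.span B (Set.range (χ i)) ≤
          Submodule.comap (LinearMap.single B N i) (Submodule.span B
            (Set.range (fun (x : ∀ i, M i) (i : Fin n) => χ i (x i)))) := by
        rw [Submodule.span_le]
        rintro _ ⟨m, rfl⟩
        rw [SetLike.mem_coe, Submodule.mem_comap]
        refine Submodule.subset_span ⟨Pi.single i m, ?_⟩
        change (fun (j : Fin n) => χ j ((Pi.single i m : ∀ j, M j) j)) =
          (Pi.single i (χ i m) : ∀ j, N j)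
        funext j
        by_cases hji : j = i
        · subst hji; simp
        · rw [Pi.single_eq_of_ne hji, Pi.single_eq_of_ne hji, map_zero]
      exact hle hi
  rw [hS, (Submodule.quotientPi _).length_eq, Module.length_pi_of_fintype, addVal_prod]
  exact Finset.sum_congr rfl fun i _ => block_length ω (bM i) (bN i) (χ i) (hχ i)

end main

end Groth.Agent.Helper8.SemiDet
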