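import Mathlib

/-!
Helper lemmas on semilinear endomorphisms of finite-dimensional vector spaces (helper8).
-/

namespace Groth.Agent.Helper8.SigmaLin

universe u v

variable {k : Type u} [Field k] {σ : k →+* k} {V : Type v} [AddCommGroup V] [Module k V]

theorem iterate_smul (T : V →ₛₗ[σ] V) (n : ℕ) (c : k) (v : V) :
    (⇑T)^[n] (c • v) = (⇑σ)^[n] c • (⇑T)^[n] v := by
  induction n generalizing c v with
  | zero => simp
  | succ n ih =>
    rw [Function.iterate_succ_apply, Function.iterate_succ_apply, Function.iterate_succ_apply,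
      LinearMap.map_smulₛₗ, ih]

theorem iterate_add (T : V →ₛₗ[σ] V) (n : ℕ) (a b : V) :
    (⇑T)^[n] (a + b) = (⇑T)^[n] a + (⇑T)^[n] b := by
  induction n generalizing a b with
  | zero => simp
  | succ n ih =>
    rw [Function.iterate_succ_apply, Function.iterate_succ_apply, Function.iterate_succ_apply,
      map_add, ih]

theorem iterate_zero' (T : V →ₛₗ[σ] V) (n : ℕ) : (⇑T)^[n] (0 : V) = 0 := by
  induction n with
  | zero => simp
  | succ n ih => rw [Function.iterate_succ_apply, map_zero, ih]

theorem iterate_sub (T : V →ₛₗ[σ] V) (n : ℕ) (a b : V) :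
    (⇑T)^[n] (a - b) = (⇑T)^[n] a - (⇑T)^[n] b := by
  induction n generalizing a b with
  | zero => simp
  | succ n ih =>
    rw [Function.iterate_succ_apply, Function.iterate_succ_apply, Function.iterate_succ_apply,
      map_sub, ih]

/-- the span of the image of the `n`-th iterate -/
def spanRange (T : V →ₛₗ[σ] V) (n : ℕ) : Submodule k V := Submodule.span k (Set.range ((⇑T)^[n]))

theorem spanRange_succ_le (T : V →ₛₗ[σ] V) (n : ℕ) : spanRange T (n + 1) ≤ spanRange T n := by
  apply Submodule.span_mono
  rintro _ ⟨x, rfl⟩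
  exact ⟨T x, by rw [Function.iterate_succ_apply]⟩

theorem spanRange_antitone (T : V →ₛₗ[σ] V) : Antitone (spanRange T) :=
  antitone_nat_of_succ_le (spanRange_succ_le T)

theorem map_mem_spanRange (T : V →ₛₗ[σ] V) (n : ℕ) (w : V) (hw : w ∈ spanRange T n) :
    T w ∈ spanRange T (n + 1) := by
  induction hw using Submodule.span_induction with
  | mem x hx =>
    obtain ⟨y, rfl⟩ := hx
    exact Submodule.subset_span ⟨y, by rw [Function.iterate_succ_apply']⟩
  | zero => simp
  | add x y _ _ hx hy => rw [map_add]; exact add_mem hx hy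
  | smul c x _ hx => rw [LinearMap.map_smulₛₗ]; exact Submodule.smul_mem _ _ hx

theorem exists_spanRange_stable [FiniteDimensional k V] (T : V →ₛₗ[σ] V) :
    ∃ N, ∀ m, N ≤ m → spanRange T N = spanRange T m := by
  have := IsArtinian.monotone_stabilizes (R := k) (M := V)
    ⟨fun n => OrderDual.toDual (spanRange T n), fun a b h => spanRange_antitone T h⟩
  obtain ⟨N, hN⟩ := this
  exact ⟨N, fun m hm => hN m hm⟩

/-- when `σ` is surjective the image of an iterate is already a subspace -/
theorem coe_spanRange_of_surjective (hσ : Function.Surjective σ) (T : V →ₛₗ[σ] V) (n : ℕ) :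
    (spanRange T n : Set V) = Set.range ((⇑T)^[n]) := by
  apply Set.Subset.antisymm
  · intro w hw
    induction hw using Submodule.span_induction with
    | mem x hx => exact hx
    | zero => exact ⟨0, iterate_zero' T n⟩
    | add x y _ _ hx hy =>
      obtain ⟨a, rfl⟩ := hx
      obtain ⟨b, rfl⟩ := hy
      exact ⟨a + b, iterate_add T n a b⟩
    | smul c x _ hx =>
      obtain ⟨a, rfl⟩ := hx
      obtain ⟨c', rfl⟩ := (hσ.iterate n) c
      exact ⟨c' • a, iterate_smul T n c' a⟩
  · exact Submodule.subset_span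

/-- the kernel of the `n`-th iterate, as a subspace -/
def iterKer (T : V →ₛₗ[σ] V) (n : ℕ) : Submodule k V where
  carrier := {v | (⇑T)^[n] v = 0}
  add_mem' := by
    intro a b ha hb
    change (⇑T)^[n] a = 0 at ha
    change (⇑T)^[n] b = 0 at hb
    change (⇑T)^[n] (a + b) = 0
    rw [iterate_add, ha, hb, add_zero]
  zero_mem' := iterate_zero' T n
  smul_mem' := by
    intro c a ha
    change (⇑T)^[n] a = 0 at ha
    change (⇑T)^[n] (c • a) = 0
    rw [iterate_smul, ha, smul_zero]

theorem mem_iterKer (T : V →ₛₗ[σ] V) (n : ℕ) (v : V) : v ∈ iterKer T n ↔ (⇑T)^[n] v = 0 := Iff.rfl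

theorem iterKer_mono (T : V →ₛₗ[σ] V) : Monotone (iterKer T) := by
  apply monotone_nat_of_le_succ
  intro n v hv
  rw [mem_iterKer] at hv ⊢
  rw [Function.iterate_succ_apply', hv, map_zero]

theorem exists_iterKer_stable [FiniteDimensional k V] (T : V →ₛₗ[σ] V) :
    ∃ N, ∀ m, N ≤ m → iterKer T N = iterKer T m :=
  (monotone_stabilizes_iff_noetherian (R := k) (M := V)).mpr inferInstance
    ⟨iterKer T, iterKer_mono T⟩

theorem spanRange_eq_top_of_one (T : V →ₛₗ[σ] V) (h1 : Submodule.span k (Set.range ⇑T) = ⊤) (n : ℕ) :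
    Submodule.span k (Set.range ((⇑T)^[n])) = ⊤ := by
  induction n with
  | zero => simp
  | succ n ih =>
    rw [eq_top_iff, ← h1, Submodule.span_le]
    rintro _ ⟨u, rfl⟩
    have hu : u ∈ spanRange T n := by
      rw [spanRange, ih]
      trivial
    exact map_mem_spanRange T n u hu

end Groth.Agent.Helper8.SigmaLin
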