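import Mathlib

/-!
# Krull dimension via the specialization order, lifting of chains (helper8)
-/

set_option autoImplicit false

namespace Groth.Agent.Helper8.SpecOrder

open Order TopologicalSpace Topology

section order

variable {P Q : Type*} [Preorder P] [Preorder Q]

theorem length_le_height_of_lift (f : P → Q)
    (hlift : ∀ p q, q < f p → ∃ p', p' < p ∧ f p' = q) :
    ∀ (n : ℕ) (s : LTSeries Q) (p : P), s.length = n → s.last = f p →
      (n : ℕ∞) ≤ height p := by
  intro n
  induction n with
  | zero => intro s p _ _; simp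
  | succ n ih =>
    intro s p hn hlast
    have hne : s.length ≠ 0 := by omega
    have hlt : s.eraseLast.last < f p := hlast ▸ s.eraseLast_last_rel_last hne
    obtain ⟨p', hp', hfp'⟩ := hlift p _ hlt
    have h1 := ih s.eraseLast p' (by simp [hn]) hfp'.symm
    calc ((n + 1 : ℕ) : ℕ∞) = (n : ℕ∞) + 1 := by push_cast; rfl
      _ ≤ height p' + 1 := by gcongr
      _ ≤ height p := height_add_one_le hp'

theorem height_le_height_of_lift (f : P → Q)
    (hlift : ∀ p q, q < f p → ∃ p', p' < p ∧ f p' = q) (p : P) :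
    height (f p) ≤ height p := by
  rw [height_le_iff']
  intro s hs
  exact length_le_height_of_lift f hlift s.length s p rfl hs

theorem krullDim_le_of_surjective_of_lift (f : P → Q) (hf : Function.Surjective f)
    (hlift : ∀ p q, q < f p → ∃ p', p' < p ∧ f p' = q) :
    krullDim Q ≤ krullDim P := by
  rw [krullDim_eq_iSup_height, krullDim_eq_iSup_height]
  apply iSup_le
  intro q
  obtain ⟨p, rfl⟩ := hf q
  exact le_trans (WithBot.coe_le_coe.mpr (height_le_height_of_lift f hlift p))
    (le_iSup (fun a => ((height a : ℕ∞) : WithBot ℕ∞)) p)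

theorem krullDim_le_of_surjective_of_lift_up (f : P → Q) (hf : Function.Surjective f)
    (hlift : ∀ p q, f p < q → ∃ p', p < p' ∧ f p' = q) :
    krullDim Q ≤ krullDim P := by
  rw [← krullDim_orderDual (α := Q), ← krullDim_orderDual (α := P)]
  refine krullDim_le_of_surjective_of_lift (P := Pᵒᵈ) (Q := Qᵒᵈ)
    (fun p => OrderDual.toDual (f (OrderDual.ofDual p))) ?_ ?_
  · intro q
    obtain ⟨p, hp⟩ := hf (OrderDual.ofDual q)
    exact ⟨OrderDual.toDual p, congrArg OrderDual.toDual hp⟩
  · intro p q h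
    obtain ⟨p', hp', hfp'⟩ := hlift (OrderDual.ofDual p) (OrderDual.ofDual q) h
    exact ⟨OrderDual.toDual p', hp', congrArg OrderDual.toDual hfp'⟩

theorem coheight_le_coheight_of_lift_up (f : P → Q)
    (hlift : ∀ p q, f p < q → ∃ p', p < p' ∧ f p' = q) (p : P) :
    coheight (f p) ≤ coheight p := by
  refine height_le_height_of_lift (P := Pᵒᵈ) (Q := Qᵒᵈ)
    (fun p => OrderDual.toDual (f (OrderDual.ofDual p))) ?_ (OrderDual.toDual p)
  intro p q h
  obtain ⟨p', hp', hfp'⟩ := hlift (OrderDual.ofDual p) (OrderDual.ofDual q) h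
  exact ⟨OrderDual.toDual p', hp', congrArg OrderDual.toDual hfp'⟩

end order

section top

attribute [local instance] specializationOrder

theorem topologicalKrullDim_eq_krullDim_spec (X : Type*) [TopologicalSpace X] [QuasiSober X]
    [T0Space X] : topologicalKrullDim X = krullDim X :=
  krullDim_eq_of_orderIso irreducibleSetEquivPoints

variable {X Y : Type*} [TopologicalSpace X] [TopologicalSpace Y] [QuasiSober X] [T0Space X]
  [QuasiSober Y] [T0Space Y]

theorem topologicalKrullDim_le_of_specializingMap (f : X → Y) (hs : Function.Surjective f)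
    (hf : SpecializingMap f) : topologicalKrullDim Y ≤ topologicalKrullDim X := by
  rw [topologicalKrullDim_eq_krullDim_spec, topologicalKrullDim_eq_krullDim_spec]
  apply krullDim_le_of_surjective_of_lift f hs
  intro p q hq
  obtain ⟨p', hp', rfl⟩ := hf hq.1
  refine ⟨p', ⟨hp', fun h => ?_⟩, rfl⟩
  have : p = p' := (Specializes.antisymm hp' h).eq
  subst this
  exact lt_irrefl _ hq

theorem topologicalKrullDim_le_of_generalizingMap (f : X → Y) (hs : Function.Surjective f)
    (hf : GeneralizingMap f) : topologicalKrullDim Y ≤ topologicalKrullDim X := by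
  rw [topologicalKrullDim_eq_krullDim_spec, topologicalKrullDim_eq_krullDim_spec]
  apply krullDim_le_of_surjective_of_lift_up f hs
  intro p q hq
  obtain ⟨p', hp', rfl⟩ := hf hq.1
  refine ⟨p', ⟨hp', fun h => ?_⟩, rfl⟩
  have : p' = p := (Specializes.antisymm hp' h).eq
  subst this
  exact lt_irrefl _ hq

theorem topologicalKrullDim_le_of_fibres_incomparable (f : X → Y) (hc : Continuous f)
    (h : ∀ x x', x' ⤳ x → f x' = f x → x' = x) :
    topologicalKrullDim X ≤ topologicalKrullDim Y := by
  rw [topologicalKrullDim_eq_krullDim_spec, topologicalKrullDim_eq_krullDim_spec]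
  apply krullDim_le_of_strictMono f
  intro a b hab
  refine ⟨hab.1.map hc, fun h' => ?_⟩
  have h1 : f b = f a := (Specializes.antisymm (hab.1.map hc) h').eq
  have h2 : b = a := h a b hab.1 h1
  exact hab.2 (h2 ▸ specializes_rfl)

end top

section openmap

/-- An open continuous map out of a Noetherian quasi-sober space into a T0 space is
generalizing. -/
theorem generalizingMap_of_isOpenMap_of_noetherianSpace {X Y : Type*} [TopologicalSpace X]
    [TopologicalSpace Y] [NoetherianSpace X] [QuasiSober X] [T0Space Y] (f : X → Y)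
    (hc : Continuous f) (ho : IsOpenMap f) : GeneralizingMap f := by
  intro x y h
  set T : Set X := f ⁻¹' {y} with hT
  have hxT : x ∈ closure T := by
    rw [mem_closure_iff]
    intro V hV hxV
    have : y ∈ f '' V := h.mem_open (ho V hV) ⟨x, hxV, rfl⟩
    obtain ⟨t, htV, hty⟩ := this
    exact ⟨t, htV, hty⟩
  let 𝒜 : Set (Closeds X) := {Z | x ∈ closure ((Z : Set X) ∩ T)}
  have hne : 𝒜.Nonempty := ⟨⊤, by simpa [𝒜] using hxT⟩
  obtain ⟨Z, hZ, hmin⟩ := wellFounded_lt.has_min 𝒜 hne
  have hZx : x ∈ closure ((Z : Set X) ∩ T) := hZ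
  have key : ∀ W : Set X, IsClosed W → x ∈ closure ((Z : Set X) ∩ W ∩ T) →
      (Z : Set X) ⊆ W := by
    intro W hW hxW
    let Z' : Closeds X := ⟨(Z : Set X) ∩ W, Z.isClosed.inter hW⟩
    have hle : Z' ≤ Z := by
      intro t ht
      exact ht.1
    have hmem : Z' ∈ 𝒜 := hxW
    have heq : Z' = Z := by
      by_contra hne'
      exact hmin Z' hmem (lt_of_le_of_ne hle hne')
    intro t ht
    have : t ∈ (Z' : Set X) := by rw [heq]; exact ht
    exact this.2
  have hZ' : closure ((Z : Set X) ∩ T) = Z := by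
    apply subset_antisymm (closure_minimal Set.inter_subset_left Z.isClosed)
    apply key _ isClosed_closure
    refine closure_mono ?_ hZx
    exact fun t ht => ⟨⟨ht.1, subset_closure ht⟩, ht.2⟩
  have hirr : IsIrreducible (Z : Set X) := by
    refine ⟨⟨x, by rw [← hZ']; exact hZx⟩, ?_⟩
    rw [isPreirreducible_iff_isClosed_union_isClosed]
    intro Z₁ Z₂ h1 h2 hsub
    have hcov : (Z : Set X) ∩ T ⊆ ((Z : Set X) ∩ Z₁ ∩ T) ∪ ((Z : Set X) ∩ Z₂ ∩ T) := by
      rintro t ⟨htZ, htT⟩
      rcases hsub htZ with h | h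
      · exact Or.inl ⟨⟨htZ, h⟩, htT⟩
      · exact Or.inr ⟨⟨htZ, h⟩, htT⟩
    have hx' := closure_mono hcov hZx
    rw [closure_union] at hx'
    rcases hx' with h | h
    · exact Or.inl (key Z₁ h1 h)
    · exact Or.inr (key Z₂ h2 h)
  obtain ⟨ξ, hξ⟩ := QuasiSober.sober hirr Z.isClosed
  have hξx : ξ ⤳ x := by
    rw [specializes_iff_mem_closure, hξ.def, ← hZ']
    exact hZx
  refine ⟨ξ, hξx, ?_⟩
  have h1 : y ⤳ f ξ := by
    rw [specializes_iff_mem_closure]
    have hξZ : ξ ∈ closure ((Z : Set X) ∩ T) := by rw [hZ']; exact hξ.mem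
    exact map_mem_closure hc hξZ (t := {y}) (fun t ht => ht.2)
  have h2 : f ξ ⤳ y := by
    have hne2 : ((Z : Set X) ∩ T).Nonempty := by
      by_contra hemp
      rw [Set.not_nonempty_iff_eq_empty] at hemp
      rw [hemp, closure_empty] at hZx
      exact hZx
    obtain ⟨t, htZ, htT⟩ := hne2
    have h3 : ξ ⤳ t := hξ.specializes htZ
    have h4 := h3.map hc
    rwa [show f t = y from htT] at h4
  exact (Specializes.antisymm h2 h1).eq

/-- Local version. -/
theorem generalizingMap_of_isOpenMap_of_locally_noetherian {X Y : Type*} [TopologicalSpace X]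
    [TopologicalSpace Y] [QuasiSober X] [T0Space Y]
    (hX : ∀ x : X, ∃ U : Set X, IsOpen U ∧ x ∈ U ∧ NoetherianSpace U) (f : X → Y)
    (hc : Continuous f) (ho : IsOpenMap f) : GeneralizingMap f := by
  intro x y h
  obtain ⟨U, hU, hxU, hN⟩ := hX x
  have : QuasiSober U := hU.isOpenEmbedding_subtypeVal.quasiSober
  have hg := generalizingMap_of_isOpenMap_of_noetherianSpace (f ∘ (Subtype.val : U → X))
    (hc.comp continuous_subtype_val) (ho.comp hU.isOpenMap_subtype_val)
  obtain ⟨ξ, hξ, hξy⟩ := hg (a := ⟨x, hxU⟩) (b := y) h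
  exact ⟨ξ.1, hξ.map continuous_subtype_val, hξy⟩

end openmap

end Groth.Agent.Helper8.SpecOrder
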