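import Mathlib

/-! Helper lemmas (helper8): acyclic bounded-below complexes of projectives are contractible, and
chain-level sections of short exact sequences of complexes whose first map is a
quasi-isomorphism. -/

namespace Groth.Agent.Helper8

open CategoryTheory Limits HomologicalComplex ZeroObject

universe v u

variable {C : Type u} [Category.{v} C] [Abelian C]

/-- An acyclic chain complex of projective objects, seen as a projective resolution of zero. -/
noncomputable def resolutionOfAcyclic (Q : ChainComplex C ℕ) [∀ n, Projective (Q.X n)]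
    (hQ : Q.Acyclic) : ProjectiveResolution (0 : C) where
  complex := Q
  π := 0
  quasiIso := by
    rw [quasiIso_iff]
    intro i
    rw [quasiIsoAt_iff_exactAt _ i (hQ i)]
    have hz : IsZero ((ChainComplex.single₀ C).obj (0 : C)) :=
      Functor.map_isZero _ (isZero_zero C)
    exact acyclic_of_isZero _ hz i

/-- An acyclic chain complex of projective objects is contractible. -/
noncomputable def contractOfAcyclic (Q : ChainComplex C ℕ) [∀ n, Projective (Q.X n)]
    (hQ : Q.Acyclic) : Homotopy (𝟙 Q) 0 :=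
  ProjectiveResolution.liftHomotopyZero (P := resolutionOfAcyclic Q hQ)
    (Q := resolutionOfAcyclic Q hQ) (𝟙 Q) (comp_zero)

theorem nullHomotopicMap_of_homotopy_id_zero {Q : ChainComplex C ℕ} (c : Homotopy (𝟙 Q) 0) :
    Homotopy.nullHomotopicMap c.hom = 𝟙 Q := by
  ext i
  have h := c.comm i
  simp only [HomologicalComplex.zero_f, add_zero] at h
  rw [h]
  rfl

/-- For a short exact sequence of chain complexes whose first map is a quasi-isomorphism and
whose third term is degreewise projective, the third term is contractible. -/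
noncomputable def contractX₃ (S : ShortComplex (ChainComplex C ℕ)) (hS : S.ShortExact)
    [QuasiIso S.f] [∀ n, Projective (S.X₃.X n)] : Homotopy (𝟙 S.X₃) 0 :=
  contractOfAcyclic S.X₃ (hS.acyclic_X₃ inferInstance)

/-- A chain-level section of `S.g`. -/
theorem exists_chain_section (S : ShortComplex (ChainComplex C ℕ)) (hS : S.ShortExact)
    [QuasiIso S.f] [∀ n, Projective (S.X₃.X n)] :
    ∃ h : S.X₃ ⟶ S.X₂, h ≫ S.g = 𝟙 S.X₃ := by
  have := hS.epi_g
  let c := contractX₃ S hS
  let σ : ∀ j, S.X₃.X j ⟶ S.X₂.X j := fun j => Projective.factorThru (𝟙 _) (S.g.f j)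
  have hσ : ∀ j, σ j ≫ S.g.f j = 𝟙 _ := fun j => Projective.factorThru_comp _ _
  refine ⟨Homotopy.nullHomotopicMap (fun i j => c.hom i j ≫ σ j), ?_⟩
  rw [Homotopy.nullHomotopicMap_comp]
  have : (fun i j => (c.hom i j ≫ σ j) ≫ S.g.f j) = c.hom := by
    funext i j
    rw [Category.assoc, hσ, Category.comp_id]
  rw [this]
  exact nullHomotopicMap_of_homotopy_id_zero c

end Groth.Agent.Helper8

namespace Groth.Agent.Helper8

open CategoryTheory Limits HomologicalComplex ZeroObject

universe v u

section general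

variable {C : Type u} [Category.{v} C] [Abelian C]

/-- A chain-level retraction of `S.f`. -/
theorem exists_chain_retraction (S : ShortComplex (ChainComplex C ℕ)) (hS : S.ShortExact)
    [QuasiIso S.f] [∀ n, Projective (S.X₃.X n)] :
    ∃ g : S.X₂ ⟶ S.X₁, S.f ≫ g = 𝟙 S.X₁ := by
  have := hS.mono_f
  obtain ⟨h, hh⟩ := exists_chain_section S hS
  have hk : (𝟙 S.X₂ - S.g ≫ h) ≫ S.g = 0 := by
    rw [Preadditive.sub_comp, Category.id_comp, Category.assoc, hh, Category.comp_id, sub_self]
  refine ⟨hS.exact.lift _ hk, ?_⟩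
  rw [← cancel_mono S.f, Category.assoc, ShortComplex.Exact.lift_f, Preadditive.comp_sub,
    Category.comp_id, Category.id_comp, ← Category.assoc, S.zero, zero_comp, sub_zero]

/-- Two chain-level retractions of `S.f` are homotopic by a homotopy vanishing on the image of
`S.f`. -/
theorem exists_homotopy_of_retractions (S : ShortComplex (ChainComplex C ℕ)) (hS : S.ShortExact)
    [QuasiIso S.f] [∀ n, Projective (S.X₃.X n)] (g₁ g₂ : S.X₂ ⟶ S.X₁)
    (h₁ : S.f ≫ g₁ = 𝟙 S.X₁) (h₂ : S.f ≫ g₂ = 𝟙 S.X₁) :
    ∃ H : Homotopy g₁ g₂, ∀ i j, S.f.f i ≫ H.hom i j = 0 := by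
  have := hS.epi_g
  let c := contractX₃ S hS
  have hk : S.f ≫ (g₁ - g₂) = 0 := by rw [Preadditive.comp_sub, h₁, h₂, sub_self]
  let φ := hS.exact.desc _ hk
  have hφ : S.g ≫ φ = g₁ - g₂ := hS.exact.g_desc _ hk
  let H0 : Homotopy (S.g ≫ 𝟙 _ ≫ φ) (S.g ≫ 0 ≫ φ) := (c.compRight φ).compLeft S.g
  have e1 : S.g ≫ 𝟙 _ ≫ φ = g₁ - g₂ := by rw [Category.id_comp, hφ]
  have e2 : S.g ≫ 0 ≫ φ = 0 := by simp
  let H1 : Homotopy (g₁ - g₂) 0 := (Homotopy.ofEq e1.symm).trans (H0.trans (Homotopy.ofEq e2))
  refine ⟨Homotopy.equivSubZero.symm H1, fun i j => ?_⟩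
  change S.f.f i ≫ H1.hom i j = 0
  have hz : S.f.f i ≫ S.g.f i = 0 := by
    rw [← HomologicalComplex.comp_f, S.zero, HomologicalComplex.zero_f]
  simp only [H1, H0, Homotopy.trans_hom, Homotopy.ofEq_hom, Homotopy.compLeft_hom,
    Homotopy.compRight_hom, Pi.add_apply, Pi.zero_apply, zero_add, add_zero]
  rw [← Category.assoc, hz, zero_comp]

end general

section cokernel

variable {A' A : ChainComplex (ModuleCat.{v} ℤ) ℕ} (f : A' ⟶ A)

/-- The short complex `A' ⟶ A ⟶ cokernel f`. -/
noncomputable def cokerSC : ShortComplex (ChainComplex (ModuleCat.{v} ℤ) ℕ) :=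
  ShortComplex.mk f (cokernel.π f) (cokernel.condition f)

theorem cokerSC_shortExact (hf : ∀ q, Function.Injective (f.f q).hom) :
    (cokerSC f).ShortExact := by
  have : Mono f := HomologicalComplex.mono_of_mono_f f
    (fun q => (ModuleCat.mono_iff_injective _).mpr (hf q))
  exact { exact := ShortComplex.exact_cokernel f, mono_f := this,
          epi_g := (inferInstance : Epi (cokernel.π f)) }

theorem projective_cokernel_X
    (hq : ∀ q, Module.Free ℤ ((A.X q) ⧸ LinearMap.range (f.f q).hom)) (n : ℕ) :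
    Projective ((cokernel f).X n) := by
  let iso1 : (cokernel f).X n ≅ cokernel (f.f n) :=
    PreservesCokernel.iso (HomologicalComplex.eval _ _ n) f
  let iso2 := ModuleCat.cokernelIsoRangeQuotient (f.f n)
  have e : (Submodule.Quotient.module (LinearMap.range (f.f n).hom) :
      Module ℤ ((A.X n) ⧸ LinearMap.range (f.f n).hom)) = AddCommGroup.toIntModule _ :=
    Subsingleton.elim _ _
  have hfree : @Module.Free ℤ ((A.X n) ⧸ LinearMap.range (f.f n).hom) _ _
      (Submodule.Quotient.module (LinearMap.range (f.f n).hom)) := by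
    rw [e]
    exact hq n
  exact Projective.of_iso (iso1 ≪≫ iso2).symm (by
    have hp : @Module.Projective ℤ _ ((A.X n) ⧸ LinearMap.range (f.f n).hom) _
        (Submodule.Quotient.module (LinearMap.range (f.f n).hom)) :=
      @Module.Projective.of_free ℤ _ _ _ (Submodule.Quotient.module _) hfree
    exact @ModuleCat.projective_of_categoryTheory_projective ℤ _
      (@ModuleCat.of ℤ _ ((A.X n) ⧸ LinearMap.range (f.f n).hom) _
        (Submodule.Quotient.module (LinearMap.range (f.f n).hom))) hp)

end cokernel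

end Groth.Agent.Helper8
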