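import Mathlib
import Groth.Prelude.Def_HopfRep
import Groth.Prelude.Def_Hoch
import Groth.Agent.Lib.Helper7.Coalg7
import Groth.Agent.Lib.Helper8.CoeffSpace

/-!
# Intersections of subcoalgebras over a field (helper8)
-/

set_option autoImplicit false
universe u v w w'

namespace Groth.Agent.Helper8.SubcoalgInter

open TensorProduct Groth.Agent.H29 Groth.Agent.Helper7.Coalg7 Groth.Agent.Helper8.CoeffSpace

section LinAlg

variable {K : Type u} [Field K] {C : Type v} [AddCommGroup C] [Module K C]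
variable {V : Type w} [AddCommGroup V] [Module K V]

lemma mem_range_lTensor_inf (D₁ D₂ : Submodule K C) (x : V ⊗[K] C)
    (h1 : x ∈ LinearMap.range (D₁.subtype.lTensor V))
    (h2 : x ∈ LinearMap.range (D₂.subtype.lTensor V)) :
    x ∈ LinearMap.range ((D₁ ⊓ D₂).subtype.lTensor V) := by
  apply mem_range_lTensor_of_forall
  intro f
  refine ⟨?_, ?_⟩
  · obtain ⟨y, rfl⟩ := h1
    have := sl_natural f D₁.subtype y
    change sl f C _ ∈ D₁
    rw [← this]
    exact (sl f D₁ y).2
  · obtain ⟨y, rfl⟩ := h2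
    have := sl_natural f D₂.subtype y
    change sl f C _ ∈ D₂
    rw [← this]
    exact (sl f D₂ y).2

lemma mem_range_rTensor_inf (D₁ D₂ : Submodule K C) (x : C ⊗[K] V)
    (h1 : x ∈ LinearMap.range (D₁.subtype.rTensor V))
    (h2 : x ∈ LinearMap.range (D₂.subtype.rTensor V)) :
    x ∈ LinearMap.range ((D₁ ⊓ D₂).subtype.rTensor V) := by
  classical
  rw [mem_range_rTensor_subtype_iff _ (Module.Free.chooseBasis K V)] at h1 h2 ⊢
  exact fun j => ⟨h1 j, h2 j⟩

lemma range_map_le_rTensor (D : Submodule K C) :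
    LinearMap.range (TensorProduct.map D.subtype D.subtype) ≤
      LinearMap.range (D.subtype.rTensor C) := by
  rintro _ ⟨z, rfl⟩
  refine ⟨D.subtype.lTensor D z, ?_⟩
  exact LinearMap.congr_fun (LinearMap.rTensor_comp_lTensor _ D.subtype D.subtype) z

lemma range_map_le_lTensor (D : Submodule K C) :
    LinearMap.range (TensorProduct.map D.subtype D.subtype) ≤
      LinearMap.range (D.subtype.lTensor C) := by
  rintro _ ⟨z, rfl⟩
  refine ⟨D.subtype.rTensor D z, ?_⟩
  exact LinearMap.congr_fun (LinearMap.lTensor_comp_rTensor _ D.subtype D.subtype) z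

end LinAlg

section Coalg

variable {K : Type u} [Field K] {C : Type v} [AddCommGroup C] [Module K C] [Coalgebra K C]

/-- the intersection of two subcoalgebras is a subcoalgebra -/
lemma isSubcoalg_inf (D₁ D₂ : Submodule K C)
    (h₁ : ∀ b ∈ D₁, CoalgebraStruct.comul (R := K) b ∈
      LinearMap.range (TensorProduct.map D₁.subtype D₁.subtype))
    (h₂ : ∀ b ∈ D₂, CoalgebraStruct.comul (R := K) b ∈
      LinearMap.range (TensorProduct.map D₂.subtype D₂.subtype)) :
    ∀ b ∈ D₁ ⊓ D₂, CoalgebraStruct.comul (R := K) b ∈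
      LinearMap.range (TensorProduct.map (D₁ ⊓ D₂).subtype (D₁ ⊓ D₂).subtype) := by
  intro b hb
  apply mem_range_map_of_mem
  · exact mem_range_rTensor_inf D₁ D₂ _ (range_map_le_rTensor D₁ (h₁ b hb.1))
      (range_map_le_rTensor D₂ (h₂ b hb.2))
  · exact mem_range_lTensor_inf D₁ D₂ _ (range_map_le_lTensor D₁ (h₁ b hb.1))
      (range_map_le_lTensor D₂ (h₂ b hb.2))

variable {V : Type w} [AddCommGroup V] [Module K V] [HopfRep.Comod K C V]
variable {W : Type w'} [AddCommGroup W] [Module K W] [HopfRep.Comod K C W]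

theorem main (D₁ D₂ : Submodule K C) (hne : D₁ ≠ D₂)
    (h₁ : D₁ ≠ ⊥ ∧ (∀ b ∈ D₁, CoalgebraStruct.comul (R := K) b ∈ LinearMap.range (TensorProduct.map D₁.subtype D₁.subtype)) ∧ ∀ B : Submodule K C, B ≤ D₁ → (∀ b ∈ B, CoalgebraStruct.comul (R := K) b ∈ LinearMap.range (TensorProduct.map B.subtype B.subtype)) → B = ⊥ ∨ B = D₁)
    (h₂ : D₂ ≠ ⊥ ∧ (∀ b ∈ D₂, CoalgebraStruct.comul (R := K) b ∈ LinearMap.range (TensorProduct.map D₂.subtype D₂.subtype)) ∧ ∀ B : Submodule K C, B ≤ D₂ → (∀ b ∈ B, CoalgebraStruct.comul (R := K) b ∈ LinearMap.range (TensorProduct.map B.subtype B.subtype)) → B = ⊥ ∨ B = D₂)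
    (hV : ∀ v : V, HopfRep.Comod.coact (k := K) (A := C) v ∈ LinearMap.range (LinearMap.lTensor V D₁.subtype))
    (hW : ∀ w : W, HopfRep.Comod.coact (k := K) (A := C) w ∈ LinearMap.range (LinearMap.lTensor W D₂.subtype))
    (φ : V →ₗ[K] W) (hφ : Hoch.IsComodHom C φ) : φ = 0 := by
  have hB : D₁ ⊓ D₂ = ⊥ := by
    rcases h₁.2.2 (D₁ ⊓ D₂) inf_le_left (isSubcoalg_inf D₁ D₂ h₁.2.1 h₂.2.1) with h | h
    · exact h
    · exfalso
      have hle : D₁ ≤ D₂ := inf_eq_left.mp h
      rcases h₂.2.2 D₁ hle h₁.2.1 with h' | h'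
      · exact h₁.1 h'
      · exact hne h'
  ext v
  rw [LinearMap.zero_apply]
  apply coact_injective (K := K) (C := C)
  rw [map_zero]
  have e1 := LinearMap.congr_fun hφ v
  simp only [LinearMap.comp_apply] at e1
  have m1 : HopfRep.Comod.coact (k := K) (A := C) (φ v) ∈
      LinearMap.range (D₁.subtype.lTensor W) := by
    rw [e1]
    obtain ⟨z, hz⟩ := hV v
    rw [← hz]
    refine ⟨φ.rTensor D₁ z, ?_⟩
    rw [← LinearMap.comp_apply, ← LinearMap.comp_apply, LinearMap.lTensor_comp_rTensor,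
      LinearMap.rTensor_comp_lTensor]
  have m2 := mem_range_lTensor_inf D₁ D₂ _ m1 (hW (φ v))
  rw [hB] at m2
  obtain ⟨z, hz⟩ := m2
  rw [← hz]
  have hsub : Subsingleton (W ⊗[K] (⊥ : Submodule K C)) := by
    refine ⟨fun a b => ?_⟩
    have h0 : ∀ x : W ⊗[K] (⊥ : Submodule K C), x = 0 := by
      intro x
      induction x using TensorProduct.induction_on with
      | zero => rfl
      | tmul w c =>
        have : c = 0 := Subsingleton.elim _ _
        rw [this, TensorProduct.tmul_zero]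
      | add x y hx hy => rw [hx, hy, add_zero]
    rw [h0 a, h0 b]
  rw [Subsingleton.elim z 0, map_zero]

end Coalg

end Groth.Agent.Helper8.SubcoalgInter
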