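import Mathlib

/-!
# Equivariant maps of trivial principal bundles, formally (helper8)
-/

set_option autoImplicit false
universe v u

namespace Groth.Agent.Helper8.TrivBundle

open CategoryTheory MonoidalCategory CartesianMonoidalCategory
open scoped CategoryTheory.MonObj

variable {C : Type u} [Category.{v} C] [CartesianMonoidalCategory C] (G X : C) [GrpObj G]

/-- maps out of a product are determined on the universal point -/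
lemma ext_pt {Y : C} (Φ Ψ : X ⊗ G ⟶ Y)
    (h : lift (fst X G) (snd X G) ≫ Φ = lift (fst X G) (snd X G) ≫ Ψ) : Φ = Ψ := by
  rwa [lift_fst_snd, Category.id_comp, Category.id_comp] at h

theorem gen76 (Φ : X ⊗ G ⟶ X ⊗ G) (h₁ : Φ ≫ fst X G = fst X G)
    (h₂ : ∀ (T : C) (x : T ⟶ X) (g h : T ⟶ G),
      lift x (g * h) ≫ Φ ≫ snd X G = (lift x g ≫ Φ ≫ snd X G) * h) :
    ∀ (T : C) (x : T ⟶ X) (g : T ⟶ G),
      lift x g ≫ Φ = lift x ((x ≫ (lift (𝟙 X) 1 ≫ Φ ≫ snd X G)) * g) := by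
  intro T x g
  apply CartesianMonoidalCategory.hom_ext
  · rw [Category.assoc, h₁, lift_fst, lift_fst]
  · rw [Category.assoc, lift_snd]
    have := h₂ T x 1 g
    rw [one_mul] at this
    rw [this]
    congr 1
    rw [← Category.assoc x, comp_lift, Category.comp_id, MonObj.comp_one]

section Action

variable {Γ : Type*} [Group Γ] (ρ : Γ → (X ⟶ X)) (hρ₁ : ρ 1 = 𝟙 X)
  (hρ : ∀ σ τ : Γ, ρ (σ * τ) = ρ σ ≫ ρ τ)

include hρ₁ hρ in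
theorem gen80 (φ : Γ → (X ⟶ G)) (hφ : ∀ σ τ : Γ, φ (σ * τ) = φ σ * (ρ σ ≫ φ τ))
    (lam : Γ → (X ⊗ G ⟶ X ⊗ G))
    (hlam : ∀ (σ : Γ) (T : C) (x : T ⟶ X) (g : T ⟶ G),
      lift x g ≫ lam σ = lift (x ≫ ρ σ) ((x ≫ φ σ)⁻¹ * g)) :
    lam 1 = 𝟙 (X ⊗ G) ∧ (∀ σ τ : Γ, lam (σ * τ) = lam σ ≫ lam τ) ∧
      (∀ σ : Γ, lam σ ≫ fst X G = fst X G ≫ ρ σ) ∧
      ∀ (σ : Γ) (T : C) (x : T ⟶ X) (g h : T ⟶ G),
        lift x (g * h) ≫ lam σ ≫ snd X G = (lift x g ≫ lam σ ≫ snd X G) * h := by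
  have hφ1 : φ 1 = 1 := by
    have := hφ 1 1
    rw [mul_one, hρ₁, Category.id_comp] at this
    have h' : φ 1 * 1 = φ 1 * φ 1 := by rw [mul_one]; exact this
    exact (mul_left_cancel h').symm
  refine ⟨?_, ?_, ?_, ?_⟩
  · apply ext_pt
    rw [hlam, hρ₁, Category.comp_id, hφ1, MonObj.comp_one, inv_one, one_mul, Category.comp_id]
  · intro σ τ
    apply ext_pt
    rw [hlam, ← Category.assoc, hlam, hlam, hρ, hφ, MonObj.comp_mul, mul_inv_rev, mul_assoc,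
      Category.assoc, Category.assoc]
  · intro σ
    apply ext_pt
    rw [← Category.assoc, hlam, lift_fst, ← Category.assoc, lift_fst]
  · intro σ T x g h
    rw [← Category.assoc, hlam, lift_snd, ← Category.assoc, hlam, lift_snd, mul_assoc]

theorem gen81 (lam : Γ → (X ⊗ G ⟶ X ⊗ G))
    (hlam : ∀ σ τ : Γ, lam (σ * τ) = lam σ ≫ lam τ)
    (hfst : ∀ σ : Γ, lam σ ≫ fst X G = fst X G ≫ ρ σ)
    (hG : ∀ (σ : Γ) (T : C) (x : T ⟶ X) (g h : T ⟶ G),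
      lift x (g * h) ≫ lam σ ≫ snd X G = (lift x g ≫ lam σ ≫ snd X G) * h) :
    ∃! φ : Γ → (X ⟶ G), (∀ σ τ : Γ, φ (σ * τ) = φ σ * (ρ σ ≫ φ τ)) ∧
      ∀ (σ : Γ) (T : C) (x : T ⟶ X) (g : T ⟶ G),
        lift x g ≫ lam σ = lift (x ≫ ρ σ) ((x ≫ φ σ)⁻¹ * g) := by
  obtain ⟨ψ, hψdef⟩ : ∃ ψ : Γ → (X ⟶ G), ∀ σ, ψ σ = lift (𝟙 X) 1 ≫ lam σ ≫ snd X G :=
    ⟨_, fun _ => rfl⟩
  have hψ : ∀ (σ : Γ) (T : C) (x : T ⟶ X) (g : T ⟶ G),
      lift x g ≫ lam σ = lift (x ≫ ρ σ) ((x ≫ ψ σ) * g) := by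
    intro σ T x g
    apply CartesianMonoidalCategory.hom_ext
    · rw [Category.assoc, hfst, ← Category.assoc, lift_fst, lift_fst]
    · rw [Category.assoc, lift_snd]
      have := hG σ T x 1 g
      rw [one_mul] at this
      rw [this, hψdef]
      congr 1
      rw [← Category.assoc x, comp_lift, Category.comp_id, MonObj.comp_one]
  have hcoc : ∀ σ τ : Γ, ψ (σ * τ) = (ρ σ ≫ ψ τ) * ψ σ := by
    intro σ τ
    rw [hψdef (σ * τ), hlam, Category.assoc, ← Category.assoc (lift (𝟙 X) 1), hψ,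
      ← Category.assoc, hψ, lift_snd, Category.id_comp, Category.id_comp, mul_one]
  refine ⟨fun σ => (ψ σ)⁻¹, ⟨?_, ?_⟩, ?_⟩
  · intro σ τ
    change (ψ (σ * τ))⁻¹ = (ψ σ)⁻¹ * (ρ σ ≫ (ψ τ)⁻¹)
    rw [hcoc, mul_inv_rev, GrpObj.comp_inv]
  · intro σ T x g
    change lift x g ≫ lam σ = lift (x ≫ ρ σ) ((x ≫ (ψ σ)⁻¹)⁻¹ * g)
    rw [GrpObj.comp_inv, inv_inv]
    exact hψ σ T x g
  · intro φ' ⟨_, hφ'⟩
    funext σ
    have h1 := hφ' σ X (𝟙 X) 1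
    have h2 := congrArg (fun f => f ≫ snd X G) h1
    simp only [Category.assoc, lift_snd, Category.id_comp, mul_one] at h2
    rw [← hψdef] at h2
    rw [h2, inv_inv]


theorem gen82 (φ φ' : Γ → (X ⟶ G))
    (lam lam' : Γ → (X ⊗ G ⟶ X ⊗ G))
    (hlam : ∀ (σ : Γ) (T : C) (x : T ⟶ X) (g : T ⟶ G),
      lift x g ≫ lam σ = lift (x ≫ ρ σ) ((x ≫ φ σ)⁻¹ * g))
    (hlam' : ∀ (σ : Γ) (T : C) (x : T ⟶ X) (g : T ⟶ G),
      lift x g ≫ lam' σ = lift (x ≫ ρ σ) ((x ≫ φ' σ)⁻¹ * g)) :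
    (∃ Φ : X ⊗ G ⟶ X ⊗ G, IsIso Φ ∧ Φ ≫ fst X G = fst X G ∧
      (∀ (T : C) (x : T ⟶ X) (g h : T ⟶ G),
        lift x (g * h) ≫ Φ ≫ snd X G = (lift x g ≫ Φ ≫ snd X G) * h) ∧
      ∀ σ : Γ, lam σ ≫ Φ = Φ ≫ lam' σ) ↔
    ∃ ψ : X ⟶ G, ∀ σ : Γ, φ σ = ψ⁻¹ * φ' σ * (ρ σ ≫ ψ) := by
  constructor
  · rintro ⟨Φ, -, h₁, h₂, hint⟩
    obtain ⟨ψ, hψdef⟩ : ∃ ψ : X ⟶ G, ψ = lift (𝟙 X) 1 ≫ Φ ≫ snd X G := ⟨_, rfl⟩
    have hΦ : ∀ (T : C) (x : T ⟶ X) (g : T ⟶ G), lift x g ≫ Φ = lift x ((x ≫ ψ) * g) := by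
      intro T x g
      rw [hψdef]
      exact gen76 G X Φ h₁ h₂ T x g
    refine ⟨ψ, fun σ => ?_⟩
    have hlamA : ∀ (σ : Γ) (T Z : C) (x : T ⟶ X) (g : T ⟶ G) (r : X ⊗ G ⟶ Z),
        lift x g ≫ lam σ ≫ r = lift (x ≫ ρ σ) ((x ≫ φ σ)⁻¹ * g) ≫ r := by
      intro σ T Z x g r; rw [← Category.assoc, hlam]
    have hlamA' : ∀ (σ : Γ) (T Z : C) (x : T ⟶ X) (g : T ⟶ G) (r : X ⊗ G ⟶ Z),
        lift x g ≫ lam' σ ≫ r = lift (x ≫ ρ σ) ((x ≫ φ' σ)⁻¹ * g) ≫ r := by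
      intro σ T Z x g r; rw [← Category.assoc, hlam']
    have hΦA : ∀ (T Z : C) (x : T ⟶ X) (g : T ⟶ G) (r : X ⊗ G ⟶ Z),
        lift x g ≫ Φ ≫ r = lift x ((x ≫ ψ) * g) ≫ r := by
      intro T Z x g r; rw [← Category.assoc, hΦ]
    have h1 := congrArg (fun f => lift (𝟙 X) (1 : X ⟶ G) ≫ f ≫ snd X G) (hint σ)
    simp only [Category.assoc] at h1
    rw [hlamA, hΦA, lift_snd, hΦA, hlamA', lift_snd] at h1
    simp only [Category.id_comp, mul_one] at h1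
    -- h1 : (ρ σ ≫ ψ) * (φ σ)⁻¹ = (φ' σ)⁻¹ * ψ
    have h2 : φ σ = ((φ' σ)⁻¹ * ψ)⁻¹ * (ρ σ ≫ ψ) := by
      rw [← h1, mul_inv_rev, inv_inv, inv_mul_cancel_right]
    rw [h2, mul_inv_rev, inv_inv]
  · rintro ⟨ψ, hψ⟩
    have hrel : ∀ σ, (ρ σ ≫ ψ) * (φ σ)⁻¹ = (φ' σ)⁻¹ * ψ := by
      intro σ
      rw [hψ σ, mul_inv_rev, mul_inv_rev, inv_inv, mul_inv_cancel_left]
    have hpt : ∀ (a : X ⟶ G) (T : C) (x : T ⟶ X) (g : T ⟶ G),
        lift x g ≫ lift (fst X G) ((fst X G ≫ a) * snd X G) = lift x ((x ≫ a) * g) := by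
      intro a T x g
      rw [comp_lift, MonObj.comp_mul, lift_fst, lift_snd, ← Category.assoc, lift_fst]
    refine ⟨lift (fst X G) ((fst X G ≫ ψ) * snd X G),
      ⟨lift (fst X G) ((fst X G ≫ ψ⁻¹) * snd X G), ?_, ?_⟩, ?_, ?_, ?_⟩
    · apply ext_pt
      rw [← Category.assoc, hpt, hpt, Category.comp_id, GrpObj.comp_inv, inv_mul_cancel_left]
    · apply ext_pt
      rw [← Category.assoc, hpt, hpt, Category.comp_id, GrpObj.comp_inv, mul_inv_cancel_left]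
    · rw [lift_fst]
    · intro T x g h
      rw [← Category.assoc, hpt, lift_snd, ← Category.assoc, hpt, lift_snd, mul_assoc]
    · intro σ
      apply ext_pt
      rw [← Category.assoc, hlam, hpt, ← Category.assoc, hpt, hlam']
      congr 1
      rw [← mul_assoc, ← mul_assoc, Category.assoc, ← GrpObj.comp_inv, ← GrpObj.comp_inv,
        ← MonObj.comp_mul, ← MonObj.comp_mul, hrel]

end Action

end Groth.Agent.Helper8.TrivBundle
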