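import Mathlib
import Groth.Prelude.Def_WittGrp

set_option autoImplicit false
set_option linter.style.haveILetI false
set_option linter.unusedSectionVars false
set_option linter.unusedVariables false

universe u v

noncomputable section

namespace Groth.Agent.Helper8.TruncEq

open scoped TensorProduct

theorem main (p : ℕ) [Fact p.Prime] (n : ℕ)
    (R R' : Type u) [CommRing R] [CommRing R'] [Algebra R R'] [Module.FaithfullyFlat R R']
    [Algebra (TruncatedWittVector p n R) (TruncatedWittVector p n R')]
    (h₁ : algebraMap (TruncatedWittVector p n R) (TruncatedWittVector p n R') =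
      WittGrp.truncMap p n (algebraMap R R'))
    [Algebra (TruncatedWittVector p n R) (TruncatedWittVector p n (TensorProduct R R' R'))]
    (ψ₁ ψ₂ : TruncatedWittVector p n R' →ₐ[TruncatedWittVector p n R]
      TruncatedWittVector p n (TensorProduct R R' R'))
    (hψ₁ : (ψ₁ : TruncatedWittVector p n R' →+* TruncatedWittVector p n (TensorProduct R R' R')) =
      WittGrp.truncMap p n (Algebra.TensorProduct.includeLeftRingHom : R' →+* TensorProduct R R' R'))
    (hψ₂ : (ψ₂ : TruncatedWittVector p n R' →+* TruncatedWittVector p n (TensorProduct R R' R')) =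
      WittGrp.truncMap p n ((Algebra.TensorProduct.includeRight : R' →ₐ[R] TensorProduct R R' R') :
        R' →+* TensorProduct R R' R'))
    (M : Type v) [AddCommGroup M] [Module (TruncatedWittVector p n R) M]
    [Module.Flat (TruncatedWittVector p n R) M] :
    Function.Injective (fun m : M => m ⊗ₜ[TruncatedWittVector p n R] (1 : TruncatedWittVector p n R')) ∧
      ∀ x : M ⊗[TruncatedWittVector p n R] TruncatedWittVector p n R',
        LinearMap.lTensor M ψ₁.toLinearMap x = LinearMap.lTensor M ψ₂.toLinearMap x →
          x ∈ Set.range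
            (fun m : M => m ⊗ₜ[TruncatedWittVector p n R] (1 : TruncatedWittVector p n R')) := by
  have heff := Algebra.IsEffective.of_faithfullyFlat (R := R) (S := R')
  have hinjR : Function.Injective (algebraMap R R') := FaithfulSMul.algebraMap_injective R R'
  obtain ⟨f, hf⟩ : ∃ f : TruncatedWittVector p n R →ₗ[TruncatedWittVector p n R]
      TruncatedWittVector p n R', f = Algebra.linearMap _ _ := ⟨_, rfl⟩
  obtain ⟨d, hd⟩ : ∃ d : TruncatedWittVector p n R' →ₗ[TruncatedWittVector p n R]
      TruncatedWittVector p n (TensorProduct R R' R'), d = ψ₁.toLinearMap - ψ₂.toLinearMap :=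
    ⟨_, rfl⟩
  have hfa : ∀ a, f a = WittGrp.truncMap p n (algebraMap R R') a := by
    intro a; rw [hf, Algebra.linearMap_apply, h₁]
  have hψ₁' : ∀ y, ψ₁ y = WittGrp.truncMap p n
      (Algebra.TensorProduct.includeLeftRingHom : R' →+* TensorProduct R R' R') y :=
    fun y => RingHom.congr_fun hψ₁ y
  have hψ₂' : ∀ y, ψ₂ y = WittGrp.truncMap p n
      ((Algebra.TensorProduct.includeRight : R' →ₐ[R] TensorProduct R R' R') :
        R' →+* TensorProduct R R' R') y :=
    fun y => RingHom.congr_fun hψ₂ y
  have hfinj : Function.Injective f := by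
    intro a b hab
    rw [hfa, hfa] at hab
    refine TruncatedWittVector.ext fun i => hinjR ?_
    have := congrArg (fun z => TruncatedWittVector.coeff i z) hab
    simpa only [WittGrp.coeff_truncMap] using this
  have hexact : Function.Exact f d := by
    intro y
    constructor
    · intro hy
      have hy' : ψ₁ y = ψ₂ y := by
        rw [hd] at hy
        exact sub_eq_zero.mp hy
      have hc : ∀ i : Fin n, ∃ s : R, algebraMap R R' s = y.coeff i := by
        intro i
        have h2 := congrArg (fun z => TruncatedWittVector.coeff i z) hy'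
        simp only [hψ₁', hψ₂', WittGrp.coeff_truncMap] at h2
        have h3 : Algebra.TensorProduct.includeLeftSubRight R R' (y.coeff i) = 0 := by
          rw [Algebra.TensorProduct.includeLeftSubRight_apply, sub_eq_zero]
          exact h2
        obtain ⟨s, hs⟩ := (heff (y.coeff i)).mp h3
        exact ⟨s, hs⟩
      choose s hs using hc
      refine ⟨TruncatedWittVector.mk p s, ?_⟩
      rw [hfa]
      refine TruncatedWittVector.ext fun i => ?_
      rw [WittGrp.coeff_truncMap, TruncatedWittVector.coeff_mk, hs]
    · rintro ⟨a, rfl⟩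
      rw [hd, hf]
      show ψ₁ (algebraMap _ _ a) - ψ₂ (algebraMap _ _ a) = 0
      rw [AlgHom.commutes, AlgHom.commutes, sub_self]
  have hex := Module.Flat.lTensor_exact M hexact
  have hone : ∀ m : M, (f.lTensor M) (m ⊗ₜ[TruncatedWittVector p n R] (1 : TruncatedWittVector p n R)) =
      m ⊗ₜ[TruncatedWittVector p n R] (1 : TruncatedWittVector p n R') := by
    intro m
    rw [LinearMap.lTensor_tmul, hf, Algebra.linearMap_apply, map_one]
  constructor
  · intro m₁ m₂ hm
    have hm' : (f.lTensor M) (m₁ ⊗ₜ[TruncatedWittVector p n R] (1 : TruncatedWittVector p n R)) =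
        (f.lTensor M) (m₂ ⊗ₜ[TruncatedWittVector p n R] (1 : TruncatedWittVector p n R)) := by
      rw [hone, hone]; exact hm
    have h3 := Module.Flat.lTensor_preserves_injective_linearMap (M := M) f hfinj hm'
    have h4 := congrArg (TensorProduct.rid (TruncatedWittVector p n R) M) h3
    simpa using h4
  · intro x hx
    have hx0 : (d.lTensor M) x = 0 := by
      rw [hd, LinearMap.lTensor_sub, LinearMap.sub_apply, hx, sub_self]
    obtain ⟨y, rfl⟩ := (hex x).mp hx0
    obtain ⟨m, rfl⟩ := (TensorProduct.rid (TruncatedWittVector p n R) M).symm.surjective y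
    exact ⟨m, by rw [TensorProduct.rid_symm_apply, hone]⟩

end Groth.Agent.Helper8.TruncEq
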