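import Mathlib
import Groth.Prelude.Def_WittGrp

/-!
The ring of truncated Witt vectors of a perfect field of characteristic `p` is a local ring with
maximal ideal `(p)` and residue field `k` (helper8).
-/

namespace Groth.Agent.Helper8.TruncWitt

open IsLocalRing

universe u

variable (p : ℕ) [hp : Fact p.Prime] (k : Type u) [Field k] [CharP k p] (n : ℕ)

theorem natCast_p_pow_eq_zero : ((p : TruncatedWittVector p n k)) ^ n = 0 := by
  have h : (p : TruncatedWittVector p n k) ^ n = WittVector.truncate n ((p : WittVector p k) ^ n) := by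
    rw [map_pow, map_natCast]
  rw [h]
  apply TruncatedWittVector.ext
  intro i
  rw [WittVector.coeff_truncate, TruncatedWittVector.coeff_zero]
  have hi := i.2
  exact WittVector.coeff_p_pow_eq_zero p k (by omega : (i : ℕ) ≠ n)

instance instNontrivial : Nontrivial (TruncatedWittVector p (n + 1) k) := by
  refine ⟨⟨0, 1, fun h => ?_⟩⟩
  have h1 := congrArg (fun x => TruncatedWittVector.coeff (0 : Fin (n + 1)) x) h
  simp only [TruncatedWittVector.coeff_zero] at h1
  rw [← map_one (WittVector.truncate (p := p) (R := k) (n + 1)), WittVector.coeff_truncate] at h1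
  simp at h1

/-- the zeroth component, as a ring homomorphism -/
noncomputable def coeffZero : TruncatedWittVector p (n + 1) k →+* k where
  toFun x := x.coeff 0
  map_one' := by
    rw [← map_one (WittVector.truncate (p := p) (R := k) (n + 1)), WittVector.coeff_truncate]
    simp
  map_zero' := TruncatedWittVector.coeff_zero _ _ _ _
  map_mul' x y := by
    obtain ⟨X, rfl⟩ := WittVector.truncate_surjective p (n + 1) k x
    obtain ⟨Y, rfl⟩ := WittVector.truncate_surjective p (n + 1) k y
    rw [← map_mul, WittVector.coeff_truncate, WittVector.coeff_truncate, WittVector.coeff_truncate]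
    simp [WittVector.mul_coeff_zero]
  map_add' x y := by
    obtain ⟨X, rfl⟩ := WittVector.truncate_surjective p (n + 1) k x
    obtain ⟨Y, rfl⟩ := WittVector.truncate_surjective p (n + 1) k y
    rw [← map_add, WittVector.coeff_truncate, WittVector.coeff_truncate, WittVector.coeff_truncate]
    simp [WittVector.add_coeff_zero]

omit [CharP k p] in
theorem coeffZero_apply (x : TruncatedWittVector p (n + 1) k) : coeffZero p k n x = x.coeff 0 := rfl

variable [PerfectRing k p]

instance instIsLocalRing : IsLocalRing (TruncatedWittVector p (n + 1) k) :=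
  IsLocalRing.of_surjective' (WittVector.truncate (n + 1)) (WittVector.truncate_surjective p (n + 1) k)

theorem maximalIdeal_eq : maximalIdeal (TruncatedWittVector p (n + 1) k) =
    Ideal.span {(p : TruncatedWittVector p (n + 1) k)} := by
  have hW : maximalIdeal (WittVector p k) = Ideal.span {(p : WittVector p k)} :=
    (WittVector.irreducible p).maximalIdeal_eq
  apply le_antisymm
  · intro x hx
    obtain ⟨X, rfl⟩ := WittVector.truncate_surjective p (n + 1) k x
    by_cases hX : X ∈ maximalIdeal (WittVector p k)
    · rw [hW, Ideal.mem_span_singleton'] at hX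
      obtain ⟨Y, rfl⟩ := hX
      rw [map_mul, map_natCast]
      exact Ideal.mul_mem_left _ _ (Ideal.subset_span rfl)
    · exfalso
      rw [mem_maximalIdeal, mem_nonunits_iff, not_not] at hX
      rw [mem_maximalIdeal, mem_nonunits_iff] at hx
      exact hx (hX.map _)
  · rw [Ideal.span_le, Set.singleton_subset_iff]
    show (p : TruncatedWittVector p (n + 1) k) ∈ maximalIdeal _
    rw [mem_maximalIdeal, mem_nonunits_iff]
    intro hu
    have h1 := hu.pow (n + 1)
    rw [natCast_p_pow_eq_zero] at h1
    exact not_isUnit_zero h1

theorem coeffZero_mem_maximalIdeal (a : TruncatedWittVector p (n + 1) k)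
    (ha : a ∈ maximalIdeal (TruncatedWittVector p (n + 1) k)) : coeffZero p k n a = 0 := by
  rw [maximalIdeal_eq, Ideal.mem_span_singleton'] at ha
  obtain ⟨y, rfl⟩ := ha
  rw [map_mul, map_natCast, CharP.cast_eq_zero, mul_zero]

instance instIsLocalHomCoeffZero : IsLocalHom (coeffZero p k n) := by
  refine ⟨fun a ha => ?_⟩
  by_contra hna
  have hmem : a ∈ maximalIdeal (TruncatedWittVector p (n + 1) k) := by
    rw [mem_maximalIdeal, mem_nonunits_iff]
    exact hna
  rw [coeffZero_mem_maximalIdeal p k n a hmem] at ha
  exact not_isUnit_zero ha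

/-- the residue field of `W_{n+1}(k)` maps isomorphically to `k` -/
noncomputable def resHom : ResidueField (TruncatedWittVector p (n + 1) k) →+* k :=
  ResidueField.lift (coeffZero p k n)

theorem resHom_residue (r : TruncatedWittVector p (n + 1) k) :
    resHom p k n (residue _ r) = r.coeff 0 := rfl

theorem resHom_bijective : Function.Bijective (resHom p k n) :=
  ⟨(resHom p k n).injective, fun a =>
    ⟨residue _ (TruncatedWittVector.mk p fun _ => a), by
      rw [resHom_residue, TruncatedWittVector.coeff_mk]⟩⟩

theorem truncMap_mem_maximalIdeal (f : k →+* k) :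
    maximalIdeal (TruncatedWittVector p (n + 1) k) ≤
      (maximalIdeal (TruncatedWittVector p (n + 1) k)).comap (WittGrp.truncMap p (n + 1) f) := by
  intro a ha
  rw [Ideal.mem_comap]
  rw [maximalIdeal_eq, Ideal.mem_span_singleton'] at ha ⊢
  obtain ⟨y, rfl⟩ := ha
  exact ⟨WittGrp.truncMap p (n + 1) f y, by rw [map_mul, map_natCast]⟩

/-- the endomorphism of the residue field induced by `W_{n+1}(f)` -/
noncomputable def sigmaBar (f : k →+* k) :
    ResidueField (TruncatedWittVector p (n + 1) k) →+* ResidueField (TruncatedWittVector p (n + 1) k) :=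
  Ideal.quotientMap (maximalIdeal (TruncatedWittVector p (n + 1) k)) (WittGrp.truncMap p (n + 1) f)
    (truncMap_mem_maximalIdeal p k n f)

theorem sigmaBar_residue (f : k →+* k) (r : TruncatedWittVector p (n + 1) k) :
    sigmaBar p k n f (residue _ r) = residue _ (WittGrp.truncMap p (n + 1) f r) :=
  Ideal.quotientMap_mk

theorem resHom_sigmaBar (f : k →+* k) (x : ResidueField (TruncatedWittVector p (n + 1) k)) :
    resHom p k n (sigmaBar p k n f x) = f (resHom p k n x) := by
  obtain ⟨r, rfl⟩ := residue_surjective x
  rw [sigmaBar_residue, resHom_residue, resHom_residue, WittGrp.coeff_truncMap]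

theorem sigmaBar_surjective (f : k →+* k) (hf : Function.Bijective f) :
    Function.Surjective (sigmaBar p k n f) := by
  intro y
  obtain ⟨a, ha⟩ := hf.2 (resHom p k n y)
  obtain ⟨x, rfl⟩ := (resHom_bijective p k n).2 a
  exact ⟨x, (resHom_bijective p k n).1 (by rw [resHom_sigmaBar, ha])⟩

end Groth.Agent.Helper8.TruncWitt
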