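import Mathlib
import Groth.Agent.Lib.Helper8.Abhyankar

set_option linter.style.haveILetI false
set_option linter.unusedSectionVars false
set_option linter.unusedVariables false

namespace Groth.Agent.Helper8.ValDim

universe u

section Uat

variable {K : Type u} [Field K] (A : ValuationSubring K)

/-- the units of the localization of `A` at the prime `q`, as a subgroup of `Kˣ` -/
def Uat (q : Ideal A) [hq : q.IsPrime] : Subgroup Kˣ where
  carrier := {y | ∃ a b : A, a ∉ q ∧ b ∉ q ∧ (y : K) * (b : K) = (a : K)}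
  mul_mem' := by
    rintro y y' ⟨a, b, ha, hb, h⟩ ⟨a', b', ha', hb', h'⟩
    refine ⟨a * a', b * b', ?_, ?_, ?_⟩
    · intro hm
      rcases hq.mem_or_mem hm with h1 | h1
      · exact ha h1
      · exact ha' h1
    · intro hm
      rcases hq.mem_or_mem hm with h1 | h1
      · exact hb h1
      · exact hb' h1
    · push_cast
      rw [← h, ← h']
      ring
  one_mem' := ⟨1, 1, (Ideal.ne_top_iff_one q).1 hq.ne_top,
    (Ideal.ne_top_iff_one q).1 hq.ne_top, by simp⟩
  inv_mem' := by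
    rintro y ⟨a, b, ha, hb, h⟩
    refine ⟨b, a, hb, ha, ?_⟩
    rw [← h, Units.val_inv_eq_inv_val, inv_mul_cancel_left₀ y.ne_zero]

theorem unitGroup_le_Uat (q : Ideal A) [hq : q.IsPrime] : A.unitGroup ≤ Uat A q := by
  intro u hu
  refine ⟨(A.unitGroupMulEquiv ⟨u, hu⟩ : A), 1, ?_, (Ideal.ne_top_iff_one q).1 hq.ne_top, ?_⟩
  · intro hm
    exact hq.ne_top (Ideal.eq_top_of_isUnit_mem q hm (A.unitGroupMulEquiv ⟨u, hu⟩).isUnit)
  · rw [ValuationSubring.coe_unitGroupMulEquiv_apply]; simp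

theorem mk0_mem_Uat (q : Ideal A) [hq : q.IsPrime] (x : A) (hx : x ∉ q) (hx0 : (x : K) ≠ 0) :
    Units.mk0 (x : K) hx0 ∈ Uat A q :=
  ⟨x, 1, hx, (Ideal.ne_top_iff_one q).1 hq.ne_top, by simp⟩

theorem Uat_anti {q' q : Ideal A} [hq' : q'.IsPrime] [hq : q.IsPrime] (h : q' ≤ q) :
    Uat A q ≤ Uat A q' := by
  rintro y ⟨a, b, ha, hb, hab⟩
  exact ⟨a, b, fun h' => ha (h h'), fun h' => hb (h h'), hab⟩

/-- contraction of an ideal of `A` to `ℤ` -/
def P (q : Ideal A) : Ideal ℤ := q.comap (Int.castRingHom A)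

theorem mem_P (q : Ideal A) (n : ℤ) : n ∈ P A q ↔ ((n : ℤ) : A) ∈ q := by
  unfold P; rw [Ideal.mem_comap]; rfl

instance (q : Ideal A) [hq : q.IsPrime] : (P A q).IsPrime := Ideal.comap_isPrime _ _

theorem P_mono {q' q : Ideal A} (h : q' ≤ q) : P A q' ≤ P A q := Ideal.comap_mono h

theorem key_pos {q' q : Ideal A} [hq' : q'.IsPrime] [hq : q.IsPrime] (hle : q' ≤ q)
    (x : A) (hxq : x ∈ q) (hxq' : x ∉ q') (hx0 : (x : K) ≠ 0) (s : ℕ) (hs : 0 < s)
    (w : Kˣ) (hw : w ∈ Uat A q) (κ : Kˣ) (hκ : κ = w * (Units.mk0 (x : K) hx0) ^ s)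
    (n d : ℤ) (hnd : IsCoprime n d) (hκnd : (κ : K) * (d : K) = (n : K)) :
    n ∈ P A q ∧ n ∉ P A q' := by
  have hκK : (κ : K) = (w : K) * (x : K) ^ s := by
    rw [hκ]; simp
  constructor
  · obtain ⟨a, b, ha, hb, hab⟩ := hw
    rw [mem_P]
    have e : ((n : ℤ) : A) * b = ((d : ℤ) : A) * a * x ^ s := by
      apply Subtype.ext
      push_cast
      rw [← hκnd, hκK, ← hab]; ring
    have h1 : ((n : ℤ) : A) * b ∈ q := by
      rw [e]; exact Ideal.mul_mem_left _ _ (Ideal.pow_mem_of_mem q hxq s hs)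
    rcases hq.mem_or_mem h1 with h2 | h2
    · exact h2
    · exact absurd h2 hb
  · intro hn
    rw [mem_P] at hn
    have hκmem : κ ∈ Uat A q' := by
      rw [hκ]
      exact Subgroup.mul_mem _ (Uat_anti A hle hw)
        (Subgroup.pow_mem _ (mk0_mem_Uat A q' x hxq' hx0) s)
    obtain ⟨a', b', ha', hb', hab'⟩ := hκmem
    have e : ((n : ℤ) : A) * b' = ((d : ℤ) : A) * a' := by
      apply Subtype.ext
      push_cast
      rw [← hκnd, ← hab']; ring
    have h1 : ((d : ℤ) : A) * a' ∈ q' := by rw [← e]; exact Ideal.mul_mem_right _ _ hn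
    have hd : ((d : ℤ) : A) ∈ q' := by
      rcases hq'.mem_or_mem h1 with h2 | h2
      · exact h2
      · exact absurd h2 ha'
    obtain ⟨α, β, hαβ⟩ := hnd
    have h1P : (1 : ℤ) ∈ P A q' := by
      rw [← hαβ]
      exact Ideal.add_mem _ (Ideal.mul_mem_left _ _ ((mem_P A q' n).2 hn))
        (Ideal.mul_mem_left _ _ ((mem_P A q' d).2 hd))
    exact (Ideal.ne_top_iff_one _).1 (inferInstance : (P A q').IsPrime).ne_top h1P

theorem key {q' q : Ideal A} [hq' : q'.IsPrime] [hq : q.IsPrime] (hle : q' ≤ q)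
    (x : A) (hxq : x ∈ q) (hxq' : x ∉ q') (hx0 : (x : K) ≠ 0) (s : ℤ) (hs : s ≠ 0)
    (w : Kˣ) (hw : w ∈ Uat A q) (κ : Kˣ) (hκ : κ = w * (Units.mk0 (x : K) hx0) ^ s)
    (n d : ℤ) (hnd : IsCoprime n d) (hd0 : ((d : ℤ) : K) ≠ 0)
    (hκnd : (κ : K) * (d : K) = (n : K)) :
    P A q ≠ P A q' := by
  rcases lt_or_gt_of_ne hs with hneg | hpos
  · obtain ⟨t, ht⟩ : ∃ t : ℕ, s = -(t : ℤ) := ⟨(-s).toNat, by omega⟩
    have ht0 : 0 < t := by omega
    have hκ' : κ⁻¹ = w⁻¹ * (Units.mk0 (x : K) hx0) ^ t := by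
      rw [hκ, ht, zpow_neg, zpow_natCast, mul_inv, inv_inv]
    have hκnd' : ((κ⁻¹ : Kˣ) : K) * (n : K) = (d : K) := by
      rw [← hκnd, Units.val_inv_eq_inv_val, inv_mul_cancel_left₀ κ.ne_zero]
    obtain ⟨h1, h2⟩ := key_pos A hle x hxq hxq' hx0 t ht0 w⁻¹ (Subgroup.inv_mem _ hw) κ⁻¹ hκ'
      d n hnd.symm hκnd'
    intro heq
    exact h2 (heq ▸ h1)
  · obtain ⟨t, ht⟩ : ∃ t : ℕ, s = (t : ℤ) := ⟨s.toNat, by omega⟩
    have ht0 : 0 < t := by omega
    have hκ' : κ = w * (Units.mk0 (x : K) hx0) ^ t := by rw [hκ, ht, zpow_natCast]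
    obtain ⟨h1, h2⟩ := key_pos A hle x hxq hxq' hx0 t ht0 w hw κ hκ' n d hnd hκnd
    intro heq
    exact h2 (heq ▸ h1)

theorem jump_aux (p : LTSeries (PrimeSpectrum A)) (i j : Fin p.length) (hij : i < j)
    (hi : P A (p i.castSucc).asIdeal ≠ P A (p i.succ).asIdeal)
    (hj : P A (p j.castSucc).asIdeal ≠ P A (p j.succ).asIdeal) : False := by
  have m1 : P A (p i.castSucc).asIdeal ≤ P A (p i.succ).asIdeal :=
    P_mono A (le_of_lt ((PrimeSpectrum.asIdeal_lt_asIdeal _ _).2 (p.step i)))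
  have m2 : P A (p j.castSucc).asIdeal ≤ P A (p j.succ).asIdeal :=
    P_mono A (le_of_lt ((PrimeSpectrum.asIdeal_lt_asIdeal _ _).2 (p.step j)))
  have hle : i.succ ≤ j.castSucc := by
    rw [Fin.le_def]
    simp only [Fin.val_succ, Fin.val_castSucc]
    exact Nat.succ_le_of_lt (Fin.lt_def.1 hij)
  have m3 : P A (p i.succ).asIdeal ≤ P A (p j.castSucc).asIdeal :=
    P_mono A ((PrimeSpectrum.asIdeal_le_asIdeal _ _).2 (p.monotone hle))
  have hne : P A (p i.succ).asIdeal ≠ ⊥ := by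
    intro h0
    apply hi
    refine le_antisymm m1 ?_
    rw [h0]; exact bot_le
  have hmax : (P A (p i.succ).asIdeal).IsMaximal := IsPrime.to_maximal_ideal hne
  have htop : P A (p j.succ).asIdeal ≠ ⊤ :=
    (inferInstance : (P A (p j.succ).asIdeal).IsPrime).ne_top
  have heq := hmax.eq_of_le htop (m3.trans m2)
  apply hj
  refine le_antisymm m2 ?_
  rw [← heq]; exact m3

end Uat

section main

variable {K : Type u} [Field K]

theorem exists_int_coprime (k : (⊥ : Subfield K)) :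
    ∃ n d : ℤ, IsCoprime n d ∧ ((d : ℤ) : K) ≠ 0 ∧ (k : K) * ((d : ℤ) : K) = ((n : ℤ) : K) := by
  obtain ⟨p, hp⟩ := CharP.exists K
  rcases CharP.char_is_prime_or_zero K p with hprime | rfl
  · haveI := Fact.mk hprime
    haveI : NeZero p := ⟨hprime.ne_zero⟩
    letI := ZMod.algebra K p
    have hk : (k : K) ∈ (algebraMap (ZMod p) K).fieldRange := by
      rw [← Subfield.bot_eq_of_zMod_algebra p]; exact k.2
    obtain ⟨z, hz⟩ := hk
    have hzz : algebraMap (ZMod p) K z = ((z.val : ℕ) : K) := by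
      conv_lhs => rw [← ZMod.natCast_zmod_val z]
      exact map_natCast (algebraMap (ZMod p) K) z.val
    refine ⟨(z.val : ℤ), 1, isCoprime_one_right, by simp, ?_⟩
    rw [← hz, hzz]
    push_cast
    ring
  · haveI := CharP.charP_to_charZero K
    have hk : (k : K) ∈ (algebraMap ℚ K).fieldRange := by
      rw [← Subfield.bot_eq_of_charZero]; exact k.2
    obtain ⟨q, hq⟩ := hk
    refine ⟨q.num, q.den, Rat.isCoprime_num_den q, ?_, ?_⟩
    · rw [Int.cast_natCast]; exact Nat.cast_ne_zero.2 q.den_ne_zero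
    · rw [← hq, eq_ratCast, Rat.cast_def, Int.cast_natCast,
        div_mul_cancel₀ _ (Nat.cast_ne_zero.2 q.den_ne_zero)]

theorem dim_le_of_rank (A : ValuationSubring K) (d : ℕ)
    (hrank : Module.rank ℤ (Additive Kˣ ⧸ Subgroup.toAddSubgroup
      (A.unitGroup ⊔ (Units.map (algebraMap (⊥ : Subfield K) K).toMonoidHom).range)) ≤
        (d : Cardinal.{u})) :
    ringKrullDim A ≤ ((d + 1 : ℕ) : WithBot ℕ∞) := by
  classical
  unfold ringKrullDim Order.krullDim
  refine iSup_le fun p => ?_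
  have hx : ∀ i : Fin p.length, ∃ x : A, x ∈ (p i.succ).asIdeal ∧ x ∉ (p i.castSucc).asIdeal :=
    fun i => SetLike.exists_of_lt ((PrimeSpectrum.asIdeal_lt_asIdeal _ _).2 (p.step i))
  choose x hx1 hx2 using hx
  have hx0 : ∀ i, ((x i : A) : K) ≠ 0 := by
    intro i h0
    apply hx2 i
    have h00 : x i = 0 := Subtype.ext h0
    rw [h00]; exact zero_mem _
  obtain ⟨X, hX⟩ : ∃ X : Fin p.length → Kˣ, ∀ i, X i = Units.mk0 ((x i : A) : K) (hx0 i) :=
    ⟨_, fun i => rfl⟩
  obtain ⟨I, hI⟩ : ∃ I : Finset (Fin p.length),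
      ∀ i, i ∈ I ↔ P A (p i.castSucc).asIdeal = P A (p i.succ).asIdeal :=
    ⟨Finset.univ.filter (fun i => P A (p i.castSucc).asIdeal = P A (p i.succ).asIdeal),
      fun i => by simp⟩
  have hcardI : p.length ≤ I.card + 1 := by
    have hJ : (Finset.univ \ I).card ≤ 1 := by
      rw [Finset.card_le_one]
      intro a ha b hb
      rw [Finset.mem_sdiff, hI] at ha hb
      by_contra hab
      rcases lt_or_gt_of_ne hab with h | h
      · exact jump_aux A p a b h ha.2 hb.2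
      · exact jump_aux A p b a h hb.2 ha.2
    have h2 := Finset.card_sdiff_add_card_eq_card (Finset.subset_univ I)
    rw [Finset.card_univ, Fintype.card_fin] at h2
    omega
  have hli : LinearIndepOn ℤ (fun i : Fin p.length =>
      (QuotientAddGroup.mk (Additive.ofMul (X i)) :
        Additive Kˣ ⧸ Subgroup.toAddSubgroup
          (A.unitGroup ⊔ (Units.map (algebraMap (⊥ : Subfield K) K).toMonoidHom).range)))
      (I : Set (Fin p.length)) := by
    rw [linearIndepOn_iff]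
    intro l hl hsum
    by_contra hl0
    have hne : l.support.Nonempty := Finsupp.support_nonempty_iff.2 hl0
    obtain ⟨i0, hi0def⟩ : ∃ i0, i0 = l.support.min' hne := ⟨_, rfl⟩
    have hi0 : i0 ∈ l.support := hi0def ▸ Finset.min'_mem _ _
    have hmin : ∀ i ∈ l.support, i0 ≤ i := fun i hi => hi0def ▸ Finset.min'_le _ i hi
    have hsub : (l.support : Set (Fin p.length)) ⊆ (I : Set (Fin p.length)) := hl
    have hi0I : i0 ∈ I := Finset.mem_coe.1 (hsub (Finset.mem_coe.2 hi0))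
    have hs0 : l i0 ≠ 0 := Finsupp.mem_support_iff.1 hi0
    have hprod : (QuotientAddGroup.mk (Additive.ofMul (∏ i ∈ l.support, X i ^ l i)) :
        Additive Kˣ ⧸ Subgroup.toAddSubgroup
          (A.unitGroup ⊔ (Units.map (algebraMap (⊥ : Subfield K) K).toMonoidHom).range)) = 0 := by
      rw [← hsum, Finsupp.linearCombination_apply, Finsupp.sum, ofMul_prod]
      change QuotientAddGroup.mk' _ _ = _
      rw [map_sum]
      refine Finset.sum_congr rfl (fun i _ => ?_)
      rw [ofMul_zpow, map_zsmul]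
      rfl
    rw [QuotientAddGroup.eq_zero_iff] at hprod
    have hmemH : (∏ i ∈ l.support, X i ^ l i) ∈
        A.unitGroup ⊔ (Units.map (algebraMap (⊥ : Subfield K) K).toMonoidHom).range := hprod
    obtain ⟨y, hy, z, hz, hyz⟩ := Subgroup.mem_sup.1 hmemH
    obtain ⟨k0, rfl⟩ := MonoidHom.mem_range.1 hz
    have hsplit : ∏ i ∈ l.support, X i ^ l i =
        X i0 ^ l i0 * ∏ i ∈ l.support.erase i0, X i ^ l i :=
      (Finset.mul_prod_erase _ _ hi0).symm
    have hT : (∏ i ∈ l.support.erase i0, X i ^ l i) ∈ Uat A (p i0.succ).asIdeal := by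
      refine Subgroup.prod_mem _ (fun i hi => Subgroup.zpow_mem _ ?_ _)
      have hi' := Finset.mem_erase.1 hi
      have hlt : i0 < i := lt_of_le_of_ne (hmin i hi'.2) (Ne.symm hi'.1)
      have hle : i0.succ ≤ i.castSucc := by
        rw [Fin.le_def]
        simp only [Fin.val_succ, Fin.val_castSucc]
        exact Nat.succ_le_of_lt (Fin.lt_def.1 hlt)
      have hqle : (p i0.succ).asIdeal ≤ (p i.castSucc).asIdeal :=
        (PrimeSpectrum.asIdeal_le_asIdeal _ _).2 (p.monotone hle)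
      rw [hX i]
      exact mk0_mem_Uat A _ (x i) (fun h => hx2 i (hqle h)) (hx0 i)
    have hle' : (p i0.castSucc).asIdeal ≤ (p i0.succ).asIdeal :=
      le_of_lt ((PrimeSpectrum.asIdeal_lt_asIdeal _ _).2 (p.step i0))
    obtain ⟨n, dd, hnd, hd0, hknd⟩ := exists_int_coprime (k0 : (⊥ : Subfield K))
    have hκeq : Units.map (algebraMap (⊥ : Subfield K) K).toMonoidHom k0 =
        (y⁻¹ * ∏ i ∈ l.support.erase i0, X i ^ l i) *
          (Units.mk0 ((x i0 : A) : K) (hx0 i0)) ^ l i0 := by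
      rw [← hX i0]
      calc Units.map (algebraMap (⊥ : Subfield K) K).toMonoidHom k0
          = y⁻¹ * (y * Units.map (algebraMap (⊥ : Subfield K) K).toMonoidHom k0) :=
            (inv_mul_cancel_left y _).symm
        _ = y⁻¹ * (X i0 ^ l i0 * ∏ i ∈ l.support.erase i0, X i ^ l i) := by rw [hyz, hsplit]
        _ = (y⁻¹ * ∏ i ∈ l.support.erase i0, X i ^ l i) * X i0 ^ l i0 := by
            rw [mul_comm (X i0 ^ l i0), mul_assoc]
    have hknd' : ((Units.map (algebraMap (⊥ : Subfield K) K).toMonoidHom k0 : Kˣ) : K) *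
        ((dd : ℤ) : K) = ((n : ℤ) : K) := by
      rw [Units.coe_map]; exact hknd
    have hfinal := key A hle' (x i0) (hx1 i0) (hx2 i0) (hx0 i0) (l i0) hs0 _
      (Subgroup.mul_mem _ (Subgroup.inv_mem _ (unitGroup_le_Uat A _ hy)) hT) _ hκeq n dd hnd hd0
      hknd'
    exact hfinal ((hI i0).1 hi0I).symm
  have hc := hli.linearIndependent.cardinal_lift_le_rank
  have hc' : (I.card : Cardinal.{u}) ≤ Module.rank ℤ (Additive Kˣ ⧸ Subgroup.toAddSubgroup
      (A.unitGroup ⊔ (Units.map (algebraMap (⊥ : Subfield K) K).toMonoidHom).range)) := by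
    simpa using hc
  have hc2 : (I.card : Cardinal.{u}) ≤ (d : Cardinal.{u}) := hc'.trans hrank
  have hc3 : I.card ≤ d := by exact_mod_cast hc2
  have hfin : p.length ≤ d + 1 := by omega
  exact_mod_cast hfin

theorem dim_le {Γ : Type u} [LinearOrderedCommGroupWithZero Γ]
    (v : Valuation K Γ) (d : ℕ) (hd : Algebra.trdeg (⊥ : Subfield K) K = d) :
    ringKrullDim v.valuationSubring ≤ ((d + 1 : ℕ) : WithBot ℕ∞) := by
  obtain ⟨vK, hvK⟩ : ∃ vK : Valuation (⊥ : Subfield K) Γ,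
      vK = v.comap (algebraMap (⊥ : Subfield K) K) := ⟨_, rfl⟩
  haveI : vK.HasExtension v := ⟨by rw [hvK]; exact Valuation.IsEquiv.refl⟩
  have hAb := Groth.Agent.Helper8.Abhyankar.main vK v
  refine dim_le_of_rank v.valuationSubring d ?_
  rw [← hd]
  exact le_trans le_self_add hAb

end main

end Groth.Agent.Helper8.ValDim
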