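import Mathlib
import Groth.Agent.Lib.Helper8.ValDim

set_option linter.style.haveILetI false
set_option linter.unusedSectionVars false
set_option linter.unusedVariables false

namespace Groth.Agent.Helper8.ValFin

universe u

/-- A valuation ring of finite Krull dimension has finite spectrum. -/
theorem finite_spec_of_dim {A : Type*} [CommRing A] [IsDomain A] [ValuationRing A] (d : ℕ)
    (h : ringKrullDim A ≤ (d : WithBot ℕ∞)) : Finite (PrimeSpectrum A) := by
  classical
  by_contra hinf
  rw [not_finite_iff_infinite] at hinf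
  letI : LinearOrder (PrimeSpectrum A) :=
    { (inferInstance : PartialOrder (PrimeSpectrum A)) with
      le_total := fun p q => by
        rcases (ValuationRing.le_total_ideal (A := A)).total p.asIdeal q.asIdeal with h | h
        · exact Or.inl h
        · exact Or.inr h
      toDecidableLE := Classical.decRel _ }
  obtain ⟨s, hs⟩ := Infinite.exists_subset_card_eq (PrimeSpectrum A) (d + 1 + 1)
  have hlt := (Order.LTSeries.length_le_krullDim
    (LTSeries.mk (d + 1) (s.orderEmbOfFin hs) (s.orderEmbOfFin hs).strictMono)).trans h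
  have h2 : ((d + 1 : ℕ) : WithBot ℕ∞) ≤ (d : WithBot ℕ∞) := hlt
  have h3 : d + 1 ≤ d := by exact_mod_cast h2
  omega

theorem finTrdeg_closure {K : Type u} [Field K] (T : Set K) (hT : T.Finite) :
    ∃ d : ℕ, Algebra.trdeg (⊥ : Subfield (Subfield.closure T)) (Subfield.closure T) = d := by
  obtain ⟨t, ht⟩ : ∃ t : Set (Subfield.closure T), t = Subtype.val ⁻¹' T := ⟨_, rfl⟩
  have hfin : t.Finite := by
    rw [ht]; exact hT.preimage Subtype.val_injective.injOn
  have htop : IntermediateField.adjoin (⊥ : Subfield (Subfield.closure T)) t = ⊤ := by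
    rw [eq_top_iff]
    rintro ⟨x, hx⟩ -
    refine Subfield.closure_induction
      (p := fun x hx => (⟨x, hx⟩ : Subfield.closure T) ∈
        IntermediateField.adjoin (⊥ : Subfield (Subfield.closure T)) t)
      ?_ ?_ ?_ ?_ ?_ ?_ hx
    · intro x hx
      exact IntermediateField.subset_adjoin _ _ (by rw [ht]; exact hx)
    · exact one_mem _
    · intro x y hx hy h1 h2
      exact (add_mem h1 h2 : (⟨x, hx⟩ + ⟨y, hy⟩ : Subfield.closure T) ∈ _)
    · intro x hx h1
      exact (neg_mem h1 : (-⟨x, hx⟩ : Subfield.closure T) ∈ _)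
    · intro x hx h1
      exact (inv_mem h1 : ((⟨x, hx⟩ : Subfield.closure T)⁻¹) ∈ _)
    · intro x y hx hy h1 h2
      exact (mul_mem h1 h2 : (⟨x, hx⟩ * ⟨y, hy⟩ : Subfield.closure T) ∈ _)
  haveI : FinTrdeg (⊥ : Subfield (Subfield.closure T)) (Subfield.closure T) :=
    ⟨⟨⊤, by rw [← htop]; exact IntermediateField.fg_adjoin_of_finite hfin, inferInstance⟩⟩
  exact Cardinal.lt_aleph0.1 (trdeg_lt_aleph0 _ _)

theorem dim_closure {K : Type u} [Field K] (A : ValuationSubring K) (T : Set K) (hT : T.Finite) :
    ∃ d : ℕ, ringKrullDim (A.comap (Subfield.closure T).subtype) ≤ (d : WithBot ℕ∞) := by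
  obtain ⟨d, hd⟩ := finTrdeg_closure T hT
  have := Groth.Agent.Helper8.ValDim.dim_le (A.comap (Subfield.closure T).subtype).valuation d hd
  rw [ValuationSubring.valuationSubring_valuation] at this
  exact ⟨d + 1, this⟩

variable (R : Type u) [CommRing R] [IsDomain R] [ValuationRing R]

/-- The subring of `R` cut out by the subfield generated by a finite set. -/
noncomputable def FS (S : Finset R) : Subring R :=
  (Subfield.closure (algebraMap R (FractionRing R) '' (S : Set R))).toSubring.comap
    (algebraMap R (FractionRing R))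

theorem mem_FS (S : Finset R) (r : R) :
    r ∈ FS R S ↔ algebraMap R (FractionRing R) r ∈
      Subfield.closure (algebraMap R (FractionRing R) '' (S : Set R)) := Iff.rfl

theorem valuationRing_FS (S : Finset R) : ValuationRing (FS R S) := by
  have hinj := IsFractionRing.injective R (FractionRing R)
  suffices hP : PreValuationRing (FS R S) from { toPreValuationRing := hP }
  refine ⟨?_⟩
  rintro ⟨a, ha⟩ ⟨b, hb⟩
  by_cases ha0 : a = 0
  · subst ha0
    exact ⟨0, Or.inr (Subtype.ext (by simp))⟩
  by_cases hb0 : b = 0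
  · subst hb0
    exact ⟨0, Or.inl (Subtype.ext (by simp))⟩
  have haK : algebraMap R (FractionRing R) a ≠ 0 := fun h =>
    ha0 (hinj (h.trans (map_zero _).symm))
  have hbK : algebraMap R (FractionRing R) b ≠ 0 := fun h =>
    hb0 (hinj (h.trans (map_zero _).symm))
  rw [mem_FS] at ha hb
  obtain ⟨c, hc | hc⟩ := ValuationRing.cond a b
  · have hcK : algebraMap R (FractionRing R) c =
        algebraMap R (FractionRing R) b / algebraMap R (FractionRing R) a := by
      rw [eq_div_iff haK, ← map_mul, mul_comm, hc]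
    have hcm : c ∈ FS R S := by
      rw [mem_FS, hcK]; exact div_mem hb ha
    exact ⟨⟨c, hcm⟩, Or.inl (Subtype.ext hc)⟩
  · have hcK : algebraMap R (FractionRing R) c =
        algebraMap R (FractionRing R) a / algebraMap R (FractionRing R) b := by
      rw [eq_div_iff hbK, ← map_mul, mul_comm, hc]
    have hcm : c ∈ FS R S := by
      rw [mem_FS, hcK]; exact div_mem ha hb
    exact ⟨⟨c, hcm⟩, Or.inr (Subtype.ext hc)⟩

theorem finite_FS (S : Finset R) : Finite (PrimeSpectrum (FS R S)) := by
  haveI := valuationRing_FS R S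
  have hinj := IsFractionRing.injective R (FractionRing R)
  obtain ⟨AR, hARdef⟩ : ∃ AR : ValuationSubring (FractionRing R),
      AR = (ValuationRing.valuation R (FractionRing R)).valuationSubring := ⟨_, rfl⟩
  have hAR : ∀ x : FractionRing R, x ∈ AR ↔ ∃ r : R, algebraMap R (FractionRing R) r = x := by
    intro x
    rw [hARdef, Valuation.mem_valuationSubring_iff, ← Valuation.mem_integer_iff,
      ValuationRing.mem_integer_iff]
  obtain ⟨T, hTdef⟩ : ∃ T : Set (FractionRing R),
      T = algebraMap R (FractionRing R) '' (S : Set R) := ⟨_, rfl⟩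
  have hT : T.Finite := by rw [hTdef]; exact S.finite_toSet.image _
  have hmem : ∀ r : R, r ∈ FS R S ↔ algebraMap R (FractionRing R) r ∈ Subfield.closure T := by
    intro r; rw [hTdef]; exact Iff.rfl
  obtain ⟨d, hd⟩ := dim_closure AR T hT
  have e : FS R S ≃+* ↥(AR.comap (Subfield.closure T).subtype) := by
    let g : FS R S →+* (Subfield.closure T) :=
      ((algebraMap R (FractionRing R)).comp (FS R S).subtype).codRestrict (Subfield.closure T)
        (fun x => (hmem x.1).1 x.2)
    have hg : ∀ x, g x ∈ AR.comap (Subfield.closure T).subtype := fun x => by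
      rw [ValuationSubring.mem_comap]
      exact (hAR _).2 ⟨x.1, rfl⟩
    let g' : FS R S →+* ↥(AR.comap (Subfield.closure T).subtype) := g.codRestrict _ hg
    refine RingEquiv.ofBijective g' ⟨?_, ?_⟩
    · intro x y hxy
      have h1 : algebraMap R (FractionRing R) x.1 = algebraMap R (FractionRing R) y.1 :=
        congrArg (fun z => z.1.1) hxy
      exact Subtype.ext (hinj h1)
    · rintro ⟨⟨y, hy⟩, hyA⟩
      obtain ⟨r, hr⟩ := (hAR y).1 hyA
      exact ⟨⟨r, (hmem r).2 (by rw [hr]; exact hy)⟩, Subtype.ext (Subtype.ext hr)⟩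
  exact finite_spec_of_dim d ((ringKrullDim_eq_of_ringEquiv e).le.trans hd)

theorem main :
    ∃ (ι : Type u) (_ : Preorder ι) (_ : IsDirected ι (fun a b ↦ a ≤ b)) (_ : Nonempty ι)
      (F : ι → Subring R), Monotone F ∧ (⨆ i, F i) = ⊤ ∧
        ∀ i, ValuationRing (F i) ∧ Finite (PrimeSpectrum (F i)) := by
  classical
  refine ⟨Finset R, inferInstance, inferInstance, inferInstance, fun S => FS R S, ?_, ?_, ?_⟩
  · intro S₁ S₂ h r hr
    rw [mem_FS] at hr ⊢
    exact Subfield.closure_mono (Set.image_mono (by exact_mod_cast h)) hr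
  · rw [eq_top_iff]
    intro r _
    refine (le_iSup (fun S : Finset R => FS R S) ({r} : Finset R)) ?_
    rw [mem_FS]
    exact Subfield.subset_closure ⟨r, by simp, rfl⟩
  · intro S
    exact ⟨valuationRing_FS R S, finite_FS R S⟩

end Groth.Agent.Helper8.ValFin
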