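import Mathlib
import Groth.Agent.Lib.Helper8.WittSolve
import Groth.Agent.Lib.Helper8.DispBC

set_option autoImplicit false
set_option linter.style.haveILetI false
set_option linter.unusedSectionVars false
set_option linter.unusedVariables false
set_option linter.unusedTactic false
set_option linter.unreachableTactic false

universe u

noncomputable section

namespace Groth.Agent.Helper8.WittCyc

open Groth.Agent.Helper8.WittSolve

variable {p : ℕ} [hp : Fact p.Prime]

section Vk

variable {T : Type u} [CommRing T]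

/-- iterated Verschiebung as an additive map -/
def Vk : ℕ → (WittVector p T →+ WittVector p T)
  | 0 => AddMonoidHom.id _
  | k + 1 => (WittVector.verschiebung : WittVector p T →+ WittVector p T).comp (Vk k)

lemma Vk_apply (k : ℕ) (x : WittVector p T) :
    Vk k x = (⇑(WittVector.verschiebung : WittVector p T →+ WittVector p T))^[k] x := by
  induction k with
  | zero => rfl
  | succ k ih =>
    rw [Function.iterate_succ_apply', ← ih]
    rfl

lemma Vk_mul (k : ℕ) (x y : WittVector p T) :
    Vk k x * y =
      Vk k (x * (⇑(WittVector.frobenius : WittVector p T →+* WittVector p T))^[k] y) := by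
  rw [Vk_apply, Vk_apply]
  exact WittVector.iterate_verschiebung_mul_left x y k

lemma Vk_succ (k : ℕ) (z : WittVector p T) :
    Vk (k + 1) z = Vk k (WittVector.verschiebung z) := by
  rw [Vk_apply, Vk_apply, Function.iterate_succ_apply]

lemma trunc_Vk {N k : ℕ} (h : N ≤ k) (z : WittVector p T) :
    WittVector.truncate N (Vk k z) = 0 := by
  rw [trunc_eq_zero_iff]
  intro i hi
  rw [Vk_apply]
  exact WittVector.iterate_verschiebung_coeff_eq_zero z (lt_of_lt_of_le hi h)

lemma frobT [CharP T p] (k : ℕ) (c : T) :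
    (⇑(WittVector.frobenius : WittVector p T →+* WittVector p T))^[k]
        (WittVector.teichmuller p c) = WittVector.teichmuller p (c ^ p ^ k) := by
  induction k with
  | zero => simp
  | succ k ih =>
    rw [Function.iterate_succ_apply', ih, WittVector.frobenius_eq_map_frobenius,
      WittVector.map_teichmuller, frobenius_def, ← pow_mul, ← pow_succ]

lemma sum_coeff (c : ℕ → WittVector p T) {K M : ℕ} (h : K ≤ M) :
    WittVector.truncate K (∑ i ∈ Finset.range M, Vk i (c i)) =
      WittVector.truncate K (∑ i ∈ Finset.range K, Vk i (c i)) := by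
  induction M, h using Nat.le_induction with
  | base => rfl
  | succ M hM ih =>
    rw [Finset.sum_range_succ, map_add, ih, trunc_Vk hM, add_zero]

lemma exists_lim (c : ℕ → WittVector p T) :
    ∃ X : WittVector p T, ∀ N, WittVector.truncate N X =
      WittVector.truncate N (∑ i ∈ Finset.range N, Vk i (c i)) := by
  refine ⟨WittVector.mk p (fun i => (∑ j ∈ Finset.range (i + 1), Vk j (c j)).coeff i),
    fun N => ?_⟩
  rw [trunc_eq_iff]
  intro i hi
  rw [WittVector.coeff_mk]
  exact ((trunc_eq_iff (i + 1) _ _).1 (sum_coeff c (Nat.succ_le_of_lt hi)) i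
    (Nat.lt_succ_self i)).symm

lemma map_Vk {A B : Type u} [CommRing A] [CommRing B] (f : A →+* B) (k : ℕ)
    (z : WittVector p A) :
    WittVector.map f (Vk k z) = Vk k (WittVector.map f z) := by
  induction k with
  | zero => rfl
  | succ k ih =>
    show WittVector.map f (WittVector.verschiebung (Vk k z)) =
      WittVector.verschiebung (Vk k (WittVector.map f z))
    rw [WittVector.map_verschiebung, ih]

end Vk

lemma modinv (ℓ N : ℕ) (hℓ : 0 < ℓ) (hN : 0 < N) (hc : Nat.Coprime N ℓ) :
    ∃ t s : ℕ, t ≤ ℓ ∧ t * N = 1 + s * ℓ := by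
  rcases Nat.lt_or_ge 1 ℓ with h1 | h1
  · obtain ⟨m, hm, hm1⟩ := Nat.exists_mul_mod_eq_one_of_coprime hc h1
    have h3 : ℓ * (N * m / ℓ) + 1 = N * m := by
      have := Nat.div_add_mod (N * m) ℓ
      rwa [hm1] at this
    refine ⟨m, N * m / ℓ, hm.le, ?_⟩
    calc m * N = N * m := mul_comm _ _
      _ = ℓ * (N * m / ℓ) + 1 := h3.symm
      _ = 1 + N * m / ℓ * ℓ := by ring
  · have : ℓ = 1 := by omega
    subst this
    exact ⟨1, N - 1, le_refl 1, by omega⟩

section Main

variable {A B : Type u} [CommRing A] [CommRing B] [IsDomain A] [IsDomain B]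
  [CharP A p] [CharP B p]

lemma key_pow (f : A →+* B) (y : B) (by_ ey a' : A) (ℓ N t s : ℕ) (hb : f by_ = y ^ ℓ)
    (ha' : by_ * ey = a') (hts : t * N = 1 + s * ℓ) (hs : s ≤ N) :
    (f a') ^ N * y = f (ey ^ N * by_ ^ (N - s)) * (y ^ t) ^ N := by
  have e1 : ℓ * N + 1 = ℓ * (N - s) + (1 + s * ℓ) := by
    have : ℓ * (N - s) + s * ℓ = ℓ * N := by
      rw [mul_comm s ℓ, ← Nat.mul_add, Nat.sub_add_cancel hs]
    omega
  calc (f a') ^ N * y = (f ey) ^ N * (y ^ (ℓ * N + 1)) := by
        rw [← ha', map_mul, hb]; ring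
    _ = (f ey) ^ N * (y ^ (ℓ * (N - s)) * y ^ (1 + s * ℓ)) := by rw [e1, pow_add]
    _ = f (ey ^ N * by_ ^ (N - s)) * (y ^ t) ^ N := by
        rw [map_mul, map_pow, map_pow, hb, ← pow_mul y t N, hts]; ring

theorem main0 (f : A →+* B) (ℓ n : ℕ) (hℓ : 0 < ℓ) (hpℓ : ¬ p ∣ ℓ)
    (Y : Finset B) (hY0 : ∀ y ∈ Y, y ≠ 0)
    (hsp : ∀ b : B, ∃ a : B → A, ∑ y ∈ Y, f (a y) * y = b)
    (hpow : ∀ y ∈ Y, ∃ c : A, f c = y ^ ℓ)
    (η : WittVector p B) :
    ∃ a : A, a ≠ 0 ∧ WittVector.teichmuller p (f a) * Vk n η ∈
      Ideal.span (Set.range (fun x : WittVector p A => WittVector.map f (Vk n x))) := by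
  classical
  have hb' : ∀ y : B, ∃ c : A, y ∈ Y → f c = y ^ ℓ := by
    intro y
    by_cases hy : y ∈ Y
    · obtain ⟨c, hc⟩ := hpow y hy
      exact ⟨c, fun _ => hc⟩
    · exact ⟨0, fun h => absurd h hy⟩
  choose b hb using hb'
  have hb0 : ∀ y ∈ Y, b y ≠ 0 := by
    intro y hy h0
    have := hb y hy
    rw [h0, map_zero] at this
    exact hY0 y hy ((pow_eq_zero_iff hℓ.ne').1 this.symm)
  obtain ⟨a', ha'⟩ : ∃ a' : A, a' = ∏ y ∈ Y, b y := ⟨_, rfl⟩
  have ha'0 : a' ≠ 0 := by
    rw [ha']; exact Finset.prod_ne_zero_iff.2 hb0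
  obtain ⟨e, he⟩ : ∃ e : B → A, e = fun y => ∏ y' ∈ Y.erase y, b y' := ⟨_, rfl⟩
  have hbe : ∀ y ∈ Y, b y * e y = a' := by
    intro y hy
    rw [he, ha']
    exact Finset.mul_prod_erase Y b hy
  have hcop : ∀ i : ℕ, Nat.Coprime (p ^ (n + i)) ℓ := fun i =>
    Nat.Coprime.pow_left _ ((Nat.Prime.coprime_iff_not_dvd hp.out).2 hpℓ)
  have hnum : ∀ i : ℕ, ∃ t s : ℕ, t ≤ ℓ ∧ t * p ^ (n + i) = 1 + s * ℓ := fun i =>
    modinv ℓ (p ^ (n + i)) hℓ (pow_pos hp.out.pos _) (hcop i)
  choose t s ht hts using hnum
  have hs : ∀ i, s i ≤ p ^ (n + i) := by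
    intro i
    have h1 : s i * ℓ < p ^ (n + i) * ℓ := by
      calc s i * ℓ < 1 + s i * ℓ := by omega
        _ = t i * p ^ (n + i) := (hts i).symm
        _ ≤ ℓ * p ^ (n + i) := Nat.mul_le_mul_right _ (ht i)
        _ = p ^ (n + i) * ℓ := mul_comm _ _
    exact (lt_of_mul_lt_mul_right h1 (Nat.zero_le _)).le
  -- the recursion
  have step : ∀ ξ : WittVector p B, ∃ (a : B → A) (ξ' : WittVector p B),
      ξ = ∑ y ∈ Y, WittVector.teichmuller p (f (a y) * y) + WittVector.verschiebung ξ' := by
    intro ξ
    obtain ⟨a, ha⟩ := hsp (ξ.coeff 0)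
    have h0 : WittVector.constantCoeff
        (ξ - ∑ y ∈ Y, WittVector.teichmuller p (f (a y) * y)) = 0 := by
      rw [map_sub, map_sum]
      have : ∀ y ∈ Y, WittVector.constantCoeff (WittVector.teichmuller p (f (a y) * y)) =
          f (a y) * y := fun y _ => WittVector.teichmuller_coeff_zero p _
      rw [Finset.sum_congr rfl this, ha]
      exact sub_self _
    obtain ⟨ξ', hξ'⟩ := Groth.Agent.Helper8.DispBC.ker_cc_le _ h0
    exact ⟨a, ξ', by rw [← hξ']; abel⟩
  choose aF nF hF using step
  obtain ⟨η', hη'⟩ : ∃ η' : ℕ → WittVector p B, η' = fun i => nF^[i] η := ⟨_, rfl⟩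
  obtain ⟨al, hal⟩ : ∃ al : ℕ → B → A, al = fun i => aF (η' i) := ⟨_, rfl⟩
  have hrec : ∀ i, η' i = ∑ y ∈ Y, WittVector.teichmuller p (f (al i y) * y) +
      WittVector.verschiebung (η' (i + 1)) := by
    intro i
    rw [hal, hη']
    show nF^[i] η = _ + WittVector.verschiebung (nF^[i + 1] η)
    rw [Function.iterate_succ_apply']
    exact hF _
  have hpart : ∀ N, η = ∑ i ∈ Finset.range N,
      Vk i (∑ y ∈ Y, WittVector.teichmuller p (f (al i y) * y)) + Vk N (η' N) := by
    intro N
    induction N with
    | zero =>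
      rw [Finset.sum_range_zero, zero_add, hη']
      rfl
    | succ N ih =>
      rw [Finset.sum_range_succ, add_assoc, Vk_succ, ← map_add (Vk N), ← hrec N]
      exact ih
  obtain ⟨x, hx⟩ : ∃ x : ℕ → B → A,
      x = fun i y => al i y * (e y ^ p ^ (n + i) * b y ^ (p ^ (n + i) - s i)) := ⟨_, rfl⟩
  have hterm : ∀ i, ∀ y ∈ Y,
      WittVector.teichmuller p (f a' ^ p ^ n) *
          Vk i (WittVector.teichmuller p (f (al i y) * y)) =
        (⇑(WittVector.frobenius : WittVector p B →+* WittVector p B))^[n]
            (WittVector.teichmuller p (y ^ t i)) *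
          WittVector.map f (Vk i (WittVector.teichmuller p (x i y))) := by
    intro i y hy
    have hB : f (al i y) * y * (f a' ^ p ^ n) ^ p ^ i =
        f (x i y) * ((y ^ t i) ^ p ^ n) ^ p ^ i := by
      have hk := key_pow f y (b y) (e y) a' ℓ (p ^ (n + i)) (t i) (s i) (hb y hy) (hbe y hy)
        (hts i) (hs i)
      have hN : p ^ n * p ^ i = p ^ (n + i) := (pow_add p n i).symm
      rw [hx]
      show f (al i y) * y * (f a' ^ p ^ n) ^ p ^ i =
        f (al i y * (e y ^ p ^ (n + i) * b y ^ (p ^ (n + i) - s i))) *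
          ((y ^ t i) ^ p ^ n) ^ p ^ i
      rw [← pow_mul (f a') (p ^ n) (p ^ i), ← pow_mul (y ^ t i) (p ^ n) (p ^ i), hN,
        map_mul f (al i y)]
      linear_combination (f (al i y)) * hk
    calc WittVector.teichmuller p (f a' ^ p ^ n) *
          Vk i (WittVector.teichmuller p (f (al i y) * y))
        = Vk i (WittVector.teichmuller p (f (al i y) * y * (f a' ^ p ^ n) ^ p ^ i)) := by
          rw [mul_comm (WittVector.teichmuller p (f a' ^ p ^ n)), Vk_mul, frobT,
            ← map_mul (WittVector.teichmuller p)]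
      _ = Vk i (WittVector.teichmuller p (f (x i y) * ((y ^ t i) ^ p ^ n) ^ p ^ i)) := by
          rw [hB]
      _ = _ := by
          rw [map_Vk, WittVector.map_teichmuller, frobT,
            mul_comm (WittVector.teichmuller p ((y ^ t i) ^ p ^ n)), Vk_mul, frobT,
            ← map_mul (WittVector.teichmuller p)]
  have hlim : ∀ (y : B) (τ : ℕ), ∃ X : WittVector p A, ∀ N, WittVector.truncate N X =
      WittVector.truncate N (∑ i ∈ Finset.range N,
        Vk i (if t i = τ then WittVector.teichmuller p (x i y) else 0)) :=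
    fun y τ => exists_lim _
  choose X hX using hlim
  have hfinal : WittVector.teichmuller p (f a' ^ p ^ n) * η =
      ∑ y ∈ Y, ∑ τ ∈ Finset.range (ℓ + 1),
        (⇑(WittVector.frobenius : WittVector p B →+* WittVector p B))^[n]
            (WittVector.teichmuller p (y ^ τ)) * WittVector.map f (X y τ) := by
    have hall : ∀ N, WittVector.truncate N (WittVector.teichmuller p (f a' ^ p ^ n) * η) =
        WittVector.truncate N (∑ y ∈ Y, ∑ τ ∈ Finset.range (ℓ + 1),
          (⇑(WittVector.frobenius : WittVector p B →+* WittVector p B))^[n]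
              (WittVector.teichmuller p (y ^ τ)) * WittVector.map f (X y τ)) := by
      intro N
      have hL : WittVector.truncate N (WittVector.teichmuller p (f a' ^ p ^ n) * η) =
          WittVector.truncate N (∑ i ∈ Finset.range N, ∑ y ∈ Y,
            (⇑(WittVector.frobenius : WittVector p B →+* WittVector p B))^[n]
                (WittVector.teichmuller p (y ^ t i)) *
              WittVector.map f (Vk i (WittVector.teichmuller p (x i y)))) := by
        conv_lhs => rw [hpart N]
        rw [mul_add, map_add, mul_comm _ (Vk N (η' N)), Vk_mul, trunc_Vk le_rfl, add_zero,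
          Finset.mul_sum]
        refine congrArg (WittVector.truncate N) ?_
        refine Finset.sum_congr rfl fun i _ => ?_
        rw [map_sum, Finset.mul_sum]
        exact Finset.sum_congr rfl fun y hy => hterm i y hy
      have hR : WittVector.truncate N (∑ y ∈ Y, ∑ τ ∈ Finset.range (ℓ + 1),
            (⇑(WittVector.frobenius : WittVector p B →+* WittVector p B))^[n]
                (WittVector.teichmuller p (y ^ τ)) * WittVector.map f (X y τ)) =
          WittVector.truncate N (∑ y ∈ Y, ∑ τ ∈ Finset.range (ℓ + 1),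
            (⇑(WittVector.frobenius : WittVector p B →+* WittVector p B))^[n]
                (WittVector.teichmuller p (y ^ τ)) *
              WittVector.map f (∑ i ∈ Finset.range N,
                Vk i (if t i = τ then WittVector.teichmuller p (x i y) else 0))) := by
        rw [map_sum, map_sum]
        refine Finset.sum_congr rfl fun y _ => ?_
        rw [map_sum, map_sum]
        refine Finset.sum_congr rfl fun τ _ => ?_
        rw [map_mul, map_mul]
        congr 1
        rw [trunc_eq_iff]
        intro i hi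
        rw [WittVector.map_coeff, WittVector.map_coeff,
          (trunc_eq_iff N _ _).1 (hX y τ N) i hi]
      have hM : ∑ y ∈ Y, ∑ τ ∈ Finset.range (ℓ + 1),
            (⇑(WittVector.frobenius : WittVector p B →+* WittVector p B))^[n]
                (WittVector.teichmuller p (y ^ τ)) *
              WittVector.map f (∑ i ∈ Finset.range N,
                Vk i (if t i = τ then WittVector.teichmuller p (x i y) else 0)) =
          ∑ i ∈ Finset.range N, ∑ y ∈ Y,
            (⇑(WittVector.frobenius : WittVector p B →+* WittVector p B))^[n]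
                (WittVector.teichmuller p (y ^ t i)) *
              WittVector.map f (Vk i (WittVector.teichmuller p (x i y))) := by
        have hy : ∀ y ∈ Y, ∑ τ ∈ Finset.range (ℓ + 1),
            (⇑(WittVector.frobenius : WittVector p B →+* WittVector p B))^[n]
                (WittVector.teichmuller p (y ^ τ)) *
              WittVector.map f (∑ i ∈ Finset.range N,
                Vk i (if t i = τ then WittVector.teichmuller p (x i y) else 0)) =
            ∑ i ∈ Finset.range N,
              (⇑(WittVector.frobenius : WittVector p B →+* WittVector p B))^[n]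
                  (WittVector.teichmuller p (y ^ t i)) *
                WittVector.map f (Vk i (WittVector.teichmuller p (x i y))) := by
          intro y _
          have h1 : ∀ τ ∈ Finset.range (ℓ + 1),
              (⇑(WittVector.frobenius : WittVector p B →+* WittVector p B))^[n]
                  (WittVector.teichmuller p (y ^ τ)) *
                WittVector.map f (∑ i ∈ Finset.range N,
                  Vk i (if t i = τ then WittVector.teichmuller p (x i y) else 0)) =
              ∑ i ∈ Finset.range N, (if t i = τ then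
                (⇑(WittVector.frobenius : WittVector p B →+* WittVector p B))^[n]
                    (WittVector.teichmuller p (y ^ τ)) *
                  WittVector.map f (Vk i (WittVector.teichmuller p (x i y))) else 0) := by
            intro τ _
            rw [map_sum, Finset.mul_sum]
            refine Finset.sum_congr rfl fun i _ => ?_
            split_ifs with h
            · rfl
            · rw [map_zero, map_zero, mul_zero]
          rw [Finset.sum_congr rfl h1, Finset.sum_comm]
          refine Finset.sum_congr rfl fun i _ => ?_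
          rw [Finset.sum_ite_eq, if_pos (Finset.mem_range.2 (Nat.lt_succ_of_le (ht i)))]
        rw [Finset.sum_congr rfl hy, Finset.sum_comm]
      rw [hL, hR, hM]
    ext i
    exact (trunc_eq_iff (i + 1) _ _).1 (hall (i + 1)) i (Nat.lt_succ_self i)
  refine ⟨a', ha'0, ?_⟩
  have h9 : WittVector.teichmuller p (f a') * Vk n η =
      ∑ y ∈ Y, ∑ τ ∈ Finset.range (ℓ + 1),
        WittVector.teichmuller p (y ^ τ) * WittVector.map f (Vk n (X y τ)) := by
    rw [mul_comm (WittVector.teichmuller p (f a')), Vk_mul, frobT, mul_comm η, hfinal, map_sum]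
    refine Finset.sum_congr rfl fun y _ => ?_
    rw [map_sum]
    refine Finset.sum_congr rfl fun τ _ => ?_
    rw [mul_comm ((⇑(WittVector.frobenius : WittVector p B →+* WittVector p B))^[n] _),
      ← Vk_mul, map_Vk, mul_comm]
  rw [h9]
  exact sum_mem fun y _ => sum_mem fun τ _ =>
    Ideal.mul_mem_left _ _ (Ideal.subset_span ⟨X y τ, rfl⟩)

end Main

end Groth.Agent.Helper8.WittCyc
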