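import Mathlib
import Groth.Agent.Lib.Helper8.CharpolyRevTrace

/-!
Formal power series lemmas for zeta functions defined as `exp (∑ N_m t^m / m)`:
logarithmic derivatives of products, geometric series, truncation from the ODE.
-/

namespace Groth.Agent.Helper8.ZetaFormal

open PowerSeries

theorem constantCoeff_exp_subst {g : PowerSeries ℚ} (hg0 : constantCoeff g = 0) :
    constantCoeff (subst g (exp ℚ)) = 1 := by
  have hsub : HasSubst g := HasSubst.of_constantCoeff_zero' hg0
  have h6 := constantCoeff_subst hsub (exp ℚ)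
  rw [finsum_eq_single _ 0] at h6
  · have h9 : MvPowerSeries.constantCoeff (subst g (exp ℚ)) = 1 := by simpa using h6
    exact h9
  · intro d hd
    have h7 : MvPowerSeries.constantCoeff (g ^ d) = 0 := by
      rw [map_pow]
      have h8 : MvPowerSeries.constantCoeff g = 0 := hg0
      rw [h8, zero_pow hd]
    rw [h7, smul_zero]

theorem derivative_exp_subst {g : PowerSeries ℚ} (hg0 : constantCoeff g = 0) :
    derivative ℚ (subst g (exp ℚ)) = derivative ℚ g * subst g (exp ℚ) := by
  have hsub : HasSubst g := HasSubst.of_constantCoeff_zero' hg0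
  rw [derivative_subst hsub, derivative_exp, mul_comm]

theorem ld_mul {g h c e : PowerSeries ℚ} (hg : derivative ℚ g = c * g)
    (hh : derivative ℚ h = e * h) :
    derivative ℚ (g * h) = (c + e) * (g * h) := by
  rw [Derivation.leibniz, hg, hh, smul_eq_mul, smul_eq_mul]; ring

theorem ld_pow {g c : PowerSeries ℚ} (hg : derivative ℚ g = c * g) (n : ℕ) :
    derivative ℚ (g ^ n) = ((n : PowerSeries ℚ) * c) * g ^ n := by
  induction n with
  | zero => simp
  | succ n ih =>
    rw [pow_succ, ld_mul ih hg]; push_cast; ring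

theorem ld_prod {ι : Type*} (s : Finset ι) (g c : ι → PowerSeries ℚ)
    (h : ∀ i ∈ s, derivative ℚ (g i) = c i * g i) :
    derivative ℚ (∏ i ∈ s, g i) = (∑ i ∈ s, c i) * ∏ i ∈ s, g i := by
  classical
  induction s using Finset.induction_on with
  | empty => simp
  | insert a s ha ih =>
    rw [Finset.prod_insert ha, Finset.sum_insert ha]
    exact ld_mul (h a (Finset.mem_insert_self a s))
      (ih fun i hi => h i (Finset.mem_insert_of_mem hi))

/-- If `W' = G W` and `G` vanishes to order `n`, then `W` has no terms in degrees `1..n`. -/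
theorem coeff_eq_zero_of_ld {W G : PowerSeries ℚ} (hW : derivative ℚ W = G * W) (n : ℕ)
    (hG : ∀ j < n, coeff j G = 0) : ∀ j, 1 ≤ j → j ≤ n → coeff j W = 0 := by
  intro j hj1 hjn
  obtain ⟨i, rfl⟩ : ∃ i, j = i + 1 := ⟨j - 1, by omega⟩
  have h1 : coeff i (derivative ℚ W) = coeff (i + 1) W * ((i : ℚ) + 1) := coeff_derivative W i
  have h2 : coeff i (G * W) = 0 := by
    rw [coeff_mul]
    apply Finset.sum_eq_zero
    intro p hp
    have : p.1 ≤ i := by
      have := Finset.HasAntidiagonal.mem_antidiagonal.mp hp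
      omega
    rw [hG p.1 (by omega), zero_mul]
  rw [hW, h2] at h1
  have h3 : ((i : ℚ) + 1) ≠ 0 := Nat.cast_add_one_ne_zero i
  rcases mul_eq_zero.mp h1.symm with h | h
  · exact h
  · exact absurd h h3

theorem one_sub_C_mul_X_mul_geom (c : ℚ) :
    (1 - C c * X) * PowerSeries.mk (fun n => c ^ n) = 1 := by
  ext n
  rw [sub_mul, one_mul, map_sub, mul_assoc, coeff_C_mul]
  cases n with
  | zero => simp
  | succ n =>
    rw [coeff_succ_X_mul, coeff_mk, coeff_mk, coeff_one, if_neg (Nat.succ_ne_zero n), pow_succ]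
    ring

theorem derivative_one_sub_C_mul_X (c : ℚ) :
    derivative ℚ (1 - C c * X) =
      (C (-c) * PowerSeries.mk (fun n => c ^ n)) * (1 - C c * X) := by
  have h1 : derivative ℚ (1 - C c * X : PowerSeries ℚ) = - C c := by
    rw [map_sub, Derivation.map_one_eq_zero, Derivation.leibniz, derivative_X, derivative_C]
    simp
  rw [h1, map_neg]
  have := one_sub_C_mul_X_mul_geom c
  linear_combination (C c) * this

theorem one_sub_X_pow_mul_dvdSeries (r : ℕ) (hr : 1 ≤ r) :
    (1 - X ^ r) * PowerSeries.mk (fun j => if r ∣ j then (1 : ℚ) else 0) = 1 := by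
  ext j
  rw [sub_mul, one_mul, map_sub, coeff_X_pow_mul', coeff_mk, coeff_one]
  by_cases hj : j = 0
  · subst hj
    have : ¬ r ≤ 0 := by omega
    simp [this]
  · rw [if_neg hj]
    by_cases hle : r ≤ j
    · rw [if_pos hle, coeff_mk]
      have : r ∣ j - r ↔ r ∣ j := by
        constructor
        · intro h
          have := Nat.dvd_add h (dvd_refl r)
          rwa [Nat.sub_add_cancel hle] at this
        · intro h
          exact Nat.dvd_sub h (dvd_refl r)
      by_cases hd : r ∣ j
      · rw [if_pos hd, if_pos (this.mpr hd)]; ring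
      · rw [if_neg hd, if_neg (fun h => hd (this.mp h))]; ring
    · rw [if_neg hle]
      have : ¬ r ∣ j := fun h => hle (Nat.le_of_dvd (Nat.pos_of_ne_zero hj) h)
      rw [if_neg this]; ring

theorem derivative_one_sub_X_pow (r : ℕ) (hr : 1 ≤ r) :
    derivative ℚ (1 - X ^ r : PowerSeries ℚ) =
      (C (-(r : ℚ)) * X ^ (r - 1) * PowerSeries.mk (fun j => if r ∣ j then (1 : ℚ) else 0)) *
        (1 - X ^ r) := by
  have h1 : derivative ℚ (1 - X ^ r : PowerSeries ℚ) = - (C (r : ℚ) * X ^ (r - 1)) := by
    rw [map_sub, Derivation.map_one_eq_zero, Derivation.leibniz_pow, derivative_X]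
    rw [map_natCast]
    simp
  rw [h1, map_neg]
  have := one_sub_X_pow_mul_dvdSeries r hr
  linear_combination (C (r : ℚ) * X ^ (r - 1)) * this

theorem coeff_X_pow_pred_mul_dvdSeries (r : ℕ) (hr : 1 ≤ r) (j : ℕ) :
    coeff j (X ^ (r - 1) * PowerSeries.mk (fun j => if r ∣ j then (1 : ℚ) else 0)) =
      if r ∣ j + 1 then 1 else 0 := by
  rw [coeff_X_pow_mul']
  by_cases hle : r - 1 ≤ j
  · rw [if_pos hle, coeff_mk]
    have : r ∣ j - (r - 1) ↔ r ∣ j + 1 := by
      have e : j - (r - 1) + r = j + 1 := by omega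
      constructor
      · intro h
        have := Nat.dvd_add h (dvd_refl r)
        rwa [e] at this
      · intro h
        rw [← e] at h
        exact (Nat.dvd_add_left (dvd_refl r)).mp h
    by_cases hd : r ∣ j + 1
    · rw [if_pos hd, if_pos (this.mpr hd)]
    · rw [if_neg hd, if_neg (fun h => hd (this.mp h))]
  · rw [if_neg hle]
    have : ¬ r ∣ j + 1 := fun h => by
      have := Nat.le_of_dvd (Nat.succ_pos j) h
      omega
    rw [if_neg this]

end Groth.Agent.Helper8.ZetaFormal
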